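import Cfsg.Statements.S3888
import Cfsg.Agent.H9.Rank2b

set_option autoImplicit false
open Cfsg
open scoped commutatorElement

namespace Cfsg.Agent.S3888

/-- The classification of the p-groups of rank at most two for odd p. Let p be an odd prime and G a group of order p^n with no elementary abelian subgroup of order p³. Then one of the following holds: G is metacyclic; n ≥ 3 and G is generated by elements x, y, z with x^p = y^p = z^(p^(n−2)) = 1, z commuting with x and y, and x⁻¹yx = y z^(p^(n−3)); n ≥ 4 and G is generated by elements x, y, z with x^p = y^p = z^(p^(n−2)) = 1, yz = zy, x⁻¹yx = y z^(s p^(n−3)) and x⁻¹zx = yz, where s = 1 or s is a quadratic non-residue modulo p; or p = 3 and G has maximal class (nilpotency class n − 1). -/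
theorem result {G : Type*} [Group G] [Finite G] {p : ℕ} [Fact p.Prime] (hp : p ≠ 2) (n : ℕ) (hG : Nat.card G = p ^ n)
    (hrk : Cfsg.PRankLE p 2 G) :
    Cfsg.IsMetacyclic G ∨
    (3 ≤ n ∧ ∃ x y z : G, Subgroup.closure ({x, y, z} : Set G) = ⊤ ∧ x ^ p = 1 ∧ y ^ p = 1 ∧ z ^ p ^ (n - 2) = 1 ∧
        x * z = z * x ∧ y * z = z * y ∧ x⁻¹ * y * x = y * z ^ p ^ (n - 3)) ∨
    (4 ≤ n ∧ ∃ (s : ℕ) (x y z : G), (s = 1 ∨ ¬ IsSquare (s : ZMod p)) ∧ Subgroup.closure ({x, y, z} : Set G) = ⊤ ∧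
        x ^ p = 1 ∧ y ^ p = 1 ∧ z ^ p ^ (n - 2) = 1 ∧ y * z = z * y ∧ x⁻¹ * y * x = y * z ^ (s * p ^ (n - 3)) ∧
        x⁻¹ * z * x = y * z) ∨
    (p = 3 ∧ 2 ≤ n ∧ (⊤ : Subgroup G).lowerCentralSeries (n - 2) ≠ ⊥) := by
  have hP := IsPGroup.of_card hG
  by_cases hN : H9.NoCube p G
  · by_cases h3 : p = 3
    · rcases H9.NoCube.index_le_or hp n G hG hN with h | h
      · exact Or.inl (H9.isMetacyclic_of_index_powerClosure hp hP h)
      · exact Or.inr (Or.inr (Or.inr ⟨h3, h⟩))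
    · left
      have hp3 : 3 < p := by
        have := (Fact.out : p.Prime).two_le
        omega
      refine H9.ExpLE.isMetacyclic hp3 hP (H9.expLE_of_card_omega (hN _ ?_ fun s hs =>
        H9.pow_eq_one_of_mem_omegaOne_rank_two hp3 (hP.to_subgroup ⊤) (H9.prank_top.2 hrk) hs))
      refine ⟨fun x hx g => ?_⟩
      have : (omegaOne p (⊤ : Subgroup G)).map (MulAut.conj g).toMonoidHom ≤ omegaOne p ⊤ := by
        unfold omegaOne
        rw [MonoidHom.map_closure]
        refine Subgroup.closure_mono ?_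
        rintro _ ⟨y, hy, rfl⟩
        exact ⟨trivial, by rw [← map_pow, hy.2, map_one]⟩
      exact this ⟨x, hx, rfl⟩
  · obtain ⟨S, hS, he, hc⟩ := H9.exists_cube_of_not hP hN
    obtain ⟨T, Z, h⟩ := H9.exists_cube hP hrk he hc
    obtain ⟨u, hu, huA⟩ := h.exists_not_mem
    by_cases hA : ∀ a ∈ Subgroup.centralizer (T : Set G), ⁅u, a⁆ ∈ Z
    · exact Or.inr (Or.inl (h.type_two hu huA hp hrk hG hA))
    · push Not at hA
      obtain ⟨g, hg, hgZ⟩ := hA
      exact Or.inr (Or.inr (Or.inl (h.type_three hu huA hp hrk hG hg hgZ)))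

end Cfsg.Agent.S3888
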