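import Cfsg.Statements.S3742


set_option autoImplicit false
open Cfsg

namespace Cfsg.Agent.S3742

open QuaternionGroup Equiv

/-- a `4`-cycle for each element of order `4`. -/
def toCyc : QuaternionGroup 2 → Perm (Fin 4)
  | a i => if i = 1 then swap 0 3 * swap 0 2 * swap 0 1 else swap 0 1 * swap 0 2 * swap 0 3
  | xa i => if i = 0 then swap 0 2 * swap 0 3 * swap 0 1 else
      if i = 2 then swap 0 1 * swap 0 3 * swap 0 2 else
      if i = 1 then swap 0 3 * swap 0 1 * swap 0 2 else swap 0 2 * swap 0 1 * swap 0 3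

/-- the inverse of `toCyc`. -/
def ofCyc (τ : Perm (Fin 4)) : QuaternionGroup 2 :=
  if τ (τ 0) = 2 then (if τ 0 = 1 then a 1 else a 3) else
  if τ (τ 0) = 3 then (if τ 0 = 1 then xa 0 else xa 2) else (if τ 0 = 2 then xa 1 else xa 3)

/-- the action of `S₄` on `Q₈`. -/
def act (σ : Perm (Fin 4)) (x : QuaternionGroup 2) : QuaternionGroup 2 :=
  if x = a 0 ∨ x = a 2 then x else ofCyc (σ * toCyc x * σ⁻¹)

theorem act_mul : ∀ σ x y, act σ (x * y) = act σ x * act σ y := by decide +kernel
theorem mul_act : ∀ σ τ x, act (σ * τ) x = act σ (act τ x) := by decide +kernel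
theorem one_act : ∀ x, act 1 x = x := by decide +kernel
theorem act_inj : ∀ σ, act σ (a 1) = a 1 → act σ (xa 0) = xa 0 → σ = 1 := by decide +kernel
theorem act_surj : ∀ u v : QuaternionGroup 2, u * v ≠ v * u →
    ∃ σ, act σ (a 1) = u ∧ act σ (xa 0) = v := by decide +kernel
theorem gen : ∀ x : QuaternionGroup 2, ∃ i : Fin 4, x = a 1 ^ i.val ∨ x = xa 0 * a 1 ^ i.val := by
  decide +kernel

/-- the action as a homomorphism. -/
def actHom : Perm (Fin 4) →* MulAut (QuaternionGroup 2) where
  toFun σ :=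
    { toFun := act σ
      invFun := act σ⁻¹
      left_inv := fun x => by rw [← mul_act, inv_mul_cancel, one_act]
      right_inv := fun x => by rw [← mul_act, mul_inv_cancel, one_act]
      map_mul' := act_mul σ }
  map_one' := MulEquiv.ext one_act
  map_mul' σ τ := MulEquiv.ext (mul_act σ τ)

/-- The automorphism group of the quaternion group of order 8 is isomorphic to the symmetric group of degree 4. -/
theorem result : Nonempty (MulAut (QuaternionGroup 2) ≃* Equiv.Perm (Fin 4)) := by
  refine ⟨(MulEquiv.ofBijective actHom ⟨(injective_iff_map_eq_one _).2 fun σ h =>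
    act_inj σ (MulEquiv.congr_fun h (a 1)) (MulEquiv.congr_fun h (xa 0)), fun φ => ?_⟩).symm⟩
  obtain ⟨σ, h1, h2⟩ := act_surj (φ (a 1)) (φ (xa 0)) (by
    rw [← map_mul, ← map_mul, φ.injective.ne_iff]; decide)
  refine ⟨σ, MulEquiv.ext fun x => ?_⟩
  obtain ⟨i, rfl | rfl⟩ := gen x
  · rw [map_pow, map_pow, ← h1]; rfl
  · rw [map_mul, map_mul, map_pow, map_pow, ← h1, ← h2]; rfl

end Cfsg.Agent.S3742
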