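import Cfsg.Statements.S0095
import Cfsg.Agent.H3.Extraspecial

set_option autoImplicit false
open Cfsg

namespace Cfsg.Agent.S0095

/-- The order of an extraspecial p-group is an odd power p^(2n+1) of p with n ≥ 1. -/
theorem result {P : Type*} [Group P] [Finite P] {p : ℕ} [Fact p.Prime] (h : Cfsg.IsExtraspecial p P) : ∃ n : ℕ, 1 ≤ n ∧ Nat.card P = p ^ (2 * n + 1) := by
  obtain ⟨z, hz, hc⟩ := H3.isES_of_isExtraspecial h
  obtain ⟨n, x, y, -, h2⟩ := hz.exists_basis
  rw [Subgroup.card_top] at h2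
  refine ⟨n, Nat.one_le_iff_ne_zero.mpr ?_, h2⟩
  rintro rfl
  have h3 : Subgroup.center P = ⊤ := Subgroup.eq_top_of_card_eq _ (by rw [h.2, h2]; simp)
  have h4 := h.2
  rw [← h.1.2.2, (commutator_eq_bot_iff_center_eq_top P).mpr h3, Subgroup.card_bot] at h4
  exact (Fact.out : p.Prime).ne_one h4.symm

end Cfsg.Agent.S0095
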