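import Cfsg.Statements.S3866
import Cfsg.Agent.H7.PGrp
import Cfsg.Agent.H1.Basic

set_option autoImplicit false
open Cfsg

namespace Cfsg.Agent.S3866

open scoped commutatorElement in

/-- Let A be a commutative normal subgroup of the finite group G with G generated by A and an element x. Then a ↦ x a x⁻¹ a⁻¹ is a surjective homomorphism from A onto the commutator subgroup of G whose kernel is the centralizer of x in A; in particular the commutator subgroup has order equal to the index in A of that centralizer. -/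
theorem result {G : Type*} [Group G] [Finite G] (A : Subgroup G) [A.Normal] (hA : IsMulCommutative A) (x : G) (hgen : A ⊔ Subgroup.zpowers x = ⊤) : (∀ a ∈ A, x * a * x⁻¹ * a⁻¹ ∈ commutator G) ∧ (∀ c ∈ commutator G, ∃ a ∈ A, x * a * x⁻¹ * a⁻¹ = c) ∧ (∀ a ∈ A, ∀ b ∈ A, x * (a * b) * x⁻¹ * (a * b)⁻¹ = (x * a * x⁻¹ * a⁻¹) * (x * b * x⁻¹ * b⁻¹)) ∧ Nat.card (commutator G) * Nat.card ↥(A ⊓ Subgroup.centralizer ({x} : Set G)) = Nat.card A := by
  have hc := H1.isMulCommutative_iff'.1 hA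
  have hn : A.Normal := inferInstance
  have hmem : ∀ a ∈ A, x * a * x⁻¹ * a⁻¹ ∈ A := fun a ha => mul_mem (hn.conj_mem a ha x) (inv_mem ha)
  have h3 : ∀ a ∈ A, ∀ b ∈ A, x * (a * b) * x⁻¹ * (a * b)⁻¹ =
      (x * a * x⁻¹ * a⁻¹) * (x * b * x⁻¹ * b⁻¹) := by
    intro a ha b hb
    have := hc _ (inv_mem ha) _ (hmem b hb)
    calc x * (a * b) * x⁻¹ * (a * b)⁻¹ = x * a * x⁻¹ * ((x * b * x⁻¹ * b⁻¹) * a⁻¹) := by group
      _ = _ := by rw [← this]; group
  let φ : A →* G :=
    { toFun := fun a => x * a * x⁻¹ * (a : G)⁻¹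
      map_one' := by simp
      map_mul' := fun a b => h3 a a.2 b b.2 }
  have h1 : ∀ a ∈ A, x * a * x⁻¹ * a⁻¹ ∈ commutator G := fun a _ =>
    Subgroup.commutator_mem_commutator (Subgroup.mem_top x) (Subgroup.mem_top a)
  have hBA : φ.range ≤ A := by rintro _ ⟨a, rfl⟩; exact hmem a a.2
  haveI hB : φ.range.Normal := by
    rw [← Subgroup.normalizer_eq_top_iff, eq_top_iff, ← hgen, sup_le_iff, Subgroup.zpowers_le]
    constructor
    · rw [Subgroup.le_normalizer_iff]
      intro a ha b hb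
      rw [hc a ha b (hBA hb), mul_inv_cancel_right]; exact hb
    · apply H7.mem_normalizer_of_finite
      rintro _ ⟨a, rfl⟩
      exact ⟨⟨x * a * x⁻¹, hn.conj_mem a a.2 x⟩, by simp [φ, mul_assoc]⟩
  have hle : commutator G ≤ φ.range := by
    rw [← Subgroup.Normal.quotient_commutative_iff_commutator_le]
    apply H7.isMulCommutative_of_top
    rw [← Subgroup.map_top_of_surjective _ (QuotientGroup.mk'_surjective φ.range), ← hgen,
      Subgroup.map_sup]
    refine H7.isMulCommutative_sup inferInstance inferInstance ?_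
    rw [Subgroup.le_centralizer_iff, MonoidHom.map_zpowers, Subgroup.zpowers_le]
    rintro _ ⟨a, ha, rfl⟩
    rw [← map_mul, ← map_mul, QuotientGroup.mk'_eq_mk']
    refine ⟨(a * x)⁻¹ * (x * a * x⁻¹ * a⁻¹) * (a * x)⁻¹⁻¹, hB.conj_mem _ ⟨⟨a, ha⟩, rfl⟩ _, by group⟩
  have heq : φ.range = commutator G := le_antisymm (by rintro _ ⟨a, rfl⟩; exact h1 a a.2) hle
  refine ⟨h1, fun c hc => ?_, h3, ?_⟩
  · obtain ⟨a, rfl⟩ := hle hc
    exact ⟨a, a.2, rfl⟩
  · have hk : φ.ker = (Subgroup.centralizer ({x} : Set G)).subgroupOf A := by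
      ext a
      rw [MonoidHom.mem_ker, Subgroup.mem_subgroupOf, Subgroup.mem_centralizer_singleton_iff]
      exact (commutatorElement_eq_one_iff_mul_comm (g₁ := x) (g₂ := a)).trans eq_comm
    rw [← heq, ← Subgroup.index_ker, hk, inf_comm, mul_comm]
    exact H7.card_inf_mul_relIndex _ _

end Cfsg.Agent.S3866
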