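import Cfsg.Statements.S3807
import Cfsg.Agent.H7.PGrp
import Cfsg.Agent.H9.Basic
import Cfsg.Agent.S3866

set_option autoImplicit false
open Cfsg

namespace Cfsg.Agent.S3807



/-- Let S be a non-abelian finite p-group with an abelian subgroup A of index p. Then [S : Z(S)] = p·#[S,S], and either [S,S] has order p, S/Z(S) is elementary abelian of order p², and S has exactly p + 1 abelian subgroups of index p; or [S,S] has order at least p² and A is the only abelian subgroup of index p in S. -/
theorem result {S : Type*} [Group S] [Finite S] (p : ℕ) [Fact p.Prime] (hS : IsPGroup p S) (hna : ¬ IsMulCommutative S)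
    (A : Subgroup S) (hA : IsMulCommutative ↥A) (hAi : A.index = p) :
    (Subgroup.center S).index = p * Nat.card (commutator S) ∧
      ((Nat.card (commutator S) = p ∧ Cfsg.IsElementaryAbelian p (⊤ : Subgroup (S ⧸ Subgroup.center S)) ∧
          Nat.card (S ⧸ Subgroup.center S) = p ^ 2 ∧
          Nat.card {B : Subgroup S // IsMulCommutative ↥B ∧ B.index = p} = p + 1) ∨
        (p ^ 2 ≤ Nat.card (commutator S) ∧ ∀ B : Subgroup S, IsMulCommutative ↥B → B.index = p → B = A)) := by
  have hp : p.Prime := Fact.out
  haveI := H7.normal_of_index_prime hS hAi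
  have hZ : ∀ B : Subgroup S, IsMulCommutative ↥B → B.index = p → Subgroup.center S ≤ B := by
    intro B hB hBi
    by_contra h
    exact hna (H7.isMulCommutative_of_sup_center hB ((H7.isCoatom_of_index_prime hBi).2 _
      (lt_of_le_of_ne le_sup_left fun e => h (e ▸ le_sup_right))))
  obtain ⟨x, hxA, hx⟩ := H7.exists_zpowers_sup_eq_top_of_isCoatom (H7.isCoatom_of_index_prime hAi)
  obtain ⟨-, -, -, h4⟩ := Cfsg.Agent.S3866.result A hA x hx
  have hC : A ⊓ Subgroup.centralizer ({x} : Set S) = Subgroup.center S := by
    refine le_antisymm ?_ (le_inf (hZ A hA hAi) (Subgroup.center_le_centralizer _))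
    rw [← Subgroup.centralizer_univ, ← Subgroup.coe_top, ← hx, Subgroup.le_centralizer_iff,
      sup_le_iff, Subgroup.zpowers_le]
    refine ⟨Subgroup.le_centralizer_iff.1 (inf_le_left.trans A.le_centralizer), ?_⟩
    intro y hy
    exact Subgroup.mem_centralizer_singleton_iff.1 hy.2
  rw [hC] at h4
  have h1 : (Subgroup.center S).index = p * Nat.card (commutator S) := by
    have a1 := (Subgroup.center S).card_mul_index
    have a2 := A.card_mul_index
    rw [← a2, ← h4, hAi] at a1
    apply Nat.eq_of_mul_eq_mul_left (Nat.card_pos (α := Subgroup.center S))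
    rw [a1]; ring
  refine ⟨h1, ?_⟩
  obtain ⟨k, hk⟩ := IsPGroup.iff_card.1 (hS.to_subgroup (commutator S))
  have hk0 : k ≠ 0 := by
    rintro rfl
    exact hna ((commutator_eq_bot_iff S).1 (Subgroup.card_eq_one.1 hk))
  by_cases hk1 : k = 1
  · left
    subst hk1
    rw [pow_one] at hk
    have hq : Nat.card (S ⧸ Subgroup.center S) = p ^ 2 := by
      rw [← Subgroup.index_eq_card, h1, hk, pow_two]
    have hnc : ¬ IsCyclic (S ⧸ Subgroup.center S) := fun h =>
      hna (isMulCommutative_of_isCyclic_quotient_center_self S)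
    have hexp := (not_isCyclic_iff_exponent_eq_prime hp hq).1 hnc
    have hpow : ∀ y : S ⧸ Subgroup.center S, y ^ p = 1 := fun y => hexp ▸ Monoid.pow_exponent_eq_one y
    haveI := IsPGroup.isMulCommutative_of_card_eq_prime_sq hq
    refine ⟨hk, ⟨inferInstance, fun a _ => hpow a⟩, hq, ?_⟩
    have hcount := H7.card_orderOf_eq_prime (G := S ⧸ Subgroup.center S) (p := p)
    have hne : Nat.card {g : S ⧸ Subgroup.center S // orderOf g = p} = p ^ 2 - 1 := by
      classical
      have := Fintype.ofFinite (S ⧸ Subgroup.center S)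
      rw [← hq, Nat.card_eq_fintype_card (α := S ⧸ Subgroup.center S), ← Set.card_ne_eq
        (1 : S ⧸ Subgroup.center S), ← Nat.card_eq_fintype_card]
      refine Nat.card_congr (Equiv.subtypeEquivRight fun g => ⟨fun h e => ?_, fun h => ?_⟩)
      · rw [e, orderOf_one] at h; exact hp.one_lt.ne h
      · exact orderOf_eq_prime (hpow g) h
    have h5 : Nat.card {H : Subgroup (S ⧸ Subgroup.center S) // Nat.card H = p} = p + 1 := by
      rw [hne, show p ^ 2 - 1 = (p - 1) * (p + 1) by
        rw [mul_comm, ← Nat.sq_sub_sq, one_pow]] at hcount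
      exact (Nat.eq_of_mul_eq_mul_left (by have := hp.two_le; omega) hcount).symm
    rw [← h5]
    have hsurj := QuotientGroup.mk'_surjective (Subgroup.center S)
    refine Nat.card_congr
      ⟨fun B => ⟨B.1.map (QuotientGroup.mk' _), ?_⟩, fun H => ⟨H.1.comap (QuotientGroup.mk' _), ?_, ?_⟩,
        fun B => ?_, fun H => ?_⟩
    · have a1 := (B.1.map (QuotientGroup.mk' (Subgroup.center S))).card_mul_index
      rw [Subgroup.index_map_eq _ hsurj (by simpa using hZ _ B.2.1 B.2.2), B.2.2, hq, pow_two] at a1
      exact Nat.eq_of_mul_eq_mul_right hp.pos a1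
    · haveI : IsCyclic H.1 := isCyclic_of_prime_card H.2
      refine MonoidHom.isMulCommutative_of_isCyclic_of_ker_le_center
        ((QuotientGroup.mk' (Subgroup.center S)).subgroupComap H.1) ?_
      intro y hy
      have : (y : S) ∈ Subgroup.center S := (QuotientGroup.eq_one_iff _).1 (congrArg Subtype.val hy)
      rw [Subgroup.mem_center_iff] at this ⊢
      exact fun g => Subtype.ext (this g)
    · rw [Subgroup.index_comap_of_surjective _ hsurj]
      have a1 := H.1.card_mul_index
      rw [H.2, hq, pow_two] at a1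
      exact Nat.eq_of_mul_eq_mul_left hp.pos a1
    · exact Subtype.ext (Subgroup.comap_map_eq_self (by simpa using hZ _ B.2.1 B.2.2))
    · exact Subtype.ext (Subgroup.map_comap_eq_self_of_surjective hsurj _)
  · right
    have h2 : p ^ 2 ≤ Nat.card (commutator S) := hk ▸ Nat.pow_le_pow_right hp.pos (by omega)
    refine ⟨h2, fun B hB hBi => ?_⟩
    by_contra hne
    have hAB : A ⊔ B = ⊤ := (H7.isCoatom_of_index_prime hAi).2 _
      (lt_of_le_of_ne le_sup_left fun e => hne
        (((H7.isCoatom_of_index_prime hBi).le_iff.1 (e ▸ le_sup_right)).resolve_left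
          (H7.isCoatom_of_index_prime hAi).1).symm)
    have hle : A ⊓ B ≤ Subgroup.center S := by
      rw [← Subgroup.centralizer_univ, ← Subgroup.coe_top, ← hAB, Subgroup.le_centralizer_iff,
        sup_le_iff]
      exact ⟨Subgroup.le_centralizer_iff.1 (inf_le_left.trans A.le_centralizer),
        Subgroup.le_centralizer_iff.1 (inf_le_right.trans B.le_centralizer)⟩
    have a1 := (Subgroup.index_antitone hle).trans Subgroup.index_inf_le
    rw [h1, hAi, hBi] at a1
    have a2 := Nat.le_of_mul_le_mul_left a1 hp.pos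
    have := hp.two_le
    nlinarith

end Cfsg.Agent.S3807
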