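import Cfsg.Statements.S1138
import Cfsg.Agent.H26.Hig3

set_option autoImplicit false
open Cfsg

namespace Cfsg.Agent.S1138


/-- Let `P` be a Suzuki 2-group with `|Z(P)| = q`. Then every square lies in `Z(P)` and `P/Z(P)` is abelian (so elementary abelian), `|P| = q²` or `|P| = q³`, and `P` has exponent 4. -/
theorem result {P : Type*} [Group P] (hP : Cfsg.IsSuzukiTwoGroup P) :
    (∀ x : P, x * x ∈ Subgroup.center P) ∧ (∀ x y : P, x⁻¹ * y⁻¹ * x * y ∈ Subgroup.center P) ∧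
      (Nat.card P = Nat.card (Subgroup.center P) ^ 2 ∨ Nat.card P = Nat.card (Subgroup.center P) ^ 3) ∧
      Monoid.exponent P = 4 := by
  obtain ⟨F, _, _, _, ρ, H, hG⟩ := H26.exists_hig_of_suzuki hP
  have := H.fin
  rw [H.center_eq hG, H.card_Z]
  refine ⟨H.sq_mem_Z hG, fun x y => by simpa [commutatorElement_def] using H.comm_mem_Z hG x⁻¹ y⁻¹,
    H.card_cases hG, ?_⟩
  have h4 : Monoid.exponent P ∣ 2 ^ 2 := Monoid.exponent_dvd_of_forall_pow_eq_one fun g => by
    rw [show 2 ^ 2 = 2 + 2 from rfl, pow_add, pow_two]; exact H.sq_mem_Z hG g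
  obtain ⟨k, hk, h⟩ := (Nat.dvd_prime_pow Nat.prime_two).1 h4
  have hk2 : k = 2 := by
    by_contra hne
    have h2 : Monoid.exponent P ∣ 2 := by
      rw [h]; exact pow_dvd_pow 2 (show k ≤ 1 by omega)
    refine hG (H.abe_Z.mono fun x _ => ?_)
    rw [H.mem_Z, ← pow_two]
    exact Monoid.exponent_dvd_iff_forall_pow_eq_one.1 h2 x
  rw [h, hk2]; rfl

end Cfsg.Agent.S1138
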