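import Cfsg.Statements.S0556
import Cfsg.Agent.H1.Prim
import Cfsg.Agent.H2.Frob
import Cfsg.Agent.S0035
import Cfsg.Agent.H3.Transfer

set_option autoImplicit false
open Cfsg

namespace Cfsg.Agent.S0556

open scoped Pointwise

theorem frob {G : Type*} [Group G] [Finite G] (A : Subgroup G) (hA : IsCoatom A)
    [IsMulCommutative A] (hF : Cfsg.IsFrobeniusComplement A) : derivedSeries G 2 = ⊥ := by
  obtain ⟨N, -, hN, hc⟩ := S0035.result A hF
  have hcop : (Nat.card A).Coprime (Nat.card N) := by
    rw [← hc.index_eq_card]; exact H2.frob_coprime hF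
  have hmin : ∀ X : Subgroup G, A ≤ Subgroup.normalizer (X : Set G) → X ≤ N → X = ⊥ ∨ X = N := by
    intro X hX hXN
    by_cases h : X ≤ A
    · exact Or.inl (eq_bot_iff.2 ((le_inf hXN h).trans hc.disjoint.le_bot))
    · have h1 : X ⊔ A = ⊤ := hA.2 _ (lt_of_le_of_ne le_sup_right fun e => h (e ▸ le_sup_left))
      have := H1.sup_inf_assoc_of_le_normalizer (B := A) hXN (Or.inr hX)
      rw [h1, top_inf_eq, hc.disjoint.symm.eq_bot, sup_bot_eq] at this
      exact Or.inr this.symm
  have hN0 : N ≠ ⊥ := by
    rintro rfl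
    exact hA.1 (by simpa using hc.sup_eq_top)
  obtain ⟨p, hp, hd⟩ := H1.exists_prime_dvd_card hN0
  have := Fact.mk hp
  obtain ⟨P, hP, hAP⟩ := H1.exists_invariant_sylowOf p (A := A) (K := N)
    Subgroup.le_normalizer_of_normal hcop (Or.inl (Group.isSolvable_of_comm fun a b => mul_comm' a b))
  have hPN : P = N := (hmin P hAP hP.1).resolve_left (by
    rintro rfl
    exact (H1.isPiHallOf_singleton_iff.1 hP).2.2 (by rwa [Subgroup.relIndex_bot_left]))
  have hp' : IsPGroup p N := hPN ▸ H1.IsPiHallOf.isPGroup hP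
  have := hp'.isNilpotent
  have h2 := (H1.elementary_of_minimal_invariant (N := N) (L := A) inferInstance
    Subgroup.le_normalizer_of_normal hN0 fun M h1 _ h3 => hmin M h1 h3).1
  have h3 : commutator G ≤ N := H3.commutator_le_of_sup_eq_top hc.sup_eq_top
    ((Subgroup.commutator_self_eq_bot_iff.2 inferInstance).le.trans bot_le)
  rw [derivedSeries_succ, derivedSeries_one, eq_bot_iff,
    ← Subgroup.commutator_self_eq_bot_iff.2 h2]
  exact Subgroup.commutator_mono h3 h3

/-- If a finite group has a maximal subgroup that is abelian, then the third term of its derived series is trivial (so the group is solvable of derived length at most three). -/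
theorem result {G : Type*} [Group G] [Finite G] (A : Subgroup G) (hA : IsCoatom A) [IsMulCommutative A] : derivedSeries G 3 = ⊥ := by
  by_cases hn : A.Normal
  · have h1 : commutator G ≤ A := by
      obtain ⟨g, hg⟩ : ∃ g, g ∉ A := by
        by_contra! h
        exact hA.1 (eq_top_iff.2 fun g _ => h g)
      refine H3.commutator_le_of_sup_eq_top (H := Subgroup.zpowers g) (hA.2 _ (lt_of_le_of_ne
        le_sup_left fun e => hg (e ▸ Subgroup.mem_sup_right (Subgroup.mem_zpowers g)))) ?_
      exact (Subgroup.commutator_self_eq_bot_iff.2 inferInstance).le.trans bot_le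
    have h2 : derivedSeries G 2 = ⊥ := by
      rw [derivedSeries_succ, derivedSeries_one, eq_bot_iff,
        ← Subgroup.commutator_self_eq_bot_iff.2 ‹IsMulCommutative A›]
      exact Subgroup.commutator_mono h1 h1
    rw [derivedSeries_succ, h2, Subgroup.commutator_bot_left]
  have hNA : Subgroup.normalizer (A : Set G) = A := by
    rcases hA.le_iff.1 (Subgroup.le_normalizer : A ≤ _) with h | h
    · exact (hn (Subgroup.normalizer_eq_top_iff.1 h)).elim
    · exact h
  have hZ : Subgroup.center G ≤ A := hNA ▸ Subgroup.center_le_normalizer _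
  have hs := QuotientGroup.mk'_surjective (Subgroup.center G)
  have hA' := H1.isCoatom_map_of_surjective hs hA (by rwa [QuotientGroup.ker_mk'])
  have hmem : ∀ x : G, QuotientGroup.mk' (Subgroup.center G) x ∈
      A.map (QuotientGroup.mk' (Subgroup.center G)) → x ∈ A := fun x hx => by
    have : x ∈ (A.map (QuotientGroup.mk' (Subgroup.center G))).comap _ := hx
    rwa [QuotientGroup.comap_map_mk', sup_eq_right.2 hZ] at this
  have : IsMulCommutative (A.map (QuotientGroup.mk' (Subgroup.center G))) := inferInstance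
  have h2 := frob _ hA' ((H2.isFrob_iff _).2 ⟨?_, hA'.1, ?_⟩)
  · rw [derivedSeries_succ, Subgroup.commutator_eq_bot_iff_le_centralizer]
    refine le_trans ?_ (Subgroup.center_le_centralizer _)
    rw [← H1.map_mk'_eq_bot_iff, map_derivedSeries_eq hs, h2]
  · rw [Ne, H1.map_mk'_eq_bot_iff]
    exact fun h => hn (le_antisymm h hZ ▸ inferInstance)
  · rintro _ ⟨x, hx, rfl⟩ hx1 g hg
    obtain ⟨g, rfl⟩ := hs g
    rw [← map_inv, ← map_mul, ← map_mul] at hg
    have hg := hmem _ hg
    refine Subgroup.mem_map_of_mem _ ?_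
    by_contra hgA
    refine hx1 ((QuotientGroup.eq_one_iff x).2 ?_)
    have h1 : ¬ MulAut.conj g • A ≤ A := fun h => hgA (hNA ▸ H1.mem_normalizer_iff_smul.2
      (Subgroup.eq_of_le_of_card_ge h (H1.card_conj_smul g A).ge))
    have h2 : A ⊔ MulAut.conj g • A = ⊤ :=
      hA.2 _ (lt_of_le_of_ne le_sup_left fun e => h1 (le_sup_right.trans e.ge))
    have h3 : A ⊔ MulAut.conj g • A ≤ Subgroup.centralizer {x} := by
      refine sup_le (fun a ha => Subgroup.mem_centralizer_singleton_iff.2
        (H1.isMulCommutative_iff'.1 inferInstance a ha x hx)) fun a ha => ?_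
      have := H1.isMulCommutative_iff'.1 inferInstance _ (H1.mem_conj_smul_iff.1 ha) _ hg
      rw [Subgroup.mem_centralizer_singleton_iff]
      calc a * x = g * (g⁻¹ * a * g * (g⁻¹ * x * g)) * g⁻¹ := by group
        _ = x * a := by rw [this]; group
    rw [h2] at h3
    exact Subgroup.mem_center_iff.2 fun y =>
      Subgroup.mem_centralizer_singleton_iff.1 (h3 (Subgroup.mem_top y))

end Cfsg.Agent.S0556
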