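import Mathlib
import Cfsg.Statements.S4038
import Cfsg.Agent.H8.Jan3

set_option autoImplicit false
open Cfsg

namespace Cfsg.Agent.S4038

theorem result {G A : Type*} [Group G] [Finite G]
    [Group A] [Finite A] (φ : A →* MulAut G) (hcop : (Nat.card A).Coprime (Nat.card G))
    (M : Subgroup G) (hMtop : M ≠ ⊤) (hMinv : ∀ a : A, ∀ m : G, m ∈ M → φ a m ∈ M)
    (hMmax : ∀ H : Subgroup G, M ≤ H → H ≠ ⊤ → (∀ a : A, ∀ h : G, h ∈ H → φ a h ∈ H) → H = M)
    (hnil : Group.IsNilpotent M) (h2 : ∀ S : Sylow 2 ↥M, Group.nilpotencyClass ↥(S : Subgroup ↥M) ≤ 2) :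
    Group.IsSolvable G := by
  rcases Nat.even_or_odd (Nat.card G) with he | ho
  · have hA : Odd (Nat.card A) :=
      Nat.coprime_two_right.1 (hcop.coprime_dvd_right (even_iff_two_dvd.1 he))
    obtain ⟨S⟩ : Nonempty (Sylow 2 M) := inferInstance
    exact H8.janko_aux hA _ G φ M rfl hcop hMtop hMinv hMmax hnil (H8.cl2_of_class S (h2 S))
  · exact Cfsg.Agent.S0205.result ho

end Cfsg.Agent.S4038
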