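import Mathlib
import Cfsg.Statements.S4040
import Cfsg.Agent.S4038

set_option autoImplicit false
open Cfsg

namespace Cfsg.Agent.S4040

theorem result {G : Type*} [Group G] [Finite G]
    (M : Subgroup G) (hmax : IsCoatom M) (hnil : Group.IsNilpotent M) (hodd : Odd (Nat.card M)) :
    Group.IsSolvable G := by
  refine Cfsg.Agent.S4038.result (A := PUnit.{1}) 1 (by simp) M hmax.1 (fun _ _ h => h)
    (fun H h1 h2 _ => ?_) hnil fun S => ?_
  · by_contra h3
    exact h2 (hmax.2 H (lt_of_le_of_ne h1 (Ne.symm h3)))
  · have h1 : (S : Subgroup M) = ⊥ := by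
      obtain ⟨k, hk⟩ := S.isPGroup'.exists_card_eq
      rcases k with _ | k
      · exact Subgroup.card_eq_one.1 hk
      · exfalso
        have := hodd.of_dvd_nat (Subgroup.card_subgroup_dvd_card (S : Subgroup M))
        rw [hk, pow_succ] at this
        exact (Nat.not_even_iff_odd.2 this) (even_two.mul_left _)
    haveI : Subsingleton (S : Subgroup M) := by rw [h1]; infer_instance
    rw [Group.nilpotencyClass_zero_iff_subsingleton.2 this]
    exact Nat.zero_le _

end Cfsg.Agent.S4040
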