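import Cfsg.Statements.S0493
import Cfsg.Agent.H2.FiltG

set_option autoImplicit false
open Cfsg

namespace Cfsg.Agent.S0493

/-- A finite simple group of order at most 100 that is not cyclic has order 60. -/
theorem result {G : Type*} [Group G] [Finite G] [IsSimpleGroup G]
    (hG : ¬ IsCyclic G) (h : Nat.card G ≤ 100) : Nat.card G = 60 := by
  have h0 : 0 < Nat.card G := Nat.card_pos
  have := H2.filt_range (H2.sm_noncomm_of_not_cyclic hG) (ok := [60]) (a := 1) (W :=
      [(0, 2), (0, 2), (0, 3), (0, 2), (0, 5), (0, 3), (0, 7), (0, 2), (0, 3), (0, 5), (0, 11), (0, 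
      3), (0, 13), (0, 7), (0, 2), (0, 2), (0, 17), (0, 3), (0, 19), (0, 5), (1, 7), (0, 11), (0, 
      23), (0, 3), (0, 5)])
    (by decide +kernel) (by omega) (lt_of_le_of_lt h (by decide +kernel))
  simpa using this

end Cfsg.Agent.S0493
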