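import Cfsg.Statements.S3669
import Cfsg.Agent.S4811
import Cfsg.Agent.S4812
import Cfsg.Agent.S0493
import Cfsg.Agent.S0494
import Cfsg.Agent.S0252
import Cfsg.Agent.H8.FTc

set_option autoImplicit false
open Cfsg

namespace Cfsg.Agent.S3669

open Subgroup

theorem solv_of_lt {X : Type*} [Group X] [Finite X] (h : Nat.card X < 60) : Group.IsSolvable X := by
  refine H8.isSolvable_of_simple_cases (fun X _ _ => Nat.card X < 60)
    (fun X _ _ N _ h => (card_le_card_group N).trans_lt h)
    (fun X _ _ N _ h => (Nat.le_of_dvd Nat.card_pos (card_quotient_dvd_card N)).trans_lt h)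
    (fun X _ _ _ h => ?_) _ X rfl h
  by_cases hc : IsCyclic X
  · exact Group.isSolvable_of_comm hc.isMulCommutative.is_comm.comm
  · have := S0493.result hc (by omega); omega

/-- The character degree graph of a finite group has as vertices the primes dividing some irreducible complex character degree, two distinct primes being joined when their product divides some irreducible character degree; two groups have the same character degree graph when they have the same vertices and the same joined pairs. A finite group of order 60 with the same character degree graph as the alternating group A₅ (whose character degrees are 1, 3, 4, 5, so the graph has vertices 2, 3, 5 and no edges) is isomorphic to A₅. -/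
theorem result {G : Type*} [Group G] [Finite G] (hcard : Nat.card G = 60)
    (hΓ : Cfsg.degreePrimes G = Cfsg.degreePrimes (alternatingGroup (Fin 5)) ∧ Cfsg.degreeGraph G = Cfsg.degreeGraph (alternatingGroup (Fin 5))) : Nonempty (G ≃* alternatingGroup (Fin 5)) := by
  letI : Fintype (GaloisField 2 2) := Fintype.ofFinite _
  have hF : Fintype.card (GaloisField 2 2) = 4 := by
    rw [← Nat.card_eq_fintype_card, GaloisField.card 2 2 (by norm_num)]; norm_num
  obtain ⟨e⟩ := S0252.result hF
  obtain ⟨h1, h2⟩ := S4812.result (GaloisField 2 2) 4 hF le_rfl (Or.inl ⟨e.symm⟩)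
  rw [← hΓ.1] at h1
  rw [← hΓ.2] at h2
  have hns : ¬ Group.IsSolvable G := fun hs => by
    have h3 := S4811.result (G := G)
    have hb : (degreeGraph G).induce (degreePrimes G) = ⊥ := by
      ext r s
      simp only [SimpleGraph.comap_adj, Function.Embedding.subtype_apply, SimpleGraph.bot_adj,
        iff_false, h2]
      rintro ⟨hne, hr, hs, ⟨a, b⟩ | ⟨a, b⟩⟩
      · exact hne (((Nat.prime_dvd_prime_iff_eq hr Nat.prime_five).1 a).trans
          ((Nat.prime_dvd_prime_iff_eq hs Nat.prime_five).1 b).symm)
      · exact hne (((Nat.prime_dvd_prime_iff_eq hr Nat.prime_three).1 a).trans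
          ((Nat.prime_dvd_prime_iff_eq hs Nat.prime_three).1 b).symm)
    rw [hb] at h3
    haveI : Finite (degreePrimes G) := by
      rw [h1]
      exact ((Set.finite_le_nat 60).subset fun r hr => Nat.le_of_dvd (by norm_num) hr.2).to_subtype
    have hm : ∀ i : Fin 3, ![2, 3, 5] i ∈ degreePrimes G := by
      rw [h1]; decide
    have := Nat.card_le_card_of_injective
      (fun i : Fin 3 => (⊥ : SimpleGraph (degreePrimes G)).connectedComponentMk ⟨_, hm i⟩)
      fun i j h => by
        have := congrArg Subtype.val
          (SimpleGraph.reachable_bot.1 (SimpleGraph.ConnectedComponent.eq.1 h))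
        exact (by decide : ∀ i j : Fin 3, ![2, 3, 5] i = ![2, 3, 5] j → i = j) i j this
    rw [Nat.card_fin] at this
    omega
  haveI : Nontrivial G := Finite.one_lt_card_iff_nontrivial.1 (by omega)
  haveI : IsSimpleGroup G := ⟨fun N hN => by
    by_contra h
    push Not at h
    haveI := solv_of_lt (X := N) (hcard ▸ (card_le_card_group N).lt_of_ne
      fun e => h.2 (eq_top_of_card_eq N e))
    haveI := solv_of_lt (X := G ⧸ N) (by
      have h1 := card_eq_card_quotient_mul_card_subgroup N
      have h2 := (one_lt_card_iff_ne_bot N).2 h.1
      nlinarith)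
    exact hns (Group.isSolvable_of_ker_le_range N.subtype (QuotientGroup.mk' N) (by simp))⟩
  exact S0494.result hcard

end Cfsg.Agent.S3669
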