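import Cfsg.Statements.S2542
import Cfsg.Agent.H4.Tor4
import Cfsg.Agent.S0675

set_option autoImplicit false
open Cfsg

namespace Cfsg.Agent.S2542

/-- Let F be a field with 11 elements. PSL_2(F) has a subgroup H of index 11 isomorphic to the alternating group A_5, and the action of PSL_2(F) on the cosets of H is 2-transitive (of degree 11). -/
theorem result {F : Type*} [Field F] [Fintype F] (hF : Fintype.card F = 11) : ∃ H : Subgroup (Matrix.ProjectiveSpecialLinearGroup (Fin 2) F), H.index = 11 ∧ Nonempty (H ≃* alternatingGroup (Fin 5)) ∧ MulAction.IsMultiplyPretransitive (Matrix.ProjectiveSpecialLinearGroup (Fin 2) F) ((Matrix.ProjectiveSpecialLinearGroup (Fin 2) F) ⧸ H) 2 := by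
  classical
  obtain ⟨A, h1, h3⟩ := H4.exists_a5_le (F := F) (E := ⊤) (by
    rw [H4.card_subfield_top, Nat.card_eq_fintype_card, hF]; norm_num)
  obtain ⟨H, h4⟩ := H4.exists_psl_iff.2 ⟨A, h1.trans (H4.pslS_le_pL _), h3⟩
  have h5 := H.index_mul_card
  have h6 := H4.card_psl (F := F)
  rw [hF] at h6
  rw [H4.card_of_equiv h4, H4.card_a5] at h5
  have h7 : H.index = 11 := by rw [← h5] at h6; norm_num at h6; omega
  refine ⟨H, h7, h4, ?_⟩
  have hs := H22.PSL_fin_isSimpleGroup (F := F) 2 le_rfl fun _ => by omega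
  let f := MulAction.toPermHom (Matrix.ProjectiveSpecialLinearGroup (Fin 2) F)
    (Matrix.ProjectiveSpecialLinearGroup (Fin 2) F ⧸ H)
  have hf : Function.Injective f := by
    rw [← MonoidHom.ker_eq_bot_iff]
    refine (IsSimpleGroup.eq_bot_or_eq_top_of_normal _ inferInstance).resolve_right fun h => ?_
    rw [← Subgroup.normalCore_eq_ker] at h
    have := Subgroup.index_eq_one.2 (eq_top_iff.2 (h.ge.trans H.normalCore_le))
    omega
  have := Fintype.ofFinite (Matrix.ProjectiveSpecialLinearGroup (Fin 2) F ⧸ H)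
  have : MulAction.IsPretransitive f.range (Matrix.ProjectiveSpecialLinearGroup (Fin 2) F ⧸ H) :=
    ⟨fun x y => by
      obtain ⟨g, hg⟩ := MulAction.exists_smul_eq (Matrix.ProjectiveSpecialLinearGroup (Fin 2) F) x y
      exact ⟨⟨f g, g, rfl⟩, hg⟩⟩
  rcases Cfsg.Agent.S0675.result (by
    rw [← Nat.card_eq_fintype_card, ← Subgroup.index_eq_card, h7]; norm_num) f.range with h | h
  · exact (H4.not_isSolvable_a5 (H4.isSolvable_of_equiv ⟨h4.some.symm⟩
      (have := H4.isSolvable_of_equiv ⟨MonoidHom.ofInjective hf⟩ h; inferInstance))).elim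
  · rw [MulAction.is_two_pretransitive_iff] at h ⊢
    intro a b c d h1 h2
    obtain ⟨⟨_, g, rfl⟩, h3⟩ := h h1 h2
    exact ⟨g, h3⟩

end Cfsg.Agent.S2542
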