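import Cfsg.Statements.S4211
import Cfsg.Agent.H6.Dihedral
import Cfsg.Agent.H9.Blackburn
open Subgroup
open scoped commutatorElement

set_option autoImplicit false
open Cfsg

namespace Cfsg.Agent.S4211

variable {G : Type*} [Group G] [Finite G]

theorem cl (hn : ∀ H : Subgroup G, H.Normal) (u v : G) : ⁅u, v⁆ ∈ zpowers u := by
  rw [commutatorElement_def, mul_assoc, mul_assoc, ← mul_assoc v]
  exact mul_mem (mem_zpowers u) ((hn _).conj_mem _ (inv_mem (mem_zpowers u)) v)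

theorem cr (hn : ∀ H : Subgroup G, H.Normal) (u v : G) : ⁅u, v⁆ ∈ zpowers v :=
  mul_mem ((hn _).conj_mem _ (mem_zpowers v) u) (inv_mem (mem_zpowers v))

theorem cm {u w : G} (h : w ∈ zpowers u) : Commute u w := by
  obtain ⟨k, rfl⟩ := h; exact Commute.self_zpow u k

theorem root {x c : G} {p m : ℕ} (hp : p.Prime) (hx : orderOf x = p ^ (m + 1)) (hc : c ∈ zpowers x)
    (oc : orderOf c = p) : ∃ i : ℕ, ¬ p ∣ i ∧ c = (x ^ i) ^ p ^ m := by
  obtain ⟨k, rfl⟩ := (mem_powers_iff_mem_zpowers.2 hc)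
  have h : x ^ (k * p) = 1 := by rw [pow_mul]; exact oc ▸ pow_orderOf_eq_one _
  have := orderOf_dvd_of_pow_eq_one h
  rw [hx, pow_succ] at this
  obtain ⟨i, rfl⟩ := Nat.dvd_of_mul_dvd_mul_right hp.pos this
  refine ⟨i, ?_, by rw [← pow_mul, mul_comm]⟩
  rintro ⟨j, rfl⟩
  have : x ^ (p ^ m * (p * j)) = 1 := by
    rw [← mul_assoc, ← pow_succ, ← hx, pow_mul, pow_orderOf_eq_one, one_pow]
  simp only [this, orderOf_one] at oc
  exact hp.one_lt.ne oc

theorem core (hn : ∀ H : Subgroup G, H.Normal) (H : Subgroup G) {x y : G} (hx : x ∈ H) (hy : y ∈ H)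
    (h : ⁅y, x⁆ ≠ 1) (le : orderOf y ≤ orderOf x)
    (min : ∀ u ∈ H, ∀ v ∈ H, ⁅v, u⁆ ≠ 1 → orderOf x + orderOf y ≤ orderOf u + orderOf v) :
    orderOf x = 4 ∧ orderOf y = 4 ∧ ⁅y, x⁆ = x ^ 2 ∧ ⁅y, x⁆ = y ^ 2 := by
  have lt : ∀ (u : G) (q : ℕ), q.Prime → q ∣ orderOf u → orderOf (u ^ q) < orderOf u := fun u q hq h => by
    rw [orderOf_pow_of_dvd hq.ne_zero h]
    exact Nat.div_lt_self (orderOf_pos u) hq.one_lt
  have o1 : ∀ q : ℕ, q.Prime → q ∣ orderOf x → orderOf ⁅y, x⁆ = q := fun q hq hd => by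
    have := Fact.mk hq
    refine orderOf_eq_prime ?_ h
    rw [← H9.commutator_pow_right (cm (cr hn y x))]
    by_contra e
    have := min _ (pow_mem hx q) _ hy e
    have := lt x q hq hd
    omega
  have o2 : ∀ q : ℕ, q.Prime → q ∣ orderOf y → orderOf ⁅y, x⁆ = q := fun q hq hd => by
    have := Fact.mk hq
    refine orderOf_eq_prime ?_ h
    rw [← H9.commutator_pow_left (cm (cl hn y x))]
    by_contra e
    have := min _ hx _ (pow_mem hy q) e
    have := lt y q hq hd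
    omega
  have x1 : orderOf x ≠ 1 := fun e => h (by rw [orderOf_eq_one_iff.1 e]; simp)
  have hp : (orderOf ⁅y, x⁆).Prime := by
    rw [o1 _ (Nat.minFac_prime x1) (Nat.minFac_dvd _)]; exact Nat.minFac_prime x1
  obtain ⟨p, oc⟩ : ∃ p, orderOf ⁅y, x⁆ = p := ⟨_, rfl⟩
  rw [oc] at hp o1 o2
  obtain ⟨m, hm⟩ : ∃ m, orderOf x = p ^ m := ⟨_, Nat.eq_prime_pow_of_unique_prime_dvd
    (orderOf_pos x).ne' fun hq hd => (o1 _ hq hd).symm⟩
  obtain ⟨n, hn'⟩ : ∃ m, orderOf y = p ^ m := ⟨_, Nat.eq_prime_pow_of_unique_prime_dvd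
    (orderOf_pos y).ne' fun hq hd => (o2 _ hq hd).symm⟩
  have nm : n ≤ m := (Nat.pow_le_pow_iff_right hp.one_lt).1 (hm ▸ hn' ▸ le)
  have n0 : n ≠ 0 := by
    rintro rfl
    exact h (by rw [orderOf_eq_one_iff.1 hn']; simp)
  obtain ⟨n, rfl⟩ := Nat.exists_eq_succ_of_ne_zero n0
  obtain ⟨d, rfl⟩ := Nat.exists_eq_add_of_le nm
  obtain ⟨j, hj, ej⟩ := root hp hn' (cl hn y x) oc
  obtain ⟨i, hi, ei⟩ := root (m := n + d) hp (by rw [hm]; congr 1; omega) (cr hn y x) oc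
  have cj : ⁅y, x⁆ ^ j ≠ 1 := fun e => hj (oc ▸ orderOf_dvd_of_pow_eq_one e)
  have yj : ⁅y ^ j, x⁆ = ⁅y, x⁆ ^ j := H9.commutator_pow_left (cm (cl hn y x)) j
  have n0 : n ≠ 0 := by
    rintro rfl
    rw [pow_zero, pow_one] at ej
    exact cj (yj ▸ commutatorElement_eq_one_iff_commute.2 (ej ▸ (cm (cr hn y x)).symm))
  obtain ⟨n, rfl⟩ := Nat.exists_eq_succ_of_ne_zero n0
  set a := x ^ (-((i * p ^ d : ℕ) : ℤ)) with ha
  have ax : Commute a x := Commute.zpow_self x _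
  have k1 : ⁅a * y ^ j, x⁆ ≠ 1 := by
    rw [H9.commutator_mul_left_of_commute ((cm (cr hn _ x)).zpow_left _),
      commutatorElement_eq_one_iff_commute.2 ax, mul_one, yj]
    exact cj
  have k2 := min _ hx _ (mul_mem (zpow_mem hx _) (pow_mem hy j)) k1
  have k3 : (a * y ^ j) ^ p ^ (n + 1) ≠ 1 := fun e => by
    have := Nat.le_of_dvd (pow_pos hp.pos _) (orderOf_dvd_of_pow_eq_one e)
    have h2 := Nat.pow_lt_pow_right hp.one_lt (Nat.lt_succ_self (n + 1))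
    rw [← ha, hn'] at k2
    exact absurd (this.trans_lt h2) (not_lt.2 (Nat.le_of_add_le_add_left k2))
  have k4 : a ^ p ^ (n + 1) = ⁅y, x⁆⁻¹ := by
    rw [ei, ha, zpow_neg, zpow_natCast, inv_pow, ← pow_mul, ← pow_mul]
    congr 2; simp only [Nat.succ_eq_add_one]; ring
  rw [H9.mul_pow_class_two (cm (cr hn _ _)) (cm (cl hn _ _)), k4, ← ej, inv_mul_cancel, one_mul,
    ha, H9.commutator_zpow_right (cm (cr hn _ _)), yj, zpow_neg, zpow_natCast, inv_pow,
    ← pow_mul, ← pow_mul, Ne, inv_eq_one, ← orderOf_dvd_iff_pow_eq_one, oc] at k3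
  have d0 : d = 0 := by
    by_contra e
    exact k3 (Dvd.dvd.mul_left (Dvd.dvd.mul_right (Dvd.dvd.mul_left (dvd_pow_self p e) _) _) _)
  have k5 : ¬ p ∣ (p ^ (n + 1)).choose 2 := fun e =>
    k3 (Dvd.dvd.mul_left (Dvd.dvd.mul_left e _) _)
  have p2 : p = 2 := by
    by_contra e
    exact k5 ((dvd_pow_self p n.succ_ne_zero).trans (H9.odd_dvd_choose_two (hp.odd_of_ne_two e).pow))
  subst p2 d0
  have n0 : n = 0 := by
    by_contra e
    apply k5
    rw [Nat.choose_two_right, pow_succ, mul_right_comm, Nat.mul_div_cancel _ two_pos]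
    exact Dvd.dvd.mul_right (dvd_pow_self 2 e) _
  subst n0
  have f : ∀ (u : G) (k : ℕ), orderOf u = 4 → ¬ 2 ∣ k → (u ^ k) ^ 2 ^ 1 = u ^ 2 := fun u k hu hk => by
    rw [← pow_mul, pow_eq_pow_iff_modEq, hu]
    unfold Nat.ModEq; omega
  exact ⟨hm, hn', ei.trans (f x i hm hi), ej.trans (f y j hn' hj)⟩

theorem pair (hn : ∀ H : Subgroup G, H.Normal) (H : Subgroup G) (h : ¬ IsMulCommutative H) :
    ∃ x ∈ H, ∃ y ∈ H, orderOf x = 4 ∧ orderOf y = 4 ∧ ⁅y, x⁆ = x ^ 2 ∧ ⁅y, x⁆ = y ^ 2 := by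
  have ne : ∃ k, ∃ u ∈ H, ∃ v ∈ H, ⁅v, u⁆ ≠ 1 ∧ orderOf u + orderOf v = k := by
    by_contra e
    push Not at e
    exact h ⟨⟨fun a b => Subtype.ext (commutatorElement_eq_one_iff_mul_comm.1
      (by_contra fun n => e _ b b.2 a a.2 n rfl))⟩⟩
  classical
  obtain ⟨x, hx, y, hy, h1, h2⟩ := Nat.find_spec ne
  have min : ∀ u ∈ H, ∀ v ∈ H, ⁅v, u⁆ ≠ 1 → orderOf x + orderOf y ≤ orderOf u + orderOf v :=
    fun u hu v hv n => h2 ▸ Nat.find_min' ne ⟨u, hu, v, hv, n, rfl⟩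
  rcases le_total (orderOf y) (orderOf x) with le | le
  · exact ⟨x, hx, y, hy, core hn H hx hy h1 le min⟩
  · exact ⟨y, hy, x, hx, core hn H hy hx (fun e => h1 (by rw [← commutatorElement_inv, e, inv_one])) le
      (add_comm (orderOf x) _ ▸ min)⟩

theorem four {x w : G} (hx : orderOf x = 4) (h : w ∈ zpowers x) :
    w = 1 ∨ w = x ∨ w = x ^ 2 ∨ w = x⁻¹ := by
  obtain ⟨k, rfl⟩ := (mem_powers_iff_mem_zpowers.2 h)
  have : x⁻¹ = x ^ 3 := inv_eq_of_mul_eq_one_right (by rw [← pow_succ']; exact orderOf_dvd_iff_pow_eq_one.1 hx.dvd)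
  simp only [this]
  rw [← pow_mod_orderOf, hx]
  have : k % 4 < 4 := Nat.mod_lt _ (by norm_num)
  interval_cases k % 4 <;> simp

theorem pm (hn : ∀ H : Subgroup G, H.Normal) {x : G} (hx : orderOf x = 4) (g : G) :
    g * x * g⁻¹ = x ∨ g * x * g⁻¹ = x⁻¹ := by
  have o : orderOf (g * x * g⁻¹) = 4 := by
    rw [← hx]; exact (MulAut.conj g).orderOf_eq x
  rcases four hx ((hn _).conj_mem _ (mem_zpowers x) g) with h | h | h | h
  · rw [h, orderOf_one] at o; omega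
  · exact Or.inl h
  · rw [h, orderOf_pow' _ two_ne_zero, hx] at o; simp at o
  · exact Or.inr h

/-- A finite non-abelian group in which every subgroup is normal is the internal direct product of a subgroup isomorphic to the quaternion group of order `8`, an elementary abelian `2`-subgroup and an abelian subgroup of odd order. -/
theorem result {G : Type*} [Group G] [Finite G] (hna : ¬ IsMulCommutative G) (hn : ∀ H : Subgroup G, H.Normal) : ∃ Q E A : Subgroup G, Nonempty (Q ≃* QuaternionGroup 2) ∧ Cfsg.IsElementaryAbelian 2 E ∧ IsMulCommutative A ∧ Odd (Nat.card A) ∧ E ⊓ A = ⊥ ∧ Q ⊓ (E ⊔ A) = ⊥ ∧ Q ⊔ (E ⊔ A) = ⊤ := by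
  obtain ⟨x, -, y, -, ox, oy, e1, e2⟩ := pair hn ⊤ fun h => hna
    ⟨⟨fun a b => congrArg Subtype.val (h.1.1 ⟨a, trivial⟩ ⟨b, trivial⟩)⟩⟩
  have x4 : x ^ 4 = 1 := ox ▸ pow_orderOf_eq_one x
  have y4 : y ^ 4 = 1 := oy ▸ pow_orderOf_eq_one y
  have x2 : x ^ 2 ≠ 1 := fun e => by have := orderOf_dvd_of_pow_eq_one e; rw [ox] at this; omega
  have yx : y * x * y⁻¹ = x⁻¹ := by
    calc y * x * y⁻¹ = ⁅y, x⁆ * x := by group
      _ = x ^ 4 * x⁻¹ := by rw [e1]; group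
      _ = _ := by rw [x4, one_mul]
  have xy : x * y * x⁻¹ = y⁻¹ := by
    calc x * y * x⁻¹ = ⁅y, x⁆⁻¹ * y := by group
      _ = _ := by rw [e2]; group
  have nc : ¬ Commute x y := fun h => x2 (e1 ▸ commutatorElement_eq_one_iff_commute.2 h.symm)
  set C := centralizer ({x, y} : Set G) with hC
  have mC : ∀ g, g ∈ C ↔ g * x * g⁻¹ = x ∧ g * y * g⁻¹ = y := fun g => by
    simp only [hC, mem_centralizer_iff, Set.mem_insert_iff, Set.mem_singleton_iff, forall_eq_or_imp,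
      forall_eq, mul_inv_eq_iff_eq_mul]
    exact and_congr eq_comm eq_comm
  have no4 : ∀ g ∈ C, orderOf g ≠ 4 := fun g hg og => by
    obtain ⟨gx, gy⟩ := (mC g).1 hg
    have cx : Commute x g := (mul_inv_eq_iff_eq_mul.1 gx).symm
    have cy : Commute y g := (mul_inv_eq_iff_eq_mul.1 gy).symm
    have e : y * (x * g) * y⁻¹ = x⁻¹ * g := by rw [← yx, ← mul_assoc, mul_assoc _ g, ← cy.inv_left.eq]; group
    have g4 : g ^ 4 = 1 := og ▸ pow_orderOf_eq_one g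
    have ne : ∀ k : ℕ, Odd k → g ≠ x ^ k := by
      rintro _ ⟨k, rfl⟩ rfl
      apply nc
      have c2 : Commute y (x ^ 2) := by rw [← e1, e2]; exact Commute.self_pow y 2
      have : x = (x ^ 2)⁻¹ ^ k * x ^ (2 * k + 1) := by group
      rw [this]
      exact ((c2.inv_right.pow_right k).mul_right cy).symm
    obtain ⟨k, hk⟩ := mem_powers_iff_mem_zpowers.2 (e ▸ (hn _).conj_mem _ (mem_zpowers (x * g)) y)
    simp only [cx.mul_pow] at hk
    rw [← pow_mod_orderOf x, ← pow_mod_orderOf g, ox, og] at hk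
    have : k % 4 < 4 := Nat.mod_lt _ (by norm_num)
    interval_cases k % 4
    · exact ne 1 odd_one (by simpa [eq_comm, inv_mul_eq_one] using hk)
    · exact x2 (by
        simp only [pow_one, mul_left_inj] at hk
        rw [pow_two]; nth_rewrite 1 [hk]; simp)
    · refine ne 1 odd_one ?_
      calc g = (x ^ 2)⁻¹ * (x ^ 2 * g ^ 2) * g⁻¹ := by group
        _ = (x ^ 4)⁻¹ * x := by rw [hk]; group
        _ = x ^ 1 := by rw [x4]; simp
    · have : g ^ 2 = 1 := by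
        calc g ^ 2 = (x ^ 3)⁻¹ * (x ^ 3 * g ^ 3) * g⁻¹ := by group
          _ = (x ^ 4)⁻¹ := by rw [hk]; group
          _ = 1 := by rw [x4, inv_one]
      have := orderOf_dvd_of_pow_eq_one this
      rw [og] at this; omega
  have ab : IsMulCommutative C := by
    by_contra h
    obtain ⟨u, hu, -, -, ou, -⟩ := pair hn C h
    exact no4 u hu ou
  have cc : ∀ a ∈ C, ∀ b ∈ C, Commute a b := fun a ha b hb =>
    congrArg Subtype.val (ab.1.1 ⟨a, ha⟩ ⟨b, hb⟩)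
  let E' : Subgroup G := ⟨⟨⟨{g | g ∈ C ∧ g ^ 2 = 1}, fun {a b} ha hb => ⟨mul_mem ha.1 hb.1, by
    rw [(cc a ha.1 b hb.1).mul_pow, ha.2, hb.2, one_mul]⟩⟩, one_mem _, one_pow 2⟩,
    fun {a} ha => ⟨inv_mem ha.1, by rw [inv_pow, ha.2, inv_one]⟩⟩
  let A : Subgroup G := ⟨⟨⟨{g | g ∈ C ∧ Odd (orderOf g)}, fun {a b} ha hb => ⟨mul_mem ha.1 hb.1,
    (ha.2.mul hb.2).of_dvd_nat (cc a ha.1 b hb.1).orderOf_mul_dvd_mul_orderOf⟩⟩, one_mem _, by simp⟩,
    fun {a} ha => ⟨inv_mem ha.1, by rw [orderOf_inv]; exact ha.2⟩⟩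
  have : Fact (Nat.Prime 2) := ⟨Nat.prime_two⟩
  have xE : x ^ 2 ∈ E' := ⟨(mC _).2 ⟨by group, by rw [← e1, e2]; group⟩, by rw [← pow_mul, x4]⟩
  obtain ⟨E, h1, h2, h3⟩ := H9.exists_compl_of_elementary (p := 2) (V := E') (U := zpowers (x ^ 2))
    ⟨⟨⟨fun a b => Subtype.ext (cc _ a.2.1 _ b.2.1)⟩⟩, fun a ha => ha.2⟩ (zpowers_le.2 xE)
  have EA : ∀ g ∈ E', g ∈ A → g = 1 := fun g h h' => orderOf_eq_one_iff.1
    (Nat.eq_one_of_dvd_coprimes (Nat.coprime_two_left.2 h'.2) (orderOf_dvd_of_pow_eq_one h.2) dvd_rfl)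
  have EAC : E ⊔ A ≤ C := sup_le (fun g h => (h1 h).1) fun g h => h.1
  refine ⟨closure {x, y}, E, A, H6.closure_equiv_quaternion (n := 2) ox (by rw [← e1, e2, pow_two]) yx
    fun h => nc (cm h), ⟨⟨⟨fun a b => Subtype.ext (cc _ (h1 a.2).1 _ (h1 b.2).1)⟩⟩, fun a ha => (h1 ha).2⟩,
    ⟨⟨fun a b => Subtype.ext (cc _ a.2.1 _ b.2.1)⟩⟩, ?_, eq_bot_iff.2 fun g h => EA g (h1 h.1) h.2,
    eq_bot_iff.2 fun g h => ?_, eq_top_iff.2 fun g _ => ?_⟩
  · by_contra h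
    obtain ⟨a, ha⟩ := exists_prime_orderOf_dvd_card' 2 (even_iff_two_dvd.1 (Nat.not_odd_iff_even.1 h))
    have := a.2.2
    rw [orderOf_coe, ha] at this
    exact absurd this (by decide)
  · obtain ⟨gx, gy⟩ := (mC g).1 (EAC h.2)
    obtain ⟨k, hk | hk⟩ := (H6.mem_closure_inverts' (by rw [← pow_two, ← e2, e1]; exact pow_mem (mem_zpowers x) 2) yx).1 h.1
    · rcases four ox (show g ∈ zpowers x from ⟨k, hk.symm⟩) with e | e | e | e
      · exact e
      · exact (nc (by rw [e] at gy; exact mul_inv_eq_iff_eq_mul.1 gy)).elim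
      · obtain ⟨a, ha, b, hb, e'⟩ := mem_sup_of_normal_right.1 h.2
        have : b = 1 := EA b (by
          rw [eq_inv_mul_of_mul_eq e', e]; exact mul_mem (inv_mem (h1 ha)) xE) hb
        rw [this, mul_one] at e'
        exact h2.le ⟨e ▸ mem_zpowers _, e' ▸ ha⟩
      · refine (nc ?_).elim
        rw [e] at gy
        exact (Commute.inv_left_iff.1 (mul_inv_eq_iff_eq_mul.1 gy))
    · exfalso
      apply x2
      rw [hk] at gx
      have : x⁻¹ = x := by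
        calc x⁻¹ = x ^ k * (y * x * y⁻¹) * (x ^ k)⁻¹ := by rw [yx]; group
          _ = x ^ k * y * x * (x ^ k * y)⁻¹ := by group
          _ = x := gx
      rw [pow_two]; nth_rewrite 1 [← this]; simp
  · have CC : C ≤ closure {x, y} ⊔ (E ⊔ A) := fun g hg => by
      obtain ⟨k, m, hm, e⟩ := Nat.exists_eq_two_pow_mul_odd (orderOf_pos g).ne'
      have k1 : k ≤ 1 := by
        by_contra hk
        obtain ⟨l, rfl⟩ := Nat.exists_eq_add_of_le (show 2 ≤ k by omega)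
        refine no4 (g ^ (2 ^ l * m)) (pow_mem hg _) ?_
        rw [orderOf_pow_of_dvd (mul_ne_zero (by positivity) hm.pos.ne') ⟨4, by rw [e]; ring⟩, e]
        exact Nat.div_eq_of_eq_mul_right (Nat.mul_pos (by positivity) hm.pos) (by ring)
      have g2 : g ^ (2 * m) = 1 := orderOf_dvd_iff_pow_eq_one.1 (e ▸ Nat.mul_dvd_mul_right
        (by simpa using pow_dvd_pow 2 k1) m)
      refine H9.mem_of_pow_mem_of_coprime (m := 2) (n := m) (mem_sup_right (mem_sup_right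
        ⟨pow_mem hg _, hm.of_dvd_nat (orderOf_dvd_of_pow_eq_one (by rw [← pow_mul, g2]))⟩)) ?_
        (Nat.coprime_two_left.2 hm)
      have : g ^ m ∈ E' := ⟨pow_mem hg _, by rw [← pow_mul, mul_comm, g2]⟩
      exact (sup_le (le_sup_of_le_left (zpowers_le.2 (pow_mem (subset_closure (by simp)) 2)))
        (le_sup_of_le_right le_sup_left) : zpowers (x ^ 2) ⊔ E ≤ _) (h3 ▸ this)
    have mx : x ∈ closure {x, y} ⊔ (E ⊔ A) := mem_sup_left (subset_closure (by simp))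
    have my : y ∈ closure {x, y} ⊔ (E ⊔ A) := mem_sup_left (subset_closure (by simp))
    have yx' : y * x⁻¹ * y⁻¹ = x := by rw [← conj_inv, yx, inv_inv]
    have xy' : x * y⁻¹ * x⁻¹ = y := by rw [← conj_inv, xy, inv_inv]
    rcases pm hn ox g with a | a <;> rcases pm hn oy g with b | b
    · exact CC ((mC g).2 ⟨a, b⟩)
    · refine (mul_mem_cancel_left mx).1 (CC ((mC _).2 ⟨?_, ?_⟩))
      · calc _ = x * (g * x * g⁻¹) * x⁻¹ := by group
          _ = _ := by rw [a]; group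
      · calc _ = x * (g * y * g⁻¹) * x⁻¹ := by group
          _ = _ := by rw [b, xy']
    · refine (mul_mem_cancel_left my).1 (CC ((mC _).2 ⟨?_, ?_⟩))
      · calc _ = y * (g * x * g⁻¹) * y⁻¹ := by group
          _ = _ := by rw [a, yx']
      · calc _ = y * (g * y * g⁻¹) * y⁻¹ := by group
          _ = _ := by rw [b]; group
    · refine (mul_mem_cancel_left (mul_mem mx my)).1 (CC ((mC _).2 ⟨?_, ?_⟩))
      · calc _ = x * (y * (g * x * g⁻¹) * y⁻¹) * x⁻¹ := by group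
          _ = _ := by rw [a, yx']; group
      · calc _ = x * (y * (g * y * g⁻¹) * y⁻¹) * x⁻¹ := by group
          _ = x * y⁻¹ * x⁻¹ := by rw [b]; group
          _ = _ := xy'

end Cfsg.Agent.S4211
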