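import Cfsg.Statements.S1175
import Cfsg.Agent.H11.YC

set_option autoImplicit false
open Cfsg

namespace Cfsg.Agent.S1175

open Subgroup MulAction H16 H15.Bd H11.ZD H11.YZ


/-- Aschbacher's criterion for strong embedding. Let G be a finite simple group, M a proper subgroup and z an involution of M such that: z is central in some Sylow 2-subgroup of G; every g with g z g⁻¹ ∈ M lies in M; and C_G(z · g z g⁻¹) ≤ M whenever g z g⁻¹ ≠ z commutes with z. Then G has a strongly embedded subgroup. -/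
theorem result {G : Type*} [Group G] [Finite G] [IsSimpleGroup G] (M : Subgroup G) (hM : M ≠ ⊤) (z : G) (hz : orderOf z = 2) (hzM : z ∈ M) (h1 : ∃ S : Sylow 2 G, z ∈ S ∧ ∀ s ∈ S, Commute s z) (h2 : ∀ g : G, g * z * g⁻¹ ∈ M → g ∈ M) (h3 : ∀ g : G, Commute z (g * z * g⁻¹) → g * z * g⁻¹ ≠ z → Subgroup.centralizer ({z * (g * z * g⁻¹)} : Set G) ≤ M) : ∃ H : Subgroup G, Cfsg.IsStronglyEmbedded H := by
  obtain ⟨S, -, h1⟩ := h1
  have o : ∀ d ∈ {d | IsConj z d}, orderOf d = 2 := fun d hd => by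
    obtain ⟨g, rfl⟩ := isConj_iff.1 hd; exact H6.ord2_conj hz g
  refine ⟨_, Y0.se_simple (α := ((1 : G) : G ⧸ M)) (y0_of_one (α := ((1 : G) : G ⧸ M)) o
    (fun d hd g => hd.trans (isConj_iff.2 ⟨g, rfl⟩)) (fun d => fix_q hzM h2) (fun _ => id) fun e he hne hc b hb => ?_)
    inferInstance (QuotientGroup.nontrivial_iff.2 hM) (IsConj.refl z) (zf_St.ge hzM)⟩
  have ee := H6.ord2_mul_self (o e he)
  obtain ⟨d, hd, h4, h5⟩ := cent_q hzM h2 (sy_top_of_sylow S) (fun s hs => mem_cent1.2 (h1 s hs))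
    (H6.ord2_of (x := z * e) (by rw [hc.symm.mul_mul_mul_comm, H6.ord2_mul_self hz, ee, mul_one]) fun e1 =>
      hne (by rw [eq_inv_of_mul_eq_one_left e1, inv_eq_of_mul_eq_one_right ee])) b hb
  obtain ⟨g, rfl⟩ := isConj_iff.1 he
  exact (fix_q hzM h2 hd).unique h4 (zf_St.ge (h3 g hc hne.symm (mem_cent1.2 h5)))

end Cfsg.Agent.S1175
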