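import Cfsg.Statements.S0486
import Cfsg.Agent.H5.GU

set_option autoImplicit false
open Cfsg

namespace Cfsg.Agent.S0486

open H5 H5.Gd Subgroup

/-- A finite simple group whose Sylow 2-subgroups are isomorphic to a Sylow 2-subgroup of the projective special
unitary group of dimension 3 over the field with 16 elements is isomorphic to that unitary group. -/
theorem result {G : Type*} [Group G] [Finite G] [IsSimpleGroup G]
    {F : Type*} [Field F] [Fintype F] (hF : Fintype.card F = 16) (S : Sylow 2 G) (P : Sylow 2 (Cfsg.PSU 3 F 4))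
    (hS : Nonempty ((S : Subgroup G) ≃* (P : Subgroup (Cfsg.PSU 3 F 4)))) :
    Nonempty (G ≃* Cfsg.PSU 3 F 4) := by
  have hU := hS.elim fun e => (H6.isU34_sylow hF P).of_equiv e.symm
  have hn : ¬ IsMulCommutative G := fun k => by
    obtain ⟨π, i, h⟩ := hU
    have := h.card_range
    rw [← h.commutator_eq, (commutator_eq_bot_iff _).2 inferInstance, card_bot] at this
    omega
  refine (u34 (H10.isSylowIn_top S) hU ((oppOf_top 2).trans (H6.simple_core hn)) (fun N hN ho =>
    hN.eq_bot_or_eq_top.resolve_left fun e => ?_) hF).resolve_right fun e => ?_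
  · rw [e, index_bot] at ho
    exact Nat.not_even_iff_odd.2 ho (H6.simple_even hn)
  · exact H6.simple_sylow_not_normal hn S (H6.simple_even hn).two_dvd (e ▸ inferInstance)

end Cfsg.Agent.S0486
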