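import Cfsg.Statements.S5599
import Cfsg.Agent.H27.MX

set_option autoImplicit false
open scoped Pointwise
open Cfsg

namespace Cfsg.Agent.S5599
open H27 MulAction
open scoped Pointwise
noncomputable def xN : Net := (.cons 1 0x11444 (.cons 2 0x222220 (.cons 4 0xd0704 (.cons 8 0x52 (.cons 16 0xde (.cons 8 0x82 (.cons 4 0x900 (.cons 2 0x210020 (.cons 1 0x40000 .nil)))))))))


/-- In the automorphism group of the length-24 code, the two-point Mathieu group (permutations of the code's group fixing the extra point and the residue 0) has index 2 in the setwise stabiliser of that pair of points, and an element of the code's group interchanging the two points normalises the two-point group and induces on it, by conjugation, an automorphism that is not inner. -/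
theorem result (g : Equiv.Perm Cfsg.GolayPt) (hg : g ∈ Cfsg.M24) (h₁ : g none = some 0) (h₂ : g (some 0) = none) : Cfsg.Spor.M22.relIndex (Cfsg.M24 ⊓ MulAction.stabilizer (Equiv.Perm Cfsg.GolayPt) ({none, some 0} : Finset Cfsg.GolayPt)) = 2 ∧ (∀ x ∈ Cfsg.Spor.M22, g * x * g⁻¹ ∈ Cfsg.Spor.M22) ∧ ¬ ∃ h ∈ Cfsg.Spor.M22, ∀ x ∈ Cfsg.Spor.M22, g * x * g⁻¹ = h * x * h⁻¹ := by
  have e23 : (none : Cfsg.GolayPt) = GE.e 23 := rfl
  have e0 : (some 0 : Cfsg.GolayPt) = GE.e 0 := rfl
  have m : ∀ x : Equiv.Perm Cfsg.GolayPt, x ∈ Spor.M22 ↔ x ∈ Cfsg.M24 ∧ x none = none ∧ x (some 0) = some 0 := fun _ => and_assoc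
  refine ⟨?_, fun x hx => ?_, fun ⟨h, hh, a⟩ => ?_⟩
  · have le : Spor.M22 ≤ Cfsg.M24 ⊓ stabilizer (Equiv.Perm Cfsg.GolayPt) ({none, some 0} : Finset Cfsg.GolayPt) := fun x hx => by
      rw [m] at hx
      refine ⟨hx.1, ?_⟩
      change x • _ = _
      rw [Finset.smul_finset_insert, Finset.smul_finset_singleton, Equiv.Perm.smul_def, Equiv.Perm.smul_def, hx.2.1, hx.2.2]
    have c := (Spor.M22.subgroupOf (Cfsg.M24 ⊓ stabilizer (Equiv.Perm Cfsg.GolayPt) ({none, some 0} : Finset Cfsg.GolayPt))).card_mul_index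
    rw [Nat.card_congr (Subgroup.subgroupOfEquivOfLe le).toEquiv, ← Nat.card_congr m22Equiv.toEquiv, card_H22, card_sub,
      show ({none, some 0} : Finset Cfsg.GolayPt) = eP2 0 by rw [eP2_zero]; decide +kernel] at c
    have d : Nat.card ((stabilizer (Equiv.Perm Cfsg.GolayPt) (eP2 0)).subgroupOf Cfsg.M24) = 887040 := card_stab_eP2
    rw [d] at c
    rw [Subgroup.relIndex, show ({none, some 0} : Finset Cfsg.GolayPt) = eP2 0 by rw [eP2_zero]; decide +kernel]
    omega
  · rw [m] at hx ⊢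
    refine ⟨Subgroup.mul_mem _ (Subgroup.mul_mem _ hg hx.1) (Subgroup.inv_mem _ hg), ?_, ?_⟩
    · rw [Equiv.Perm.mul_apply, Equiv.Perm.mul_apply, Equiv.Perm.inv_eq_iff_eq.2 h₂.symm, hx.2.2, h₂]
    · rw [Equiv.Perm.mul_apply, Equiv.Perm.mul_apply, Equiv.Perm.inv_eq_iff_eq.2 h₁.symm, hx.2.1, h₁]
  · rw [m] at hh
    let c : MM := ⟨h⁻¹ * g, Subgroup.mul_mem _ (Subgroup.inv_mem _ hh.1) hg⟩
    have cm : ∀ x ∈ H22, c * x = x * c := fun x hx => Subtype.ext (by
      have := a x ((mem_M22 x).2 hx)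
      change h⁻¹ * g * x = x * (h⁻¹ * g)
      rw [mul_assoc, mul_inv_eq_iff_eq_mul.1 this]; group)
    have c1 : c • GE.e 23 = GE.e 0 := by
      change h⁻¹ (g none) = some 0
      rw [h₁, Equiv.Perm.inv_eq_iff_eq, hh.2.2]
    have c2 : c • GE.e 0 = GE.e 23 := by
      change h⁻¹ (g (some 0)) = none
      rw [h₂, Equiv.Perm.inv_eq_iff_eq, hh.2.1]
    have xa : Acts 24 GE.e (mm xN) xN := acts_mm (by decide +kernel)
    have xm : mm xN ∈ H22 := ⟨xa.act 23 (by norm_num), xa.act 0 (by norm_num)⟩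
    have c3 : c • GE.e 1 = GE.e 1 := by
      have := cent_le_stab_fixF (mm xN) (Subgroup.mem_centralizer_singleton_iff.2 (cm _ xm))
      rw [xa.fixF_eq (x := 0x800003) (by decide +kernel), mem_stabilizer_iff] at this
      have b : c • GE.e 1 ∈ GE.fs 0x800003 := this ▸ Finset.smul_mem_smul_finset (by decide +kernel)
      rw [show GE.fs 0x800003 = {GE.e 23, GE.e 0, GE.e 1} by decide +kernel] at b
      simp only [Finset.mem_insert, Finset.mem_singleton] at b
      rcases b with b | b | b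
      · exact absurd (smul_left_cancel c (b.trans c2.symm)) (by decide +kernel)
      · exact absurd (smul_left_cancel c (b.trans c1.symm)) (by decide +kernel)
      · exact b
    have : c = 1 := eq_one_of_refChk (F := 0x7ffffe) (Os := [0xf82402]) (by decide +kernel) fun p hp => by
      obtain ⟨k, hk, b⟩ := g22_acts.conn_mask (k := 4) (b := 1) (X := 0x7ffffe) g22_mem (by norm_num) (by decide +kernel) (i := 1) (by decide +kernel)
        (GE.mem_fs.1 hp)
      rw [GE.e_ix] at b
      rw [← b, ← mul_smul, cm k hk, mul_smul, c3]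
    rw [this, one_smul] at c1
    exact absurd c1 (by decide +kernel)

end Cfsg.Agent.S5599
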