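import Cfsg.Statements.S5563
import Cfsg.Agent.H13.JX

set_option autoImplicit false
open Cfsg

namespace Cfsg.Agent.S5563

open H13

open H13 H27 Subgroup

/-- Let G be a finite non-abelian simple group of Janko-four type (an involution z whose centralizer H has an extraspecial largest normal 2-subgroup E of order 2^13 containing its centralizer in H, a normal subgroup N ≥ E of H with N/E of order 3 and H/N the automorphism group of M₂₂, and a subgroup P ≤ N of order 3 with C_E(P) = ⟨z⟩, N_H(P) ≠ C_H(P) and P ≤ C_H(P)′). Then the centralizer of P in H is the perfect sixfold cover of M₂₂ — it is perfect, its centre is cyclic of order 6 and its central quotient is isomorphic to M₂₂ — and the normalizer of P in G lies in H. -/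
theorem result {G : Type*} [Group G] [Finite G] [IsSimpleGroup G] (hG : ¬ IsMulCommutative G) (z : G) (P : Subgroup G) (hJ : Cfsg.IsOfJankoFourTypeWith z P) :
    ⁅(Subgroup.centralizer ({z} : Set G) ⊓ Subgroup.centralizer (P : Set G)), (Subgroup.centralizer ({z} : Set G) ⊓ Subgroup.centralizer (P : Set G))⁆ = (Subgroup.centralizer ({z} : Set G) ⊓ Subgroup.centralizer (P : Set G)) ∧
    IsCyclic ↥(Subgroup.center ↥(Subgroup.centralizer ({z} : Set G) ⊓ Subgroup.centralizer (P : Set G))) ∧ Nat.card ↥(Subgroup.center ↥(Subgroup.centralizer ({z} : Set G) ⊓ Subgroup.centralizer (P : Set G))) = 6 ∧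
    Cfsg.Spor.IsoM22 (↥(Subgroup.centralizer ({z} : Set G) ⊓ Subgroup.centralizer (P : Set G)) ⧸ Subgroup.center ↥(Subgroup.centralizer ({z} : Set G) ⊓ Subgroup.centralizer (P : Set G))) ∧ Subgroup.normalizer (P : Set G) ≤ Subgroup.centralizer ({z} : Set G) := by
  obtain ⟨π, Q, h, x, hx, x3, rfl⟩ := H13.exists_jt0 hJ
  obtain ⟨E, j⟩ := h.main hx hG x3
  have pc := hJ.2.2.2.2.2.2.2.2 (mem_zpowers _)
  rw [cent_zpowers] at pc ⊢
  obtain ⟨ψ, a, b⟩ := j.exψ
  have e : center (Cz z ⊓ Cz x.1 : Subgroup G) = ψ.ker := Subgroup.ext fun k => j.cen_ψ.trans (b k).symm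
  have c : Commute x.1 z := mem_Cz.1 x.2
  have m : x.1 * z ∈ Cz z ⊓ Cz x.1 := mul_mem ⟨x.2, self_mem_Cz _⟩ ⟨self_mem_Cz _, mem_Cz.2 c.symm⟩
  have f : center (Cz z ⊓ Cz x.1 : Subgroup G) = zpowers ⟨_, m⟩ := Subgroup.ext fun k => j.cen_ψ.trans
    ((j.ker6 (Subtype.ext (mem_Cz.1 k.2.2))).trans ⟨fun ⟨n, d⟩ => ⟨n, Subtype.ext d⟩, fun ⟨n, d⟩ => ⟨n, congrArg Subtype.val d⟩⟩)
  refine ⟨le_antisymm ((commutator_le_sup _ _).trans (sup_idem _).le) fun k d => ?_, f ▸ inferInstance, ?_,
    ⟨(QuotientGroup.quotientMulEquivOfEq e).trans ((QuotientGroup.quotientKerEquivOfSurjective ψ a).trans m22Equiv)⟩, j.nx hG⟩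
  · have := simple_H22
    have t : commutator H22 = ⊤ := (inferInstance : (commutator H22).Normal).eq_bot_or_eq_top.resolve_left fun e =>
      nc_H22 fun u v => commutatorElement_eq_one_iff_mul_comm.1 (mem_bot.1 (e.le (commutator_mem_commutator (mem_top u) (mem_top v))))
    have u : ψ ⟨k, d⟩ ∈ (commutator _).map ψ := by
      rw [_root_.commutator_def, map_commutator, map_top_of_surjective _ a]; exact t.ge (mem_top _)
    obtain ⟨l, u, v⟩ := u
    have w : l⁻¹ * ⟨k, d⟩ ∈ zpowers (⟨_, m⟩ : (Cz z ⊓ Cz x.1 : Subgroup G)) := f ▸ e ▸ (by simp [MonoidHom.mem_ker, v])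
    have r : l.1 ∈ ⁅Cz z ⊓ Cz x.1, Cz z ⊓ Cz x.1⁆ := by
      rw [← map_subtype_commutator]; exact ⟨l, u, rfl⟩
    obtain ⟨n, w⟩ := w
    rw [← mul_mem_cancel_left (inv_mem r), show l.1⁻¹ * k = (x.1 * z) ^ n from (congrArg Subtype.val w).symm]
    exact zpow_mem (mul_mem pc j.zc) n
  · rw [f, Nat.card_zpowers, ← orderOf_coe]
    have o : orderOf x.1 = 3 := orderOf_eq_prime (congrArg Subtype.val x3) fun d => th_ne (by
      rw [← hx, show x = 1 from Subtype.ext d, map_one])
    exact (c.orderOf_mul_eq_mul_orderOf_of_coprime (by rw [o, h.z2]; norm_num)).trans (by rw [o, h.z2])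

end Cfsg.Agent.S5563
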