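import Cfsg.Statements.S5564
import Cfsg.Agent.H13.JY

set_option autoImplicit false
open Cfsg

namespace Cfsg.Agent.S5564

open H13

/-- Let G be a finite non-abelian simple group of Janko-four type (an involution z whose centralizer H has an extraspecial largest normal 2-subgroup E of order 2^13 containing its centralizer in H, a normal subgroup N ≥ E of H with N/E of order 3 and H/N the automorphism group of M₂₂, and a subgroup P ≤ N of order 3 with C_E(P) = ⟨z⟩, N_H(P) ≠ C_H(P) and P ≤ C_H(P)′). Then G has exactly one conjugacy class of elements of order 3. -/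
theorem result {G : Type*} [Group G] [Finite G] [IsSimpleGroup G] (hG : ¬ IsMulCommutative G) (hJ : Cfsg.IsOfJankoFourType G) :
    ∀ x y : G, orderOf x = 3 → orderOf y = 3 → IsConj x y := by
  obtain ⟨z, P, hJ⟩ := hJ
  obtain ⟨π, Q, h, -⟩ := H13.exists_jt0 hJ
  obtain ⟨K, c⟩ := Sylow.exists_subgroup_card_pow_prime (G := H13.Cz z) 3 (n := 3) (by rw [h.card_H]; norm_num)
  rw [← Subgroup.card_map_of_injective (H13.Cz z).subtype_injective] at c
  have l := Subgroup.map_subtype_le K
  have p : IsPGroup 3 (K.map (H13.Cz z).subtype) := IsPGroup.of_card c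
  obtain ⟨π, Q, h, e⟩ := h.at3 p l c.ge
  obtain ⟨t, b, ht⟩ := e.ge (show H13.thL ∈ H13.S3 from H27.mem_cl (by simp))
  have k : ∀ y : G, orderOf y = 3 → IsConj t.1 y := fun y a => by
    obtain ⟨g, -, d⟩ := H27.exists_conj_le_sylow (H := ⊤) (Q := Subgroup.zpowers y) Nat.prime_three le_top c (fun d => by
      have := Sylow.prime_pow_dvd_card_normalizer (Subgroup.card_top (G := G) ▸ d) c
      rw [h.cardN3 p l e hG] at this
      norm_num at this) le_top (IsPGroup.of_card (n := 1) (by rw [Nat.card_zpowers, a]; rfl))
    exact (h.cls3Q p l e hG b ht (d y (Subgroup.mem_zpowers y)) fun f => by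
      rw [conj_eq_one_iff.1 f, orderOf_one] at a; omega).trans (H13.isConj_cj g y).symm
  exact fun x y a b => (k x a).symm.trans (k y b)

end Cfsg.Agent.S5564
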