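import Cfsg.Statements.S0804
import Cfsg.Agent.H4.Dk4

set_option autoImplicit false
open Cfsg

namespace Cfsg.Agent.S0804

/-- PSL_2(q) has a subgroup isomorphic to A_5 iff 5 ∣ q(q² − 1). -/
theorem result {F : Type*} [Field F] [Fintype F] {q : ℕ} (hF : Fintype.card F = q) : (∃ H : Subgroup (Matrix.ProjectiveSpecialLinearGroup (Fin 2) F), Nonempty (H ≃* alternatingGroup (Fin 5))) ↔ 5 ∣ q * (q ^ 2 - 1) := by
  subst hF
  rw [H4.exists_psl_iff]
  refine ⟨fun ⟨H, _, h⟩ => H4.five_dvd_of_a5' h, fun h => ?_⟩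
  obtain ⟨A, h1, h2⟩ := H4.exists_a5_le (E := (⊤ : Subfield F))
    (by rwa [H4.card_subfield_top, Nat.card_eq_fintype_card])
  exact ⟨A, h1.trans (H4.pslS_le_pL _), h2⟩

end Cfsg.Agent.S0804
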