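import Cfsg.Statements.S0496
import Cfsg.Agent.H2.FiltG

set_option autoImplicit false
open Cfsg

namespace Cfsg.Agent.S0496

/-- A non-abelian finite simple group of order at most 1092 has order 60, 168, 360, 504, 660 or 1092. -/
theorem result {G : Type*} [Group G] [Finite G] [IsSimpleGroup G]
    (hG : ¬ IsMulCommutative G) (h : Nat.card G ≤ 1092) :
    Nat.card G = 60 ∨ Nat.card G = 168 ∨ Nat.card G = 360 ∨ Nat.card G = 504 ∨ Nat.card G = 660 ∨
      Nat.card G = 1092 := by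
  have h0 : 0 < Nat.card G := Nat.card_pos
  have := H2.filt_range hG (ok := [60, 168, 360, 504, 660, 1092]) (a := 1) (W :=
      [(0, 2), (0, 2), (0, 3), (0, 2), (0, 5), (0, 3), (0, 7), (0, 2), (0, 3), (0, 5), (0, 11), (0, 
      3), (0, 13), (0, 7), (0, 2), (0, 2), (0, 17), (0, 3), (0, 19), (0, 5), (1, 7), (0, 11), (0, 
      23), (0, 3), (0, 5), (0, 13), (0, 3), (0, 7), (0, 29), (1, 5), (0, 31), (0, 2), (1, 11), (0, 
      17), (1, 7), (0, 3), (0, 37), (0, 19), (1, 13), (0, 5), (0, 41), (0, 2), (0, 43), (0, 11), (1, 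
      5), (0, 23), (0, 47), (0, 3), (0, 7), (0, 5), (1, 17), (0, 13), (0, 53), (0, 3), (1, 11), (0, 
      7), (1, 19), (0, 29), (0, 59), (1, 5), (0, 61), (0, 31), (1, 7), (0, 2), (1, 13), (1, 11), (0, 
      67), (0, 17), (1, 23), (1, 7), (0, 71), (0, 3), (0, 73), (0, 37), (1, 3), (0, 19), (1, 11), (1, 
      13), (0, 79), (0, 5), (0, 3), (0, 41), (0, 83), (1, 7), (1, 17), (0, 43), (1, 29), (0, 11), (0, 
      89), (0, 2), (1, 13), (0, 23), (1, 31), (0, 47), (1, 19), (0, 3), (0, 97), (0, 7), (1, 11), (0, 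
      5), (0, 101), (1, 17), (0, 103), (0, 13), (1, 7), (0, 53), (0, 107), (0, 3), (0, 109), (1, 11), 
      (1, 37), (0, 7), (0, 113), (1, 19), (1, 23), (0, 29), (1, 13), (0, 59), (1, 17), (1, 5), (0, 
      11), (0, 61), (1, 41), (0, 31), (0, 5), (0, 2), (0, 127), (0, 2), (1, 43), (1, 13), (0, 131), 
      (1, 11), (1, 19), (0, 67), (1, 5), (0, 17), (0, 137), (1, 23), (0, 139), (1, 7), (1, 47), (0, 
      71), (1, 13), (0, 3), (1, 29), (0, 73), (1, 3), (0, 37), (0, 149), (1, 3), (0, 151), (0, 19), 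
      (1, 17), (1, 11), (1, 31), (1, 13), (0, 157), (0, 79), (1, 53), (0, 5), (1, 23), (0, 3), (0, 
      163), (0, 41), (0, 2), (0, 83), (0, 167), (1, 7), (0, 13), (1, 17), (1, 19), (0, 43), (0, 173), 
      (1, 29), (1, 7), (0, 11), (1, 59), (0, 89), (0, 179), (1, 5), (0, 181), (1, 13), (1, 61), (0, 
      23), (1, 37), (1, 31), (1, 17), (0, 47), (1, 7), (1, 19), (0, 191), (0, 3), (0, 193), (0, 97), 
      (1, 13), (0, 7), (0, 197), (1, 11), (0, 199), (0, 5), (1, 67), (0, 101), (1, 29), (1, 17), (1, 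
      41), (0, 103), (1, 23), (0, 13), (1, 19), (1, 7), (0, 211), (0, 53), (1, 71), (0, 107), (1, 
      43), (0, 3), (1, 31), (0, 109), (1, 73), (1, 11), (1, 17), (1, 37), (0, 223), (0, 7), (2, 5), 
      (0, 113), (0, 227), (1, 19), (0, 229), (1, 23), (1, 11), (0, 29), (0, 233), (1, 13), (1, 47), 
      (0, 59), (1, 79), (1, 17), (0, 239), (1, 5), (0, 241), (0, 11), (0, 3), (0, 61), (1, 5), (1, 
      41), (1, 19), (0, 31), (1, 83), (0, 5), (0, 251), (1, 7), (1, 23), (0, 127), (1, 17), (0, 2), 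
      (0, 257), (1, 43), (1, 37), (1, 13), (1, 29), (0, 131), (0, 263), (1, 11), (1, 53), (1, 19), 
      (1, 89), (0, 67), (0, 269), (1, 5), (0, 271), (0, 17), (0, 2)])
    (by decide +kernel) (by omega) (lt_of_le_of_lt h (by decide +kernel))
  simpa using this

end Cfsg.Agent.S0496
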