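import Cfsg.Statements.S0497
import Cfsg.Agent.H2.Sm6
import Cfsg.Agent.S3035

set_option autoImplicit false
open Cfsg

namespace Cfsg.Agent.S0497

/-- A simple group of order 360 is isomorphic to the alternating group of degree 6. -/
theorem result {G : Type*} [Group G] [Finite G] [IsSimpleGroup G]
    (h : Nat.card G = 360) : Nonempty (G ≃* alternatingGroup (Fin 6)) := by
  have hG := H2.sm_noncomm_of_card (G := G) (by rw [h]; norm_num)
  haveI := Fact.mk Nat.prime_five
  obtain ⟨t, ht, h1⟩ := H2.sm_small_inv (p := 5) (d := 36) hG (by omega) (by norm_num) (by omega)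
    (by omega) (by rw [h]; decide +kernel)
  obtain ⟨-, x, y, h2⟩ := (H2.sm_eight.{_, 0} hG (m := 45) h (by norm_num) ht h1).resolve_right
    fun h2 => by omega
  have h3 := H18.dh_card h2
  rcases Cfsg.Agent.S3035.result t ht (H18.dh_equiv h2) with h4 | ⟨⟨e⟩⟩ | ⟨⟨e⟩⟩ | ⟨⟨e⟩⟩ | h4
  · have h5 : (Nat.card (oddCore G)).Coprime 2 := H1.coprime_card_pPrimeCore 2
    rcases (inferInstance : (oddCore G).Normal).eq_bot_or_eq_top with e | e
    · rw [e, sup_bot_eq] at h4
      rw [h4, Subgroup.card_top] at h3
      omega
    · rw [e, Subgroup.card_top, h] at h5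
      exact absurd h5 (by decide)
  · have := Nat.card_congr e.toEquiv
    rw [Nat.card_perm, Nat.card_fin, h] at this
    exact absurd this (by decide)
  · have := Nat.card_congr e.toEquiv
    rw [Nat.card_perm, Nat.card_fin, h] at this
    exact absurd this (by decide)
  · have := Nat.card_congr e.toEquiv
    rw [H18.card_sl3] at this
    omega
  · exact h4

end Cfsg.Agent.S0497
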