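import Mathlib
import Cfsg.Statements.S4034
import Cfsg.Agent.H8.Kaz

set_option autoImplicit false
open Cfsg

namespace Cfsg.Agent.S4034

open Subgroup in
theorem mem_cent {G : Type*} [Group G] [Finite G] {p : ℕ} [hp : Fact p.Prime] {x : G} {k : ℕ}
    (hx : (centralizer ({x} : Set G)).index = p ^ k) (h0 : pCore p G = ⊥) :
    x ∈ centralizer (fittingSubgroup G : Set G) := by
  rw [← zpowers_le, le_centralizer_iff, H1.fitting_eq_iSup_pCore]
  refine iSup_le fun r => ?_
  by_cases hr : (r : ℕ) = p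
  · rw [hr, h0]; exact bot_le
  have := Fact.mk r.2
  refine (H8.normal_le_centralizer_of_not_dvd (r := r) (x := x) (fun h => hr ?_)
    (H1.isPGroup_pCore _)).trans ?_
  · rw [hx] at h
    exact (Nat.prime_dvd_prime_iff_eq r.2 hp.out).1 (r.2.dvd_of_dvd_pow h)
  · intro g hg
    rintro _ ⟨m, rfl⟩
    exact ((show Commute g _ from mem_centralizer_singleton_iff.1 hg).zpow_right m).eq.symm

open Subgroup in
theorem solv {G : Type*} [Group G] [Finite G] {p : ℕ} [hp : Fact p.Prime]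
    (h : ∀ R : Subgroup G, R.Normal → (∀ (x : G) (k : ℕ), (centralizer ({x} : Set G)).index = p ^ k →
      x ∈ R) → ∃ k, R.index = p ^ k) : Group.IsSolvable G := by
  have h2 : (H5.solOf (⊤ : Subgroup G)).Normal := by
    rw [← normalizer_eq_top_iff, eq_top_iff]
    exact H5.self_le_normalizer_solOf ⊤
  obtain ⟨k, hk⟩ := h _ h2 fun x k hx => H5.le_solOf le_top (by rw [normalizer_eq_top])
    (H8.kazarin hx) (subset_normalClosure rfl)
  have := (IsPGroup.of_card (G := G ⧸ H5.solOf (⊤ : Subgroup G)) hk).isNilpotent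
  exact H1.isSolvable_of_normal_quotient _ (H5.isSolvable_solOf ⊤) inferInstance

open Subgroup in
open scoped Pointwise in

theorem result {G : Type*} [Group G] [Finite G] {p : ℕ} (hp : p.Prime) :
    (∀ x : G, (orderOf x).Coprime p → ∃ k : ℕ, (ConjClasses.mk x).carrier.ncard = p ^ k) ↔
    (∃ H : Subgroup G, IsMulCommutative H ∧ ¬ p ∣ Nat.card H ∧ ∃ k : ℕ, H.index = p ^ k) := by
  have := Fact.mk hp
  simp only [H8.ncard_carrier_mk]
  constructor
  · intro h
    have hs : Group.IsSolvable G := by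
      refine solv (p := p) fun R _ hR => ?_
      refine (H1.isPiNat_singleton_iff hp FiniteIndex.index_ne_zero).1 fun r hr hd => ?_
      by_contra hrp
      have := Fact.mk hr
      obtain ⟨y, hy⟩ := exists_prime_orderOf_dvd_card' (G := G ⧸ R) r hd
      obtain ⟨x, rfl, j, hj⟩ := H8.exists_lift_pElt (QuotientGroup.mk' R)
        (QuotientGroup.mk'_surjective R) (hy.trans (pow_one r).symm)
      obtain ⟨k, hk⟩ := h x (by rw [hj]; exact ((Nat.coprime_primes hr hp).2 hrp).pow_left j)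
      rw [QuotientGroup.mk'_apply, (QuotientGroup.eq_one_iff x).2 (hR x k hk), orderOf_one] at hy
      exact hr.one_lt.ne hy
    obtain ⟨H, hH⟩ := (H1.hallOK_of_isSolvable {p}ᶜ hs).exists_isPiHall
    obtain ⟨h1, h2⟩ := H1.isPiHall_iff.1 hH
    rw [compl_compl] at h2
    rw [H1.isPiNat_compl_singleton_iff hp] at h1
    refine ⟨H, H1.isMulCommutative_iff'.2 fun a ha b hb => ?_, (hp.coprime_iff_not_dvd).1 h1.symm,
      (H1.isPiNat_singleton_iff hp FiniteIndex.index_ne_zero).1 h2⟩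
    have h3 : ∀ x ∈ H, (x : G ⧸ pCore p G) ∈ centralizer (fittingSubgroup (G ⧸ pCore p G) : Set (G ⧸ pCore p G)) := by
      intro x hx
      obtain ⟨k, hk⟩ := h x (h1.coprime_dvd_left (orderOf_dvd_natCard H hx))
      obtain ⟨j, hj⟩ := H8.pow_of_dvd_pow hp (H8.index_centralizer_mk_dvd (pCore p G) x) hk
      exact mem_cent hj (H1.pCore_quotient_pCore p)
    have h4 := h3 b hb _ (H1.centralizer_fitting_le (h3 a ha))
    have h5 : a * b * a⁻¹ * b⁻¹ ∈ pCore p G := by
      rw [← QuotientGroup.eq_one_iff]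
      simp [h4]
    obtain ⟨n, hn⟩ := IsPGroup.iff_card.1 (H1.isPGroup_pCore (G := G) p)
    have h6 : H ⊓ pCore p G = ⊥ := H1.inf_eq_bot_of_coprime' (by rw [hn]; exact h1.pow_right n)
    have h7 : a * b * a⁻¹ * b⁻¹ ∈ H ⊓ pCore p G :=
      mem_inf.2 ⟨mul_mem (mul_mem (mul_mem ha hb) (inv_mem ha)) (inv_mem hb), h5⟩
    rw [h6, mem_bot, mul_inv_eq_one, mul_inv_eq_iff_eq_mul] at h7
    exact h7
  · rintro ⟨H, h1, h2, k, h3⟩ x hx
    have h4 : ∀ y ∈ H, ∃ j, (centralizer ({y} : Set G)).index = p ^ j := fun y hy =>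
      H8.pow_of_dvd_pow hp (index_dvd_of_le fun z hz => mem_centralizer_singleton_iff.2
        (H1.isMulCommutative_iff'.1 h1 z hz y hy)) h3
    have hs : Group.IsSolvable G := solv (p := p) fun R _ hR =>
      H8.pow_of_dvd_pow hp (index_dvd_of_le fun y hy => (h4 y hy).elim (hR y)) h3
    have h5 : IsPiHallOf {p}ᶜ H ⊤ := by
      rw [H1.isPiHallOf_top, H1.isPiHall_iff, compl_compl, H1.isPiNat_compl_singleton_iff hp]
      exact ⟨((hp.coprime_iff_not_dvd).2 h2).symm,
        (H1.isPiNat_singleton_iff hp FiniteIndex.index_ne_zero).2 ⟨k, h3⟩⟩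
    obtain ⟨g, -, hg⟩ := (H1.hallOK_of_isSolvable {p}ᶜ hs).top.exists_conj_le (U := zpowers x) le_top
      (by rwa [H1.isPiNat_compl_singleton_iff hp, Nat.card_zpowers]) h5
    rw [← H8.index_centralizer_conj x g]
    exact h4 _ (hg (H1.conj_mem_conj_smul (mem_zpowers x)))

end Cfsg.Agent.S4034
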