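import Cfsg.Statements.S4249
import Cfsg.Agent.H6.Split
import Cfsg.Agent.H12.Weak

set_option autoImplicit false
open Cfsg

namespace Cfsg.Agent.S4249

/-- Let G be a finite group and p a prime such that G is not a p-group, and suppose the Hughes subgroup H_p(G), generated by all elements g with g^p ≠ 1, is a proper subgroup. Then H_p(G) is nilpotent and has index p in G. -/
theorem result {G : Type*} [Group G] [Finite G] (p : ℕ) (hp : p.Prime) (hG : ¬ IsPGroup p G)
    (hH : Subgroup.closure {g : G | g ^ p ≠ 1} ≠ ⊤) :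
    Group.IsNilpotent (Subgroup.closure {g : G | g ^ p ≠ 1}) ∧ (Subgroup.closure {g : G | g ^ p ≠ 1}).index = p := by
  set H := Subgroup.closure {g : G | g ^ p ≠ 1} with hHd
  haveI := Fact.mk hp
  haveI hn : H.Normal := by
    rw [← Subgroup.normalizer_eq_top_iff, eq_top_iff]
    intro g _
    refine H6.mem_normalizer_of_conj_le fun a ha => ?_
    have : H.map (MulAut.conj g).toMonoidHom ≤ H := by
      rw [hHd, MonoidHom.map_closure]
      refine Subgroup.closure_mono ?_
      rintro _ ⟨x, hx, rfl⟩ h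
      exact hx ((MulAut.conj g).injective (by rw [map_pow, map_one]; exact h))
    exact this (Subgroup.mem_map_of_mem _ ha)
  have h : ∀ x, x ∉ H → x ^ p = 1 := fun x hx => by
    by_contra h
    exact hx (Subgroup.subset_closure h)
  have hnil := H6.isNilpotent_of_split hp _ G H rfl hH h
  refine ⟨hnil, ?_⟩
  have hs := QuotientGroup.mk'_surjective H
  have hq : IsPGroup p (G ⧸ H) := fun y => ⟨1, by
    obtain ⟨y, rfl⟩ := hs y
    by_cases hy : y ∈ H
    · rw [QuotientGroup.mk'_apply, (QuotientGroup.eq_one_iff y).2 hy, one_pow]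
    · rw [pow_one, ← map_pow, h y hy, map_one]⟩
  obtain ⟨Y0, hY0, hY0i⟩ := H12.exists_index_p_of_pResidual_ne_top (p := p) (G := G ⧸ H) (by
    rw [H3.pResidual_eq_bot_iff.2 hq]
    intro h1
    haveI := Subgroup.subsingleton_iff.1 (subsingleton_of_bot_eq_top h1)
    exact hH (QuotientGroup.subgroup_eq_top_of_subsingleton H inferInstance))
  set Y := Y0.comap (QuotientGroup.mk' H) with hY
  have hYi : Y.index = p := by rw [hY, Subgroup.index_comap_of_surjective _ hs, hY0i]
  have hHY : H ≤ Y := by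
    conv_lhs => rw [← QuotientGroup.ker_mk' H]
    exact Subgroup.ker_le_comap _ _
  by_contra hi
  obtain ⟨P⟩ : Nonempty (Sylow p G) := inferInstance
  obtain ⟨k, hk⟩ := IsPGroup.iff_card.1 hq
  have hHP := H3.sup_sylow_eq_top_of_index P (N := H) hk
  obtain ⟨x, hxP, hxY⟩ : ∃ x ∈ (P : Subgroup G), x ∉ Y := by
    by_contra h1
    push Not at h1
    have : Y = ⊤ := eq_top_iff.2 (hHP ▸ sup_le hHY h1)
    rw [this, Subgroup.index_top] at hYi
    exact hp.one_lt.ne hYi
  obtain ⟨y, hy, hyH⟩ : ∃ y ∈ (P : Subgroup G) ⊓ Y, y ∉ H := by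
    by_contra h1
    push Not at h1
    have h2 := H1.sup_inf_assoc_of_le_normalizer (B := (P : Subgroup G)) hHY
      (Or.inr (by rw [Subgroup.normalizer_eq_top_iff.2 hn]; exact le_top))
    rw [hHP, top_inf_eq, sup_eq_left.2 h1] at h2
    exact hi (h2 ▸ hYi)
  have h1 : pPrimeCore p H ≠ ⊥ := fun h1 => by
    have h2 := H1.pCore_sup_pPrimeCore_eq_top (G := H) p
    rw [h1, sup_bot_eq, H1.pCore_eq_top_iff] at h2
    refine hG (IsPGroup.iff_card.2 ?_)
    obtain ⟨j, hj⟩ := IsPGroup.iff_card.1 h2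
    exact ⟨k + j, by rw [Subgroup.card_eq_card_quotient_mul_card_subgroup H, hk, hj, pow_add]⟩
  haveI := H1.normal_map_char H (pPrimeCore p H)
  obtain ⟨V, r, hV, hV1, hV2, hr, hV3, -, -, -⟩ := H1.exists_minimal_normal_elementary
    ((pPrimeCore p H).map H.subtype) (H1.isSolvable_of_le inferInstance (Subgroup.map_subtype_le _))
    (by rwa [Ne, Subgroup.map_eq_bot_iff_of_injective _ H.subtype_injective])
  have hVH : V ≤ H := hV2.trans (Subgroup.map_subtype_le _)
  have hVc : (Nat.card V).Coprime p := by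
    refine Nat.Coprime.coprime_dvd_left (Subgroup.card_dvd_of_le hV2) ?_
    rw [Subgroup.card_map_of_injective H.subtype_injective]
    exact H1.coprime_card_pPrimeCore p
  have h2 : (P : Subgroup G) ⊓ Y ≤ Subgroup.centralizer (V : Set G) := by
    refine H6.le_centralizer_of_split (x := x) (H1.le_normalizer_inf Subgroup.le_normalizer
      (by rw [Subgroup.normalizer_eq_top_iff.2 inferInstance]; exact le_top) hxP) hp
      (fun k hk v hv => h _ fun h3 => hxY ?_)
      ((H3.sylow_card_coprime_of_coprime P hVc).coprime_dvd_right (Subgroup.card_dvd_of_le inf_le_left))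
    exact (Y.mul_mem_cancel_right hk.2).1 ((Y.mul_mem_cancel_left (hHY (hVH hv))).1 (hHY h3))
  obtain ⟨⟨v, hv⟩, hv1⟩ := Subgroup.ne_bot_iff_exists_ne_one.1 hV1
  have h3 := h (y * v) fun h3 => hyH ((H.mul_mem_cancel_right (hVH hv)).1 h3)
  rw [(H6.mem_centralizer_iff_commute.1 (h2 hy) v hv).mul_pow, h y hyH, one_mul] at h3
  exact hv1 ((powCoprime hVc).injective (Subtype.ext (by simpa using h3)))

end Cfsg.Agent.S4249
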