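import Mathlib
import Cfsg.Statements.S3986
import Cfsg.Agent.H8.Elt

set_option autoImplicit false
open Cfsg

namespace Cfsg.Agent.S3986

open Subgroup in

theorem result {G : Type*} [Group G] [Finite G] (p : ℕ) [Fact p.Prime] : (∃ (P : Sylow p G) (K : Subgroup G), (P : Subgroup G).Normal ∧ K.Normal ∧ (P : Subgroup G) ⊓ K = ⊥ ∧ (P : Subgroup G) ⊔ K = ⊤) ↔ ∀ x y : G, (∃ a : ℕ, orderOf x = p ^ a) → (∃ q b : ℕ, q.Prime ∧ q ≠ p ∧ orderOf y = q ^ b) → x * y = y * x := by
  have hp : p.Prime := Fact.out
  constructor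
  · rintro ⟨P, K, hP, hK, h1, h2⟩ x y ⟨a, ha⟩ ⟨q, b, hq, hqp, hb⟩
    have hx : x ∈ (P : Subgroup G) := H8.mem_sylow_of_mem_normalizer P
      (by rw [normalizer_eq_top]; trivial) (H8.isPGroup_zpowers_of_orderOf ha)
    have hc : IsComplement' (P : Subgroup G) K :=
      H3.isComplement'_of_normal (disjoint_iff.2 h1) h2
    have hy : zpowers y ≤ K := by
      refine H1.le_of_coprime_index ?_
      obtain ⟨k, hk⟩ := P.2.exists_card_eq
      rw [hc.index_eq_card, hk, Nat.card_zpowers, hb]
      exact Nat.coprime_pow_primes _ _ hq hp hqp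
    exact (commute_of_normal_of_disjoint _ _ hP hK (disjoint_iff.2 h1) x y hx
      (hy (mem_zpowers y))).eq
  · intro h
    let P : Sylow p G := default
    have hC : ∀ y : G, (orderOf y).Coprime p → y ∈ centralizer ((P : Subgroup G) : Set G) := by
      intro y hy
      refine H3.mem_of_forall_primePow fun q hq hd a k hk x hx => ?_
      refine h x _ (H8.exists_orderOf_eq_of_mem P.2 hx) ⟨q, k, hq, ?_, hk⟩
      rintro rfl
      exact hp.one_lt.ne' (Nat.eq_one_of_dvd_coprimes hy hd dvd_rfl)
    have hR : pResidual p G ≤ centralizer ((P : Subgroup G) : Set G) := H3.pResidual_le_iff.2 hC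
    have hP : (P : Subgroup G).Normal := by
      rw [← normalizer_eq_top_iff, eq_top_iff, ← H3.pResidual_sup_sylow P]
      exact sup_le (hR.trans (centralizer_le_normalizer _)) le_normalizer
    obtain ⟨K, hK⟩ := exists_right_complement'_of_coprime (N := (P : Subgroup G))
      P.card_coprime_index
    have hKc : (Nat.card K).Coprime p := H3.coprime_card_of_isComplement' P hK.symm
    refine ⟨P, K, hP, ?_, hK.disjoint.eq_bot, hK.sup_eq_top⟩
    rw [← normalizer_eq_top_iff, eq_top_iff, ← hK.sup_eq_top]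
    refine sup_le (le_trans ?_ (centralizer_le_normalizer _)) le_normalizer
    exact le_centralizer_iff.1 fun y hy => hC y (hKc.coprime_dvd_left (orderOf_dvd_natCard _ hy))

end Cfsg.Agent.S3986
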