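import Mathlib
import Cfsg.Statements.S4035
import Cfsg.Agent.H8.Cls
import Cfsg.Agent.S3986

set_option autoImplicit false
open Cfsg

namespace Cfsg.Agent.S4035

open Subgroup in

theorem result {G : Type*} [Group G] [Finite G] {p : ℕ} [Fact p.Prime]
    (h : ∀ x : G, (orderOf x).Coprime p → ¬ p ∣ (ConjClasses.mk x).carrier.ncard) (P : Sylow p G) :
    (P : Subgroup G).Normal ∧ ∃ H : Subgroup G, H.Normal ∧ ¬ p ∣ Nat.card H ∧
      (P : Subgroup G) ⊓ H = ⊥ ∧ (P : Subgroup G) ⊔ H = ⊤ := by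
  simp only [H8.ncard_carrier_mk] at h
  have hp : p.Prime := Fact.out
  have h1 : (P : Subgroup G) ⊔ centralizer (P : Set G) = ⊤ := by
    refine H8.eq_top_of_forall_conj_mem fun g => ?_
    obtain ⟨a, b, ⟨k, hk⟩, hb, hab⟩ := H3.exists_pPart_mul_pPrimePart (p := p) g (orderOf_pos g).ne'
    have h2 : zpowers (g ^ a) ≤ centralizer {g ^ b} :=
      zpowers_le.2 (mem_centralizer_singleton_iff.2 (Commute.pow_pow_self g a b))
    obtain ⟨S, h4, h5, h6, h7⟩ := H3.exists_sylowIn (H8.isPGroup_zpowers_of_orderOf hk) h2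
    have h8 : ¬ p ∣ S.index := by
      rw [← relIndex_mul_index h5]
      exact fun h' => (hp.dvd_mul.1 h').elim h7 (h _ hb)
    obtain ⟨c, hc⟩ := MulAction.exists_smul_eq G P (h6.toSylow h8)
    have hc' : ∀ y, y ∈ S ↔ c⁻¹ * y * c ∈ (P : Subgroup G) := fun y => by
      rw [← H3.mem_coe_smul_sylow, hc]; rfl
    refine ⟨c, ?_⟩
    have : c⁻¹ * g * c = (c⁻¹ * g ^ a * c) * (c⁻¹ * g ^ b * c) := by
      conv_lhs => rw [← hab]
      group
    rw [this]
    refine mul_mem (mem_sup_left ((hc' _).1 (h4 (mem_zpowers _)))) (mem_sup_right fun y hy => ?_)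
    have h9 := mem_centralizer_singleton_iff.1 (h5 ((hc' (c * y * c⁻¹)).2 (by simpa [mul_assoc] using hy)))
    calc y * (c⁻¹ * g ^ b * c) = c⁻¹ * (c * y * c⁻¹ * g ^ b) * c := by group
      _ = _ := by rw [h9]; group
  have hP : (P : Subgroup G).Normal := by
    rw [← normalizer_eq_top_iff, eq_top_iff, ← h1]
    exact sup_le le_normalizer (centralizer_le_normalizer _)
  have := P.unique_of_normal hP
  obtain ⟨Q, K, -, hK, h2, h3⟩ := (S3986.result (G := G) p).2 (by
    rintro x y ⟨a, ha⟩ ⟨q, b, hq, hqp, hb⟩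
    obtain ⟨R, hR⟩ := H8.exists_sylow_le_centralizer (h y (by
      rw [hb]; exact ((Nat.coprime_primes hq hp).2 hqp).pow_left _))
    obtain ⟨S, hS⟩ := (H8.isPGroup_zpowers_of_orderOf ha).exists_le_sylow
    rw [Subsingleton.elim S R] at hS
    exact mem_centralizer_singleton_iff.1 (hR (hS (mem_zpowers x))))
  rw [Subsingleton.elim Q P] at h2 h3
  refine ⟨hP, K, hK, ?_, h2, h3⟩
  have hc : IsComplement' (P : Subgroup G) K := H3.isComplement'_of_normal (disjoint_iff.2 h2) h3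
  rw [← hc.symm.index_eq_card]
  exact P.not_dvd_index

end Cfsg.Agent.S4035
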