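import Cfsg.Statements.S3734
import Cfsg.Agent.H7.Simple
import Cfsg.Agent.H1.Coprime2
import Cfsg.Agent.H5.Subnormal

set_option autoImplicit false
open Cfsg

namespace Cfsg.Agent.S3734



/-- Let A and G be subgroups of a finite group with A abelian, A normalizing G and the orders of A and G coprime. Then G is generated by the fixed-point subgroups C_G(B) of those subgroups B of A for which A/B is cyclic (that is, A = ⟨B, a⟩ for some a), and [G, A] is generated by the commutator subgroups [C_G(B), A] over the same subgroups B. -/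
theorem result {X : Type*} [Group X] [Finite X] (A G : Subgroup X) (hAab : IsMulCommutative A) (hAG : A ≤ Subgroup.normalizer (G : Set X)) (hcop : (Nat.card A).Coprime (Nat.card G)) : (⨆ B ∈ {B : Subgroup X | B ≤ A ∧ ∃ a ∈ A, B ⊔ Subgroup.zpowers a = A}, G ⊓ Subgroup.centralizer (B : Set X)) = G ∧ (⨆ B ∈ {B : Subgroup X | B ≤ A ∧ ∃ a ∈ A, B ⊔ Subgroup.zpowers a = A}, ⁅G ⊓ Subgroup.centralizer (B : Set X), A⁆) = ⁅G, A⁆ := by
  have hs : Group.IsSolvable A ∨ Group.IsSolvable G := Or.inl (H1.isSolvable_of_comm' hAab)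
  refine ⟨le_antisymm (iSup₂_le fun B _ => inf_le_left)
    (H1.le_of_forall_cocyclic_centralizer_le hAG hcop fun B h1 h2 =>
      le_biSup (f := fun B : Subgroup X => G ⊓ Subgroup.centralizer (B : Set X))
        (s := {B : Subgroup X | B ≤ A ∧ ∃ a ∈ A, B ⊔ Subgroup.zpowers a = A})
        (i := B) ⟨h1, h2⟩), ?_⟩
  refine le_antisymm (iSup₂_le fun B _ => Subgroup.commutator_mono inf_le_left le_rfl) ?_
  set L := ⨆ B ∈ {B : Subgroup X | B ≤ A ∧ ∃ a ∈ A, B ⊔ Subgroup.zpowers a = A},
    ⁅G ⊓ Subgroup.centralizer (B : Set X), A⁆ with hL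
  have hAL : A ≤ Subgroup.normalizer (L : Set X) :=
    H5.le_normalizer_iSup fun B => H5.le_normalizer_iSup fun hB =>
      Subgroup.normalizer_commutator_ge_right _ _
  have hCL : G ⊓ Subgroup.centralizer (A : Set X) ≤ Subgroup.normalizer (L : Set X) :=
    H5.le_normalizer_iSup fun B => H5.le_normalizer_iSup fun hB =>
      (inf_le_inf_left G (Subgroup.centralizer_le hB.1)).trans
        (Subgroup.normalizer_commutator_ge_left _ _)
  have h1 : G ≤ L ⊔ (G ⊓ Subgroup.centralizer (A : Set X)) := by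
    refine H1.le_of_forall_cocyclic_centralizer_le hAG hcop fun B h1 h2 => ?_
    have hn : A ≤ Subgroup.normalizer ((G ⊓ Subgroup.centralizer (B : Set X) : Subgroup X) : Set X) :=
      H1.le_normalizer_inf hAG (H1.le_normalizer_centralizer
        ((A.le_centralizer.trans (Subgroup.centralizer_le h1)).trans
          (Subgroup.centralizer_le_normalizer _)))
    rw [← H1.commutator_sup_centralizer hn
      (hcop.coprime_dvd_right (Subgroup.card_dvd_of_le inf_le_left)) (Or.inl (H1.isSolvable_of_comm' hAab))]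
    exact sup_le_sup (le_biSup (f := fun B : Subgroup X => ⁅G ⊓ Subgroup.centralizer (B : Set X), A⁆)
        (s := {B : Subgroup X | B ≤ A ∧ ∃ a ∈ A, B ⊔ Subgroup.zpowers a = A})
        (i := B) ⟨h1, h2⟩) (inf_le_inf_right _ inf_le_left)
  refine (H1.commutator_le_of_mul_centralizer (X := L) fun k hk => ?_).trans
    (Subgroup.le_normalizer_iff_commutator_le_left.1 hAL)
  obtain ⟨a, ha, b, hb, rfl⟩ := (H7.mem_sup_of_le_normalizer' hCL).1 (h1 hk)
  exact ⟨a, ha, b, hb.2, rfl⟩

end Cfsg.Agent.S3734
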