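import Cfsg.Statements.S0678
import Cfsg.Agent.H25.PrimeSyl
import Cfsg.Agent.S0675

set_option autoImplicit false
open Cfsg

namespace Cfsg.Agent.S0678

open MulAction Subgroup H25

theorem card_eq {α : Type*} [Fintype α] [DecidableEq α] (hα : Fintype.card α = 7)
    (G : Subgroup (Equiv.Perm α)) [IsPretransitive G α] (hG : ¬ Group.IsSolvable G)
    (hA : ¬ alternatingGroup α ≤ G) : Nat.card G = 168 := by
  have : Fact (Nat.Prime 7) := ⟨by norm_num⟩
  have hα' : Nat.card α = 7 := by rw [Nat.card_eq_fintype_card, hα]
  have h2 := (Cfsg.Agent.S0675.result (hα ▸ Fact.out) G).resolve_left hG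
  have hprim := isPreprimitive_of_is_two_pretransitive h2
  have i2 : 2 ∣ G.index := by
    by_contra h; exact hA (alt_le_of_not_dvd_index G hprim Nat.prime_two (by omega) (by omega) h)
  have i3 : 3 ∣ G.index := by
    by_contra h; exact hA (alt_le_of_not_dvd_index G hprim Nat.prime_three (by omega) (by omega) h)
  obtain ⟨i, hi⟩ : 6 ∣ G.index := by omega
  have e := G.index_mul_card
  rw [Nat.card_perm, hα', hi] at e
  obtain ⟨a, b, hab⟩ := Fintype.exists_pair_of_one_lt_card (α := α) (by omega)
  have e2 := h2.index_of_fixingSubgroup_mul (s := {a, b}) (Set.ncard_pair hab)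
  have e3 := (fixingSubgroup G ({a, b} : Set α)).index_mul_card
  rw [hα'] at e2
  norm_num [Nat.factorial] at e e2
  obtain ⟨P⟩ : Nonempty (Sylow 7 G) := inferInstance
  obtain ⟨d, n, hd, hn, hN, h'⟩ := sylow_count_prime_degree hα' P
  have hd1 : d ≠ 1 := fun h => normalizer_ne_of_prime_degree hα' hG P (by rw [hN, h])
  have hsq : ¬ Squarefree (Nat.card G) := fun h => by
    have := IsZGroup.of_squarefree h
    exact hG inferInstance
  generalize Nat.card (fixingSubgroup G ({a, b} : Set α)) = m at e3
  have e4 : Nat.card G = 42 * m := by rw [← e3]; congr 1; omega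
  have e5 : m ∣ 20 := ⟨i, by rw [e4] at e; nlinarith⟩
  have := Nat.le_of_dvd (by norm_num) hd
  have := Nat.le_of_dvd (by norm_num) e5
  unfold Nat.ModEq at hn
  rw [e4] at h' hsq ⊢
  interval_cases m <;> first | omega | (exact absurd (by decide +kernel) hsq) |
    (interval_cases d <;> omega)

/-- A non-solvable transitive permutation group on 7 points that does not contain the alternating group is a simple group of order 168. -/
theorem result {α : Type*} [Fintype α] [DecidableEq α] (hα : Fintype.card α = 7) (G : Subgroup (Equiv.Perm α)) [MulAction.IsPretransitive G α] (hG : ¬ Group.IsSolvable G) (hA : ¬ alternatingGroup α ≤ G) : Nat.card G = 168 ∧ IsSimpleGroup G := by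
  have h := card_eq hα G hG hA
  have : Fact (Nat.Prime 7) := ⟨by norm_num⟩
  have hα' : Nat.card α = 7 := by rw [Nat.card_eq_fintype_card, hα]
  have : Nontrivial G := Finite.one_lt_card_iff_nontrivial.1 (by omega)
  refine ⟨h, ⟨fun N hN => ?_⟩⟩
  refine or_iff_not_imp_left.2 fun h0 => ?_
  have := prim_of_prime_degree (G := G) hα'
  have ht := normal_transitive_of_primitive (α := α) N h0
  let e := N.equivMapOfInjective G.subtype G.subtype_injective
  have : IsPretransitive (N.map G.subtype) α := ⟨fun x y => by
    obtain ⟨n, hn⟩ := exists_smul_eq N x y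
    exact ⟨e n, hn⟩⟩
  have h' := card_eq hα (N.map G.subtype) (fun hs => hG (solvable_of_normal_prime_degree hα' N h0
    (Group.isSolvable_of_isSolvable_injective (f := e.toMonoidHom) e.injective)))
    fun h => hA (h.trans (map_subtype_le N))
  rw [card_map_of_injective G.subtype_injective] at h'
  exact eq_top_of_card_eq _ (h'.trans h.symm)

end Cfsg.Agent.S0678
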