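import Cfsg.Statements.S0998
import Cfsg.Agent.H2.Br5

set_option autoImplicit false
open Cfsg

namespace Cfsg.Agent.S0998

theorem aux {G : Type*} [Group G] [Finite G] [IsSimpleGroup G] (hG : ¬ IsMulCommutative G)
    {p q r b : ℕ} (hp : p.Prime) (hq : q.Prime) (hr : r.Prime) (hpq : p ≠ q) (hrp : r < p)
    (hqr : q ≠ r) (hG' : Nat.card G = p * q ^ b * r) : (∃ (F : Type) (_ : Field F) (_ : Fintype F), Fintype.card F = 5 ∧ Nonempty (G ≃* Matrix.ProjectiveSpecialLinearGroup (Fin 2) F)) ∨ (∃ (F : Type) (_ : Field F) (_ : Fintype F), Fintype.card F = 7 ∧ Nonempty (G ≃* Matrix.ProjectiveSpecialLinearGroup (Fin 2) F)) := by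
  haveI := Fact.mk hp
  have hpo := hp.eq_two_or_odd.resolve_left (by have := hr.two_le; omega)
  obtain rfl : q = 2 := by
    by_contra h
    obtain ⟨k, hk⟩ := H2.sm_four_dvd hG
    have h1 : Odd (p * q ^ b) := (Nat.odd_iff.2 hpo).mul (hq.odd_of_ne_two h).pow
    rw [hG'] at hk
    have h2 := (Nat.Coprime.pow_left 2 (Nat.coprime_two_left.2 h1)).dvd_of_dvd_mul_left ⟨k, hk⟩
    rw [Nat.dvd_prime hr] at h2
    exact h2.elim (by omega) fun h3 => absurd (h3 ▸ hr) (by norm_num)
  have hro := hr.eq_two_or_odd.resolve_left hqr.symm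
  have hodd : ∀ d, d ∣ 2 ^ b * r → d % 2 = 1 → d = 1 ∨ d = r := fun d h1 h2 => (Nat.dvd_prime hr).1
    ((Nat.Coprime.pow_right b (Nat.coprime_two_right.2 (Nat.odd_iff.2 h2))).dvd_of_dvd_mul_left h1)
  have hp3 : 3 < p → ¬ 3 ∣ p := fun h1 h2 => by
    have := (Nat.prime_dvd_prime_iff_eq Nat.prime_three hp).1 h2; omega
  obtain ⟨⟨h3, ⟨h0, F, _, _, h1, h2⟩ | ⟨h0, -⟩⟩, -⟩ := H2.bt_main hG hq hpq hG' (by omega)
  · obtain ⟨k, rfl⟩ : ∃ k, p = 2 * k + 1 := ⟨p / 2, by omega⟩
    rw [show (2 * k + 1) ^ 2 - 1 = 2 * (2 * (k * (k + 1))) from Nat.sub_eq_of_eq_add (by ring), hG',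
      mul_assoc, mul_left_comm] at h0
    have h4 := Nat.eq_of_mul_eq_mul_left two_pos (Nat.eq_of_mul_eq_mul_left hp.pos h0)
    have h5 : r = 3 := by
      have := hp3 h3
      by_cases h6 : 3 ∣ k
      · exact ((hodd 3 (h4 ▸ (h6.mul_right _).mul_left _) rfl).resolve_left (by omega)).symm
      · exact ((hodd 3 (h4 ▸ (Dvd.dvd.mul_left (by
          have h7 : k % 3 = 0 ∨ k % 3 = 1 ∨ k % 3 = 2 := by omega
          clear * - this h6 h7; omega) _).mul_left _) rfl).resolve_left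
          (by omega)).symm
    rcases Nat.mod_two_eq_zero_or_one k with h6 | h6
    · have := hodd (k + 1) (h4 ▸ (dvd_mul_left _ _).mul_left _) (by omega)
      exact Or.inl ⟨F, _, _, by omega, h2⟩
    · have := hodd k (h4 ▸ (dvd_mul_right _ _).mul_left _) h6
      exact Or.inr ⟨F, _, _, by omega, h2⟩
  · have h4 := Nat.eq_of_mul_eq_mul_left hp.pos ((mul_assoc _ _ _).symm.trans (hG'.symm.trans h0))
    have h5 := hodd (p - 2) (h4 ▸ dvd_mul_left _ _) (by omega)
    obtain rfl : p = 5 := by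
      have := hp3 h3
      by_cases h6 : 3 ∣ p - 1
      · have := hodd 3 (h4 ▸ h6.mul_right _) rfl
        omega
      · have := hodd 3 (h4 ▸ Dvd.dvd.mul_left (by clear * - this h6 h3; omega) _) rfl
        omega
    exact Or.inl ⟨ZMod 5, inferInstance, inferInstance, ZMod.card 5, H2.z_psl_prime hG (by omega)
      (by rw [h0]; rfl) (H2.z_card_sylow_eq hG (k := 1) (m := 12) h0 one_ne_zero (by omega)
        (by decide)) (ZMod.card 5)⟩

/-- A non-cyclic finite simple group whose order has the form p * r * q^b for distinct primes p, q, r is isomorphic to the projective special linear group of dimension 2 over the field with 5 or with 7 elements. -/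
theorem result {G : Type*} [Group G] [Finite G] [IsSimpleGroup G] (hG : ¬ IsCyclic G) (p q r b : ℕ) (hp : p.Prime) (hq : q.Prime) (hr : r.Prime) (hpq : p ≠ q) (hpr : p ≠ r) (hqr : q ≠ r) (hG' : Nat.card G = p * r * q ^ b) : (∃ (F : Type) (_ : Field F) (_ : Fintype F), Fintype.card F = 5 ∧ Nonempty (G ≃* Matrix.ProjectiveSpecialLinearGroup (Fin 2) F)) ∨ (∃ (F : Type) (_ : Field F) (_ : Fintype F), Fintype.card F = 7 ∧ Nonempty (G ≃* Matrix.ProjectiveSpecialLinearGroup (Fin 2) F)) := by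
  have h := H2.sm_noncomm_of_not_cyclic hG
  rcases lt_or_gt_of_ne hpr with h1 | h1
  · exact aux h hr hq hp hqr.symm h1 hpq.symm (b := b) (by rw [hG']; ring)
  · exact aux h hp hq hr hpq h1 hqr (b := b) (by rw [hG']; ring)

end Cfsg.Agent.S0998
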