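import Cfsg.Statements.S5944
import Mathlib
import Cfsg.Agent.H6.Count

set_option autoImplicit false
open Cfsg

namespace Cfsg.Agent.S5944

/-- For n ≠ 4, every proper subgroup of the symmetric group S_n other than the alternating group A_n has index at least n. -/
theorem result (n : ℕ) (hn : n ≠ 4) (H : Subgroup (Equiv.Perm (Fin n))) (hH : H ≠ ⊤) (hA : H ≠ alternatingGroup (Fin n)) : n ≤ H.index := by
  by_contra hlt
  push Not at hlt
  have h0 : H.index ≠ 0 := Subgroup.index_ne_zero_of_finite
  have h1 : H.index ≠ 1 := fun h => hH (Subgroup.index_eq_one.1 h)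
  have h2 : H.index ≠ 2 := fun h => hA (Equiv.Perm.eq_alternatingGroup_of_index_eq_two h)
  have h5 : 5 ≤ n := by omega
  by_cases hc : H.normalCore = ⊥
  · have := Nat.le_of_dvd (Nat.factorial_pos _) (H6.card_dvd_factorial_of_normalCore H hc)
    rw [Nat.card_perm, Nat.card_fin] at this
    exact absurd this (not_le.2 ((Nat.factorial_lt (by omega)).2 hlt))
  · have := Equiv.Perm.alternatingGroup_le_of_normal (α := Fin n) (N := H.normalCore)
      (by simpa using h5) ((Subgroup.nontrivial_iff_ne_bot _).2 hc)
    have h3 := Subgroup.index_dvd_of_le (this.trans H.normalCore_le)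
    have : Nontrivial (Fin n) := Fin.nontrivial_iff_two_le.2 (by omega)
    rw [alternatingGroup.index_eq_two] at h3
    have := Nat.le_of_dvd two_pos h3
    omega

end Cfsg.Agent.S5944
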