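import Cfsg.Statements.S1183
import Cfsg.Agent.H6.Iso
import Cfsg.Agent.H3.Transfer

set_option autoImplicit false
open Cfsg

namespace Cfsg.Agent.S1183

/-- Let z be an isolated involution of the finite group G and C = C_G(z). Then the subgroup of G generated by its elements of odd order is all of G if and only if the subgroup of C generated by its elements of odd order is all of C. -/
theorem result {G : Type*} [Group G] [Finite G] (z : G) (hz : Cfsg.IsIsolatedInvolution z) : Cfsg.pResidual 2 G = ⊤ ↔ Cfsg.pResidual 2 ↥(Subgroup.centralizer ({z} : Set G)) = ⊤ := by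
  obtain ⟨S, hS⟩ := (H6.isPGroup_zpowers_ord2 (H6.ord2_mul_self hz.1)).exists_le_sylow
  have hzS : z ∈ (S : Subgroup G) := hS (Subgroup.mem_zpowers z)
  set C := Subgroup.centralizer ({z} : Set G) with hC
  have hSC : (S : Subgroup G) ≤ C := fun x hx =>
    H6.mem_cent_iff_commute.2 (H6.iso_commute_of_mem_pgroup hz S.isPGroup' hzS hx)
  have key := H3.inf_pResidual_eq_of_fusion S hSC (fun x hx g hg => by
    obtain ⟨c, -, h1, h2⟩ := H6.iso_fusion hz (H := ⊤) (Subgroup.le_normalizer (Subgroup.mem_top z)) (H6.mem_cent_iff_commute.1 (hSC hx))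
      (H6.mem_cent_iff_commute.1 (hSC hg)) (Subgroup.mem_top g) rfl
    exact ⟨c, H6.mem_cent_iff_commute.2 h1, h2.symm⟩)
  constructor
  · intro h
    rw [h, inf_top_eq, left_eq_inf] at key
    rw [← H3.pResidual_sup_sylow (S.subtype hSC), left_eq_sup]
    intro x hx
    obtain ⟨y, hy, he⟩ := key hx
    rwa [← Subtype.ext he]
  · intro h
    rw [h, ← MonoidHom.range_eq_map, Subgroup.range_subtype, inf_of_le_left hSC, inf_eq_left] at key
    rw [← H3.pResidual_sup_sylow S, left_eq_sup]
    exact key

end Cfsg.Agent.S1183
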