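import Cfsg.Statements.S3968
import Cfsg.Agent.H17.Central
import Cfsg.Agent.H17.Gen

set_option autoImplicit false
open Cfsg

namespace Cfsg.Agent.S3968

open H17

/-- Let `p` be a prime and `G` a finite group with a faithful irreducible complex character of degree `p` (so `G` is an irreducible linear group in `p` variables). If `p ^ 2` divides the order of `G`, then the centre of `G` is nontrivial. -/
theorem result {G : Type*} [Group G] [Finite G] (p : ℕ) (hp : p.Prime) (χ : Cfsg.IrrCharacter G) (hdeg : χ.1 1 = p) (hfaith : ∀ g : G, χ.1 g = χ.1 1 → g = 1) (hdiv : p ^ 2 ∣ Nat.card G) : Subgroup.center G ≠ ⊥ := by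
  classical
  intro hZ
  haveI : Fact p.Prime := ⟨hp⟩
  obtain ⟨P⟩ : Nonempty (Sylow p G) := inferInstance
  have hχ : IsIrrCharacter G χ.1 := χ.2
  have hker : charKer χ.1 = ⊥ := by
    rw [eq_bot_iff]; intro g hg
    exact Subgroup.mem_bot.2 (hfaith g (apply_eq_of_mem_charKer hg))
  have hP2 : p ^ 2 ∣ Nat.card (P : Subgroup G) := by
    rw [P.card_eq_multiplicity]
    exact pow_dvd_pow _ ((hp.pow_dvd_iff_le_factorization Nat.card_pos.ne').1 hdiv)
  -- central elements of P are zeros
  have hz : ∀ z : (P : Subgroup G), z ∈ Subgroup.center (P : Subgroup G) → z ≠ 1 → χ.1 z = 0 := by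
    intro z hz hz1
    have hle : (P : Subgroup G) ≤ Subgroup.centralizer ({(z : G)} : Set G) := by
      intro x hx
      rw [Subgroup.mem_centralizer_iff]
      rintro y rfl
      have := Subgroup.mem_center_iff.1 hz ⟨x, hx⟩
      exact (congrArg Subtype.val this).symm
    have hc : p.Coprime (Subgroup.centralizer ({(z : G)} : Set G)).index := by
      rw [hp.coprime_iff_not_dvd]
      intro h
      exact P.not_dvd_index (h.trans (Subgroup.index_dvd_of_le hle))
    rcases hχ.eq_zero_or_norm_eq hdeg z hc with h | h
    · exact h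
    · have := (hχ.isCharacter.mem_charCenter' hdeg).2 h
      rw [hχ.charCenter_eq_center hker, hZ, Subgroup.mem_bot] at this
      exact absurd (Subtype.ext this) hz1
  have hres := hχ.isCharacter.restrict (P : Subgroup G)
  obtain ⟨n, f, hf, hsum⟩ := hres.exists_fin_sum
  choose d hd0 hd using fun i => (hf i).exists_pos_one
  have hs : ∑ i, d i = p := by
    have := congrFun hsum 1
    simp only [Finset.sum_apply, hd, OneMemClass.coe_one, hdeg] at this
    exact_mod_cast this.symm
  have hP1 : Nontrivial (P : Subgroup G) := by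
    rw [← Finite.one_lt_card_iff_nontrivial]
    have := Nat.le_of_dvd Nat.card_pos hP2
    have h2 := hp.two_le
    nlinarith
  by_cases hlin : ∀ i, d i = 1
  · have hcomm : ∀ a b : (P : Subgroup G), a * b = b * a := by
      intro a b
      have h1 : χ.1 ((a * b * a⁻¹ * b⁻¹ : (P : Subgroup G)) : G) = χ.1 1 := by
        have e1 := congrFun hsum (a * b * a⁻¹ * b⁻¹)
        have e2 := congrFun hsum 1
        simp only [Finset.sum_apply, OneMemClass.coe_one] at e1 e2
        rw [e1, e2]
        refine Finset.sum_congr rfl fun i _ => ?_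
        obtain ⟨lam, hl⟩ := (hf i).isCharacter.exists_linear (by rw [hd, hlin]; simp)
        rw [hl]
        simp only [map_mul, map_inv, map_one]
        rw [mul_comm (lam a) (lam b)]; simp
      have h2 : (a * b * a⁻¹ * b⁻¹ : (P : Subgroup G)) = 1 := Subtype.ext (hfaith _ h1)
      calc a * b = (a * b * a⁻¹ * b⁻¹) * (b * a) := by group
        _ = b * a := by rw [h2, one_mul]
    haveI := Fintype.ofFinite (P : Subgroup G)
    obtain ⟨m, hm⟩ := (isCharacter_iff_inner.1 hres).2 _ isIrr_one
    have hsum2 : ∑ x : (P : Subgroup G), χ.1 x = p := by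
      rw [Finset.sum_eq_single (1 : (P : Subgroup G))]
      · simpa using hdeg
      · intro b _ hb
        exact hz b (Subgroup.mem_center_iff.2 fun g => hcomm g b) hb
      · simp
    unfold classInner at hm
    simp only [map_one, mul_one, hsum2] at hm
    have h3 : (p : ℂ) = (Nat.card (P : Subgroup G) : ℂ) * m := by
      rw [← hm]; field_simp [(card_ne_zero_complex : (Nat.card (P : Subgroup G) : ℂ) ≠ 0)]
    have h4 : p = Nat.card (P : Subgroup G) * m := by exact_mod_cast h3
    have h5 : p ^ 2 ∣ p := hP2.trans (Dvd.intro _ h4.symm)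
    have := Nat.le_of_dvd hp.pos h5
    have h2 := hp.two_le
    nlinarith
  · push Not at hlin
    obtain ⟨i, hi⟩ := hlin
    have hdv : d i ∣ Nat.card (P : Subgroup G) := (hf i).degree_dvd_card (hd i)
    obtain ⟨k, hk⟩ := IsPGroup.iff_card.1 P.isPGroup'
    rw [hk] at hdv
    obtain ⟨j, -, hj⟩ := (Nat.dvd_prime_pow hp).1 hdv
    have hpd : p ≤ d i := by
      rw [hj]; rcases j with _ | j
      · simp at hj; exact absurd hj hi
      · exact Nat.le_self_pow (by omega) p
    have hsing : ∀ j, j = i := by
      intro j
      by_contra hne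
      have : d i + d j ≤ ∑ l, d l := by
        rw [← Finset.sum_pair (Ne.symm hne)]
        exact Finset.sum_le_sum_of_subset (Finset.subset_univ _)
      have := hd0 j
      omega
    have hfi : (fun x : (P : Subgroup G) => χ.1 x) = f i := by
      rw [hsum, Finset.sum_eq_single i]
      · intro b _ hb; exact absurd (hsing b) hb
      · simp
    haveI := P.isPGroup'.center_nontrivial
    obtain ⟨z, hz1⟩ := exists_ne (1 : Subgroup.center (P : Subgroup G))
    have hz1' : (z : (P : Subgroup G)) ≠ 1 := fun h => hz1 (Subtype.ext h)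
    have h0 := hz z z.2 hz1'
    have h1 := ((hf i).isCharacter.mem_charCenter' (hd i)).1 ((hf i).center_le_charCenter z.2)
    rw [← hfi] at h1
    simp only [h0, norm_zero] at h1
    have := hd0 i
    have : (d i : ℝ) ≠ 0 := by positivity
    exact this h1.symm

end Cfsg.Agent.S3968
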