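import Cfsg.Statements.S4745
import Cfsg.Agent.H17.Be1
import Cfsg.Agent.H21.DZ3
import Cfsg.Agent.H21.Ext3
import Cfsg.Agent.H20.Amb
import Cfsg.Agent.H25.Prim
import Cfsg.Agent.H4.SL2Deg
import Cfsg.Agent.H22.SpSu
import Cfsg.Agent.H1.PSolv
-- import your own Cfsg.Agent.* helpers here

set_option autoImplicit false
open Cfsg

namespace Cfsg.Agent.S4745

theorem not_pow {p r b c : ℕ} (hp : p.Prime) (hb : 2 ≤ b) (hc : 1 ≤ c) :
    p ^ r ≠ 2 ^ (b * (2 * c + 1)) + 1 := fun h => by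
  have h4 : 4 ≤ b * (2 * c + 1) := by nlinarith
  obtain ⟨x, rfl⟩ : ∃ x, p = x + 1 := ⟨p - 1, by have := hp.pos; omega⟩
  rcases Nat.even_or_odd' r with ⟨k, rfl | rfl⟩
  · obtain ⟨y, hy⟩ : ∃ y, (x + 1) ^ k = y + 1 := ⟨_, (Nat.sub_add_cancel (Nat.one_le_pow _ _ hp.pos)).symm⟩
    rw [mul_comm, pow_mul, hy] at h
    have h1 : y * (y + 2) = 2 ^ (b * (2 * c + 1)) := by linarith
    obtain ⟨i, -, hi⟩ := (Nat.dvd_prime_pow Nat.prime_two).1 (h1 ▸ dvd_mul_right y _)
    obtain ⟨j, -, hj⟩ := (Nat.dvd_prime_pow Nat.prime_two).1 (h1 ▸ dvd_mul_left (y + 2) _)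
    have h2 := Nat.pow_le_pow_right two_pos h4
    obtain _ | _ | i := i
    · subst hi; omega
    · subst hi; omega
    rw [hi, pow_succ, pow_succ] at hj
    have := Nat.two_pow_pos i
    clear h h1 h2 hy h4 hi
    obtain _ | _ | j := j
    · omega
    · omega
    · rw [pow_succ, pow_succ] at hj; omega
  · have h1 := geom_sum_mul_add x (2 * k + 1)
    rw [h, add_left_inj] at h1
    have h2 : Odd (x + 1) := (Nat.odd_pow_iff (by omega)).1
      (h ▸ (Nat.even_pow.2 ⟨even_two, by omega⟩).add_one)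
    have h3 : Odd (∑ i ∈ Finset.range (2 * k + 1), (x + 1) ^ i) := by
      rw [Finset.odd_sum_iff_odd_card_odd, Finset.filter_true_of_mem fun _ _ => h2.pow,
        Finset.card_range]
      exact odd_two_mul_add_one k
    rw [Nat.eq_one_of_dvd_coprimes (Nat.coprime_two_left.2 h3 |>.pow_left _) (h1 ▸ dvd_mul_right _ x)
      dvd_rfl, one_mul] at h1
    obtain ⟨m, hm⟩ := Nat.pow_of_pow_add_prime one_lt_two (by omega) (h1 ▸ hp)
    have := Nat.eq_one_of_dvd_coprimes ((Nat.coprime_two_left.2 (odd_two_mul_add_one c)).pow_left m)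
      (hm ▸ dvd_mul_left _ b) dvd_rfl
    omega

theorem pow_eq {a b u v : ℕ} (hu : Odd u) (hv : Odd v) (h : 2 ^ a * u = 2 ^ b * v) : a = b :=
  le_antisymm ((Nat.pow_dvd_pow_iff_le_right one_lt_two).1
    (((Nat.coprime_two_left.2 hv).pow_left a).dvd_of_dvd_mul_right (h ▸ dvd_mul_right _ u)))
    ((Nat.pow_dvd_pow_iff_le_right one_lt_two).1
      (((Nat.coprime_two_left.2 hu).pow_left b).dvd_of_dvd_mul_right (h ▸ dvd_mul_right _ v)))

theorem tri_deg {L : Type*} [Group L] {p r a u : ℕ} (hp : p.Prime) (h : H17.Be.Tri L) (hu : Odd u)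
    (h1 : Nat.card L = 2 ^ a * u) (h2 : p ^ r = 2 ^ a + 1) : p ^ r ∈ charDegrees L := by
  have ev : ∀ {n : ℕ}, n ≠ 0 → ∀ {k : ℕ}, k ≠ 0 → Odd ((2 ^ n) ^ k - 1) ∧ Odd ((2 ^ n) ^ k + 1) :=
    fun hn _ hk => have := Nat.even_pow.2 ⟨Nat.even_pow.2 ⟨even_two, hn⟩, hk⟩
      ⟨Nat.Even.sub_odd (Nat.one_le_pow _ _ (Nat.two_pow_pos _)) this odd_one, this.add_one⟩
  rcases h with ⟨F, _, _, n, k1, k2, ⟨e⟩⟩ | ⟨F, _, _, m, k1, k2, ⟨e⟩⟩ | ⟨F, _, _, n, k1, k2, ⟨e⟩⟩
  · have k3 := H4.card_psl (F := F)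
    have k4 := (ev (n := n) (by omega) one_ne_zero).1
    rw [pow_one] at k4
    rw [← Nat.card_congr e.toEquiv, h1, k2, Nat.coprime_two_left.2 k4, one_mul] at k3
    rw [h2, pow_eq hu (ev (by omega) two_ne_zero).1 k3, H4.deg_of_equiv e.symm, ← k2]
    have k5 := Nat.pow_le_pow_right two_pos k1
    exact H4.add_mem_psl_deg (by omega) fun k => by rw [← k2, k] at k4; exact absurd k4 (by decide)
  · rw [Nat.card_congr e.toEquiv, (H26.Sz.lieModel k1 k2).card_G, k2, mul_assoc] at h1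
    have k4 := (ev (n := 2 * m + 1) (by omega) one_ne_zero).1
    rw [pow_one] at k4
    rw [← pow_eq ((ev (n := 2 * m + 1) (by omega) two_ne_zero).2.mul k4) hu
      ((congrArg (· * _) (pow_mul 2 _ 2)).trans h1), mul_comm] at h2
    exact (not_pow hp le_rfl k1 h2).elim
  · have k3 := H22.card_SU k2 3 (by omega)
    have k4 := (ev (n := n) (by omega) one_ne_zero).2
    rw [← H22.card_center_mul_card_quotient, H22.card_center_SU k2 3 (by omega),
      show Nat.card (_ ⧸ _) = _ from (Nat.card_congr e.toEquiv).symm.trans h1, ← mul_assoc,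
      mul_left_comm, ← pow_mul, Finset.prod_range_succ, Finset.prod_range_succ, Finset.prod_range_one,
      if_pos (by decide), if_neg (by decide), if_pos (by decide)] at k3
    rw [pow_eq (((pow_one (2 ^ n) ▸ k4).mul ((by decide : Odd 3).of_dvd_nat (Nat.gcd_dvd_left _ _))).mul
      hu) ((k4.mul (ev (by omega) (by omega)).1).mul (ev (by omega) (by omega)).2) k3] at h2
    exact (not_pow hp k1 le_rfl h2).elim


/-- Let p be an odd prime and G a finite group of even order divisible by p in which the centralizer of every non-identity p-element has odd order, and suppose G acts faithfully and transitively on a set with p ^ r elements, r ≥ 1. Then either G has an irreducible character of p-defect zero, or G is p-solvable and has an irreducible character of 2-defect zero. -/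
theorem result {G Ω : Type*} [Group G] [Finite G] [MulAction G Ω] [FaithfulSMul G Ω] [Fintype Ω] (htr : MulAction.IsPretransitive G Ω) (p : ℕ) [Fact p.Prime] (hp2 : p ≠ 2) (hpG : p ∣ Nat.card G) (h2G : 2 ∣ Nat.card G) (hC : ∀ g : G, g ≠ 1 → (∃ k : ℕ, orderOf g = p ^ k) → Odd (Nat.card ↥(Subgroup.centralizer ({g} : Set G)))) (r : ℕ) (hr : 1 ≤ r) (hΩ : Fintype.card Ω = p ^ r) : (∃ χ : Cfsg.IrrCharacter G, (Cfsg.charDegree (χ : G → ℂ)).factorization p = (Nat.card G).factorization p) ∨ (Cfsg.IsPSolvable p G ∧ ∃ χ : Cfsg.IrrCharacter G, (Cfsg.charDegree (χ : G → ℂ)).factorization 2 = (Nat.card G).factorization 2) := by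
  classical
  have hp : p.Prime := Fact.out
  refine (em _).imp_right fun hno => ?_
  obtain ⟨P⟩ : Nonempty (Sylow p G) := inferInstance
  have hcard : Nat.card Ω = p ^ r := Nat.card_eq_fintype_card.trans hΩ
  have hP := H25.sylow_transitive hcard P
  have h1 : ∀ t : G, orderOf t = 2 → _ := fun t ht =>
    H21.exists_inverted_of_no_dz hp2 (H21.no2p_of_cent hC) hno ht P
  obtain ⟨t₀, ht₀⟩ := exists_prime_orderOf_dvd_card' (G := G) 2 h2G
  obtain ⟨t, k, hi⟩ := h1 t₀ ht₀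
  have ht : orderOf t = 2 := H19.orderOf_isConj k ▸ ht₀
  have hc := H21.comm_of_inverts' hi
  have reg : ∀ x ∈ (P : Subgroup G), ∀ a : Ω, x • a = a → x = 1 := fun x hx a h =>
    eq_of_smul_eq_smul (α := Ω) fun b => by
      obtain ⟨y, rfl⟩ := hP.exists_smul_eq a b
      rw [one_smul, Subgroup.smul_def, ← mul_smul,
        show x * y = y * x from congrArg Subtype.val (hc.is_comm.comm ⟨x, hx⟩ y), mul_smul, h]
  have odd : ∀ x ∈ (P : Subgroup G), ∀ N : Subgroup G, x * x ∈ N → x ∈ N := fun x hx N h => by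
    obtain ⟨k, hk⟩ := P.isPGroup'.exists_card_eq
    obtain ⟨m, hm⟩ := ((hp.odd_of_ne_two hp2).pow (n := k)).of_dvd_nat (hk ▸ P.1.orderOf_dvd_natCard hx)
    have := pow_orderOf_eq_one x
    rw [hm, pow_succ, pow_mul, sq] at this
    exact eq_inv_of_mul_eq_one_right this ▸ inv_mem (pow_mem h m)
  have uniq : ∀ s : G, orderOf s = 2 → ∀ a b : Ω, s • a = a → s • b = b → a = b := fun s hs a b ha hb => by
    obtain ⟨_, k, h⟩ := h1 s hs
    obtain ⟨g, rfl⟩ := isConj_iff.1 k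
    obtain ⟨⟨x, hx⟩, e⟩ := hP.exists_smul_eq (g • a) (g • b)
    rw [Subgroup.mk_smul] at e
    have k1 : ∀ c : Ω, s • c = c → (g * s * g⁻¹) • g • c = g • c := fun c hc => by
      rw [← mul_smul, inv_mul_cancel_right, mul_smul, hc]
    have k2 : (x * x) • g • a = g • a := by
      rw [mul_smul, e, ← k1 b hb, ← e, ← mul_smul _ x, mul_inv_eq_iff_eq_mul.1 (h x hx), mul_smul x⁻¹,
        smul_inv_smul, k1 a ha]
    rw [Subgroup.mem_bot.1 (odd x hx ⊥ (reg _ (mul_mem hx hx) _ k2)), one_smul] at e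
    exact smul_left_cancel g e
  obtain ⟨a, ha⟩ : ∃ a : Ω, t • a = a := by
    obtain ⟨a, ha⟩ := (H10.isPGroup_zpowers_of_orderOf_eq ht).nonempty_fixed_point_of_prime_not_dvd_card
      Ω (hcard ▸ Nat.two_dvd_ne_zero.2 (Nat.odd_iff.1 (hp.odd_of_ne_two hp2).pow))
    exact ⟨a, ha ⟨t, Subgroup.mem_zpowers t⟩⟩
  have hi2 : (MulAction.stabilizer G a).index = p ^ r :=
    (MulAction.index_stabilizer_of_transitive G a).trans hcard
  have hH : IsStronglyEmbedded (MulAction.stabilizer G a) :=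
    H6.stronglyEmbedded_iff.2 ⟨fun e => by
      rw [e, Subgroup.index_top] at hi2
      exact (Nat.one_lt_pow (by omega) hp.one_lt).ne hi2, ⟨t, ha, ht⟩, fun g s hs k1 k2 => by
      refine (smul_eq_iff_eq_inv_smul g).2 (uniq s hs _ _ k1 ?_)
      rw [← mul_smul, ← inv_mul_cancel_left g (s * g⁻¹), ← mul_assoc g, mul_smul,
        MulAction.mem_stabilizer_iff.1 k2]⟩
  by_cases h4 : H15.Bd.Four (⊤ : Subgroup G)
  · have h0 : (MulAction.stabilizer G a).normalCore = ⊥ := eq_bot_iff.2 fun x hx =>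
      eq_of_smul_eq_smul (α := Ω) fun b => by
        obtain ⟨g, rfl⟩ := htr.exists_smul_eq a b
        rw [one_smul, ← mul_smul, ← mul_inv_cancel_left g (x * g), mul_smul, ← mul_assoc,
          show (g⁻¹ * x * g) • a = a by simpa using hx g⁻¹]
    obtain ⟨Q, ⟨k1, k2⟩⟩ := H15.Bd.se_sz hH h4 h0
    obtain ⟨s, k3, k4⟩ := H6.se_exists_ord2_not_mem hH
    have h := k2 s k3 k4
    haveI := H15.Bd.faithful_of_core h0
    haveI := h.normal_LL
    obtain ⟨n, hn⟩ := k1.exists_card_eq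
    obtain ⟨u, hu⟩ := Subgroup.card_dvd_of_le (H17.le_LL (t := s) Q (H17.KK (((1 : G) : G) : G ⧸ MulAction.stabilizer G a) s))
    have k5 := h.r1.card_Ω
    rw [← Subgroup.index_eq_card, hi2, hn] at k5
    obtain ⟨θ, hθ⟩ := tri_deg hp (H17.Be.tri_LL h) (h.r1.odd_index_Q.of_dvd_nat ⟨_,
      Nat.eq_of_mul_eq_mul_left (Nat.card_pos (α := Q)) (by
        rw [Q.card_mul_index, ← mul_assoc, ← hu, Subgroup.card_mul_index])⟩) (hn ▸ hu) k5
    obtain ⟨χ, hχ⟩ := H21.over_nonempty le_top (H20.ext_mem_Irr θ)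
    obtain ⟨m, -, k6⟩ := H21.exists_degree_dvd le_top (H20.top_le_nrm _) (H20.ext_mem_Irr θ) hχ
    have k7 := CF.mem_Irr_top.1 (H21.mem_over.1 hχ).1
    rw [H20.ext_one, ← H19.cast_deg θ, hθ, H4.irr_one_eq k7, ← Nat.cast_mul,
      Nat.cast_inj] at k6
    refine (hno ⟨⟨χ, k7⟩, le_antisymm (H20.vd_le p _) ?_⟩).elim
    have k8 : Nat.card P ≤ p ^ r := hcard ▸ Nat.card_le_card_of_injective (fun x : P => (x : G) • a)
      fun x y e => Subtype.ext (inv_mul_eq_one.1 (reg _ (mul_mem (inv_mem x.2) y.2) a (by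
        rw [mul_smul, ← show (x : G) • a = (y : G) • a from e, inv_smul_smul])))
    rw [P.card_eq_multiplicity, Nat.pow_le_pow_iff_right hp.one_lt] at k8
    exact k8.trans ((hp.pow_dvd_iff_le_factorization (H21.charDegree_pos k7).ne').1
      (k6 ▸ dvd_mul_left _ _))
  have hN : (P : Subgroup G) ≤ pPrimeCore 2 G := fun x hx => odd x hx _ (by
    have := H15.Bd.rank_one_comm h4 ht (Subgroup.mem_top t) (Subgroup.mem_top x)
    rwa [← H15.pPrimeCore_eq_piCoreOf 2, mul_assoc, mul_assoc, ← mul_assoc t,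
      show t * x⁻¹ * t = x by
        simpa [inv_eq_of_mul_eq_one_right (a := t) (b := t) (by rw [← sq, ← ht, pow_orderOf_eq_one])]
          using hi _ (inv_mem hx)] at this)
  have ho := H1.not_dvd_card_pPrimeCore (G := G) Nat.prime_two
  refine ⟨H1.IsPSolvable.of_normal_quotient (pPrimeCore 2 G) ?_ (H1.isPSolvable_of_not_dvd fun k =>
    P.not_dvd_index (k.trans (Subgroup.index_dvd_of_le hN))), ?_⟩
  · exact H1.isPSolvable_of_isSolvable p (H17.odd_solvable (Nat.odd_iff.2 (Nat.two_dvd_ne_zero.1 ho)))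
  obtain ⟨x, hx, k⟩ := H10.exists_orderOf_eq_of_dvd (P.dvd_card_of_dvd_card hpG)
  refine H21.exists_dz_of_sep 2 (x := x) (Nat.two_dvd_ne_zero.2 (Nat.odd_iff.1
    (hC x (H10.ne_one_of_orderOf_eq k) ⟨1, by rw [k, pow_one]⟩))) fun y k1 k2 => ?_
  obtain ⟨g, rfl⟩ := isConj_iff.1 k1
  exact mul_inv_eq_one.1 (k2.eq_one fun k3 => ho (k3.trans (Subgroup.orderOf_dvd_natCard _
    (mul_mem (Subgroup.Normal.conj_mem inferInstance x (hN hx) g) (inv_mem (hN hx))))))

end Cfsg.Agent.S4745
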