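import Cfsg.Statements.S5892
import Cfsg.Agent.H4.Dk5

set_option autoImplicit false
open Cfsg

namespace Cfsg.Agent.S5892

/-- Let F be a finite field of odd order q ≥ 5 and characteristic p, and let M be a maximal subgroup of PSL₂(F). Then one of the following holds: |M| = q(q − 1)/2 (the stabiliser of a point of the projective line); q ≥ 13 and M is dihedral of order q − 1; q ∉ {7, 9} and M is dihedral of order q + 1; q = q₀² and M ≅ PGL₂(F₀) with |F₀| = q₀; q = q₀^r for an odd prime r and M ≅ PSL₂(F₀) with |F₀| = q₀; q ≡ ±1 (mod 10) with q = p or q = p², p ≡ ±3 (mod 10), and M ≅ A₅; q = p ≡ ±3 (mod 8), q ≢ ±1 (mod 10), and M ≅ A₄; or q = p ≡ ±1 (mod 8) and M ≅ S₄. -/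
theorem result {F : Type*} [Field F] [Fintype F] (p : ℕ)
    [Fact p.Prime] [CharP F p] (hodd : Odd (Fintype.card F)) (h5 : 5 ≤ Fintype.card F)
    (M : Subgroup (Matrix.ProjectiveSpecialLinearGroup (Fin 2) F)) (hM : IsCoatom M) :
    2 * Nat.card M = Fintype.card F * (Fintype.card F - 1) ∨
    (13 ≤ Fintype.card F ∧ (∃ k : ℕ, 2 * k = Fintype.card F - 1 ∧ Nonempty (M ≃* DihedralGroup k))) ∨
    (Fintype.card F ≠ 7 ∧ Fintype.card F ≠ 9 ∧ (∃ k : ℕ, 2 * k = Fintype.card F + 1 ∧ Nonempty (M ≃* DihedralGroup k))) ∨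
    (∃ (F₀ : Type) (_ : Field F₀) (_ : Fintype F₀), Fintype.card F = Fintype.card F₀ ^ 2 ∧
        Nonempty (M ≃* Matrix.ProjGenLinGroup (Fin 2) F₀)) ∨
    (∃ (F₀ : Type) (_ : Field F₀) (_ : Fintype F₀) (r : ℕ), r.Prime ∧ Odd r ∧ Fintype.card F = Fintype.card F₀ ^ r ∧
        Nonempty (M ≃* Matrix.ProjectiveSpecialLinearGroup (Fin 2) F₀)) ∨
    ((Fintype.card F % 10 = 1 ∨ Fintype.card F % 10 = 9) ∧
        (Fintype.card F = p ∨ (Fintype.card F = p ^ 2 ∧ (p % 10 = 3 ∨ p % 10 = 7))) ∧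
        Nonempty (M ≃* alternatingGroup (Fin 5))) ∨
    (Fintype.card F = p ∧ (p % 8 = 3 ∨ p % 8 = 5) ∧ ¬ (p % 10 = 1 ∨ p % 10 = 9) ∧
        Nonempty (M ≃* alternatingGroup (Fin 4))) ∨
    (Fintype.card F = p ∧ (p % 8 = 1 ∨ p % 8 = 7) ∧ Nonempty (M ≃* Equiv.Perm (Fin 4))) := by
  have h2 := H4.two_ne_zero_of_odd hodd
  have hq := Nat.odd_iff.1 hodd
  have hM' := H4.isCoatom_psl_iff.1 hM
  rcases H4.max_pL p (by omega) hM' with ⟨x, h⟩ | ⟨g, hg, h⟩ | ⟨E, r, P, hE, hr, h1, h⟩ |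
    ⟨-, h1, h3, h⟩ | ⟨h1, h3, h4, h⟩ | ⟨h1, h3, h⟩
  · left
    rw [← H4.card_map_psl, h, ← H4.card_stab_pL x, H4.gcd_eq_two hq]
  · have h3 := H4.card_pT_pL hg
    have h4 := H4.equiv_of_map_psl (h ▸ H4.pN_pL_equiv hg)
    have h6 := fun h0 => H4.not_covBy_pN hg h0 (h ▸ hM')
    rw [H4.gcd_eq_two hq] at h3
    rcases H4.card_pT hg with h7 | h7
    · exact Or.inr (Or.inr (Or.inl ⟨fun h => h6 (Or.inl ⟨h7, Or.inl h⟩),
        fun h => h6 (Or.inl ⟨h7, Or.inr h⟩), _, h3.trans h7, h4⟩))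
    · refine Or.inr (Or.inl ⟨?_, _, h3.trans h7, h4⟩)
      by_contra h8
      exact h6 (Or.inr ⟨h7, by omega⟩)
  · obtain ⟨K, _, _, f, h3, h4⟩ := H4.exists_type_subfield E
    rcases hr.eq_two_or_odd' with rfl | ho
    · refine Or.inr (Or.inr (Or.inr (Or.inl ⟨K, inferInstance, inferInstance, by rw [h1, h4], H4.equiv_of_map_psl ?_⟩)))
      rw [h, inf_eq_left.2 ((H4.pglS_le_pL_iff h2 h1).2 even_two), ← h3]
      exact H4.equiv_cj (H4.nonempty_pglS_equiv f) P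
    · refine Or.inr (Or.inr (Or.inr (Or.inr (Or.inl
        ⟨K, inferInstance, inferInstance, r, hr, ho, by rw [h1, h4], H4.equiv_of_map_psl ?_⟩))))
      rw [h, H4.pglS_inf_pL h2 h1 ho, ← h3]
      exact H4.equiv_cj (H4.nonempty_pslS_equiv f) P
  · exact Or.inr (Or.inr (Or.inr (Or.inr (Or.inr (Or.inl ⟨h1, h3, H4.equiv_of_map_psl h⟩)))))
  · exact Or.inr (Or.inr (Or.inr (Or.inr (Or.inr (Or.inr (Or.inl
      ⟨h1, h3, h4, H4.equiv_of_map_psl h⟩))))))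
  · exact Or.inr (Or.inr (Or.inr (Or.inr (Or.inr (Or.inr (Or.inr
      ⟨h1, h3, H4.equiv_of_map_psl h⟩))))))

end Cfsg.Agent.S5892
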