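import Cfsg.Statements.S4551
import Cfsg.Agent.H20.Res2
-- import your own Cfsg.Agent.* helpers here

set_option autoImplicit false
open Cfsg

namespace Cfsg.Agent.S4551

/-- Let N be a normal subgroup of the finite group G of index prime to p, P a Sylow p-subgroup of G with G = N·C_G(P), and M a maximal ideal of the algebraic integers containing p. Then restriction to N is a bijection from the principal p-block of G onto the principal p-block of N: every member of the principal block of G restricts to a member of the principal block of N, and every member of the principal block of N is the restriction of exactly one member of the principal block of G. -/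
theorem result {G : Type*} [Group G] [Finite G] (p : ℕ) [Fact p.Prime] (M : Ideal Cfsg.AlgInt) (hM : Cfsg.IsPModular p M) (N : Subgroup G) [N.Normal] (hidx : ¬ p ∣ N.index) (P : Sylow p G) (hsup : N ⊔ Subgroup.centralizer ((P : Subgroup G) : Set G) = ⊤) : (∀ χ ∈ Cfsg.principalBlock M G, ∃ θ ∈ Cfsg.principalBlock M ↥N, ∀ n : N, (χ : G → ℂ) n = (θ : N → ℂ) n) ∧ ∀ θ ∈ Cfsg.principalBlock M ↥N, ∃! χ : Cfsg.IrrCharacter G, χ ∈ Cfsg.principalBlock M G ∧ ∀ n : N, (χ : G → ℂ) n = (θ : N → ℂ) n := by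
  obtain ⟨O, hO, _⟩ := H19.exists_over hM
  rw [hO.principalBlock_eq, hO.principalBlock_eq]
  have hPN : (P : Subgroup G) ≤ N := fun x hx => by
    obtain ⟨k, hk⟩ := P.isPGroup' ⟨x, hx⟩
    have h1 : x ^ p ^ k = 1 := by simpa using congrArg Subtype.val hk
    have h2 : (p ^ k).Coprime N.index :=
      ((Nat.Prime.coprime_iff_not_dvd Fact.out).2 hidx).pow_left k
    rw [← QuotientGroup.eq_one_iff, ← orderOf_eq_one_iff]
    exact Nat.eq_one_of_dvd_coprimes h2 (orderOf_dvd_of_pow_eq_one (by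
      rw [← QuotientGroup.mk_pow, h1, QuotientGroup.mk_one])) (orderOf_dvd_natCard _)
  have hP : ¬ p ∣ (P : Subgroup G).relIndex N :=
    ((H10.isSylowIn_top P).of_le hPN le_top).not_dvd_relIndex
  have hd := fun (χ ψ : IrrCharacter G) (h1 : χ ∈ H19.irr (H19.B0 O G))
    (h2 : ψ ∈ H19.irr (H19.B0 O G)) =>
      H20.dot_res_B0 hP hidx hPN hsup (H20.mem_IB_top.2 h1) (H20.mem_IB_top.2 h2)
  have hi : ∀ χ ∈ H19.irr (H19.B0 O G), CF.Res (N : Set G) χ ∈ CF.Irr N := fun χ hχ =>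
    ((CF.irr_char (CF.mem_Irr_top.2 χ.2)).Res le_top).mem_Irr (by
      rw [CF.dot_Res_left, CF.dot_Res_right, hd χ χ hχ hχ, CF.dot_irr_self (CF.mem_Irr_top.2 χ.2)])
  have hc : H20.eG (H19.B0 O G) * H20.eA N (H19.B0 O N) ≠ 0 := by
    rw [((H20.isBlk_eG _).commute_cover (H20.isBlk_eA N _) le_top).eq, H20.eA_B0_mul]
    exact (H20.isBlk_eG _).ne_zero
  refine ⟨fun χ hχ => ?_, fun θ hθ => ?_⟩
  · obtain ⟨θ, h⟩ := H20.exists_res (hi χ hχ)
    exact ⟨θ, H20.lam_eq_of_fixed (H20.eA_B0_fixed N) hc hχ (H20.dot_ne_of_res h), h⟩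
  · obtain ⟨χ, hχ, h⟩ := H20.exists_over_of_cover hc hθ
    have h1 := H20.res_eq_of_dot (hi χ hχ) h
    refine ⟨χ, ⟨hχ, h1⟩, fun ψ ⟨hψ, h2⟩ => Subtype.ext (CF.irr_eq_of_dot_ne
      (CF.mem_Irr_top.2 ψ.2) (CF.mem_Irr_top.2 χ.2) ?_)⟩
    rw [← hd ψ χ hψ hχ, ← CF.dot_Res_right, H20.res_eq_iff.2 h1]
    exact H20.dot_ne_of_res h2

end Cfsg.Agent.S4551
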