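import Cfsg.Statements.S4923
import Cfsg.Agent.H15.Syl
import Cfsg.Agent.H21.AFT
import Cfsg.Agent.H21.PF3c
import Cfsg.Agent.H6.MaxCl
import Cfsg.Agent.H25.FCS2

set_option autoImplicit false
open Cfsg

open H17 H15 CF H21 IntermediateField Subgroup
open scoped commutatorElement

namespace Cfsg.Agent.S4923

theorem fix_adjoin (u : ℂ ≃+* ℂ) {T : Set ℂ} (h : ∀ t ∈ T, u t = t) {w : ℂ}
    (hw : w ∈ adjoin ℚ T) : u w = w :=
  adjoin_induction ℚ h (fun x => by simp) (fun _ _ _ _ a b => by rw [map_add, a, b])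
    (fun _ _ a => by rw [map_inv₀, a]) (fun _ _ _ _ a b => by rw [map_mul, a, b]) hw

theorem adjoin_le {N : ℕ} (hN : N ≠ 0) {ζ : ℂ} (hζ : IsPrimitiveRoot ζ N) {S T : Set ℂ}
    (hS : S ⊆ ℚ⟮ζ⟯) (hT : T ⊆ ℚ⟮ζ⟯) (h : ∀ (k : ℕ) (u : ℂ ≃+* ℂ), (∀ z, z ^ N = 1 → u z = z ^ k) →
      (∀ t ∈ S, u t = t) → ∀ t ∈ T, u t = t) : adjoin ℚ T ≤ adjoin ℚ S := by
  haveI : NeZero N := ⟨hN⟩
  have hi := (hζ.isIntegral (NeZero.pos N)).tower_top (A := ℚ)
  haveI : IsCyclotomicExtension {N} ℚ ℚ⟮ζ⟯ := by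
    change IsCyclotomicExtension {N} ℚ ℚ⟮ζ⟯.toSubalgebra
    rw [adjoin_simple_toSubalgebra_of_isAlgebraic hi.isAlgebraic]
    exact hζ.adjoin_isCyclotomicExtension ℚ
  have hG := IsCyclotomicExtension.isGalois {N} ℚ ℚ⟮ζ⟯
  haveI := adjoin.finiteDimensional hi
  refine adjoin_le_iff.2 fun t ht => ?_
  change (⟨t, hT ht⟩ : ℚ⟮ζ⟯) ∈ (adjoin ℚ S).comap ℚ⟮ζ⟯.val
  rw [← IsGalois.fixedField_fixingSubgroup ((adjoin ℚ S).comap ℚ⟮ζ⟯.val) (h := hG), mem_fixedField_iff]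
  intro σ hσ
  have h1 : IsPrimitiveRoot (⟨ζ, mem_adjoin_simple_self ℚ ζ⟩ : ℚ⟮ζ⟯) N :=
    IsPrimitiveRoot.coe_submonoidClass_iff.1 hζ
  obtain ⟨k, -, h2, h3⟩ := hζ.isPrimitiveRoot_iff.1
    (IsPrimitiveRoot.coe_submonoidClass_iff.2 (h1.map_of_injective σ.injective))
  obtain ⟨u, hu, -⟩ := exists_aut_pow_fix hN h2 one_ne_zero
  have h4 := DFunLike.congr_fun (adjoin_algHom_ext ℚ (φ₁ := ℚ⟮ζ⟯.val.comp (σ : _ →ₐ[ℚ] _))
    (φ₂ := (u : ℂ →+* ℂ).toRatAlgHom.comp ℚ⟮ζ⟯.val) (by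
      rintro _ rfl; exact h3.symm.trans (hu _ hζ.pow_eq_one).symm))
  exact Subtype.ext ((h4 _).trans (h k u hu (fun s hs => (h4 ⟨s, hS hs⟩).symm.trans
    (congrArg Subtype.val ((mem_fixingSubgroup_iff _ _).1 hσ _ (subset_adjoin ℚ S hs)))) t ht))

variable {G : Type*} [Group G] [Finite G] {N k : ℕ} {u : ℂ ≃+* ℂ} {ζ : ℂ} {g : G}

theorem fix_iff (hu : ∀ z, z ^ N = 1 → u z = z ^ k) (hg : g ^ N = 1) :
    (∀ t ∈ {z : ℂ | ∃ χ : IrrCharacter G, (χ : G → ℂ) g = z}, u t = t) ↔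
      ∃ x, x * g * x⁻¹ = g ^ k := by
  have h : ∀ χ ∈ Irr (⊤ : Subgroup G), u (χ g) = χ (g ^ k) := fun χ hχ =>
    vchar_aut_apply (u : ℂ →+* ℂ) (irr_vchar hχ) hu trivial hg
  constructor
  · intro h1
    obtain ⟨x, -, hx⟩ := conj_of_irr_eq (H := ⊤) (g := g) trivial fun χ hχ =>
      (h1 _ ⟨⟨χ, mem_Irr_top.1 hχ⟩, rfl⟩).symm.trans (h χ hχ)
    exact ⟨x, hx⟩
  · rintro ⟨x, hx⟩ _ ⟨χ, rfl⟩
    rw [h _ (mem_Irr_top.2 χ.2), ← hx, cf_conj (irr_cf (mem_Irr_top.2 χ.2)) _ trivial]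

theorem fix_iff' (hu : ∀ z, z ^ N = 1 → u z = z ^ k) (hN : N ≠ 0) (hζ : ζ ^ N = 1) (ε : ℤ) :
    (∀ t ∈ ({ζ + ε * ζ⁻¹} : Set ℂ), u t = t) ↔ ζ ^ k = ζ ^ 1 ∨ ζ ^ (k + 1) = ε := by
  have h0 : ζ ≠ 0 := fun e => by simp [e, hN] at hζ
  simp only [Set.mem_singleton_iff, forall_eq, map_add, map_mul, map_intCast, map_inv₀, hu ζ hζ,
    pow_succ, pow_zero, one_mul]
  rw [← sub_eq_zero, ← sub_eq_zero (b := ζ), ← sub_eq_zero (b := (ε : ℂ)), ← mul_eq_zero,
    ← mul_eq_zero_iff_right (mul_ne_zero h0 (pow_ne_zero k h0))]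
  refine Eq.congr_left ?_
  field_simp
  ring

theorem sub_adj (hN : N ≠ 0) (hζ : IsPrimitiveRoot ζ N) (hg : g ^ N = 1) :
    {z : ℂ | ∃ χ : IrrCharacter G, (χ : G → ℂ) g = z} ⊆ ℚ⟮ζ⟯ := by
  rintro _ ⟨χ, rfl⟩
  obtain ⟨m, ε, -, h1, h2⟩ := χ.2.isCharacter.exists_eigenvalues g
  have h3 := h2 1
  rw [zpow_one] at h3
  rw [h3]
  refine sum_mem fun i _ => ?_
  have : NeZero N := ⟨hN⟩
  obtain ⟨c, rfl⟩ := orderOf_dvd_of_pow_eq_one hg
  obtain ⟨j, -, hj⟩ := hζ.eq_pow_of_pow_eq_one (ξ := (ε i : ℂ))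
    (by rw [← Units.val_pow_eq_pow_val, pow_mul, h1, one_pow, Units.val_one])
  rw [zpow_one, ← hj]
  exact pow_mem (mem_adjoin_simple_self ℚ ζ) j

theorem exists_conj (P : Sylow 2 G) {A : Subgroup G} [IsCyclic A] (hA : A ≤ P)
    (hP : (P : Subgroup G) ≤ 𝒩(A)) {x : G} (hx : x ∈ 𝒩(A)) (hg : g ∈ A) :
    ∃ y ∈ (P : Subgroup G), y * g * y⁻¹ = x * g * x⁻¹ := by
  obtain ⟨⟨y, _⟩, hy, e⟩ := (((((syl_top_sylow P).of_le hP le_top).subgroupOf le_rfl).map
    A.normalizerMonoidHom).eq_self (H1.isPiNat_card_singleton_iff.2 ((H25.two_aut_cyclic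
      (P.isPGroup'.to_le hA)).to_subgroup _))).ge (mem_map_of_mem _ (x := ⟨x, hx⟩) hx)
  exact ⟨y, hy, (congrArg Subtype.val (DFunLike.congr_fun e ⟨g, hg⟩) :)⟩

omit [Finite G] in
theorem conj_eq {a b y : G} (hi : (zpowers a).index = 2) (hb : b ∉ zpowers a) :
    y * a * y⁻¹ = a ∨ y * a * y⁻¹ = b * a * b⁻¹ := by
  haveI := normal_of_index_eq_two hi
  have h : ∀ c ∈ zpowers a, ∀ d ∈ zpowers a, c * d * c⁻¹ = d := by
    rintro _ ⟨i, rfl⟩ _ ⟨j, rfl⟩; simp only [← zpow_add, ← zpow_neg]; congr 1; ring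
  by_cases hy : y ∈ zpowers a
  · exact .inl (h y hy a (mem_zpowers a))
  · refine .inr (Eq.trans (by group) (h (y * b⁻¹) ((mul_mem_iff_of_index_two hi).2 (by simp [hy, hb]))
      _ (Normal.conj_mem inferInstance a (mem_zpowers a) b)))

omit [Finite G] in
theorem comm_of {a b : G} (hi : (zpowers a).index = 2) (hb : b ∉ zpowers a) (h : b * a * b⁻¹ = a) :
    IsMulCommutative G := by
  haveI := normal_of_index_eq_two hi
  haveI := isCyclic_of_prime_card (p := 2) hi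
  refine (QuotientGroup.mk' (zpowers a)).isMulCommutative_of_isCyclic_of_ker_le_center ?_
  rw [QuotientGroup.ker_mk', zpowers_le, mem_center_iff]
  exact fun y => mul_inv_eq_iff_eq_mul.1 ((conj_eq hi hb).elim id (·.trans h))

/-- Let G be a finite group with Sylow 2-subgroup P of order 2^n ≥ 8, and let ζ be a primitive 2^(n−1)-th root of unity in ℂ. Then the commutator subgroup of P has index 4 in P if and only if there is an element g of P whose conjugacy class in G has even size and such that the field generated over ℚ by the values at g of all irreducible complex characters of G equals ℚ(ζ + ζ⁻¹) or ℚ(ζ − ζ⁻¹). -/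
theorem result {G : Type*} [Group G] [Finite G] (P : Sylow 2 G) (n : ℕ) (hn : 3 ≤ n) (hP : Nat.card P = 2 ^ n) (ζ : ℂ) (hζ : IsPrimitiveRoot ζ (2 ^ (n - 1))) :
    (commutator ↥P).index = 4 ↔
      ∃ g : G, g ∈ (P : Subgroup G) ∧ 2 ∣ (Subgroup.centralizer ({g} : Set G)).index ∧
        (IntermediateField.adjoin ℚ {z : ℂ | ∃ χ : Cfsg.IrrCharacter G, (χ : G → ℂ) g = z} = IntermediateField.adjoin ℚ ({ζ + ζ⁻¹} : Set ℂ) ∨
          IntermediateField.adjoin ℚ {z : ℂ | ∃ χ : Cfsg.IrrCharacter G, (χ : G → ℂ) g = z} = IntermediateField.adjoin ℚ ({ζ - ζ⁻¹} : Set ℂ)) := by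
  obtain ⟨n, rfl⟩ : ∃ m, n = m + 3 := ⟨n - 3, by omega⟩
  rw [show n + 3 - 1 = n + 2 from rfl] at hζ
  have hN : 2 ^ (n + 2) ≠ 0 := by positivity
  have hp := P.isPGroup'
  have key : ∀ {a : G}, orderOf a = 2 ^ (n + 2) → ∀ i j, a ^ i = a ^ j ↔ ζ ^ i = ζ ^ j := fun h i j => by
    rw [pow_eq_pow_iff_modEq, (hζ.isOfFinOrder hN).pow_eq_pow_iff_modEq, h, ← hζ.eq_orderOf]
  have hz : ζ ^ 2 ^ (n + 1) = -1 := (hζ.pow (by positivity) (pow_succ _ _)).eq_neg_one_of_two_right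
  have hsub : ∀ ε : ℤ, ({ζ + ε * ζ⁻¹} : Set ℂ) ⊆ ℚ⟮ζ⟯ := fun ε => Set.singleton_subset_iff.2
    (add_mem (mem_adjoin_simple_self ℚ ζ) (mul_mem (intCast_mem _ ε) (inv_mem (mem_adjoin_simple_self ℚ ζ))))
  have hor : ∀ K, (K = adjoin ℚ ({ζ + ζ⁻¹} : Set ℂ) ∨ K = adjoin ℚ ({ζ - ζ⁻¹} : Set ℂ)) ↔
      ∃ ε : ℤ, (ε = 1 ∨ ε = -1) ∧ K = adjoin ℚ {ζ + ε * ζ⁻¹} := fun K => by simp [sub_eq_add_neg]
  simp only [hor]
  change (commutator (P : Subgroup G)).index = 4 ↔ _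
  constructor
  · intro h
    have hc : ¬ IsMulCommutative P := fun e => by
      rw [(commutator_eq_bot_iff _).2 e, index_bot, hP] at h
      have : 0 < 2 ^ n := by positivity
      rw [pow_add] at h
      omega
    obtain ⟨k, a, b, ha, hi, hb, hbb, h1, -⟩ := H6.dqs_data (H6.taussky hp h.le hc)
    obtain rfl : k = n := by
      have := (zpowers a).card_mul_index
      rw [Nat.card_zpowers, ha, hi, hP, ← pow_succ] at this
      simpa using this
    have ha' : orderOf (a : G) = 2 ^ (k + 2) := by rw [orderOf_coe, ha]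
    have h0 : (a : G) ^ 2 ^ (k + 2) = 1 := ha' ▸ pow_orderOf_eq_one _
    obtain ⟨s, hs⟩ := mem_powers_iff_mem_zpowers.2 h1
    have hs' : (b : G) * a * (b : G)⁻¹ * a = a ^ (2 ^ (k + 1) * s) := by
      rw [pow_mul]; exact congrArg Subtype.val hs.symm
    haveI := normal_of_index_eq_two hi
    have h2 : ∀ (j : ℕ) (u : ℂ ≃+* ℂ), (∀ z, z ^ 2 ^ (k + 2) = 1 → u z = z ^ j) → ((∀ t ∈ {z : ℂ |
        ∃ χ : IrrCharacter G, (χ : G → ℂ) a = z}, u t = t) ↔
        ∀ t ∈ ({ζ + ((-1) ^ s : ℤ) * ζ⁻¹} : Set ℂ), u t = t) := fun j u hu => by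
      rw [fix_iff hu h0, fix_iff' hu hN hζ.pow_eq_one, Int.cast_pow, Int.cast_neg, Int.cast_one, ← hz,
        ← pow_mul, ← key ha', ← key ha', ← hs', pow_one, pow_succ, mul_left_inj]
      refine ⟨fun ⟨x, hx⟩ => ?_, fun h => h.elim (fun e => ⟨1, by simp [e]⟩) fun e => ⟨b, e.symm⟩⟩
      have h3 : ∀ x : G, x * a * x⁻¹ ∈ zpowers (a : G) → x ∈ 𝒩(zpowers (a : G)) := fun x hx =>
        mem_normalizer_fintype (by rintro _ ⟨i, rfl⟩; rw [← conj_zpow]; exact zpow_mem hx i)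
      obtain ⟨y, hy, e⟩ := exists_conj P (zpowers_le.2 a.2) (fun y hy => h3 y (by
        obtain ⟨i, hi⟩ := Normal.conj_mem inferInstance a (mem_zpowers a) ⟨y, hy⟩
        exact ⟨i, congrArg Subtype.val hi⟩)) (h3 x (hx ▸ pow_mem (mem_zpowers _) j)) (mem_zpowers _)
      rw [← hx, ← e]
      exact (conj_eq (y := ⟨y, hy⟩) hi hb).imp (congrArg Subtype.val) (congrArg Subtype.val)
    refine ⟨a, a.2, ?_, (-1) ^ s, neg_one_pow_eq_or ℤ s, le_antisymm
      (adjoin_le hN hζ (hsub _) (sub_adj hN hζ h0) fun j u hu => (h2 j u hu).2)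
      (adjoin_le hN hζ (sub_adj hN hζ h0) (hsub _) fun j u hu => (h2 j u hu).1)⟩
    have h3 : zpowers (a : G) ≤ centralizer {(a : G)} := zpowers_le.2 (mem_centralizer_singleton_iff.2 rfl)
    refine (H9.relIndex_sup_zpowers (x := (b : G)) Nat.prime_two (mem_normalizer_fintype fun c hc => ?_)
      (fun e => hc (comm_of hi hb (Subtype.ext (mul_inv_eq_iff_eq_mul.2
        (mem_centralizer_singleton_iff.1 e))))) (h3 ?_)).symm.dvd.trans (relIndex_dvd_index_of_le le_sup_left)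
    · obtain ⟨i, hi⟩ := Normal.conj_mem' inferInstance a (mem_zpowers a) b
      have h4 : (a : G) ^ i = (b : G)⁻¹ * a * b := congrArg Subtype.val hi
      have h5 := (Commute.zpow_right (mem_centralizer_singleton_iff.1 hc) i).eq
      rw [h4] at h5
      refine mem_centralizer_singleton_iff.2 ?_
      calc _ = b * (c * ((b : G)⁻¹ * a * b)) * (b : G)⁻¹ := by group
        _ = _ := by rw [h5]; group
    · obtain ⟨i, hi⟩ := zpowers_le.2 (pow_mem (mem_zpowers a) _) hbb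
      exact ⟨i, (congrArg Subtype.val hi).trans (sq (b : G)).symm⟩
  · rintro ⟨g, hg, h1, ε, hε, h2⟩
    have hc : ¬ IsMulCommutative P := fun e => P.not_dvd_index (h1.trans (index_dvd_of_le
      fun y hy => mem_centralizer_singleton_iff.2 (congrArg Subtype.val (e.is_comm.comm ⟨y, hy⟩ ⟨g, hg⟩))))
    have h3 := four_dvd_index_comm hp (by rw [hP]; exact ⟨2 ^ (n + 1), by ring⟩)
    refine le_antisymm ?_ (Nat.le_of_dvd (Nat.pos_of_ne_zero index_ne_zero_of_finite) h3)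
    have h4 := (commutator (P : Subgroup G)).card_mul_index
    rw [hP] at h4
    obtain rfl | h0 := Nat.eq_zero_or_pos n
    · have := (one_lt_card_iff_ne_bot _).2 (mt (commutator_eq_bot_iff _).1 hc)
      have := (Nat.mul_le_mul_right _ this).trans h4.le
      omega
    have h5 : ∀ k, k.Coprime 2 → g ^ 2 ^ (n + 2) = 1 → (∃ x, x * g * x⁻¹ = g ^ k) → ζ ^ k = ζ ^ 1 ∨
        2 ^ (n + 2) ∣ (k + 1) * 2 := fun k hk h6 h7 => by
      obtain ⟨u, hu, -⟩ := exists_aut_pow_fix hN (hk.pow_right _) one_ne_zero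
      refine ((fix_iff' hu hN hζ.pow_eq_one ε).1 fun t ht => fix_adjoin u ((fix_iff hu h6).2 h7)
        (h2.ge (subset_adjoin ℚ _ ht))).imp_right fun e => hζ.dvd_of_pow_eq_one _ ?_
      rcases hε with rfl | rfl <;> simp [pow_mul, e]
    obtain ⟨n, rfl⟩ : ∃ m, n = m + 1 := ⟨n - 1, by omega⟩
    have h6 : ¬ g ^ 2 ^ (n + 2) = 1 := fun e => by
      rcases h5 (2 ^ (n + 2) + 1) (by simp [pow_succ, Nat.coprime_comm])
        (by rw [pow_succ, pow_mul, e, one_pow]) ⟨1, by simp [pow_succ g, e]⟩ with h | h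
      · rw [pow_succ, hz, pow_one, neg_one_mul, neg_eq_self] at h
        exact hζ.ne_zero hN h
      · have := Dvd.dvd.trans ⟨2 ^ n, by ring⟩ h (a := 8)
        have h8 : 8 ∣ 2 ^ (n + 2) * 2 := ⟨2 ^ n, by ring⟩
        omega
    set a : (P : Subgroup G) := ⟨g, hg⟩
    have h7 : orderOf a = 2 ^ (n + 3) := by
      obtain ⟨j, h7, h8⟩ := (Nat.dvd_prime_pow Nat.prime_two).1 (hP ▸ orderOf_dvd_natCard a)
      rw [h8, le_antisymm (Nat.le_of_lt_succ (h7.lt_of_ne fun e => hc ?_)) (by_contra fun e => h6 ?_ :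
        n + 3 ≤ j)]
      · haveI := isCyclic_of_orderOf_eq_card a (by rw [h8, hP, e])
        infer_instance
      · exact orderOf_dvd_iff_pow_eq_one.1 (((orderOf_coe a).trans h8).symm ▸ pow_dvd_pow 2 (by omega))
    have hi : (zpowers a).index = 2 := by
      have := (zpowers a).card_mul_index
      rwa [Nat.card_zpowers, h7, hP, show n + 1 + 3 = n + 3 + 1 from rfl, pow_succ _ (n + 3),
        mul_right_inj' (by positivity)] at this
    haveI := normal_of_index_eq_two hi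
    obtain ⟨b, -, hb⟩ := SetLike.exists_of_lt (lt_top_iff_ne_top.2 fun e => by simp [e] at hi :
      zpowers a < ⊤)
    obtain ⟨r, hr⟩ := mem_powers_iff_mem_zpowers.2 (Normal.conj_mem inferInstance a (mem_zpowers a) b)
    replace hr : a ^ r = b * a * b⁻¹ := hr
    have h8 : r.Coprime 2 := by
      have : orderOf (a ^ r) = orderOf a := by rw [hr]; exact (MulAut.conj b).orderOf_eq a
      rw [← (Nat.coprime_pow_right_iff (n := n + 3) (by omega)), ← h7, Nat.coprime_comm]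
      exact (Nat.div_eq_self.1 ((orderOf_pow a).symm.trans this)).resolve_left (orderOf_pos a).ne'
    have h9 : orderOf g = 2 ^ (n + 3) := (orderOf_coe a).trans h7
    rcases h5 r h8 (h9 ▸ pow_orderOf_eq_one g) ⟨b, congrArg Subtype.val hr.symm⟩ with h | h
    · exact absurd (comm_of hi hb (Subtype.ext ((congrArg Subtype.val hr.symm).trans
        (((key h9 _ _).2 h).trans (pow_one g))))) hc
    obtain ⟨s, rfl⟩ : ∃ s, r = 2 * (2 * s + 1) + 1 := by
      have := Dvd.dvd.trans ⟨2 ^ n, by ring⟩ h (a := 8)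
      exact ⟨r / 4, by omega⟩
    have h10 : a ^ 2 ∈ commutator (P : Subgroup G) := H9.mem_of_pow_mem_of_coprime (m := 2 * s + 1)
      (n := 2 ^ (n + 3)) (by
        rw [← pow_mul, eq_mul_inv_of_mul_eq ((pow_succ a _).symm.trans hr)]
        exact commutator_mem_commutator trivial trivial) (by
        rw [← pow_mul', pow_mul, ← h7, pow_orderOf_eq_one, one_pow]; exact one_mem _)
      (by simp [Nat.coprime_comm])
    have h11 := card_le_of_le (zpowers_le.2 h10)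
    rw [Nat.card_zpowers, orderOf_pow, h7, Nat.gcd_eq_right (dvd_pow_self 2 (by omega)), pow_succ,
      Nat.mul_div_cancel _ two_pos] at h11
    refine Nat.le_of_mul_le_mul_left ?_ (show 0 < 2 ^ (n + 2) by positivity)
    exact (Nat.mul_le_mul_right _ h11).trans (h4.trans (by ring)).le

end Cfsg.Agent.S4923
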