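import Cfsg.Statements.S2202
import Cfsg.Agent.H18.SC4
import Cfsg.Agent.H18.SC5
import Cfsg.Agent.S1221
import Cfsg.Agent.H8.CT
import Cfsg.Agent.H16.QNil
import Cfsg.Agent.H9.NormalCyc

set_option autoImplicit false
open Cfsg

namespace Cfsg.Agent.S2202

open Subgroup H18 H10

theorem inv_pow {G : Type*} [Group G] [Finite G] {P : Subgroup G} (hP : IsPGroup 2 P) {a : G}
    (ha : a ∈ P) (h1 : a ≠ 1) : ∃ u ∈ zpowers a, orderOf u = 2 :=
  exists_orderOf_eq_of_ne_bot (hP.to_le (zpowers_le.2 ha)) (zpowers_ne_bot.2 h1)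

theorem final {G : Type*} [Group G] [Finite G] (O : Subgroup G) [O.Normal] (hO : Odd (Nat.card O))
    (hc : O ≤ center G) {F : Type} [Field F] [Fintype F] {n : ℕ} (hn : 2 ≤ n)
    (hF : Fintype.card F = 2 ^ n) (e : G ⧸ O ≃* Matrix.ProjectiveSpecialLinearGroup (Fin 2) F) :
    ∃ (F : Type) (_ : Field F) (_ : Fintype F) (A : Type) (_ : CommGroup A) (_ : Finite A),
      CharP F 2 ∧ Odd (Nat.card A) ∧ Nonempty (G ≃* Matrix.SpecialLinearGroup (Fin 2) F × A) := by
  have h4 := H1.CIT.four_le_pow hn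
  have := H22.PSL_fin_isSimpleGroup (F := F) 2 le_rfl fun _ => hF ▸ h4
  have hs : IsSimpleGroup (G ⧸ O) := e.isSimpleGroup
  have : CharP F 2 := charP_of_card_eq_prime_pow hF
  obtain ⟨e'⟩ := H8.psl_equiv_sl (F := F) (CharP.cast_eq_zero F 2)
  have h1 : ¬ commutator G ≤ O := fun h => by
    have h2 : IsMulCommutative (G ⧸ O) := Normal.quotient_commutative_iff_commutator_le.2 h
    have h3 : (Nat.card (G ⧸ O)).Prime := by
      open scoped IsMulCommutative in exact IsSimpleGroup.prime_card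
    have h5 := H4.card_psl (F := F)
    rw [← Nat.card_congr e.toEquiv, hF] at h5
    have h6 : Nat.gcd 2 (2 ^ n - 1) = 1 := by
      obtain ⟨k, rfl⟩ : ∃ k, n = k + 1 := ⟨n - 1, by omega⟩
      rw [Nat.coprime_iff_gcd_eq_one.symm, Nat.coprime_two_left, Nat.odd_iff]; omega
    rw [h6, one_mul] at h5
    rw [h5] at h3
    refine Nat.not_prime_mul (by omega) ?_ h3
    have : 4 * 4 ≤ (2 ^ n) ^ 2 := by rw [sq]; exact Nat.mul_le_mul h4 h4
    omega
  obtain ⟨y, hy, hy'⟩ := SetLike.not_le_iff_exists.1 h1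
  have h2 := sc_top_of_simple (N := O) (K := commutator G ⊔ O) inferInstance le_sup_right
    (mem_sup_left hy) hy'
  have h3 : commutator G ⊓ O = ⊥ := by
    by_contra h3
    obtain ⟨p, hp, hp'⟩ := H16.exists_prime_dvd h3
    have := Fact.mk hp
    obtain ⟨x, hx, ox⟩ := exists_orderOf_eq_of_dvd hp'
    have p2 : p ≠ 2 := by
      rintro rfl
      exact (Nat.not_even_iff_odd.2 hO) (even_iff_two_dvd.2 (hp'.trans (card_dvd_of_le inf_le_right)))
    obtain ⟨R, hR⟩ := (isPGroup_zpowers_of_orderOf_eq ox).exists_le_sylow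
    let f : R →* Matrix.ProjectiveSpecialLinearGroup (Fin 2) F :=
      e.toMonoidHom.comp ((QuotientGroup.mk' O).comp (R : Subgroup G).subtype)
    have hcyc : IsCyclic f.range := H1.CIT.cycS_psl p2 (fun h => p2
      ((Nat.prime_dvd_prime_iff_eq hp Nat.prime_two).1 (hp.dvd_of_dvd_pow (hF ▸ h)))) _
      (R.isPGroup'.of_surjective _ f.rangeRestrict_surjective)
    have : IsMulCommutative (R : Subgroup G) :=
      f.rangeRestrict.isMulCommutative_of_isCyclic_of_ker_le_center fun r hr => by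
        have h5 : (r : G) ∈ O := (QuotientGroup.eq_one_iff _).1
          (e.map_eq_one_iff.1 (congrArg Subtype.val (MonoidHom.mem_ker.1 hr)))
        exact mem_center_iff.2 fun g => Subtype.ext (mem_center_iff.1 (hc h5) g)
    have := H3.eq_one_of_mem_abelian_hall R.card_coprime_index (hR (mem_zpowers x)) hx.1 (hc hx.2)
    rw [this, orderOf_one] at ox
    exact hp.one_lt.ne ox
  have h5 : ∀ g : G, ∃ c ∈ commutator G, ∃ o ∈ O, c * o = g := fun g =>
    mem_sup_of_normal_right.1 (h2.ge (mem_top g))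
  let φ : G →* Matrix.SpecialLinearGroup (Fin 2) F × Abelianization G :=
    ((e.trans e').toMonoidHom.comp (QuotientGroup.mk' O)).prod Abelianization.of
  have b1 : ∀ o ∈ O, (QuotientGroup.mk o : G ⧸ O) = 1 := fun o => (QuotientGroup.eq_one_iff o).2
  have b2 : ∀ c ∈ commutator G, Abelianization.of c = 1 := fun c hc => by
    rwa [← MonoidHom.mem_ker, Abelianization.ker_of]
  have h6 : Function.Bijective φ := by
    refine ⟨(injective_iff_map_eq_one φ).2 fun g hg => mem_bot.1 (h3 ▸ mem_inf.2 ⟨?_, ?_⟩), ?_⟩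
    · rw [← Abelianization.ker_of]; exact congrArg Prod.snd hg
    · simpa [φ] using congrArg Prod.fst hg
    · rintro ⟨u, v⟩
      obtain ⟨u, rfl⟩ := (e.trans e').surjective u
      obtain ⟨u, rfl⟩ := QuotientGroup.mk_surjective u
      obtain ⟨v, rfl⟩ := QuotientGroup.mk_surjective v
      obtain ⟨c, hc, o, ho, rfl⟩ := h5 u
      obtain ⟨c', hc', o', ho', rfl⟩ := h5 v
      refine ⟨c * o', Prod.ext (by simp [φ, b1 o ho, b1 o' ho']) ?_⟩
      change Abelianization.of (c * o') = Abelianization.of (c' * o')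
      rw [map_mul, map_mul, b2 c hc, b2 c' hc']
  refine ⟨F, inferInstance, inferInstance, Shrink.{0} (Abelianization G), inferInstance,
    inferInstance, this, ?_, ⟨(MulEquiv.ofBijective φ h6).trans
      (MulEquiv.prodCongr (MulEquiv.refl _) Shrink.mulEquiv.symm)⟩⟩
  rw [Nat.card_congr (equivShrink _).symm]
  refine hO.of_dvd_nat (card_dvd_of_surjective (Abelianization.of.comp O.subtype) fun v => ?_)
  obtain ⟨v, rfl⟩ := QuotientGroup.mk_surjective v
  obtain ⟨c, hc, o, ho, rfl⟩ := h5 v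
  refine ⟨⟨o, ho⟩, ?_⟩
  change Abelianization.of o = Abelianization.of (c * o)
  rw [map_mul, b2 c hc, one_mul]

/-- Finite groups in which the centralizer of every involution is abelian. Let G be a finite group of even order in which the centralizer of every element of order 2 is abelian. Then the Sylow 2-subgroups of G are cyclic, or a Sylow 2-subgroup of G is normal, or G is isomorphic to the direct product of SL₂(F) for a finite field F of characteristic two and an abelian group of odd order. -/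
theorem result {G : Type*} [Group G] [Finite G] (heven : Even (Nat.card G)) (h : ∀ t : G, orderOf t = 2 → IsMulCommutative ↥(Subgroup.centralizer ({t} : Set G))) :
    (∀ P : Sylow 2 G, IsCyclic ↥P) ∨ (∀ P : Sylow 2 G, (P : Subgroup G).Normal) ∨
    (∃ (F : Type) (_ : Field F) (_ : Fintype F) (A : Type) (_ : CommGroup A) (_ : Finite A), CharP F 2 ∧ Odd (Nat.card A) ∧ Nonempty (G ≃* Matrix.SpecialLinearGroup (Fin 2) F × A)) := by
  by_cases h1 : ∀ P : Sylow 2 G, IsCyclic P
  · exact Or.inl h1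
  by_cases h2 : ∀ P : Sylow 2 G, (P : Subgroup G).Normal
  · exact Or.inr (Or.inl h2)
  push Not at h1 h2
  obtain ⟨P₀, h1⟩ := h1
  obtain ⟨P₁, h2⟩ := h2
  replace h1 : ¬ IsCyclic P₁ := fun e =>
    h1 (isCyclic_of_surjective (P₁.equiv P₀) (P₁.equiv P₀).surjective)
  have hS := isSylowIn_top P₁
  generalize (P₁ : Subgroup G) = P at h1 h2 hS
  have cm : ∀ t : G, orderOf t = 2 → ∀ a b : G, a * t = t * a → b * t = t * b → a * b = b * a :=
    fun t ht a b ha hb => congrArg Subtype.val ((h t ht).is_comm.comm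
      (⟨a, mem_centralizer_singleton_iff.2 ha⟩ : centralizer ({t} : Set G))
      ⟨b, mem_centralizer_singleton_iff.2 hb⟩)
  have ab : ∀ {Q : Subgroup G}, IsPGroup 2 Q → ∀ a ∈ Q, ∀ b ∈ Q, a * b = b * a := fun {Q} hQ a ha b hb => by
    by_cases e : Q = ⊥
    · rw [show a = 1 from mem_bot.1 (e ▸ ha), one_mul, mul_one]
    obtain ⟨z, -, oz, hz⟩ := sc_central hQ e
    exact cm z oz a b (hz a ha) (hz b hb)
  have hC : ∀ t ∈ P, orderOf t = 2 → ∀ c, c * t = t * c → c ∈ centralizer (P : Set G) :=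
    fun t ht ot c hc a ha => cm t ot a c (ab hS.isPGroup a ha t ht) hc
  have hC' : ∀ a ∈ P, a ≠ 1 → ∀ c, c * a = a * c → c ∈ centralizer (P : Set G) := by
    intro a ha a1 c hc
    obtain ⟨u, ⟨i, rfl⟩, ou⟩ := inv_pow hS.isPGroup ha a1
    exact hC _ (zpow_mem ha i) ou c (Commute.zpow_right hc i).eq
  have hin : ∀ {Q : Subgroup G}, IsSylowIn 2 Q ⊤ → ∀ u ∈ normalizer (Q : Set G), orderOf u = 2 →
      u ∈ Q := fun hQ u hu ou => hQ.le_of_le_NN (isPGroup_zpowers_of_orderOf_eq ou) le_top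
    (zpowers_le.2 hu) (mem_zpowers u)
  have hPb : P ≠ ⊥ := hS.ne_bot (by rw [card_top]; exact even_iff_two_dvd.1 heven)
  have hSE : IsStronglyEmbedded (normalizer (P : Set G)) := by
    refine ⟨fun e => h2 (normalizer_eq_top_iff.1 e), even_iff_two_dvd.2
      (dvd_card_of_le hS.isPGroup hPb le_normalizer), fun g hg => ?_⟩
    rw [← Nat.not_even_iff_odd, even_iff_two_dvd]
    intro e
    obtain ⟨u, hu, ou⟩ := exists_orderOf_eq_of_dvd e
    rw [cj_def, cj_normalizer] at hu
    have a1 := hin (hS.cj_top g) u hu.2 ou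
    exact hg (mem_NN_of_cj_le (hS.le_of_le_NN (hS.cj_top g).isPGroup le_top fun y hy =>
      CC_le_NN _ (hC u (hin hS u hu.1 ou) ou y (ab (hS.cj_top g).isPGroup y hy u a1))))
  have hO : Odd (Nat.card (pPrimeCore 2 G)) := H1.CIT.odd_O
  have hPc : IsMulCommutative P := ⟨⟨fun a b => Subtype.ext (ab hS.isPGroup a a.2 b b.2)⟩⟩
  have hOC : pPrimeCore 2 G ≤ centralizer (P : Set G) := by
    refine H16.cop_gen_cent1 hPc h1 (le_NN_of_normal _ _) ?_ fun a ha a1 c hc =>
      hC' a ha a1 c (mem_centralizer_singleton_iff.1 hc.2)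
    obtain ⟨k, hk⟩ := hS.isPGroup.exists_card_eq
    rw [hk]
    exact (Nat.coprime_two_left.2 hO).pow_left k
  obtain ⟨z, hz, oz, -⟩ := sc_central hS.isPGroup hPb
  have cC : ∀ a ∈ centralizer (P : Set G), ∀ b ∈ centralizer (P : Set G), a * b = b * a :=
    fun a ha b hb => cm z oz a b (ha z hz).symm (hb z hz).symm
  have hodd : ∀ y ∈ centralizer (P : Set G), Odd (orderOf y) → y ∈ pPrimeCore 2 G := by
    intro y hy oy
    let A := (pPrimeCore 2 (centralizer (P : Set G))).map (centralizer (P : Set G)).subtype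
    have a1 : y ∈ A := by
      have : (zpowers (⟨y, hy⟩ : centralizer (P : Set G))).Normal := ⟨fun n hn g => by
        rwa [show g * n = n * g from Subtype.ext (cC _ g.2 _ n.2), mul_inv_cancel_right]⟩
      exact ⟨⟨y, hy⟩, H1.le_pPrimeCore (by
        rwa [Nat.card_zpowers, ← Subgroup.orderOf_coe, Nat.coprime_two_right]) (mem_zpowers _), rfl⟩
    have a2 : A ≤ normalizer (P : Set G) := (map_subtype_le _).trans (CC_le_NN _)
    have := normal_subgroupOf ((NN_le_NN_CC P).trans (NN_le_NN_map_subtype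
      (pPrimeCore 2 (centralizer (P : Set G)))))
    refine S1221.result _ hSE ⟨⟨y, a2 a1⟩, H1.le_pPrimeCore (N := A.subgroupOf _) ?_ a1, rfl⟩
    rw [card_subgroupOf_of_le a2, card_map_subtype]
    exact H1.coprime_card_pPrimeCore 2
  let π := QuotientGroup.mk' (pPrimeCore 2 G)
  have hπ : ∀ a ∈ P, π a = 1 → a = 1 := fun a ha e => H1.CIT.eq_one_of_pg hS.isPGroup ha
    (hO.of_dvd_nat ((pPrimeCore 2 G).orderOf_dvd_natCard ((QuotientGroup.eq_one_iff a).1 e)))
  have hS' := hS.map_top (QuotientGroup.mk'_surjective (pPrimeCore 2 G))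
  have hcj : ∀ a ∈ P, ∀ b ∈ P, ∀ g : G, π (g * a * g⁻¹) = π b → g * a * g⁻¹ = b := by
    intro a ha b hb g e
    have a1 : b⁻¹ * (g * a * g⁻¹) ∈ pPrimeCore 2 G := QuotientGroup.eq.1 e.symm
    obtain ⟨k, hk⟩ := isPGroup_iff_mem.1 hS.isPGroup a ha
    obtain ⟨l, hl⟩ := isPGroup_iff_mem.1 hS.isPGroup b hb
    have a2 : Commute b (b⁻¹ * (g * a * g⁻¹)) := hOC a1 b hb
    have a3 := a2.mul_pow (2 ^ (k + l))
    rw [mul_inv_cancel_left, conj_pow, pow_add, pow_mul a, hk, mul_comm (2 ^ k), pow_mul b, hl,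
      one_pow, one_pow, mul_one, mul_inv_cancel, one_mul, ← pow_add] at a3
    exact (inv_mul_eq_one.1 (H6.eq_one_of_odd_of_two_pow
      (hO.of_dvd_nat ((pPrimeCore 2 G).orderOf_dvd_natCard a1)) a3.symm)).symm
  have hord : ∀ a ∈ P, orderOf a = 2 → orderOf (π a) = 2 := fun a ha oa =>
    orderOf_eq_prime (by rw [← map_pow, sq, sc_ord2 oa, map_one]) fun e => by
      rw [hπ a ha e] at oa; simp at oa
  have hcch : H8.CCH (P.map π) := by
    refine ⟨⟨π z, ⟨z, hz, rfl⟩, fun e => by rw [hπ z hz e] at oz; simp at oz, ?_⟩, ?_, fun e => h2 ⟨?_⟩, ?_⟩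
    · rintro _ ⟨a, ha, rfl⟩
      exact Commute.map (ab hS.isPGroup a ha z hz) π
    · rintro _ ⟨a, ha, rfl⟩ a1 c hc
      obtain ⟨c, rfl⟩ := QuotientGroup.mk'_surjective _ c
      have a2 := hC' a ha (fun e => a1 (by rw [e, map_one])) c (mul_inv_eq_iff_eq_mul.1
        (hcj a ha a ha c (by rw [map_mul, map_mul, map_inv, hc.eq, mul_inv_cancel_right])))
      obtain ⟨k, m, hm, e⟩ := Nat.exists_eq_two_pow_mul_odd (orderOf_pos c).ne'
      have a3 := hodd _ (pow_mem a2 (2 ^ k)) (hm.of_dvd_nat (orderOf_dvd_of_pow_eq_one (by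
        rw [← pow_mul, ← e, pow_orderOf_eq_one])))
      refine hS'.le_of_le_NN (isPGroup_zpowers (k := k) ?_) le_top
        (zpowers_le.2 (map_NN_le π P ⟨c, CC_le_NN _ a2, rfl⟩)) (mem_zpowers _)
      rw [← map_pow]
      exact (QuotientGroup.eq_one_iff _).2 a3
    · intro a ha g
      obtain ⟨b, hb, e'⟩ := e.conj_mem _ ⟨a, ha, rfl⟩ (π g)
      rwa [hcj a ha b hb g (by rw [e', map_mul, map_mul, map_inv])]
    · by_contra h3
      push Not at h3
      have := H9.isCyclic_of_abelian_unique hS.isPGroup (A := ⊤) inferInstance fun x _ y _ ox oy => by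
        by_cases e : y = 1
        · rw [e]; exact one_mem _
        have oy' : orderOf (y : G) = 2 := by rw [Subgroup.orderOf_coe]; exact orderOf_eq_prime oy e
        have ox' : orderOf (x : G) = 2 := by rwa [Subgroup.orderOf_coe]
        have := h3 _ ⟨_, y.2, rfl⟩ _ ⟨_, x.2, rfl⟩ (hord _ y.2 oy') (hord _ x.2 ox')
        rw [show y = x from Subtype.ext (by simpa using hcj _ y.2 _ x.2 1 (by simpa using this))]
        exact mem_zpowers x
      exact h1 (isCyclic_of_surjective topEquiv topEquiv.surjective)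
  obtain ⟨F, i1, i2, n, a1, a2, -, ⟨e⟩⟩ := hcch.iso_psl inferInstance
  have := H22.PSL_fin_isSimpleGroup (F := F) 2 le_rfl fun _ => a2 ▸ H1.CIT.four_le_pow a1
  have hs : IsSimpleGroup (G ⧸ pPrimeCore 2 G) := e.isSimpleGroup
  have h3 := sc_top_of_simple (N := pPrimeCore 2 G) (K := centralizer (pPrimeCore 2 G : Set G))
    inferInstance (fun a ha b hb => cC b (hOC hb) a (hOC ha)) (y := z) (le_CC_symm hOC hz) fun e => by
      have := hO.of_dvd_nat ((pPrimeCore 2 G).orderOf_dvd_natCard e)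
      rw [oz] at this
      exact absurd this (by decide)
  exact Or.inr (Or.inr (final _ hO (fun a ha => mem_center_iff.2 fun g =>
    (h3.ge (mem_top g) a ha).symm) a1 a2 e))

end Cfsg.Agent.S2202
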