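import Cfsg.Statements.S0160
import Cfsg.Agent.H17.Square

set_option autoImplicit false
open Cfsg

namespace Cfsg.Agent.S0160

open H17 Cfsg


/-- A finite group has as many real-valued irreducible complex characters as conjugacy classes closed under taking inverses. -/
theorem result {G : Type*} [Group G] [Finite G] : Nat.card {χ : Cfsg.IrrCharacter G // ∀ g : G, ((χ : G → ℂ) g).im = 0} = Nat.card {C : ConjClasses G // ∀ g : G, ConjClasses.mk g = C → IsConj g g⁻¹} := by
  rw [← card_fixed_irr_eq (fun g : G => g⁻¹) (fun _ h => h.comp_inv)]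
  · refine Nat.card_congr (Equiv.subtypeEquivRight fun χ => ?_)
    rw [← conj_eq_self_iff_im]
    simp only [χ.2.isCharacter.conj_apply]
  · intro g
    refine ⟨fun h => (h g rfl).symm, fun h x hx => ?_⟩
    obtain ⟨c, rfl⟩ := isConj_iff.1 (ConjClasses.mk_eq_mk_iff_isConj.1 hx.symm)
    obtain ⟨d, hd⟩ := isConj_iff.1 h.symm
    refine isConj_iff.2 ⟨c * d * c⁻¹, ?_⟩
    calc c * d * c⁻¹ * (c * g * c⁻¹) * (c * d * c⁻¹)⁻¹ = c * (d * g * d⁻¹) * c⁻¹ := by group
      _ = (c * g * c⁻¹)⁻¹ := by rw [hd]; group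

end Cfsg.Agent.S0160
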