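import Cfsg.Statements.S0081
import Cfsg.Agent.H3.Tate

set_option autoImplicit false
open Cfsg

namespace Cfsg.Agent.S0081

/-- If a normal subgroup meets a Sylow p-subgroup P inside the Frattini subgroup of P, then it has a normal p-complement. -/
theorem result {G : Type*} [Group G] [Finite G] {p : ℕ} [Fact p.Prime] (P : Sylow p G) (N : Subgroup G) [N.Normal] (h : N ⊓ (P : Subgroup G) ≤ (frattini P).map (P : Subgroup G).subtype) : Cfsg.HasNormalPComplement p N := by
  open Subgroup H3 in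
  have hP : (P : Subgroup G) ≤ N ⊔ P := le_sup_right
  refine hasNormalPComplement_of_le (le_sup_left : N ≤ N ⊔ P)
    (hasNormalPComplement_of_le_frattini (P.subtype hP) ?_)
  have h1 : Cfsg.pResidual p (N ⊔ P : Subgroup G) ≤ N.subgroupOf (N ⊔ P) := by
    have h2 : N.subgroupOf (N ⊔ P) ⊔ (P.subtype hP : Subgroup (N ⊔ P : Subgroup G)) = ⊤ := by
      rw [Sylow.coe_subtype, ← subgroupOf_sup le_sup_left hP, subgroupOf_self]
    refine pResidual_le_of_isPGroup_quotient ?_
    have h3 := (P.subtype hP).2.map (QuotientGroup.mk' (N.subgroupOf (N ⊔ P)))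
    rw [map_mk'_eq_top_of_sup_eq_top h2] at h3
    exact h3.of_equiv topEquiv
  intro x hx
  obtain ⟨y, hy, hyx⟩ := h ⟨h1 hx.2, hx.1⟩
  have h4 := H1.map_frattini_equiv (subgroupOfEquivOfLe hP).symm
  refine ⟨(subgroupOfEquivOfLe hP).symm y, ?_, Subtype.ext hyx⟩
  change _ ∈ frattini ((P : Subgroup G).subgroupOf (N ⊔ P))
  rw [← h4]
  exact mem_map_of_mem _ hy

end Cfsg.Agent.S0081
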