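import Cfsg.Statements.S2378
import Cfsg.Agent.H24.Syl

set_option autoImplicit false
set_option maxHeartbeats 400000
open Cfsg

namespace Cfsg.Agent.S2378

open H24

def homsG2 : List HomData := [
  (1, 2, [], [7, 6],
    [[1, 0], [0, 1]], [[1, 0], [0, 1]]),
  (2, 2, [1, 0, 1, 0, 1, 0], [4, 5],
    [[1, 0], [0, 1]], [[1, 0], [0, 1]]),
  (3, 1, [0, 1, 0, 1], [8, 0],
    [[-1, -1], [0, 1]], [[-1, 0]]),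
  (6, 1, [0, 1], [9, 1],
    [[-1, -2], [0, 1]], [[-1, 0]])]

def homsB2 : List HomData := [
  (1, 2, [], [5, 4],
    [[1, 0], [0, 1]], [[1, 0], [0, 1]]),
  (2, 2, [1, 0, 1, 0], [2, 3],
    [[1, 0], [0, 1]], [[1, 0], [0, 1]]),
  (4, 1, [0, 1], [6, 0],
    [[-1, -1], [0, 1]], [[-1, 0]])]

def homsD4 : List HomData := [
  (1, 4, [], [18, 14, 13, 12],
    [[1, 0, 0, 0], [0, 1, 0, 0], [0, 0, 1, 0], [0, 0, 0, 1]], [[1, 0, 0, 0], [0, 1, 0, 0], [0, 0, 1, 0], [0, 0, 0, 1]]),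
  (2, 4, [3, 1, 2, 0, 1, 3, 0, 1, 2, 0, 1, 0], [5, 9, 10, 11],
    [[1, 0, 0, 0], [0, 1, 0, 0], [0, 0, 1, 0], [0, 0, 0, 1]], [[1, 0, 0, 0], [0, 1, 0, 0], [0, 0, 1, 0], [0, 0, 0, 1]]),
  (3, 1, [2, 1], [21, 7, 14, 17],
    [[0, 0, 1, 0], [0, -1, 0, 0]], [[0, 0, 1, 0]]),
  (4, 2, [1, 2, 0, 1, 3, 2], [13, 20, 5, 0],
    [[0, 0, 1, 0], [1, 0, 0, 0], [1, 1, 0, 1], [0, 1, 0, 0]], [[0, 0, 1, 0], [0, 0, 0, 1]]),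
  (6, 1, [0, 1, 3, 2], [14, 22, 2, 3],
    [[0, 1, 1, 1], [1, 1, 0, 0]], [[-1, 1, 0, 0]])]

def homsF4 : List HomData := [
  (1, 4, [], [33, 27, 25, 24],
    [[1, 0, 0, 0], [0, 1, 0, 0], [0, 0, 1, 0], [0, 0, 0, 1]], [[1, 0, 0, 0], [0, 1, 0, 0], [0, 0, 1, 0], [0, 0, 0, 1]]),
  (2, 4, [3, 2, 1, 2, 0, 1, 2, 3, 2, 1, 2, 0, 1, 2, 3, 2, 1, 2, 0, 1, 2, 0, 1, 0], [14, 20, 22, 23],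
    [[1, 0, 0, 0], [0, 1, 0, 0], [0, 0, 1, 0], [0, 0, 0, 1]], [[1, 0, 0, 0], [0, 1, 0, 0], [0, 0, 1, 0], [0, 0, 0, 1]]),
  (3, 2, [1, 2, 0, 1, 2, 3, 2, 1, 2, 0, 1, 2, 3, 0, 1, 2], [28, 36, 4, 16],
    [[0, -1, -1, 0], [0, 0, 0, 1], [1, 0, 0, 1], [0, 0, -1, 1]], [[0, -1, 0, 0], [1, 0, 0, 0]]),
  (4, 2, [0, 1, 2, 3, 1, 2, 0, 1, 2, 3, 1, 2], [38, 28, 17, 4],
    [[0, -1, -1, 0], [0, 0, 1, 0], [1, 0, 0, 1], [0, -1, 0, -1]], [[-1, -1, 0, 1], [1, 0, 0, 0]]),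
  (6, 2, [1, 2, 0, 1, 2, 3, 1, 2], [35, 38, 5, 17],
    [[-1, 0, -1, 0], [0, 0, 1, -1], [0, -1, -1, -1], [0, 0, 0, 1]], [[-1, 0, 0, 0], [0, -1, 0, 0]]),
  (8, 1, [2, 3, 0, 1, 2, 1], [39, 11, 24, 41],
    [[0, -1, -2, -1], [-1, -1, -1, 0], [0, 0, 0, -1], [0, 0, -1, 0]], [[1, -1, 0, 0]]),
  (12, 1, [0, 1, 2, 3], [27, 35, 24, 5],
    [[0, 0, 0, -1], [0, 0, -1, 0], [0, -1, -1, 0], [-1, -1, -1, -1]], [[1, 0, 0, -1]])]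

def homsE6 : List HomData := [
  (1, 6, [], [56, 46, 42, 39, 37, 36],
    [[1, 0, 0, 0, 0, 0], [0, 1, 0, 0, 0, 0], [0, 0, 1, 0, 0, 0], [0, 0, 0, 1, 0, 0], [0, 0, 0, 0, 1, 0], [0, 0, 0, 0, 0, 1]], [[1, 0, 0, 0, 0, 0], [0, 1, 0, 0, 0, 0], [0, 0, 1, 0, 0, 0], [0, 0, 0, 1, 0, 0], [0, 0, 0, 0, 1, 0], [0, 0, 0, 0, 0, 1]]),
  (2, 4, [4, 3, 2, 1, 3, 4, 3, 2, 1, 3, 2, 1], [67, 25, 29, 32, 34, 55],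
    [[0, 0, 1, 0, 0, 0], [0, 0, 0, 1, 0, 0], [0, 0, 0, 0, 1, 0], [0, 1, 0, 0, 0, 0]], [[0, 0, 1, 0, 0, 0], [0, 0, 0, 1, 0, 0], [0, 0, 0, 0, 1, 0], [0, 1, 0, 0, 0, 0]]),
  (3, 3, [5, 1, 3, 4, 2, 3, 0, 2, 1, 3, 4, 5, 4, 2, 3, 0, 2, 1, 3, 4, 2, 3, 0, 2], [43, 60, 4, 51, 16, 40],
    [[-1, 0, -1, -1, 0, 0], [-1, 0, 0, 0, 0, 0], [-1, 0, -1, 0, 1, 1], [-1, 0, 0, 0, 0, 1], [0, -1, -1, -1, 0, 0], [0, 0, 0, 0, 1, 1]], [[0, 1, 0, -1, 0, 0], [0, 0, -1, 1, 0, 0], [0, -1, 0, 0, 0, 0]]),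
  (4, 2, [2, 3, 4, 3, 0, 2, 1, 3, 1, 0], [31, 13, 53, 20, 62, 45],
    [[0, 0, 0, 1, 1, 0], [-1, 0, 0, 0, 0, 0], [0, 1, 1, 1, 0, 0], [1, 0, 1, 0, 0, 0]], [[0, -1, 0, 1, 0, 0], [0, 1, 0, 0, 0, 0]]),
  (5, 1, [2, 1, 3, 0], [14, 43, 61, 21, 51, 36],
    [[-1, 0, -1, 0, 0, 0], [0, 0, -1, 0, 0, 0], [0, 0, 0, 1, 0, 0], [0, 1, 0, 1, 0, 0]], [[-1, 0, 0, 0, 0, 0]]),
  (6, 2, [1, 3, 4, 5, 0, 2, 1, 3, 4, 3, 0, 2], [41, 63, 17, 53, 7, 58],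
    [[1, -1, 0, 0, 0, 1], [0, 1, 0, -1, 0, 0], [0, -1, -1, -1, -1, 0], [0, 0, 0, -1, 0, 0]], [[1, 0, 0, 0, 0, 0], [0, 0, -1, 0, 0, 0]]),
  (8, 1, [4, 2, 3, 1, 0], [14, 20, 59, 46, 43, 38],
    [[0, -1, -1, -1, 0, 0], [0, 0, 0, -1, -1, 0], [-1, 0, -1, 0, 0, 0], [1, 0, 0, 0, 0, 0]], [[0, -1, 0, 0, 0, 0]]),
  (9, 1, [3, 4, 5, 0, 2, 3, 2, 1], [44, 7, 34, 48, 60, 30],
    [[0, 0, 0, 0, 1, 1], [0, 1, 0, 1, 1, 0], [0, 0, 0, 1, 0, 0], [0, -1, 0, -1, 0, 0], [0, 0, -1, -1, 0, 0], [-1, 0, -1, 0, 0, 0]], [[0, 0, 0, 0, 0, 1]]),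
  (12, 1, [5, 1, 3, 4, 0, 2], [50, 39, 10, 63, 22, 48],
    [[0, -1, -1, -1, -1, 0], [-1, 0, -1, -1, -1, -1], [0, 0, 0, -1, 0, 0], [0, -1, 0, 0, 0, 0]], [[1, 0, -1, 0, 0, 0]])]

def homsE7 : List HomData := [
  (1, 7, [], [93, 78, 73, 69, 66, 64, 63],
    [[1, 0, 0, 0, 0, 0, 0], [0, 1, 0, 0, 0, 0, 0], [0, 0, 1, 0, 0, 0, 0], [0, 0, 0, 1, 0, 0, 0], [0, 0, 0, 0, 1, 0, 0], [0, 0, 0, 0, 0, 1, 0], [0, 0, 0, 0, 0, 0, 1]], [[1, 0, 0, 0, 0, 0, 0], [0, 1, 0, 0, 0, 0, 0], [0, 0, 1, 0, 0, 0, 0], [0, 0, 0, 1, 0, 0, 0], [0, 0, 0, 0, 1, 0, 0], [0, 0, 0, 0, 0, 1, 0], [0, 0, 0, 0, 0, 0, 1]]),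
  (2, 7, [6, 5, 4, 3, 2, 1, 3, 4, 5, 6, 0, 2, 3, 4, 5, 1, 3, 4, 2, 3, 0, 2, 1, 3, 4, 5, 6, 0, 2, 3, 4, 5, 1, 3, 4, 2, 3, 0, 2, 1, 3, 4, 5, 1, 3, 4, 2, 3, 0, 2, 1, 3, 4, 2, 3, 0, 2, 1, 3, 0, 2, 1, 0], [32, 47, 52, 56, 59, 61, 62],
    [[1, 0, 0, 0, 0, 0, 0], [0, 1, 0, 0, 0, 0, 0], [0, 0, 1, 0, 0, 0, 0], [0, 0, 0, 1, 0, 0, 0], [0, 0, 0, 0, 1, 0, 0], [0, 0, 0, 0, 0, 1, 0], [0, 0, 0, 0, 0, 0, 1]], [[1, 0, 0, 0, 0, 0, 0], [0, 1, 0, 0, 0, 0, 0], [0, 0, 1, 0, 0, 0, 0], [0, 0, 0, 1, 0, 0, 0], [0, 0, 0, 0, 1, 0, 0], [0, 0, 0, 0, 0, 1, 0], [0, 0, 0, 0, 0, 0, 1]]),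
  (3, 3, [3, 4, 5, 1, 3, 4, 2, 3, 0, 2, 1, 3, 4, 5, 2, 3, 4, 2, 1, 3, 0, 2, 1, 0], [25, 42, 49, 85, 95, 21, 123],
    [[0, 0, 0, -1, -1, -1, 0], [0, 0, 1, 0, 0, 0, 0], [0, -1, -1, -1, 0, 0, 0], [0, 0, -1, -1, 0, 0, 0], [0, 0, 0, -1, 0, -1, 0], [-1, 0, 0, -1, 0, 0, 0]], [[0, 0, 0, 0, -1, 0, 0], [0, -1, 0, 0, 0, 0, 0], [0, 0, 0, 0, 1, -1, 0]]),
  (4, 2, [3, 0, 2, 1, 3, 4, 2, 3, 0, 2], [70, 100, 38, 74, 30, 104, 63],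
    [[0, 1, 1, 1, 0, 0, 0], [-1, 0, -1, 0, 0, 0, 0], [0, 0, 0, 1, 1, 0, 0], [1, 0, 0, 0, 0, 0, 0]], [[0, 1, 0, 0, 0, 0, 0], [0, -1, 0, 1, 0, 0, 0]]),
  (5, 1, [0, 2, 1, 3], [73, 95, 79, 26, 100, 64, 63],
    [[1, 0, 0, 0, 0, 0, 0], [0, 0, -1, -1, 0, 0, 0], [0, -1, -1, -1, 0, 0, 0], [0, 0, -1, 0, 0, 0, 0]], [[1, 0, 0, 0, 0, 0, 0]]),
  (6, 3, [4, 3, 0, 2, 1, 3, 4, 5, 6, 2, 3, 4, 5, 3, 4, 0, 2, 1, 3, 0, 2], [102, 91, 17, 41, 119, 46, 29],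
    [[0, 1, 1, 1, 1, 1, 1], [1, 0, 0, 0, 0, 0, 0], [0, 0, 0, -1, 0, 1, 1], [1, 0, 0, 1, 0, 0, 0], [1, 0, 0, -1, -1, -1, 0], [0, -1, 0, 0, 0, 0, -1]], [[0, 0, 1, 0, 0, 0, 0], [0, 0, 0, 0, -1, 1, 0], [0, 0, 1, 0, -1, 0, 0]]),
  (7, 1, [6, 4, 5, 2, 3, 0], [31, 84, 96, 50, 77, 57, 67],
    [[1, 0, 1, 0, 0, 0, 0], [0, 0, 1, 0, 0, 0, 0], [0, 0, 0, -1, 0, 0, 0], [0, 0, 0, -1, -1, -1, 0], [0, 0, 0, -1, -1, -1, -1], [0, 0, 0, -1, -1, 0, 0]], [[1, 0, 0, 0, 0, 0, 0]]),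
  (8, 1, [6, 1, 3, 4, 0, 2], [83, 69, 26, 100, 45, 82, 62],
    [[0, -1, -1, -1, 0, 0, 0], [-1, 0, 0, 0, 0, 0, 0], [1, 0, 1, 0, 0, 0, 0], [0, 0, 0, 1, 1, 0, 0]], [[0, -1, 0, 0, 0, 0, 0]]),
  (9, 1, [1, 3, 4, 5, 6, 3, 4, 5, 0, 2, 1, 3, 0, 2], [71, 101, 35, 32, 107, 57, 46],
    [[0, 0, -1, -1, -1, 0, 1], [0, 0, 1, 0, 0, -1, -1], [-1, 0, -1, 0, 0, 1, 1], [1, 0, 0, 0, -1, -1, 0], [0, 0, 1, 0, 1, 1, 0], [0, 1, 0, 1, 0, 0, 1]], [[0, 1, 0, -1, 0, 0, 0]]),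
  (10, 1, [5, 6, 4, 2, 3, 2, 1, 0], [28, 40, 94, 81, 74, 68, 60],
    [[-1, -1, -1, -1, -1, -1, -1], [0, 0, -1, -1, 0, 0, 1], [0, 0, 0, 0, -1, 0, -1], [0, 0, 0, 0, 0, -1, 0]], [[-1, 0, 0, 0, 0, 0, 0]]),
  (12, 1, [3, 4, 5, 3, 4, 2, 1, 0], [29, 45, 93, 90, 58, 56, 72],
    [[1, 0, 1, 1, 1, 1, 0], [0, 1, 1, 1, 0, 0, 0], [0, 1, 0, 1, 1, 0, 0], [0, -1, 0, 0, 0, 0, 0]], [[1, 0, 0, 0, 0, 0, 0]]),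
  (14, 1, [6, 4, 3, 2, 1, 3, 4, 5, 4, 1, 0], [29, 52, 100, 77, 57, 38, 90],
    [[1, 1, 1, 1, 0, 0, 0], [0, 0, 1, 1, 2, 1, 0], [0, 0, 0, 0, -1, 0, 1], [0, 0, 0, 1, 1, 0, -1], [0, 1, 0, 0, 0, 0, 1], [0, -1, 0, -1, -1, -1, -1]], [[1, 0, 0, 0, 0, 0, 0]]),
  (18, 1, [4, 5, 6, 1, 3, 0, 2], [84, 70, 25, 94, 81, 63, 57],
    [[-1, 0, -1, 0, 0, 0, 0], [0, 0, 0, -1, 0, 0, 0], [0, -1, -1, -1, -1, -1, -1], [0, 0, 0, -1, -1, -1, 0], [0, -1, -1, -1, -1, 0, 0], [-1, 0, 0, 0, 0, 0, 0]], [[0, 1, -1, 0, 0, 0, 0]])]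

def homsE8 : List HomData := [
  (1, 8, [], [162, 141, 135, 130, 126, 123, 121, 120],
    [[1, 0, 0, 0, 0, 0, 0, 0], [0, 1, 0, 0, 0, 0, 0, 0], [0, 0, 1, 0, 0, 0, 0, 0], [0, 0, 0, 1, 0, 0, 0, 0], [0, 0, 0, 0, 1, 0, 0, 0], [0, 0, 0, 0, 0, 1, 0, 0], [0, 0, 0, 0, 0, 0, 1, 0], [0, 0, 0, 0, 0, 0, 0, 1]], [[1, 0, 0, 0, 0, 0, 0, 0], [0, 1, 0, 0, 0, 0, 0, 0], [0, 0, 1, 0, 0, 0, 0, 0], [0, 0, 0, 1, 0, 0, 0, 0], [0, 0, 0, 0, 1, 0, 0, 0], [0, 0, 0, 0, 0, 1, 0, 0], [0, 0, 0, 0, 0, 0, 1, 0], [0, 0, 0, 0, 0, 0, 0, 1]]),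
  (2, 8, [7, 6, 5, 4, 3, 2, 1, 3, 4, 5, 6, 0, 2, 3, 4, 5, 1, 3, 4, 2, 3, 0, 2, 1, 3, 4, 5, 6, 7, 6, 5, 4, 3, 2, 1, 3, 4, 5, 6, 0, 2, 3, 4, 5, 1, 3, 4, 2, 3, 0, 2, 1, 3, 4, 5, 6, 7, 6, 5, 4, 3, 2, 1, 3, 4, 5, 6, 0, 2, 3, 4, 5, 1, 3, 4, 2, 3, 0, 2, 1, 3, 4, 5, 6, 0, 2, 3, 4, 5, 1, 3, 4, 2, 3, 0, 2, 1, 3, 4, 5, 1, 3, 4, 2, 3, 0, 2, 1, 3, 4, 2, 3, 0, 2, 1, 3, 0, 2, 1, 0], [77, 98, 104, 109, 113, 116, 118, 119],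
    [[1, 0, 0, 0, 0, 0, 0, 0], [0, 1, 0, 0, 0, 0, 0, 0], [0, 0, 1, 0, 0, 0, 0, 0], [0, 0, 0, 1, 0, 0, 0, 0], [0, 0, 0, 0, 1, 0, 0, 0], [0, 0, 0, 0, 0, 1, 0, 0], [0, 0, 0, 0, 0, 0, 1, 0], [0, 0, 0, 0, 0, 0, 0, 1]], [[1, 0, 0, 0, 0, 0, 0, 0], [0, 1, 0, 0, 0, 0, 0, 0], [0, 0, 1, 0, 0, 0, 0, 0], [0, 0, 0, 1, 0, 0, 0, 0], [0, 0, 0, 0, 1, 0, 0, 0], [0, 0, 0, 0, 0, 1, 0, 0], [0, 0, 0, 0, 0, 0, 1, 0], [0, 0, 0, 0, 0, 0, 0, 1]]),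
  (3, 4, [6, 3, 4, 5, 1, 3, 4, 2, 3, 0, 2, 1, 3, 4, 5, 6, 7, 6, 5, 4, 3, 2, 1, 3, 4, 5, 6, 0, 2, 3, 4, 5, 1, 3, 4, 2, 3, 0, 2, 1, 3, 4, 5, 6, 7, 4, 5, 1, 3, 4, 2, 3, 0, 2, 1, 3, 4, 5, 6, 3, 4, 5, 1, 3, 4, 2, 3, 0, 2, 1, 3, 4, 5, 2, 3, 4, 1, 3, 0, 2], [219, 132, 7, 190, 124, 26, 208, 84],
    [[0, 2, 1, 1, 1, 1, 2, 1], [0, 0, 1, 0, 0, -1, 1, 0], [2, 0, 2, 3, 3, 1, 0, 1], [0, 0, -1, 1, 0, 0, -1, 1], [1, 0, 1, 2, 1, 1, 0, 0], [0, 0, -1, 0, 0, 1, 0, 0], [0, -1, 0, 0, 0, -1, -1, 0], [0, 0, 0, 1, 0, 0, -1, 0]], [[-2, -1, 1, 0, 0, 1, 0, 1], [1, 1, -1, 0, 1, -1, 0, -1], [-1, -2, 2, 0, -2, 2, 0, 2], [-4, -3, 2, 0, 0, 2, 0, 2]]),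
  (4, 4, [7, 6, 0, 2, 3, 4, 5, 1, 3, 4, 2, 3, 0, 2, 1, 3, 4, 5, 6, 7, 3, 2, 1, 3, 4, 5, 6, 0, 2, 3, 4, 5, 1, 3, 4, 2, 3, 0, 2, 1, 3, 4, 5, 6, 5, 1, 3, 4, 2, 3, 0, 2, 1, 3, 4, 5, 2, 3, 4, 1], [146, 63, 166, 205, 35, 46, 108, 224],
    [[0, -1, 1, 0, 0, 1, 1, 0], [-1, 0, 0, 0, 1, 0, 1, 1], [0, 0, 0, 1, 1, 0, 0, 0], [0, 0, 0, 0, 0, 0, -1, 0], [1, 1, 3, 3, 2, 2, 2, 0], [-1, 0, 0, 1, 1, 0, 1, 1], [1, 1, 1, 3, 2, 1, 0, 0], [0, -1, 0, -1, -1, 0, -1, 0]], [[-1, 0, -1, 0, 0, 2, 0, -1], [0, -1, 1, 0, 1, -2, 0, -1], [0, 0, 1, 0, 0, -1, 0, 0], [1, 0, -1, 0, 0, 1, 0, 1]]),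
  (5, 2, [6, 7, 1, 3, 4, 5, 6, 0, 2, 3, 4, 5, 1, 3, 4, 2, 3, 0, 2, 1, 3, 4, 5, 6, 7, 4, 3, 2, 1, 3, 4, 5, 6, 5, 4, 3, 0, 2, 1, 3, 4, 5, 3, 4, 1, 3, 0, 2], [202, 164, 3, 210, 155, 22, 182, 66],
    [[0, 0, 0, -1, 0, -1, -1, -1], [0, 0, 0, 0, 0, 0, -1, -1], [0, 1, 1, 1, 1, 0, 0, 0], [0, 0, 0, 0, 1, 0, -1, -1], [0, 0, 0, 0, -1, 0, 1, 0], [0, 0, 0, -1, -2, -2, -1, -1], [-1, 0, -1, -1, -2, -1, -1, -1], [-1, 0, 0, 0, -1, -1, 0, 0]], [[-1, 0, 2, -2, 0, 1, 0, 0], [0, 0, 0, 0, 0, 0, 1, -1]]),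
  (6, 4, [6, 3, 4, 5, 1, 3, 4, 2, 3, 0, 2, 1, 3, 4, 5, 6, 7, 2, 1, 3, 4, 5, 6, 5, 3, 4, 2, 3, 0, 2, 1, 3, 4, 5, 3, 4, 1, 3, 0, 2], [226, 144, 8, 196, 128, 27, 209, 85],
    [[-1, -1, -2, -2, -2, -1, -1, -1], [0, 0, 0, -1, 0, 0, 0, 0], [-1, 0, -1, -2, -2, -2, -1, -1], [1, -1, 1, 0, 0, 0, 0, 0], [1, 2, 2, 2, 2, 1, 1, 1], [0, -1, 0, 0, -1, -1, 0, 0], [2, 2, 4, 4, 3, 2, 2, 1], [0, -1, -1, 0, 0, 0, 0, 0]], [[2, 1, -1, 0, -2, 1, 1, 0], [0, 0, 0, 0, 1, -1, 0, -1], [2, 1, -1, 0, -1, 0, 0, 1], [0, 0, 0, 0, 0, 0, 1, -1]]),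
  (7, 1, [6, 7, 5, 3, 4, 1], [162, 97, 136, 145, 106, 131, 125, 117],
    [[0, 0, 0, -1, 0, 1, 1, 0], [0, 1, 0, 0, 0, 0, 1, 0], [0, 0, 0, 0, 0, 0, 0, -1], [0, 0, 0, -1, -1, 0, 0, 0], [0, 0, 0, -1, 0, 0, 1, 0], [0, 1, 0, 0, 0, 0, 0, -1]], [[0, 0, 0, 0, 0, 1, 0, 0]]),
  (8, 2, [6, 7, 3, 2, 1, 3, 4, 5, 6, 4, 5, 1, 3, 4, 2, 3, 0, 2, 1, 3, 4, 5, 3, 0, 2, 1, 3, 4, 2, 0], [63, 134, 145, 184, 33, 100, 193, 153],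
    [[-1, 0, 0, 0, 1, 1, 1, 0], [1, 0, 1, 0, 0, -1, 0, 0], [0, 0, 0, 1, 0, 0, 0, -1], [-1, 0, 0, 0, 0, -1, -1, 0], [0, 0, 0, 0, -1, -1, -1, -1], [-1, -1, -1, -1, -1, -1, -1, 0], [0, 0, -1, -1, -1, -1, -1, 0], [0, 0, 0, 0, 0, 1, 0, 0]], [[0, 0, 0, -1, 1, 0, 0, -1], [-1, 1, 1, 0, -2, 0, 1, 0]]),
  (9, 1, [1, 3, 4, 5, 0, 2, 3, 2], [148, 174, 113, 70, 171, 95, 145, 120],
    [[0, 0, 0, 0, 1, 1, 0, 0], [0, 0, 0, 1, 1, 0, 0, 0], [0, 1, 0, 1, 0, 0, 0, 0], [0, 0, 0, -1, 0, 0, 0, 0], [0, -1, -1, -1, 0, 0, 0, 0], [-1, 0, -1, 0, 0, 0, 0, 0]], [[0, 0, 0, 0, 0, 1, 0, 0]]),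
  (10, 2, [0, 2, 3, 4, 5, 6, 7, 4, 5, 6, 2, 1, 3, 4, 5, 3, 0, 2, 1, 3, 4, 3, 2, 1], [183, 52, 105, 198, 42, 139, 174, 74],
    [[0, 1, 1, 2, 1, 0, 0, 0], [0, 0, 0, 0, 1, 2, 2, 1], [1, 1, 1, 2, 1, 0, -1, 0], [0, 0, 0, 0, 0, 0, 1, 0], [0, 0, 0, 0, 1, 1, 1, 0], [1, 1, 1, 1, 0, 0, -1, 0], [0, 0, 1, 1, 1, 0, 1, 0], [0, 0, 0, 0, 0, 1, 0, 0]], [[-1, 1, 0, 0, 0, 0, 0, 0], [0, 1, 0, -1, 1, 0, 0, -1]]),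
  (12, 2, [5, 6, 7, 5, 6, 5, 1, 3, 4, 2, 3, 0, 2, 1, 3, 4, 5, 2, 3, 4, 2, 0], [99, 164, 134, 150, 85, 66, 208, 116],
    [[1, 0, 1, 0, 0, 0, 0, 0], [0, 1, 0, 1, 1, 0, 0, 0], [0, 0, 0, 1, 1, 1, 1, 1], [0, 0, 1, 0, 0, 0, 0, 0], [0, 1, 1, 1, 1, 1, 0, 0], [0, 0, 0, 1, 1, 1, 1, 0], [1, 0, 1, 1, 0, 0, 0, 0], [0, 1, 0, 0, 0, 0, 0, 0]], [[1, 0, 0, -1, 1, 0, 0, 0], [0, 0, 0, 0, 0, 1, -1, 0]]),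
  (14, 1, [5, 6, 0, 2, 1, 3, 4, 1, 3], [135, 127, 175, 73, 98, 172, 115, 125],
    [[0, 1, 0, 1, 1, 1, 1, 0], [0, 0, 1, 1, 0, 0, -1, 0], [1, 1, 1, 1, 1, 0, 1, 0], [0, -1, 0, 0, 0, 1, 0, 0], [0, 1, 0, 0, 1, 0, 0, 0], [0, 0, 0, 0, -1, 0, 0, 0]], [[0, 0, -1, 1, 0, 0, 0, 0]]),
  (15, 1, [5, 6, 7, 5, 6, 0, 2, 3, 4, 5, 2, 1, 3, 4, 2, 1], [186, 106, 67, 183, 62, 142, 166, 116],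
    [[0, -1, -1, -1, 0, 0, 0, 0], [-1, 0, 0, 0, -1, -1, 0, 0], [1, 0, 1, 0, 0, 0, -1, 0], [0, 0, -1, -1, 0, 0, 1, 0], [-1, 0, -1, 0, -1, -1, -1, 0], [0, -1, 0, -1, 0, 1, 0, 0], [0, 0, 0, 0, 0, -1, 0, -1], [0, 0, 0, 0, 0, 0, 0, 1]], [[2, -2, -1, 2, -2, 0, 1, 0]]),
  (18, 1, [6, 3, 4, 5, 0, 2, 1], [136, 97, 75, 174, 124, 106, 132, 122],
    [[-1, 0, -1, 0, 0, 0, 0, 0], [0, -1, 0, -1, -1, -1, 0, 0], [0, 0, -1, -1, -1, -1, -1, 0], [0, -1, 0, -1, -1, 0, 0, 0], [0, 0, -1, -1, 0, 0, 0, 0], [-1, 0, 0, 0, 0, 0, 0, 0]], [[0, -1, -1, 1, 0, 0, 0, 0]]),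
  (20, 1, [7, 1, 3, 4, 5, 6, 3, 4, 5, 4, 2, 3, 2, 0], [66, 158, 170, 91, 149, 112, 97, 145],
    [[0, 0, 0, -1, -1, 0, 0, 0], [-1, -1, -1, -1, 0, 0, 0, 0], [0, 0, -1, 0, 0, -1, 0, 0], [0, 0, 0, -1, -2, -1, -1, 0], [-1, -1, -1, -2, -1, 0, -1, -1], [0, -1, -1, -1, 0, -1, 0, 0], [0, 0, 0, 0, -1, -1, 0, 0], [0, 0, 0, 0, 0, 1, 0, 0]], [[0, 1, 0, -1, 0, 0, 1, 0]]),
  (24, 1, [7, 5, 6, 3, 2, 1, 3, 4, 5, 4, 2, 0], [70, 135, 164, 146, 117, 86, 152, 124],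
    [[-1, 0, -1, 0, 0, 0, 0, 0], [0, -1, -1, -1, -1, -1, 0, 0], [0, -1, 0, -1, -1, 0, 0, 0], [0, 0, 0, -1, -1, -1, -1, 0], [0, 0, 0, -1, -1, -1, -1, -1], [-1, 0, -1, -1, 0, 0, 0, 0], [0, 0, -1, 0, 0, 0, 0, 0], [0, -1, 0, 0, 0, 0, 0, 0]], [[-1, 0, 0, 1, -1, 0, 0, 0]]),
  (30, 1, [4, 5, 6, 7, 3, 2, 1, 0], [74, 96, 162, 148, 132, 121, 120, 110],
    [[-1, 1, -1, 0, 0, 0, 0, 0], [0, 0, -1, 0, 0, 0, 0, 0], [0, -1, 0, -1, 0, 0, 0, 0], [0, -1, 0, -1, -1, -1, -1, -1], [0, -1, 0, -1, -1, -1, -1, 0], [0, -1, 0, -1, -1, -1, 0, 0], [-1, 0, -1, -1, -1, 0, 0, 0], [0, 1, -1, 0, 0, 0, 0, 0]], [[-1, 0, 0, 0, 1, -1, 0, 0]])]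

theorem chkG2 : tabG2.chkHoms [2, 6] homsG2 = true := by decide +kernel
theorem chkB2 : tabB2.chkHoms [2, 4] homsB2 = true := by decide +kernel
theorem chkD4 : tabD4.chkHoms [2, 4, 4, 6] homsD4 = true := by decide +kernel
theorem chkF4 : tabF4.chkHoms [2, 6, 8, 12] homsF4 = true := by decide +kernel
theorem chkE6 : tabE6.chkHoms [2, 5, 6, 8, 9, 12] homsE6 = true := by decide +kernel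
theorem chkE7 : tabE7.chkHoms [2, 6, 8, 10, 12, 14, 18] homsE7 = true := by decide +kernel
theorem chkE8 : tabE8.chkHoms [2, 8, 12, 14, 18, 20, 24, 30] homsE8 = true := by decide +kernel

theorem ex {ι κ F : Type*} [Field F] [Fintype κ] {A : Subgroup (ι → Fˣ)} {e : ℕ} {a : κ → ι → ℤ}
    (h : ∀ c, c ∈ A ↔ ∃ z : κ → Fˣ, (∀ k, z k ^ e = 1) ∧ c = fun i => ∏ k, z k ^ a k i) : ∀ c ∈ A, c ^ e = 1 := fun c hc => by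
  obtain ⟨z, hz, rfl⟩ := (h c).1 hc
  funext i
  rw [Pi.pow_apply, ← Finset.prod_pow]
  exact Finset.prod_eq_one fun k _ => by rw [← zpow_natCast, zpow_comm, zpow_natCast, hz, one_zpow]

/-- Sylow subgroups for primes away from the characteristic and the Weyl group. Let `G` be the Chevalley group of type G₂, B₂, D₄, F₄, E₆, E₇ or E₈ over a field with `q` elements, with the degrees of its Weyl group listed beside the type (their product is the order of the Weyl group), and let `r` be a prime dividing the order of `G`, not dividing `q` and not dividing the order of the Weyl group. Let `d` be the multiplicative order of `q` modulo `r`, `a` the number of degrees divisible by `d`, and `m` the `r`-part of the value at `q` of the `d`-th cyclotomic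 polynomial. Then every Sylow `r`-subgroup of `G` is homocyclic: a direct product of `a` cyclic groups of order `m` (in particular abelian). -/
theorem result {F : Type*} [Field F] [Fintype F] {q : ℕ} (hq : Fintype.card F = q)
    (c : Cfsg.Lie.ChevalleyDatum × List ℕ)
    (hc : c ∈ [(Cfsg.Lie.chevG2, [2, 6]), (Cfsg.Lie.chevB2, [2, 4]), (Cfsg.Lie.chevD4, [2, 4, 4, 6]), (Cfsg.Lie.chevF4, [2, 6, 8, 12]),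
      (Cfsg.Lie.chevE6, [2, 5, 6, 8, 9, 12]), (Cfsg.Lie.chevE7, [2, 6, 8, 10, 12, 14, 18]), (Cfsg.Lie.chevE8, [2, 8, 12, 14, 18, 20, 24, 30])])
    (r : ℕ) [Fact r.Prime] (hrq : ¬ r ∣ q) (hrW : ¬ r ∣ c.2.prod) (hrG : r ∣ Nat.card ↥(c.1.group F)) (P : Sylow r ↥(c.1.group F)) :
    Nonempty (↥(P : Subgroup ↥(c.1.group F)) ≃*
      (Fin (c.2.filter (fun e => orderOf (q : ZMod r) ∣ e)).length →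
        Multiplicative (ZMod (r ^ padicValNat r ((Polynomial.cyclotomic (orderOf (q : ZMod r)) ℤ).eval (q : ℤ)).natAbs)))) := by
  simp only [List.mem_cons, List.not_mem_nil, or_false] at hc
  have h0 : 0 < q := hq ▸ Fintype.card_pos
  rcases hc with rfl | rfl | rfl | rfl | rfl | rfl | rfl
  · exact tabG2_chk.sylow_hom (scG2 _) (scG2 F) hq chkG2 ((poinG2' q h0).trans (by simp [mul_assoc])) (e := 1)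
      (by decide) (ex (thetaG2 _).2) (ex (thetaG2 _).2) r hrq hrW hrG P
  · exact tabB2_chk.sylow_hom (scB2 _) (scB2 F) hq chkB2 ((poinB2' q h0).trans (by simp [mul_assoc])) (e := 2)
      (by decide) (ex (thetaB2 _).2) (ex (thetaB2 _).2) r hrq hrW hrG P
  · exact tabD4_chk.sylow_hom (scD4 _) (scD4 F) hq chkD4 ((poinD4' q h0).trans (by simp [mul_assoc])) (e := 2)
      (by decide) (ex (thetaD4 _).2) (ex (thetaD4 _).2) r hrq hrW hrG P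
  · exact tabF4_chk.sylow_hom (scF4 _) (scF4 F) hq chkF4 ((poinF4' q h0).trans (by simp [mul_assoc])) (e := 1)
      (by decide) (ex (thetaF4 _).2) (ex (thetaF4 _).2) r hrq hrW hrG P
  · exact tabE6_chk.sylow_hom (scE6 _) (scE6 F) hq chkE6 ((poinE6' q h0).trans (by simp [mul_assoc])) (e := 3)
      (by decide) (ex (thetaE6 _).2) (ex (thetaE6 _).2) r hrq hrW hrG P
  · exact tabE7_chk.sylow_hom (scE7 _) (scE7 F) hq chkE7 ((poinE7' q h0).trans (by simp [mul_assoc])) (e := 2)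
      (by decide) (ex (thetaE7 _).2) (ex (thetaE7 _).2) r hrq hrW hrG P
  · exact tabE8_chk.sylow_hom (scE8 _) (scE8 F) hq chkE8 ((poinE8' q h0).trans (by simp [mul_assoc])) (e := 1)
      (by decide) (ex (thetaE8 _).2) (ex (thetaE8 _).2) r hrq hrW hrG P

end Cfsg.Agent.S2378
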