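import Cfsg.Statements.S2507
import Cfsg.Agent.H4.Tor3

set_option autoImplicit false
open Cfsg

namespace Cfsg.Agent.S2507

/-- Let F be a finite field with q = 2^f ≥ 4 elements. The conjugacy class sizes of PSL(2,F) are exactly 1, q(q − 1), q² − 1 and q(q + 1). -/
theorem result {F : Type*} [Field F] [Fintype F]
    (h2 : 2 ∣ Fintype.card F) (h4 : 4 ≤ Fintype.card F) :
    Set.range (fun g : (Matrix.ProjectiveSpecialLinearGroup (Fin 2) F) => (Subgroup.centralizer ({g} : Set (Matrix.ProjectiveSpecialLinearGroup (Fin 2) F))).index) =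
      {1, Fintype.card F * (Fintype.card F - 1), Fintype.card F ^ 2 - 1, Fintype.card F * (Fintype.card F + 1)} := by
  have h0 := H4.two_eq_zero_of_even (even_iff_two_dvd.2 h2)
  have hd := H4.gcd_eq_one (q := Fintype.card F) (by omega) (by omega)
  ext m
  simp only [Set.mem_range, Set.mem_insert_iff, Set.mem_singleton_iff]
  constructor
  · rintro ⟨x, rfl⟩
    by_cases h1 : x = 1
    · exact Or.inl (H8.index_centralizer_eq_one_iff.2 (h1 ▸ Subgroup.one_mem _))
    rcases H4.psl_cases x with h | ⟨u, a, h, rfl⟩ | ⟨u, h, rfl⟩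
    · exact (h1 h).elim
    · rw [H4.index_cent_un h, hd, Nat.div_one]; exact Or.inr (Or.inr (Or.inl rfl))
    · have := H4.index_cent_tor h (x := u) (H4.pmk_mem_pT_self _) h1 (Or.inl h0)
      rcases H4.card_pT h with h3 | h3
      exacts [Or.inr (Or.inl (this.1 h3)), Or.inr (Or.inr (Or.inr (this.2 h3)))]
  · rintro (rfl | rfl | rfl | rfl)
    · exact ⟨1, H8.index_centralizer_eq_one_iff.2 (Subgroup.one_mem _)⟩
    · obtain ⟨g, h1, h3⟩ := H4.exists_pT_ell (F := F)
      obtain ⟨x, h5, h6, -⟩ := H4.exists_psl_big h1 (by rw [hd, h3]; omega)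
      exact ⟨x, (H4.index_cent_tor h1 h5 h6 (Or.inl h0)).1 h3⟩
    · exact ⟨_, by rw [H4.index_cent_un (H4.un_upT (one_ne_zero (α := F))), hd, Nat.div_one]⟩
    · obtain ⟨g, h1, h3⟩ := H4.exists_pT_sp (F := F) (by omega)
      obtain ⟨x, h5, h6, -⟩ := H4.exists_psl_big h1 (by rw [hd, h3]; omega)
      exact ⟨x, (H4.index_cent_tor h1 h5 h6 (Or.inl h0)).2 h3⟩

end Cfsg.Agent.S2507
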