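import Cfsg.Statements.S2508
import Cfsg.Agent.H4.Tor3

set_option autoImplicit false
open Cfsg

namespace Cfsg.Agent.S2508

/-- Let F be a finite field with q elements, q odd and q ≥ 7. If q ≡ 1 (mod 4) the conjugacy class sizes of PSL(2,F) are exactly 1, (q² − 1)/2, q(q + 1)/2, q(q − 1) and q(q + 1); if q ≡ 3 (mod 4) they are exactly 1, (q² − 1)/2, q(q − 1)/2, q(q + 1) and q(q − 1). -/
theorem result {F : Type*} [Field F] [Fintype F]
    (hodd : ¬ 2 ∣ Fintype.card F) (h7 : 7 ≤ Fintype.card F) :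
    (Fintype.card F % 4 = 1 →
      Set.range (fun g : (Matrix.ProjectiveSpecialLinearGroup (Fin 2) F) => (Subgroup.centralizer ({g} : Set (Matrix.ProjectiveSpecialLinearGroup (Fin 2) F))).index) =
        {1, (Fintype.card F ^ 2 - 1) / 2, Fintype.card F * (Fintype.card F + 1) / 2,
          Fintype.card F * (Fintype.card F - 1), Fintype.card F * (Fintype.card F + 1)}) ∧
    (Fintype.card F % 4 = 3 →
      Set.range (fun g : (Matrix.ProjectiveSpecialLinearGroup (Fin 2) F) => (Subgroup.centralizer ({g} : Set (Matrix.ProjectiveSpecialLinearGroup (Fin 2) F))).index) =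
        {1, (Fintype.card F ^ 2 - 1) / 2, Fintype.card F * (Fintype.card F - 1) / 2,
          Fintype.card F * (Fintype.card F + 1), Fintype.card F * (Fintype.card F - 1)}) := by
  have hq : Fintype.card F % 2 = 1 := by omega
  have h0 := H4.two_ne_zero_of_odd (Nat.odd_iff.2 hq)
  have hd := H4.gcd_eq_two hq
  have k1 : ∀ x : Matrix.ProjectiveSpecialLinearGroup (Fin 2) F,
      (Subgroup.centralizer {x}).index = 1 ∨ (Subgroup.centralizer {x}).index = (Fintype.card F ^ 2 - 1) / 2 ∨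
      orderOf x = 2 ∨ (Subgroup.centralizer {x}).index = Fintype.card F * (Fintype.card F - 1) ∨
      (Subgroup.centralizer {x}).index = Fintype.card F * (Fintype.card F + 1) := fun x => by
    by_cases h1 : x = 1
    · exact Or.inl (H8.index_centralizer_eq_one_iff.2 (h1 ▸ Subgroup.one_mem _))
    by_cases h2 : x * x = 1
    · exact Or.inr (Or.inr (Or.inl (orderOf_eq_prime ((sq x).trans h2) h1)))
    rcases H4.psl_cases x with h | ⟨u, a, h, rfl⟩ | ⟨u, h, rfl⟩
    · exact (h1 h).elim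
    · rw [H4.index_cent_un h, hd]; exact Or.inr (Or.inl rfl)
    · have := H4.index_cent_tor h (x := u) (H4.pmk_mem_pT_self _) h1 (Or.inr h2)
      rcases H4.card_pT h with h3 | h3
      exacts [Or.inr (Or.inr (Or.inr (Or.inl (this.1 h3)))), Or.inr (Or.inr (Or.inr (Or.inr (this.2 h3))))]
  have k2 : ∃ x : Matrix.ProjectiveSpecialLinearGroup (Fin 2) F, (Subgroup.centralizer {x}).index = 1 :=
    ⟨1, H8.index_centralizer_eq_one_iff.2 (Subgroup.one_mem _)⟩
  have k3 : ∃ x : Matrix.ProjectiveSpecialLinearGroup (Fin 2) F, (Subgroup.centralizer {x}).index = (Fintype.card F ^ 2 - 1) / 2 :=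
    ⟨_, by rw [H4.index_cent_un (H4.un_upT (one_ne_zero (α := F))), hd]⟩
  have k4 : ∃ x : Matrix.ProjectiveSpecialLinearGroup (Fin 2) F, (Subgroup.centralizer {x}).index = Fintype.card F * (Fintype.card F - 1) := by
    obtain ⟨g, h1, h3⟩ := H4.exists_pT_ell (F := F)
    obtain ⟨x, h5, h6, h8⟩ := H4.exists_psl_big h1 (by rw [hd, h3]; omega)
    exact ⟨x, (H4.index_cent_tor h1 h5 h6 (Or.inr h8)).1 h3⟩
  have k5 : ∃ x : Matrix.ProjectiveSpecialLinearGroup (Fin 2) F, (Subgroup.centralizer {x}).index = Fintype.card F * (Fintype.card F + 1) := by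
    obtain ⟨g, h1, h3⟩ := H4.exists_pT_sp (F := F) (by omega)
    obtain ⟨x, h5, h6, h8⟩ := H4.exists_psl_big h1 (by rw [hd, h3]; omega)
    exact ⟨x, (H4.index_cent_tor h1 h5 h6 (Or.inr h8)).2 h3⟩
  obtain ⟨t, ht⟩ : ∃ x : Matrix.ProjectiveSpecialLinearGroup (Fin 2) F, orderOf x = 2 :=
    ⟨H4.slComp (0 : F), by
      rw [← H4.orderOf_psl, H4.psl2pgl_mk, H4.ord2_of_trace h0 (H4.trace_slComp 0)]⟩
  refine ⟨fun h => ?_, fun h => ?_⟩ <;> ext m <;>
    simp only [Set.mem_range, Set.mem_insert_iff, Set.mem_singleton_iff] <;> constructor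
  · rintro ⟨x, rfl⟩
    exact (k1 x).imp_right (Or.imp_right (Or.imp_left fun h1 => (H4.index_cent_inv h0 h1).1 h))
  · rintro (rfl | rfl | rfl | rfl | rfl)
    exacts [k2, k3, ⟨t, (H4.index_cent_inv h0 ht).1 h⟩, k4, k5]
  · rintro ⟨x, rfl⟩
    exact (k1 x).imp_right (Or.imp_right (Or.imp (fun h1 => (H4.index_cent_inv h0 h1).2 h) Or.symm))
  · rintro (rfl | rfl | rfl | rfl | rfl)
    exacts [k2, k3, ⟨t, (H4.index_cent_inv h0 ht).2 h⟩, k5, k4]

end Cfsg.Agent.S2508
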