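import Cfsg.Statements.S1947
import Cfsg.Agent.H1.SmallCrit
import Cfsg.Agent.H3.Alperin

set_option autoImplicit false
open Cfsg

namespace Cfsg.Agent.S1947

open H10
open scoped commutatorElement

/-- Let G be a finite group and p a prime. If every element of G of order dividing p (dividing 4 when p = 2) lies in some fixed term Z_n(G) of the upper central series, then G has a normal p-complement. -/
theorem result {G : Type*} [Group G] [Finite G] {p : ℕ} [Fact p.Prime] (n : ℕ)
    (h : ∀ a : G, (a ^ p = 1 ∨ (p = 2 ∧ a ^ 4 = 1)) → a ∈ Subgroup.upperCentralSeries G n) : Cfsg.HasNormalPComplement p G := by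
  obtain ⟨P⟩ : Nonempty (Sylow p G) := inferInstance
  refine H3.frobenius P fun Q hQ g hg hc => ?_
  have key : ∀ (i : ℕ) (x : G), x ∈ Subgroup.upperCentralSeries G i → x ∈ Q → Commute g x := by
    intro i
    induction i with
    | zero => intro x hx _; rw [Subgroup.upperCentralSeries_zero, Subgroup.mem_bot] at hx; simp [hx]
    | succ i ih =>
      intro x hx hxD
      have h5 := (Subgroup.upperCentralSeries _ i).inv_mem
        (Subgroup.mem_upperCentralSeries_succ_iff.1 hx g)
      have h6 : (x * g * x⁻¹ * g⁻¹)⁻¹ = ⁅g, x⁆ := by rw [commutatorElement_def]; group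
      have h7 : ⁅g, x⁆ ∈ Q := Q.mul_mem (conj_mem_of_mem_NN hg hxD) (Q.inv_mem hxD)
      obtain ⟨k, hk⟩ := isPGroup_iff_mem.1 P.isPGroup' _ (hQ h7)
      exact commutatorElement_eq_one_iff_commute.1
        (commutator_eq_one_of_coprime (ih _ (h6 ▸ h5) h7) hk hc)
  exact H3.mem_centralizer_of_centralizes_omega (P.isPGroup'.to_le hQ) hg hc fun x hx hx' =>
    (key n x (h x hx') hx).symm

end Cfsg.Agent.S1947
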