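import Cfsg.Statements.S2046
import Cfsg.Agent.H29.HSCov
import Cfsg.Agent.H29.CHSS2
import Cfsg.Agent.H29.CHSS3
import Cfsg.Agent.H29.CHSS5

set_option autoImplicit false
open Cfsg

namespace Cfsg.Agent.S2046

/-- The Schur multiplier of the Higman–Sims group (as a two-vector stabiliser in the automorphism group of the rank-24 lattice) is cyclic of order 2; here the Schur multiplier is described through stem extensions, as in the definitions: surjective homomorphisms onto the group from a finite group, whose kernel is central in that finite group and contained in that finite group's commutator subgroup. -/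
theorem result : Cfsg.HasCyclicSchurMultiplier ↥Cfsg.Spor.HS 2 := by
  obtain ⟨St, k⟩ := H29.cHS_key
  have : Finite H27.CHS := Nat.finite_of_card_ne_zero (by rw [H27.card_CHS]; norm_num)
  have := H27.simple_CHS
  have hs : ∀ a g, H29.cHSM.R a g → a < 2 ^ (nat_lit 576) := H29.a2_24.model_lt _ H29.cHS_inj (by decide +kernel)
  refine H8.hasSchur_congr_left ((H29.hsc_cov _ rfl rfl rfl H29.cHS_valid.1 k H27.card_CHS hs
    (H29.perfect_of_simple H27.card_CHS (by norm_num))).cyc.schur H27.card_CHS (ps := [2, 3, 5, 7, 11])
    (l := [(2, 1), (3, 0), (5, 0)]) (by simp; norm_num) (by decide +kernel) ?_) H27.hsEquiv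
  simpa using ⟨H29.cHSs2_sbd _ rfl rfl rfl H29.cHS_valid.1 k H27.card_CHS, H29.cHSs3_sbd _ rfl rfl rfl H29.cHS_valid.1 k H27.card_CHS,
    H29.cHSs5_sbd _ rfl rfl rfl H29.cHS_valid.1 k H27.card_CHS⟩

end Cfsg.Agent.S2046
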