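import Cfsg.Statements.S1229
import Cfsg.Agent.H6.Elem

set_option autoImplicit false
open Cfsg

namespace Cfsg.Agent.S1229

/-- Let G be a finite group with a Sylow 2-subgroup T that is neither cyclic nor normal, such that the centralizer of every involution is an elementary abelian 2-group; put H = N_G(T) and X = G/H. Then G is triply transitive on X, an element fixing three distinct points of X is the identity, and T acts regularly on X minus the point H. -/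
theorem result {G : Type*} [Group G] [Finite G] (T : Sylow 2 G) (hnc : ¬ IsCyclic (T : Subgroup G)) (hnn : ¬ (T : Subgroup G).Normal) (hC : ∀ t : G, orderOf t = 2 → IsMulCommutative (Subgroup.centralizer ({t} : Set G)) ∧ ∀ c ∈ Subgroup.centralizer ({t} : Set G), c ^ 2 = 1) : (∀ x₁ x₂ x₃ y₁ y₂ y₃ : G ⧸ Subgroup.normalizer ((T : Subgroup G) : Set G), x₁ ≠ x₂ → x₁ ≠ x₃ → x₂ ≠ x₃ → y₁ ≠ y₂ → y₁ ≠ y₃ → y₂ ≠ y₃ → ∃ g : G, g • x₁ = y₁ ∧ g • x₂ = y₂ ∧ g • x₃ = y₃) ∧ (∀ g : G, ∀ x₁ x₂ x₃ : G ⧸ Subgroup.normalizer ((T : Subgroup G) : Set G), x₁ ≠ x₂ → x₁ ≠ x₃ → x₂ ≠ x₃ → g • x₁ = x₁ → g • x₂ = x₂ → g • x₃ = x₃ → g = 1) ∧ (∀ x y : G ⧸ Subgroup.normalizer ((T : Subgroup G) : Set G), x ≠ QuotientGroup.mk 1 → y ≠ QuotientGroup.mk 1 → ∃! t : G, t ∈ T ∧ t • x = y) := by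
  have h := H6.elemHyp_of T hnc hnn hC
  have hse := h.se
  obtain ⟨u, hu, huH⟩ := H6.se_exists_ord2_not_mem hse
  obtain ⟨z, hz, hz2⟩ := H6.exists_ord2_of_pgroup T.isPGroup' h.ne_bot
  have hne : ∀ g : G, (g : G ⧸ Subgroup.normalizer ((T : Subgroup G) : Set G)) ≠
      QuotientGroup.mk 1 ↔ g ∉ Subgroup.normalizer ((T : Subgroup G) : Set G) := by
    intro g; rw [Ne, QuotientGroup.eq]; simp
  have htr : ∀ x : G ⧸ Subgroup.normalizer ((T : Subgroup G) : Set G), x ≠ QuotientGroup.mk 1 →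
      ∃ s ∈ T, s • (u : G ⧸ Subgroup.normalizer ((T : Subgroup G) : Set G)) = x := by
    intro x hx
    obtain ⟨g, rfl⟩ := QuotientGroup.mk_surjective x
    obtain ⟨s, hs, hsg⟩ := h.trans hu huH ((hne g).1 hx)
    exact ⟨s, hs, (H6.smul_mk_eq_iff _ _ _).2 hsg⟩
  have hfix1 : ∀ g ∈ Subgroup.normalizer ((T : Subgroup G) : Set G),
      g • (QuotientGroup.mk 1 : G ⧸ Subgroup.normalizer ((T : Subgroup G) : Set G)) =
        QuotientGroup.mk 1 := by
    intro g hg; rw [H6.smul_mk_eq_iff]; simpa using hg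
  have hone : ∀ x : G ⧸ Subgroup.normalizer ((T : Subgroup G) : Set G), ∃ a : G,
      a • x = QuotientGroup.mk 1 := fun x => MulAction.exists_smul_eq G x _
  have hstd : ∀ x₁ x₂ x₃ : G ⧸ Subgroup.normalizer ((T : Subgroup G) : Set G),
      x₁ ≠ x₂ → x₁ ≠ x₃ → x₂ ≠ x₃ → ∃ g : G, g • x₁ = QuotientGroup.mk 1 ∧
        g • x₂ = QuotientGroup.mk u ∧ g • x₃ = z • QuotientGroup.mk u := by
    intro x₁ x₂ x₃ h12 h13 h23
    obtain ⟨a, ha⟩ := hone x₁
    obtain ⟨s, hs, hs2⟩ := htr (a • x₂) (by rw [← ha]; exact fun e => h12 (smul_left_cancel a e).symm)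
    have hs' := hfix1 _ (H6.ElemHyp.le_norm (T.inv_mem hs))
    obtain ⟨t, ht, ht2⟩ := htr (s⁻¹ • a • x₃) (by
      rw [← hs', ← ha]
      exact fun e => h13 (smul_left_cancel a (smul_left_cancel _ e)).symm)
    have ht1 : t ≠ 1 := by
      rintro rfl
      rw [one_smul, eq_inv_smul_iff, hs2] at ht2
      exact h23 (smul_left_cancel a ht2)
    obtain ⟨d, hd, hdz⟩ := h.exists_conj hu huH ht ht1 hz (H6.ord2_ne_one hz2)
    have hdu : d • (u : G ⧸ Subgroup.normalizer ((T : Subgroup G) : Set G)) = u := by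
      rw [H6.smul_mk_eq_iff]; simpa [mul_assoc] using H6.mem_map_conj.1 hd.2
    refine ⟨d * s⁻¹ * a, ?_, ?_, ?_⟩
    · rw [mul_smul, mul_smul, ha, hs', hfix1 d hd.1]
    · rw [mul_smul, mul_smul, ← hs2, inv_smul_smul, hdu]
    · rw [mul_smul, mul_smul, ← ht2, ← hdz, mul_smul, mul_smul, inv_smul_eq_iff.2 hdu.symm]
  refine ⟨?_, ?_, ?_⟩
  · intro x₁ x₂ x₃ y₁ y₂ y₃ h12 h13 h23 k12 k13 k23
    obtain ⟨a, a1, a2, a3⟩ := hstd _ _ _ h12 h13 h23
    obtain ⟨b, b1, b2, b3⟩ := hstd _ _ _ k12 k13 k23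
    exact ⟨b⁻¹ * a, by rw [mul_smul, a1, ← b1, inv_smul_smul],
      by rw [mul_smul, a2, ← b2, inv_smul_smul], by rw [mul_smul, a3, ← b3, inv_smul_smul]⟩
  · intro g x₁ x₂ x₃ h12 h13 h23 g1 g2 g3
    obtain ⟨a, a1, a2, a3⟩ := hstd _ _ _ h12 h13 h23
    have e : ∀ x : G ⧸ Subgroup.normalizer ((T : Subgroup G) : Set G), g • x = x →
        (a * g * a⁻¹) • (a • x) = a • x := by
      intro x hx; rw [mul_smul, mul_smul, inv_smul_smul, hx]
    have e1 := e _ g1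
    have e2 := e _ g2
    have e3 := e _ g3
    rw [a1, H6.smul_mk_eq_iff] at e1
    rw [a2, H6.smul_mk_eq_iff] at e2
    rw [a3, MulAction.Quotient.smul_mk, H6.smul_mk_eq_iff, smul_eq_mul] at e3
    by_contra hg
    have hg' : a * g * a⁻¹ ≠ 1 := fun h1 => hg (by simpa using h1)
    have hzH := H6.ElemHyp.le_norm hz
    have := h.fixed (g := z * u) hu huH ⟨by simpa using e1,
      H6.mem_map_conj.2 (by simpa [mul_assoc] using e2)⟩ hg' (by simpa [mul_assoc] using e3)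
      (fun h1 => huH (by simpa using Subgroup.mul_mem _ (Subgroup.inv_mem _ hzH) h1))
    exact H6.ord2_ne_one hz2 (h.semireg huH hz (by simpa [mul_assoc] using Subgroup.inv_mem _ this))
  · intro x y hx hy
    obtain ⟨s, hs, rfl⟩ := htr x hx
    obtain ⟨t, ht, rfl⟩ := htr y hy
    refine ⟨t * s⁻¹, ⟨T.mul_mem ht (T.inv_mem hs), by rw [mul_smul, inv_smul_smul]⟩, ?_⟩
    rintro r ⟨hr, hr2⟩
    rw [← inv_smul_eq_iff, ← mul_smul, ← mul_smul, H6.smul_mk_eq_iff] at hr2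
    have := h.semireg huH (T.mul_mem (T.mul_mem (T.inv_mem ht) hr) hs)
      (by simpa [mul_assoc] using hr2)
    calc r = t * (t⁻¹ * r * s) * s⁻¹ := by group
      _ = t * s⁻¹ := by rw [this, mul_one]

end Cfsg.Agent.S1229
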