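import Cfsg.Statements.S3157
import Cfsg.Agent.H3.HgC
import Cfsg.Agent.H6.U34b
import Cfsg.Agent.H6.U34c
import Cfsg.Agent.H6.Dihedral

set_option autoImplicit false
open Cfsg

namespace Cfsg.Agent.S3157

theorem ord8 {G : Type*} [Group G] [Finite G] (hG : IsPGroup 2 G) (h8 : Nat.card G ≤ 8)
    (hna : ¬ ∀ x y : G, x * y = y * x) :
    Nonempty (G ≃* DihedralGroup 4) ∨ Nonempty (G ≃* QuaternionGroup 2) := by
  classical
  obtain ⟨a, ha⟩ : ∃ a : G, a * a ≠ 1 := by
    by_contra! h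
    exact hna fun x y => by
      rw [← inv_eq_of_mul_eq_one_right (h (x * y)), mul_inv_rev, inv_eq_of_mul_eq_one_right (h x),
        inv_eq_of_mul_eq_one_right (h y)]
  have hne : Subgroup.zpowers a ≠ ⊤ := fun e => hna fun x y => by
    obtain ⟨i, rfl⟩ := Subgroup.mem_zpowers_iff.1 (e ▸ Subgroup.mem_top x)
    obtain ⟨j, rfl⟩ := Subgroup.mem_zpowers_iff.1 (e ▸ Subgroup.mem_top y)
    exact zpow_mul_comm a i j
  obtain ⟨k, hk⟩ := IsPGroup.iff_orderOf.1 hG a
  obtain ⟨l, hl⟩ := hG.index (Subgroup.zpowers a)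
  have h1 := (Subgroup.zpowers a).card_mul_index
  rw [Nat.card_zpowers, hk, hl, ← pow_add] at h1
  have hl0 : l ≠ 0 := fun e => hne (Subgroup.index_eq_one.1 (by rw [hl, e, pow_zero]))
  have hk2 : 2 ≤ k := by
    by_contra! h
    exact ha (by rw [← sq]; exact orderOf_dvd_iff_pow_eq_one.1 (hk ▸ pow_dvd_pow 2 (by omega : k ≤ 1)))
  have := (Nat.pow_le_pow_iff_right one_lt_two).1 (h1.le.trans (h8.trans_eq (show 8 = 2 ^ 3 from rfl)))
  obtain rfl : k = 2 := by omega
  obtain rfl : l = 1 := by omega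
  have o4 : orderOf a = 4 := hk
  have a4 : a ^ 4 = 1 := o4 ▸ pow_orderOf_eq_one a
  have hi : (Subgroup.zpowers a).index = 2 := hl
  have := Subgroup.normal_of_index_eq_two hi
  have ex : ∀ x ∈ Subgroup.zpowers a, x = 1 ∨ x = a ∨ x = a ^ 2 ∨ x = a ^ 3 := fun x hx => by
    obtain ⟨i, hi, rfl⟩ := Finset.mem_image.1 (mem_zpowers_iff_mem_range_orderOf.1 hx)
    rw [o4, Finset.mem_range] at hi
    interval_cases i <;> simp
  obtain ⟨b, hb⟩ : ∃ b, b ∉ Subgroup.zpowers a := by
    by_contra! h; exact hne (eq_top_iff.2 fun x _ => h x)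
  have htop : Subgroup.closure ({a, b} : Set G) = ⊤ := eq_top_iff.2 fun x _ => by
    have k1 : Subgroup.zpowers a ≤ Subgroup.closure ({a, b} : Set G) :=
      Subgroup.zpowers_le.2 (Subgroup.subset_closure (by simp))
    by_cases hx : x ∈ Subgroup.zpowers a
    · exact k1 hx
    · simpa using mul_mem (k1 ((Subgroup.mul_mem_iff_of_index_two hi).2 (iff_of_false hx
        (mt (Subgroup.inv_mem_iff _).1 hb)))) (Subgroup.subset_closure (by simp : b ∈ ({a, b} : Set G)))
  have hc : b * a * b⁻¹ ≠ a := fun e => hna fun x y => by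
    have := Subgroup.isMulCommutative_closure (k := ({a, b} : Set G)) (by
      have := mul_inv_eq_iff_eq_mul.1 e
      rintro _ (rfl | rfl) _ (rfl | rfl) <;> simp [this])
    exact congrArg Subtype.val (this.1.1 ⟨x, htop ▸ trivial⟩ ⟨y, htop ▸ trivial⟩)
  have hab : b * a * b⁻¹ = a⁻¹ := by
    rcases ex _ (this.conj_mem a (Subgroup.mem_zpowers a) b) with h | h | h | h
    · exact absurd (by rw [conj_eq_one_iff.1 h, one_mul]) ha
    · exact absurd h hc
    · refine absurd (conj_eq_one_iff.1 (show b * (a * a) * b⁻¹ = 1 from ?_)) ha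
      rw [← conj_mul, h, ← pow_add, a4]
    · rw [h, eq_inv_iff_mul_eq_one, ← pow_succ, a4]
  rcases ex _ (Subgroup.mul_self_mem_of_index_two hi b) with h | h | h | h
  · exact .inl (H6.equiv_dihedral_of_top o4 h hab hb htop)
  · exact absurd (by rw [← h]; group) hc
  · exact .inr (H6.equiv_quaternion_of_top o4 h hab hb htop)
  · refine absurd ?_ hc
    rw [show a = (b * b) ^ 3 by rw [h, ← pow_mul, show 3 * 3 = 4 * 2 + 1 from rfl, pow_succ, pow_mul, a4]; simp,
      ← conj_pow, ← mul_assoc, mul_inv_cancel_right]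

open scoped commutatorElement in
open H3.HgA Subgroup in

/-- Let T be a non-abelian group of order 64 admitting automorphisms ρ of order 3 and x of order 2 with x ρ x⁻¹ = ρ⁻¹ (so they generate a symmetric group of degree 3), where ρ fixes only the identity. Then T is isomorphic to a Sylow 2-subgroup of the projective special linear group of dimension 3 over the field with 4 elements, and the subgroup of fixed points of x is dihedral of order 8 or quaternion of order 8. -/
theorem result {T : Type*} [Group T] [Finite T] (hT : Nat.card T = 64) (hna : ¬ IsMulCommutative T) (ρ x : MulAut T) (hρ : orderOf ρ = 3) (hx : orderOf x = 2)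
    (hxr : x * ρ * x⁻¹ = ρ⁻¹) (hfp : ∀ y : T, ρ y = y → y = 1) (C : Subgroup T) (hC : ∀ y : T, y ∈ C ↔ x y = y) :
    (∃ (F : Type) (_ : Field F) (_ : Fintype F), Fintype.card F = 4 ∧
        ∃ S : Sylow 2 (Matrix.ProjectiveSpecialLinearGroup (Fin 3) F), Nonempty (T ≃* ↥(S : Subgroup (Matrix.ProjectiveSpecialLinearGroup (Fin 3) F)))) ∧
      (Nonempty (↥C ≃* DihedralGroup 4) ∨ Nonempty (↥C ≃* QuaternionGroup 2)) := by
  classical
  have : Fintype (GaloisField 2 4) := Fintype.ofFinite _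
  have hE : Fintype.card (GaloisField 2 4) = 4 ^ 2 := by
    rw [← Nat.card_eq_fintype_card, GaloisField.card 2 _ (by omega)]; rfl
  have hK := card_K0 hE
  have hQ : IsPGroup 2 T := IsPGroup.of_card (n := 6) hT
  obtain ⟨g, hg⟩ := IsCyclic.exists_generator (α := (K0 hE)ˣ)
  have og : orderOf g = 3 := by rw [orderOf_eq_card_of_forall_mem_zpowers hg, H22.card_units_field, hK]
  let φ := monoidHomOfForallMemZpowers hg (hρ.trans og.symm).dvd
  have hφ : φ g = ρ := monoidHomOfForallMemZpowers_apply_gen hg _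
  have hω : (g : K0 hE) ^ 2 + g + 1 = 0 := by
    have h1 : (g : K0 hE) ^ 3 = 1 := by rw [← Units.val_pow_eq_pow_val, ← og, pow_orderOf_eq_one]; rfl
    have h2 : (g : K0 hE) - 1 ≠ 0 := fun e => by
      rw [Units.val_eq_one.1 (sub_eq_zero.1 e), orderOf_one] at og; omega
    exact (mul_eq_zero.1 (by linear_combination h1)).resolve_left h2
  have t2 := CharTwo.two_eq_zero (R := K0 hE)
  let s : K0 hE → T →* T := fun a => if ha : a = 0 then 1 else (φ (Units.mk0 a ha)).toMonoidHom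
  have s0 : ∀ x, s 0 x = 1 := fun x => by simp [s]
  have s1 : ∀ a (ha : a ≠ 0) x, s a x = φ (Units.mk0 a ha) x := fun a ha x => by simp [s, ha]
  have sm : SM s := by
    refine ⟨fun a b x => ?_, fun x => ?_, s0⟩
    · by_cases ha : a = 0
      · rw [ha, zero_mul, s0, s0]
      by_cases hb : b = 0
      · rw [hb, mul_zero, s0, map_one]
      rw [s1 a ha, s1 b hb, s1 _ (mul_ne_zero ha hb), Units.mk0_mul, map_mul, MulAut.mul_apply]
    · rw [s1 1 one_ne_zero, Units.mk0_one, map_one]; rfl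
  have sg : ∀ y, s g y = ρ y := fun y => by rw [s1 _ g.ne_zero, Units.mk0_val, hφ]
  have sg2 : ∀ y, s (g ^ 2) y = ρ (ρ y) := fun y => by rw [sq, sm.mul, sg, sg]
  have h3 : ρ ^ 3 = 1 := hρ ▸ pow_orderOf_eq_one ρ
  have r3 : ∀ y, ρ (ρ (ρ y)) = y := fun y => congrArg (fun f : MulAut T => f y) h3
  have fp : ∀ y, y * ρ y * ρ (ρ y) = 1 := fun y => by
    have := MonoidHom.FixedPointFree.prod_pow_eq_one (φ := ρ) hfp (n := 3) (funext r3) y
    simpa [List.range_succ, mul_assoc] using this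
  have fe : ∀ (A : Subgroup T) {E : Type _} [Group E] (f : T → E), Inv s A → El A f → ∀ y ∈ A,
      f (ρ (ρ y)) = f y * f (ρ y) ∧ f (ρ y) = f y * f (ρ (ρ y)) ∧ f y = f (ρ (ρ y)) * f (ρ y) := by
    intro A E _ f hA hf y hy
    have m1 : ρ y ∈ A := sg y ▸ hA _ y hy
    have m2 : ρ (ρ y) ∈ A := sg2 y ▸ hA _ y hy
    have := congrArg f (fp y)
    rw [hf.mul _ (mul_mem hy m1) _ m2, hf.mul _ hy _ m1, hf.one] at this
    have e := mul_right_cancel ((hf.sq _ m2).trans this.symm)
    refine ⟨e, ?_, ?_⟩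
    · rw [e, ← mul_assoc, hf.sq _ hy, one_mul]
    · rw [e, mul_assoc, hf.sq _ m1, mul_one]
  have h : SA s := ⟨sm, fun A E _ f hA hf a b y hy => by
    by_cases ha : a = 0
    · rw [ha, zero_add, s0, hf.one, one_mul]
    obtain ⟨c, rfl⟩ : ∃ c, b = c * a := ⟨b / a, (div_mul_cancel₀ b ha).symm⟩
    rw [show a + c * a = (1 + c) * a by ring, sm.mul, sm.mul]
    have hz := hA a y hy
    rcases H6.f4_cases hK hω c with rfl | rfl | rfl | rfl
    · rw [add_zero, s0, sm.one, hf.one, mul_one]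
    · rw [CharTwo.add_self_eq_zero, s0, sm.one, hf.one, hf.sq _ hz]
    · rw [show 1 + (g : K0 hE) = g ^ 2 by linear_combination hω - g ^ 2 * t2, sg, sg2]
      exact (fe A f hA hf _ hz).1
    · rw [show 1 + (g : K0 hE) ^ 2 = g by linear_combination hω - g * t2, sg, sg2]
      exact (fe A f hA hf _ hz).2.1⟩
  have hc := class2 (H6.f4_ne_zero hω) (H6.f4_ne_one hω) _ T s rfl hQ h
  have hne : commutator T ≠ ⊥ := fun e => hna ⟨⟨fun x y =>
    commutatorElement_eq_one_iff_mul_comm.1 (by simpa [e] using cm x y)⟩⟩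
  obtain ⟨u, v, huv⟩ := h.two hQ hc hne
  have hle : commutator T ≤ H26.Sq ⊤ := fun c hc => (QuotientGroup.eq_one_iff c).1
    ((el_mk (H26.Sq ⊤) fun x hx => H26.sq_mem_Sq hx).der_le hc).2
  have c1 := Nat.card_le_card_of_injective _ huv
  rw [Nat.card_prod, Nat.card_eq_fintype_card, hK] at c1
  obtain ⟨z, hz, hzO, hz1⟩ := exists_Om hQ hne
  have c2 := Nat.card_le_card_of_injective (fun a => (⟨s a z, inv_der s a z hz⟩ : commutator T))
    fun a b e => eq_of_add (sm.eq_zero hz1 (by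
      rw [h.add_Om hzO, show s a z = s b z from congrArg Subtype.val e, (sm.inv_Om b z hzO).1]))
  rw [Nat.card_eq_fintype_card, hK] at c2
  have c3 := (H26.Sq (⊤ : Subgroup T)).index_mul_card
  have c4 := card_le_of_le hle
  rw [hT, index_eq_card] at c3
  have heq : commutator T = H26.Sq ⊤ := eq_of_le_of_card_ge hle (by nlinarith)
  have hb := ((Nat.bijective_iff_injective_and_card _).2 ⟨huv, by
    rw [Nat.card_prod, Nat.card_eq_fintype_card, hK]; nlinarith⟩).2
  obtain ⟨p, r, π, i, H⟩ := h.std hc hne (fun x => heq ▸ H26.sq_mem_Sq (mem_top x)) u v fun x => by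
    obtain ⟨⟨a, b⟩, e⟩ := hb x
    exact ⟨a, b, QuotientGroup.eq.2 (heq ▸ QuotientGroup.eq.1 e.symm)⟩
  have x2 : x * x = 1 := H6.ord2_mul_self hx
  have xx : ∀ y, x (x y) = y := fun y => congrArg (fun f : MulAut T => f y) x2
  have xr : ∀ y, x (ρ y) = ρ (ρ (x y)) := fun y => ρ.injective (by
    rw [r3, ← MulAut.mul_apply, ← MulAut.mul_apply, mul_assoc, mul_inv_eq_iff_eq_mul.1 hxr,
      mul_inv_cancel_left])
  refine ⟨?_, ord8 (hQ.to_subgroup C) ?_ fun hab => hne ?_⟩
  · rcases H.cases hE (by decide) with h | h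
    · obtain ⟨e⟩ := h (Classical.arbitrary _)
      have := ((H6.isU34_sylow hE _).of_equiv e.symm).eq_one_of_inverted h3 x2 (by
        rw [← mul_assoc, ← inv_eq_of_mul_eq_one_right x2, inv_eq_of_mul_eq_one_right x2]
        nth_rewrite 2 [← inv_eq_of_mul_eq_one_right x2]
        rw [hxr, inv_mul_cancel])
      rw [this, orderOf_one] at hρ; omega
    · exact ⟨_, _, _, hK, Classical.arbitrary _, h _⟩
  · have := Nat.card_le_card_of_injective (fun c : C × C => (c.1 : T) * ρ c.2) fun c d e => by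
      have k1 : ((d.1⁻¹ * c.1 : C) : T) = ρ (d.2 * c.2⁻¹ : C) := by
        simp only [coe_mul, coe_inv, map_mul, map_inv]
        rw [inv_mul_eq_iff_eq_mul, ← mul_assoc, eq_mul_inv_iff_mul_eq]; exact e
      have k2 := (hC _).1 (d.1⁻¹ * c.1).2
      rw [k1, xr, (hC _).1 (d.2 * c.2⁻¹).2] at k2
      have k3 := hfp _ (ρ.injective k2)
      rw [k3, map_one] at k1
      exact Prod.ext (inv_mul_eq_one.1 (Subtype.ext k1)).symm (mul_inv_eq_one.1 (Subtype.ext k3)).symm
    rw [Nat.card_prod, hT] at this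
    nlinarith
  have hO : commutator T ≤ Om T := fun c hc => by
    obtain ⟨w, rfl⟩ := H.ker.le (Abelianization.commutator_subset_ker π hc)
    exact ⟨by rw [← map_mul, show w * w = 1 from CharTwo.add_self_eq_zero w.toAdd, map_one],
      fun g => (H.cent w g).symm⟩
  have cz : ∀ g : T, ∀ z ∈ commutator T, ⁅g, z⁆ = 1 := fun g z hz =>
    commutatorElement_eq_one_iff_commute.2 ((hO hz).2 g)
  have hA : ∀ y, ∃ c ∈ C, ∀ f : T → T, El ⊤ f → f c = f y * f (x y) := fun y => by
    have hd : (y * x y)⁻¹ * x (y * x y) ∈ commutator T := by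
      rw [map_mul, xx, show (y * x y)⁻¹ * (x y * y) = ⁅(x y)⁻¹, y⁻¹⁆ by
        rw [commutatorElement_def]; group]
      exact cm _ _
    obtain ⟨d, hd'⟩ : ∃ d, x (y * x y) = y * x y * d := ⟨_, (mul_inv_cancel_left _ _).symm⟩
    rw [hd', inv_mul_cancel_left] at hd
    have k1 : x d = d := by
      have := congrArg x hd'
      rw [xx, map_mul, hd', mul_assoc, eq_comm, mul_eq_left] at this
      exact mul_left_cancel (this.trans (hO hd).1.symm)
    refine ⟨y * x y * ρ d, (hC _).2 ?_, fun f hf => ?_⟩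
    · rw [map_mul, hd', xr, k1, mul_assoc,
        ← (fe _ (fun x => x) (inv_der s) (el_Om hO) d hd).2.1]
    · rw [hf.mul _ trivial _ trivial, hf.mul _ trivial _ trivial,
        (hf.der_le (show ρ d ∈ _ from sg d ▸ inv_der s g d hd)).2, mul_one]
  have hB : ∀ f : T → T, El ⊤ f → (∀ a, ∀ c ∈ C, f (s a c) = 1) → ∀ y, f y = 1 := fun f hf h1 y => by
    obtain ⟨c, hc, e1⟩ := hA y
    obtain ⟨d, hd, e2⟩ := hA (ρ y)
    have k1 := e1 (fun t => f (ρ (ρ t))) ⟨fun a _ b _ => by
      rw [map_mul, map_mul, hf.mul _ trivial _ trivial], fun a _ => hf.sq _ trivial⟩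
    have k2 := e2 f hf
    have k3 := h1 1 d hd
    rw [sm.one] at k3
    rw [← sg2, h1 _ c hc] at k1
    rw [k3, xr] at k2
    rw [(fe ⊤ f (inv_top s) hf y trivial).2.2, eq_inv_of_mul_eq_one_left k1.symm,
      eq_inv_of_mul_eq_one_left k2.symm, ← mul_inv_rev, hf.sq _ trivial, inv_one]
  refine eq_bot_iff.2 (commutator_le.2 fun y _ w _ => hB _ (bil (el_Om hO) cz w).1
    (fun a c hc => hB _ (bil (el_Om hO) cz _).2 (fun b d hd => ?_) w) y)
  rw [h.rt (el_Om hO) cz (sqr_mul (a * b)), commutatorElement_eq_one_iff_mul_comm.2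
    (congrArg Subtype.val (hab ⟨c, hc⟩ ⟨d, hd⟩)), map_one]

end Cfsg.Agent.S3157
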