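import Cfsg.Statements.S5945
import Mathlib
import Cfsg.Agent.H25.SymIdx

set_option autoImplicit false
open Cfsg

namespace Cfsg.Agent.S5945

theorem stab_inj {β : Type*} [Fintype β] [DecidableEq β] (h : 3 ≤ Fintype.card β) :
    Function.Injective (MulAction.stabilizer (Equiv.Perm β) : β → _) := by
  intro a b hab
  by_contra hne
  obtain ⟨c, hc⟩ : ∃ c, c ∉ ({a, b} : Finset β) := by
    by_contra hcon
    push Not at hcon
    have := Finset.card_le_two (a := a) (b := b)
    rw [Finset.eq_univ_of_forall hcon, Finset.card_univ] at this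
    omega
  simp only [Finset.mem_insert, Finset.mem_singleton, not_or] at hc
  have : Equiv.swap b c ∈ MulAction.stabilizer (Equiv.Perm β) a :=
    Equiv.swap_apply_of_ne_of_ne hne (Ne.symm hc.1)
  rw [hab] at this
  exact hc.2 ((Equiv.swap_apply_left b c).symm.trans this)

/-- The symmetric group S_6 has exactly 12 subgroups of index 6; each of them is isomorphic to S_5, and at least one of them is not the stabilizer of any point. -/
theorem result : Nat.card {H : Subgroup (Equiv.Perm (Fin 6)) // H.index = 6} = 12 ∧ (∀ H : Subgroup (Equiv.Perm (Fin 6)), H.index = 6 → Nonempty (H ≃* Equiv.Perm (Fin 5))) ∧ ∃ H : Subgroup (Equiv.Perm (Fin 6)), H.index = 6 ∧ ∀ a : Fin 6, H ≠ MulAction.stabilizer (Equiv.Perm (Fin 6)) a := by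
  classical
  have h6 : Nat.card (Fin 6) = 6 := Nat.card_fin 6
  obtain ⟨K, hK, htr, h⟩ := H25.index_six h6
  have hne : ∀ (b : Equiv.Perm (Fin 6) ⧸ K) (a : Fin 6), MulAction.stabilizer (Equiv.Perm (Fin 6)) b ≠
      MulAction.stabilizer (Equiv.Perm (Fin 6)) a := by
    intro b a hab
    obtain ⟨g, hg⟩ := MulAction.exists_smul_eq (Equiv.Perm (Fin 6)) b (1 : Equiv.Perm (Fin 6))
    rw [← MulAction.stabilizer_quotient K, ← hg, MulAction.stabilizer_smul_eq_stabilizer_map_conj,
      hab, ← MulAction.stabilizer_smul_eq_stabilizer_map_conj] at htr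
    obtain ⟨c, hc⟩ := exists_ne (g • a)
    obtain ⟨u, hu⟩ := htr.exists_smul_eq (g • a) c
    exact hc (hu.symm.trans u.2)
  refine ⟨?_, fun H hH => ?_, K, hK, fun a => ?_⟩
  · have := Fintype.ofFinite (Equiv.Perm (Fin 6) ⧸ K)
    obtain ⟨φ, hφ⟩ := H25.exists_mulEquiv_quotient (by simp) (hK.trans h6.symm)
    let f : Fin 6 ⊕ (Equiv.Perm (Fin 6) ⧸ K) → {H : Subgroup (Equiv.Perm (Fin 6)) // H.index = 6} :=
      Sum.elim (fun a => ⟨MulAction.stabilizer _ a, by
          rw [MulAction.index_stabilizer_of_transitive, h6]⟩)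
        fun b => ⟨MulAction.stabilizer _ b, by
          rw [MulAction.index_stabilizer_of_transitive]; exact hK⟩
    have hf : Function.Bijective f := by
      constructor
      · rintro (a | a) (b | b) hab <;> replace hab := congrArg Subtype.val hab
        · rw [stab_inj (by simp) hab]
        · exact absurd hab.symm (hne _ _)
        · exact absurd hab (hne _ _)
        · change MulAction.stabilizer _ a = MulAction.stabilizer _ b at hab
          rw [← hφ, ← hφ] at hab
          rw [stab_inj (by rw [← Nat.card_eq_fintype_card]; change 3 ≤ K.index; omega)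
            (Subgroup.map_injective φ.symm.injective hab)]
      · rintro ⟨H, hH⟩
        rcases h H hH with ⟨a, rfl⟩ | ⟨b, rfl⟩
        · exact ⟨Sum.inl a, rfl⟩
        · exact ⟨Sum.inr b, rfl⟩
    rw [← Nat.card_congr (Equiv.ofBijective f hf), Nat.card_sum, h6]
    change 6 + K.index = 12
    omega
  · have := Fintype.ofFinite (Equiv.Perm (Fin 6) ⧸ H)
    obtain ⟨φ, hφ⟩ := H25.exists_mulEquiv_quotient (by simp) (hH.trans h6.symm)
    obtain ⟨e⟩ := H25.nonempty_stabilizer_equiv ((1 : Equiv.Perm (Fin 6)) : _ ⧸ H) (n := 5) hH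
    refine ⟨(MulEquiv.subgroupCongr ?_).trans ((φ.symm.subgroupMap _).symm.trans e)⟩
    exact ((hφ _).trans (MulAction.stabilizer_quotient H)).symm
  · rw [← MulAction.stabilizer_quotient K]
    exact hne _ a

end Cfsg.Agent.S5945
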