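import Cfsg.Statements.S3341
import Cfsg.Agent.H25.Tri4
import Cfsg.Agent.S0496
import Cfsg.Agent.S0497

set_option autoImplicit false
open Cfsg

namespace Cfsg.Agent.S3341

open H25 Subgroup in
theorem setup {G : Type*} [Group G] [Finite G] (P : Sylow 3 G) (hcomm : IsMulCommutative (P : Subgroup G))
    (hexp : ∀ a ∈ (P : Subgroup G), a ^ 3 = 1) (hcard : Nat.card (P : Subgroup G) = 9)
    (hcent : ∀ s ∈ (P : Subgroup G), s ≠ 1 → centralizer ({s} : Set G) = P)
    {a b : G} (ha : a ∈ (P : Subgroup G)) (hb : b ∈ (P : Subgroup G)) (a1 : a ≠ 1) (b1 : b ≠ 1)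
    (h1 : b ≠ a) (h2 : b ≠ a⁻¹) :
    T3 (md2 a b) (normalizer (P : Set G)) ∧ (∀ v, ¬ T3Bad (md2 a b) (normalizer (P : Set G)) v) ∧
      (∀ g, g ∈ (P : Subgroup G) ↔ ∃ v, md2 a b v = g) := by
  have cm : Commute a b := congrArg Subtype.val (hcomm.is_comm.comm ⟨a, ha⟩ ⟨b, hb⟩)
  have inj := md2_inj (hexp a ha) (hexp b hb) cm a1 b1 h1 h2
  have sur := md2_surj inj hcard ha hb
  obtain ⟨h, hbad⟩ := T3.of_sylow P (md2_add (hexp a ha) (hexp b hb) cm) inj
    (by decide) sur (fun g hg g1 => by rw [hcent g hg g1]; exact le_normalizer)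
  exact ⟨h, hbad, sur⟩

open H25 Subgroup in
theorem neg_conj {G : Type*} [Group G] [Finite G] [IsSimpleGroup G] (P : Sylow 3 G)
    (hcard : Nat.card (P : Subgroup G) = 9)
    (hcent : ∀ s ∈ (P : Subgroup G), s ≠ 1 → centralizer ({s} : Set G) = P)
    (hG : ¬ IsMulCommutative G) {f : V9 → G} (h : T3 f (normalizer (P : Set G)))
    (sur : ∀ g, g ∈ (P : Subgroup G) ↔ ∃ v, f v = g) (u : V9) : IsConj (f u) (f (-u)) := by
  have h3 : 3 ∣ Nat.card G := (show 3 ∣ 9 by norm_num).trans (hcard ▸ card_subgroup_dvd_card _)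
  obtain ⟨g, hg, hg'⟩ := SetLike.not_le_iff_exists.1 (H2.sm_not_normalizer_le hG P h3)
  obtain ⟨p, q, hpq⟩ := h.exists_lin hg
  have fpf : ∀ u, u ≠ 0 → lin9 p q u ≠ u := fun u hu e => hg' (by
    have := hpq u
    rw [e, mul_inv_eq_iff_eq_mul] at this
    have h4 : g ∈ (P : Subgroup G) := by
      rw [← hcent _ ((sur _).2 ⟨u, rfl⟩) (h.ne_one hu)]
      exact mem_centralizer_singleton_iff.2 this
    obtain ⟨w, rfl⟩ := (sur g).1 h4
    rw [mem_centralizer_iff]
    intro x hx
    obtain ⟨v, rfl⟩ := (sur x).1 hx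
    exact h.comm v w)
  have nz : ∀ u, u ≠ 0 → lin9 p q u ≠ 0 := fun u hu e => by
    have := hpq u
    rw [e, h.zero, mul_inv_eq_one, mul_eq_left] at this
    exact h.ne_one hu this
  have c : ∀ u, IsConj (f u) (f (lin9 p q u)) := fun u => isConj_iff.2 ⟨g, hpq u⟩
  have key : lin9 p q u = -u ∨ lin9 p q (lin9 p q u) = -u ∨ lin9 p q (lin9 p q (lin9 p q u)) = -u ∨
      lin9 p q (lin9 p q (lin9 p q (lin9 p q u))) = -u := by
    clear hpq c
    revert u fpf nz
    revert p q
    decide +kernel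
  rcases key with e | e | e | e <;> rw [← e]
  · exact c _
  · exact (c _).trans (c _)
  · exact ((c _).trans (c _)).trans (c _)
  · exact (((c _).trans (c _)).trans (c _)).trans (c _)

open H25 in
theorem fin_lemma (X Z : Finset V9) (h0 : (0 : V9) ∉ X) (h1 : (0 : V9) ∉ Z) (hd : Disjoint X Z)
    (hc : X.card = Z.card) (hs : Finset.univ.filter (rC4 (1, 0)) ⊆ X) :
    X = Finset.univ.filter (rC4 (1, 0)) ∧ Z = Finset.univ.filter (rC4 (1, 1)) := by
  have c1 : (Finset.univ.filter (rC4 (1, 0))).card = 4 := by decide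
  have c2 : (Finset.univ.filter (rC4 (1, 1))).card = 4 := by decide
  have l1 := Finset.card_le_card hs
  have l2 : (X ∪ Z).card ≤ 8 := by
    have : X ∪ Z ⊆ Finset.univ.erase 0 := fun x hx => by
      rw [Finset.mem_erase]
      refine ⟨?_, Finset.mem_univ _⟩
      rintro rfl
      rcases Finset.mem_union.1 hx with h | h
      exacts [h0 h, h1 h]
    exact (Finset.card_le_card this).trans (by decide)
  rw [Finset.card_union_of_disjoint hd] at l2
  have e := (Finset.eq_of_subset_of_card_le hs (by omega)).symm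
  refine ⟨e, Finset.eq_of_subset_of_card_le (fun z hz => ?_) (by omega)⟩
  have z1 : z ≠ 0 := by rintro rfl; exact h1 hz
  have z2 : z ∉ Finset.univ.filter (rC4 (1, 0)) := e ▸ Finset.disjoint_right.1 hd hz
  clear hz
  revert z
  decide

/-- Let G be a finite simple group whose Sylow 3-subgroup S is elementary abelian of order 9, such that G has more than one conjugacy class of elements of order 3 and C_G(s) = S for every non-identity s in S. Then G is isomorphic to the alternating group of degree 6. -/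
theorem result {G : Type*} [Group G] [Finite G] [IsSimpleGroup G]
    (P : Sylow 3 G) (S : Subgroup G) (hSP : S = P) (hcomm : IsMulCommutative S) (hexp : ∀ a ∈ S, a ^ 3 = 1)
    (hcard : Nat.card S = 9)
    (hclasses : ∃ a b : G, orderOf a = 3 ∧ orderOf b = 3 ∧ ∀ g : G, g * a * g⁻¹ ≠ b)
    (hcent : ∀ s ∈ S, s ≠ 1 → Subgroup.centralizer ({s} : Set G) = S) :
    Nonempty (G ≃* alternatingGroup (Fin 6)) := by
  classical
  subst hSP
  open H25 Subgroup in
  have h9 : 9 ∣ Nat.card G := hcard ▸ card_subgroup_dvd_card _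
  have hG : ¬ IsMulCommutative G := H2.sm_noncomm_of_card fun hp => by
    rcases (Nat.dvd_prime hp).1 ((show 3 ∣ 9 by norm_num).trans h9) with h | h
    · omega
    · rw [← h] at h9; omega
  have czf : ∀ {f : V9 → G}, T3 f (normalizer (P : Set G)) → (∀ g, g ∈ (P : Subgroup G) ↔ ∃ v, f v = g) →
      ∀ u, u ≠ 0 → 9 * (Finset.univ.filter fun w => IsConj (f u) (f w)).card =
        Nat.card (normalizer (P : Set G)) := fun {f} h sur u hu => by
    rw [← h.cz_mul (r := fun a b => IsConj (f a) (f b)) (fun _ _ _ => Iff.rfl) hu]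
    congr 1
    rw [← hcard, ← hcent _ ((sur _).2 ⟨u, rfl⟩) (h.ne_one hu)]
  by_cases hA : ∃ a ∈ (P : Subgroup G), ∃ b ∈ (P : Subgroup G), a ≠ 1 ∧ b ≠ a ∧ b ≠ a⁻¹ ∧ IsConj a b
  · obtain ⟨a, ha, b, hb, a1, h1, h2, hab⟩ := hA
    have b1 : b ≠ 1 := fun e => a1 (isConj_one_left.1 (e ▸ hab))
    obtain ⟨h, hbad, sur⟩ := setup P hcomm hexp hcard hcent ha hb a1 b1 h1 h2
    have ng := neg_conj P hcard hcent hG h sur
    set f := md2 a b with hf
    obtain ⟨z, z0, hz⟩ : ∃ z, z ≠ 0 ∧ ¬ IsConj (f (1, 0)) (f z) := by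
      obtain ⟨x, y, hx, hy, hxy⟩ := hclasses
      obtain ⟨x', hx1, hx2, hx3⟩ := H2.sm_exists_conj_mem P hx
      obtain ⟨y', hy1, hy2, hy3⟩ := H2.sm_exists_conj_mem P hy
      obtain ⟨u, rfl⟩ := (sur _).1 hx1
      obtain ⟨w, rfl⟩ := (sur _).1 hy1
      by_contra! hc
      have u0 : u ≠ 0 := by rintro rfl; exact hx2 h.zero
      have w0 : w ≠ 0 := by rintro rfl; exact hy2 h.zero
      obtain ⟨g, hg⟩ := isConj_iff.1 (((hx3.trans (hc u u0).symm).trans (hc w w0)).trans hy3.symm)
      exact hxy g hg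
    have c01 : IsConj (f (1, 0)) (f (0, 1)) := by rw [hf, md2_a, md2_b]; exact hab
    have e1 := czf h sur (1, 0) (by decide)
    have e2 := czf h sur z z0
    obtain ⟨eX, eZ⟩ := fin_lemma (Finset.univ.filter fun w => IsConj (f (1, 0)) (f w))
      (Finset.univ.filter fun w => IsConj (f z) (f w))
      (by simp only [Finset.mem_filter, h.zero]; exact fun e => h.not_conj_one (by decide) e.2)
      (by simp only [Finset.mem_filter, h.zero]; exact fun e => h.not_conj_one z0 e.2)
      (Finset.disjoint_left.2 fun w h1 h2 => hz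
        ((Finset.mem_filter.1 h1).2.trans (Finset.mem_filter.1 h2).2.symm)) (by omega)
      (fun w hw => by
        have : w = (1, 0) ∨ w = -(1, 0) ∨ w = (0, 1) ∨ w = -(0, 1) := by revert w; decide
        rw [Finset.mem_filter]
        refine ⟨Finset.mem_univ _, ?_⟩
        rcases this with rfl | rfl | rfl | rfl
        exacts [IsConj.refl _, ng _, c01, c01.trans (ng _)])
    have kX : ∀ w, IsConj (f (1, 0)) (f w) ↔ rC4 (1, 0) w := fun w => by
      simpa using congrArg (w ∈ ·) eX
    have kZ : ∀ w, IsConj (f z) (f w) ↔ rC4 (1, 1) w := fun w => by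
      simpa using congrArg (w ∈ ·) eZ
    have hr : ∀ u w, u ≠ 0 → (IsConj (f u) (f w) ↔ rC4 u w) := fun u w hu => by
      have : rC4 (1, 0) u ∧ (rC4 u w ↔ rC4 (1, 0) w) ∨ rC4 (1, 1) u ∧ (rC4 u w ↔ rC4 (1, 1) w) := by
        revert u w; decide
      rcases this with ⟨h3, h4⟩ | ⟨h3, h4⟩
      · rw [h4, ← kX]
        exact ⟨((kX u).2 h3).trans, ((kX u).2 h3).symm.trans⟩
      · rw [h4, ← kZ]
        exact ⟨((kZ u).2 h3).trans, ((kZ u).2 h3).symm.trans⟩
    have hN : Nat.card (normalizer (P : Set G)) = 36 := by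
      rw [← e1, eX]; decide
    have le := h.c4_le hbad hr hN
    have di : 9 ∣ (normalizer (P : Set G)).index - 1 := by simpa using h.dvd_index
    have im := (normalizer (P : Set G)).index_mul_card
    rw [hN] at im
    refine Cfsg.Agent.S0497.result ?_
    rcases Cfsg.Agent.S0496.result hG (by omega) with e | e | e | e | e | e <;> omega
  · exfalso
    push Not at hA
    obtain ⟨a, ha, a1⟩ : ∃ a ∈ (P : Subgroup G), a ≠ 1 := by
      by_contra! hc
      rw [(eq_bot_iff_forall _).2 hc] at hcard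
      simp at hcard
    obtain ⟨b, hb, b1, h1, h2⟩ : ∃ b ∈ (P : Subgroup G), b ≠ 1 ∧ b ≠ a ∧ b ≠ a⁻¹ := by
      by_contra! hc
      have : ((P : Subgroup G) : Set G) ⊆ {1, a, a⁻¹} := fun b hb => by
        by_cases e1 : b = 1
        · simp [e1]
        by_cases e2 : b = a
        · simp [e2]
        simp [hc b hb e1 e2]
      have l := (Set.ncard_le_ncard this (Set.toFinite _)).trans (Set.ncard_insert_le _ _)
      have l2 := Set.ncard_insert_le a {a⁻¹}
      rw [Set.ncard_singleton] at l2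
      have : ((P : Subgroup G) : Set G).ncard = 9 := hcard
      omega
    obtain ⟨h, hbad, sur⟩ := setup P hcomm hexp hcard hcent ha hb a1 b1 h1 h2
    have ng := neg_conj P hcard hcent hG h sur
    set f := md2 a b with hf
    have hr : ∀ u w, u ≠ 0 → (IsConj (f u) (f w) ↔ rC2 u w) := fun u w hu => by
      constructor
      · intro hc
        by_contra hn
        refine hA _ ((sur _).2 ⟨u, rfl⟩) _ ((sur _).2 ⟨w, rfl⟩) (h.ne_one hu)
          (fun e => hn (Or.inl (h.inj e))) (fun e => hn (Or.inr (h.inj ?_))) hc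
        rw [e, h.neg]
      · rintro (rfl | rfl)
        exacts [IsConj.refl _, ng _]
    have := h.c2_le hbad hr (by
      rw [← czf h sur (1, 0) (by decide), Finset.filter_congr fun w _ => hr _ w (by decide)]
      decide)
    rcases Cfsg.Agent.S0496.result hG (by omega) with e | e | e | e | e | e <;> omega

end Cfsg.Agent.S3341
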