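import Cfsg.Statements.S3289
import Cfsg.Agent.H11.YD

set_option autoImplicit false
open Cfsg

namespace Cfsg.Agent.S3289

open Subgroup MulAction H16 H15.Bd H11.ZD H11.YZ


/-- Let T be a Sylow 2-subgroup of a finite group G and S a nontrivial subgroup of T strongly closed in T with respect to G. Suppose a proper subgroup H of G contains the centralizer of every non-identity element of S and the normalizer of the subgroup generated by the involutions of S. Then, writing X for the normal closure of S, the subgroup H ∩ X is strongly embedded in X, and S equals T ∩ X or the subgroup generated by the involutions of T ∩ X; if moreover S has 2-rank 1, then S = T ∩ X. -/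
theorem result {G : Type*} [Group G] [Finite G] (T : Sylow 2 G) (S : Subgroup G) (hS : S ≠ ⊥)
    (hsc : Cfsg.IsStronglyClosed S (T : Subgroup G)) (H : Subgroup G) (hH : H ≠ ⊤)
    (hC : ∀ s ∈ S, s ≠ 1 → Subgroup.centralizer ({s} : Set G) ≤ H)
    (hN : Subgroup.normalizer ((Cfsg.omegaOne 2 S : Subgroup G) : Set G) ≤ H) :
    Cfsg.IsStronglyEmbedded ((H ⊓ Subgroup.normalClosure (S : Set G)).subgroupOf (Subgroup.normalClosure (S : Set G))) ∧
      (S = (T : Subgroup G) ⊓ Subgroup.normalClosure (S : Set G) ∨ S = Cfsg.omegaOne 2 ((T : Subgroup G) ⊓ Subgroup.normalClosure (S : Set G))) ∧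
      (Cfsg.PRankLE 2 1 ↥S → S = (T : Subgroup G) ⊓ Subgroup.normalClosure (S : Set G)) := by
  have hT := sy_top_of_sylow T
  have h : SCH T S H := ⟨hT, hsc, hS, fun s hs os => hC s hs (H6.ord2_ne_one os), (sc_norm hsc).trans (le_trans (fun g hg =>
    mem_norm_of_cj_le ((MonoidHom.map_closure _ _).le.trans (closure_mono (by
      rintro _ ⟨x, hx, rfl⟩
      exact ⟨conj_mem hg hx.1, by rw [← map_pow, hx.2, map_one]⟩)))) hN), hH⟩
  have hL : LX (DS S) ⊤ ≤ normalClosure (S : Set G) := LX_le_iff.2 fun d hd _ => by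
    obtain ⟨g, hg⟩ := hd.2
    simpa [mul_assoc] using normalClosure_normal.conj_mem' _ (le_normalClosure hg) g
  rw [inf_subgroupOf_right]
  rcases h.main with ⟨⟨h1, h2⟩, s, hs, t, ht, os, ot, hne⟩ | ⟨-, u⟩
  · have := LX_normal (conj_DS (S := S))
    rw [le_antisymm (normalClosure_le_normal h1) hL]
    refine ⟨h.se le_rfl fun _ => h.pure, h2, fun hr => ?_⟩
    obtain ⟨z, hz, oz, h3⟩ := h.exists_z
    have key : ∀ s ∈ S, orderOf s = 2 → s = z := fun s hs os => by
      have h4 := prk_iff.1 hr _ (sup_le (zpowers_le.2 hz) (zpowers_le.2 hs)) (ea_sup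
        (ea_zpowers (oz ▸ pow_orderOf_eq_one z)) (ea_zpowers (os ▸ pow_orderOf_eq_one s))
        (zpowers_le.2 (cent_anti (zpowers_le.2 (hsc.1 hs)) h3)))
      have h5 : s ∈ zpowers z := (eq_of_le_of_card le_sup_left (by rw [card_zpowers, oz]; exact h4)).ge
        (mem_sup_right (mem_zpowers s))
      exact (H5.mem_zpowers_two (H6.ord2_mul_self oz) h5).resolve_left (H6.ord2_ne_one os)
    exact absurd ((key s hs os).trans (key t ht ot).symm) hne
  have h1 : S = (T : Subgroup G) ⊓ normalClosure (S : Set G) := le_antisymm (le_inf hsc.1 le_normalClosure) (U1.inf_le u hT hsc)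
  refine ⟨?_, Or.inl h1, fun _ => h1⟩
  have := h.se_sup (Q := normalClosure (S : Set G)) (by
    have := hl_inf hT (L := normalClosure (S : Set G)) le_top le_normalizer_of_normal
    rwa [← h1] at this)
  rwa [sup_eq_right.2 hL] at this

end Cfsg.Agent.S3289
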