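import Cfsg.Statements.S1249
import Cfsg.Agent.H6.Iso

set_option autoImplicit false
open Cfsg

namespace Cfsg.Agent.S1249

/-- Let P and Q be Sylow p-subgroups of the finite group G both containing the subgroup A. If A is strongly closed in P, then A is strongly closed in Q. -/
theorem result {G : Type*} [Group G] [Finite G] {p : ℕ} [Fact p.Prime] (P Q : Sylow p G) (A : Subgroup G) (hAQ : A ≤ Q) (hA : Cfsg.IsStronglyClosed A (P : Subgroup G)) : Cfsg.IsStronglyClosed A (Q : Subgroup G) := by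
  obtain ⟨h, rfl⟩ := MulAction.exists_smul_eq G P Q
  have h1 : ∀ a ∈ A, h⁻¹ * a * h⁻¹⁻¹ ∈ A := fun a ha =>
    hA.2 a ha h⁻¹ (by
      have : a ∈ h • P := hAQ ha
      rw [H6.mem_sylow_smul] at this
      rw [inv_inv]; exact this)
  have hN := Subgroup.inv_mem _ (H6.mem_normalizer_of_conj_le h1)
  rw [inv_inv] at hN
  refine ⟨hAQ, fun x hx g hg => ?_⟩
  have h2 : g * x * g⁻¹ ∈ h • P := hg
  rw [H6.mem_sylow_smul] at h2
  have h3 := hA.2 x hx (h⁻¹ * g) (by
    have : h⁻¹ * g * x * (h⁻¹ * g)⁻¹ = h⁻¹ * (g * x * g⁻¹) * h := by group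
    rw [this]; exact h2)
  have := (Subgroup.mem_normalizer_iff.1 hN _).1 h3
  simpa [mul_assoc] using this

end Cfsg.Agent.S1249
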