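import Cfsg.Statements.S0983
import Cfsg.Agent.H2.FiltG
import Cfsg.Agent.H2.Sm7

set_option autoImplicit false
open Cfsg

namespace Cfsg.Agent.S0983

/-- A non-abelian finite simple group of order greater than 3640 and at most 6232 has order 4080, 5616, 6048 or 6072. -/
theorem result {G : Type*} [Group G] [Finite G] [IsSimpleGroup G] (hG : ¬ IsMulCommutative G) (h1 : 3640 < Nat.card G) (h2 : Nat.card G ≤ 6232) : Nat.card G = 4080 ∨ Nat.card G = 5616 ∨ Nat.card G = 6048 ∨ Nat.card G = 6072 := by
  have := H2.filt_range hG (ok := [4080, 5400, 5616, 6048, 6072]) (a := 911) (W :=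
      [(0,911), (1,19), (1,83), (0,457), (1,61), (0,229), (1,131), (1,17), (0,919), (1,23), (1,307),
      (0,461), (1,71), (1,11), (1,37), (0,463), (1,103), (0,29), (0,929), (1,31), (1,19), (0,233),
      (1,311), (0,467), (1,17), (1,13), (0,937), (1,67), (1,313), (1,47), (0,941), (1,157), (1,41),
      (0,59), (1,7), (1,43), (0,947), (1,79), (1,73), (1,19), (1,317), (1,17), (0,953), (1,53),
      (1,191), (0,239), (1,29), (0,479), (1,137), (1,5), (0,31), (1,37), (1,107), (0,241), (1,193),
      (1,23), (0,967), (0,11), (1,19), (1,97), (0,971), (0,3), (1,139), (0,487), (1,13), (0,61),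
      (0,977), (1,163), (1,89), (2,7), (1,109), (0,491), (0,983), (1,41), (1,197), (1,29), (1,47),
      (1,19), (1,43), (1,11), (0,991), (0,31), (1,331), (1,71), (1,199), (1,83), (0,997), (0,499),
      (1,37), (0,5), (1,13), (1,167), (1,59), (0,251), (1,67), (0,503), (1,53), (1,7), (0,1009),
      (1,101), (1,337), (1,23), (0,1013), (1,3), (1,29), (0,127), (1,113), (0,509), (0,1019), (0,2),
      (0,1021), (1,73), (1,31), (0,2), (1,41), (1,19), (1,79), (0,257), (1,3), (1,103), (0,1031),
      (1,43), (0,1033), (1,47), (1,23), (1,37), (1,61), (1,173), (0,1039), (1,13), (1,347), (0,521),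
      (1,149), (1,29), (1,19), (0,523), (1,349), (0,131), (0,1049), (1,7), (0,1051), (0,263), (1,13),
      (1,31), (1,211), (1,11), (1,151), (0,23), (1,353), (1,53), (0,1061), (1,59), (0,1063), (1,19),
      (1,71), (1,41), (1,97), (1,89), (0,1069), (1,107), (1,17), (0,67), (1,37), (1,179), (1,43),
      (0,269), (1,359), (1,11), (1,83), (1,5), (1,47), (0,541), (1,3), (0,271), (1,31), (1,181),
      (0,1087), (0,17), (2,11), (1,109), (0,1091), (1,13), (0,1093), (0,547), (1,73), (0,137),
      (0,1097), (1,61), (1,157), (1,11), (1,367), (1,29), (0,1103), (1,23), (1,17), (1,79), (1,41),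
      (0,277), (0,1109), (1,37), (1,101), (0,139), (1,53), (0,557), (1,223), (1,31), (0,1117), (1,43),
      (1,373), (1,7), (1,59), (1,17), (0,1123), (0,281), (3,5), (0,563), (1,23), (1,47), (0,1129),
      (1,113), (1,29), (0,283), (1,103), (1,7), (1,227), (0,71), (1,379), (0,569), (1,67), (1,19),
      (1,163), (0,571), (1,127), (1,13), (1,229), (1,191), (1,37), (1,41), (1,383), (1,23), (0,1151),
      (0,3), (0,1153), (0,577), (1,7), (0,17), (1,89), (1,193), (1,61), (1,29), (1,43), (1,83),
      (0,1163), (1,97), (1,233), (1,53), (1,389), (0,73), (1,167), (1,13), (0,1171), (0,293), (1,23),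
      (0,587), (1,47), (2,7), (1,107), (1,31), (1,131), (1,59), (0,1181), (1,197), (1,7), (0,37),
      (1,79), (0,593), (0,1187), (1,11), (1,41), (1,17), (1,397), (0,149), (0,1193), (1,199), (1,239),
      (1,23), (1,19), (0,599), (1,109), (1,3), (0,1201), (0,601), (1,401), (1,43), (1,241), (1,67),
      (1,71), (0,151), (1,31), (1,5), (1,173), (1,101), (0,1213), (0,607), (1,5), (0,19), (0,1217),
      (1,29), (1,53), (1,61), (1,37), (1,47), (0,1223), (1,17), (2,5), (0,613), (1,409), (0,307),
      (0,1229), (1,41), (0,1231), (1,11), (1,137), (0,617), (1,19), (1,103), (0,1237), (0,619),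
      (1,59), (1,31), (1,73), (1,23), (1,113), (0,311), (1,83), (1,89), (1,43), (1,13), (0,1249),
      (0,5), (1,139), (0,313), (1,179), (1,19), (1,251), (0,157), (1,419), (1,37), (0,1259), (1,5),
      (1,97), (0,631), (1,421), (0,79), (1,23), (1,211), (1,181), (0,317), (1,47), (1,127), (1,41),
      (1,53), (1,67), (1,13), (1,17), (1,29), (0,1277), (1,71), (0,1279), (0,5), (1,61), (0,641),
      (0,1283), (1,107), (1,257), (0,643), (1,13), (1,23), (0,1289), (1,43), (0,1291), (1,19),
      (1,431), (0,647), (1,37), (0,3), (0,1297), (1,59), (1,433), (1,13), (0,1301), (1,31), (0,1303),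
      (0,163), (1,29), (0,653), (0,1307), (1,109), (1,17), (1,131), (1,23), (0,41), (1,101), (1,73),
      (1,263), (1,47), (1,439), (0,659), (0,1319), (1,11), (0,1321), (0,661), (2,7), (0,331), (1,53),
      (1,17), (0,1327), (0,83), (1,443), (1,19), (0,11), (1,37), (1,43), (1,29), (1,89), (0,167),
      (1,191), (1,223), (1,103), (1,67), (1,149), (1,61), (1,79), (1,7), (1,269), (0,673), (1,449),
      (0,337), (1,71), (0,2), (1,193), (0,13), (1,41), (0,677), (1,271), (1,113), (1,59), (1,97),
      (1,151), (1,17), (0,1361), (1,227), (1,47), (1,31), (1,13), (0,683), (0,1367), (1,19), (0,37),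
      (1,137), (1,457), (0,7), (0,1373), (1,229), (1,11), (0,43), (1,17), (1,53), (1,197), (1,23),
      (0,1381), (0,691), (1,461), (0,173), (1,277), (1,11), (1,73), (0,347), (1,463), (1,139),
      (1,107), (1,29), (1,199), (1,41), (1,31), (0,349), (1,127), (1,233), (0,1399), (1,7), (1,467),
      (0,701), (1,61), (0,2), (1,281), (1,37), (1,67), (0,11), (0,1409), (1,47), (1,83), (0,353),
      (1,157), (1,101), (1,283), (1,59), (1,109), (0,709), (1,43), (1,71), (1,29), (1,79), (0,1423),
      (0,89), (1,19), (1,31), (0,1427), (1,17), (0,1429), (1,13), (1,53), (0,179), (0,1433), (1,239),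
      (1,41), (0,359), (1,479), (0,719), (0,1439), (1,5), (1,131), (1,103), (1,37), (0,19), (1,5),
      (1,241), (0,1447), (0,181), (1,23), (1,29), (0,1451), (1,3), (0,1453), (0,727), (1,97), (1,13),
      (1,47), (0,3), (0,1459), (1,73), (1,487), (1,43), (1,19), (1,61), (1,293), (0,733), (1,163),
      (0,367), (1,113), (1,5), (0,1471), (0,23), (1,491), (1,67), (1,59), (1,41), (1,211), (0,739),
      (1,29), (1,37), (0,1481), (1,19), (0,1483), (1,53), (1,11), (0,743), (0,1487), (1,31), (0,1489),
      (1,149), (1,71), (0,373), (0,1493), (1,83), (1,23), (1,17), (1,499), (1,107), (0,1499), (1,3),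
      (1,79), (0,751), (1,167), (0,47), (1,43), (1,251), (1,137), (1,29), (1,503), (1,151), (0,1511),
      (0,2), (1,89), (0,757), (1,101), (0,379), (1,41), (0,2), (1,31), (1,19), (2,13), (0,761),
      (0,1523), (1,127), (1,61), (1,109), (1,509), (0,191), (1,139), (1,17), (0,1531), (0,383),
      (1,73), (1,59), (1,307), (0,3), (1,53), (0,769), (1,19), (1,11), (1,67), (1,257), (0,1543),
      (0,193), (1,103), (0,773), (1,17), (1,43), (0,1549), (1,31), (1,47), (0,97), (0,1553), (1,37),
      (1,311), (0,389), (1,173), (1,41)])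
    (by decide +kernel) (by omega) (lt_of_le_of_lt h2 (by decide +kernel))
  have h3 : Nat.card G ≠ 5400 := fun h => by
    rcases H2.sm_known_eight hG (m := 675) h (by decide) with h3 | ⟨-, -, h3⟩
    · rcases H2.sm_known_card h3 with h4 | ⟨q, -, -, -, h4⟩
      · omega
      have h5 : q < 23 := by
        by_contra h5
        have := Nat.mul_le_mul (not_lt.1 h5) (Nat.sub_le_sub_right
          (Nat.pow_le_pow_left (not_lt.1 h5) 2) 1)
        omega
      interval_cases q <;> omega
    · omega
  simp only [List.mem_cons, List.not_mem_nil, or_false] at this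
  omega

end Cfsg.Agent.S0983
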