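import Cfsg.Statements.S2503
import Cfsg.Agent.H4.Tor3

set_option autoImplicit false
open Cfsg

namespace Cfsg.Agent.S2503

open H4 in
theorem key {F : Type*} [Field F] [Fintype F] (h0 : (2 : F) = 0) {s : F}
    (he : Ell (slComp s).1) (g : Matrix.SpecialLinearGroup (Fin 2) F) :
    ∃ a ∈ sT (sgl (slComp s)), ∃ t : F, ∃ c ∈ sT (sgl (slComp s)), g = a * upT t * c := by
  have e00 : (slComp s).1 0 0 = 0 := rfl
  have e01 : (slComp s).1 0 1 = -1 := rfl
  have e10 : (slComp s).1 1 0 = 1 := rfl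
  have e11 : (slComp s).1 1 1 = s := rfl
  have u00 : ∀ t : F, (upT t).1 0 0 = 1 := fun _ => rfl
  have u01 : ∀ t : F, (upT t).1 0 1 = t := fun _ => rfl
  have u10 : ∀ t : F, (upT t).1 1 0 = 0 := fun _ => rfl
  have u11 : ∀ t : F, (upT t).1 1 1 = 1 := fun _ => rfl
  have o00 : (1 : Matrix.SpecialLinearGroup (Fin 2) F).1 0 0 = 1 := rfl
  have o01 : (1 : Matrix.SpecialLinearGroup (Fin 2) F).1 0 1 = 0 := rfl
  have o10 : (1 : Matrix.SpecialLinearGroup (Fin 2) F).1 1 0 = 0 := rfl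
  have o11 : (1 : Matrix.SpecialLinearGroup (Fin 2) F).1 1 1 = 1 := rfl
  generalize slComp s = e at *
  have k : ∀ t : F, (e * (upT t * e * (upT t)⁻¹)).1.trace = t * t + s * s := fun t => by
    rw [upT_inv, Matrix.trace_fin_two]
    simp only [sl2_mul_apply, e00, e01, e10, e11, u00, u01, u10, u11]
    linear_combination (-1 - t * t) * h0
  have kt : ∀ x : Matrix.SpecialLinearGroup (Fin 2) F, (x * e * x⁻¹).1.trace = e.1.trace := fun x =>
    (sl_trace_of_isConj (isConj_iff.2 ⟨x, rfl⟩)).symm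
  have kc : ∀ x y : Matrix.SpecialLinearGroup (Fin 2) F, x * e * x⁻¹ = y * e * y⁻¹ → x⁻¹ * y ∈ sT (sgl e) :=
    fun x y h => by
      rw [sT_sgl, Subgroup.mem_centralizer_singleton_iff]
      calc x⁻¹ * y * e = x⁻¹ * (y * e * y⁻¹) * y := by group
        _ = e * (x⁻¹ * y) := by rw [← h]; group
  obtain ⟨t, ht⟩ := exists_sq_of_two_eq_zero h0 ((e * (g * e * g⁻¹)).1.trace + s * s)
  have ht' : (e * (g * e * g⁻¹)).1.trace = (e * (upT t * e * (upT t)⁻¹)).1.trace := by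
    rw [k, ht]; linear_combination (-s * s) * h0
  by_cases h : (e.1 * (g * e * g⁻¹).1 - (g * e * g⁻¹).1 * e.1).det = 0
  · rcases sl_eq_or_inv_of_comm (he.comm_of_det h) he.sl_disc (kt g).symm with h1 | h1
    · refine ⟨1, one_mem _, 0, 1⁻¹ * g, kc 1 g (by rw [h1]; group), by rw [upT_zero]; group⟩
    · refine ⟨1, one_mem _, s, (upT s)⁻¹ * g, kc _ g ?_, by group⟩
      rw [h1, upT_inv, eq_inv_iff_mul_eq_one]
      refine sl2_ext ?_ ?_ ?_ ?_ <;>
        simp only [sl2_mul_apply, e00, e01, e10, e11, u00, u01, u10, u11, o00, o01, o10, o11]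
      · linear_combination (-1) * h0
      · linear_combination (-s) * h0
      · ring
      · linear_combination (-1) * h0
  · obtain ⟨P, h1, h2⟩ := exists_conj_pair_sl h rfl ((kt g).trans (kt (upT t)).symm) ht'
    obtain ⟨c, hc⟩ := exists_sq_of_two_eq_zero h0 P.1.det
    obtain ⟨u, hu, -⟩ := exists_sl_of_sq hc.symm
    have h3 : ∀ x, conjSL P x = u * x * u⁻¹ := fun x => by
      rw [eq_mul_inv_iff_mul_eq]
      refine Subtype.ext ?_
      rw [sl_coe_mul, sl_coe_mul, hu, Matrix.mul_smul, Matrix.smul_mul, conjSL_eq_iff.1 rfl]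
    rw [h3] at h1 h2
    refine ⟨u⁻¹, ?_, t, (upT t)⁻¹ * (u * g), kc _ _ (by rw [← h2]; group), by group⟩
    simpa using kc u 1 (by rw [h1]; group)


/-- Let F be a finite field with q = 2^t ≥ 4 elements and L = PSL(2,F). Then L has a cyclic subgroup A of order q + 1 and an elementary abelian 2-subgroup B of order q such that L = ABA: every element of L is a product a·b·a' with a, a' ∈ A and b ∈ B. -/
theorem result {F : Type*} [Field F] [Fintype F]
    (h2 : 2 ∣ Fintype.card F) (h4 : 4 ≤ Fintype.card F) :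
    ∃ A B : Subgroup (Matrix.ProjectiveSpecialLinearGroup (Fin 2) F),
      IsCyclic A ∧ Nat.card A = Fintype.card F + 1 ∧ IsMulCommutative B ∧ (∀ b ∈ B, b * b = 1) ∧
        Nat.card B = Fintype.card F ∧
        ∀ g : Matrix.ProjectiveSpecialLinearGroup (Fin 2) F, ∃ a ∈ A, ∃ b ∈ B, ∃ c ∈ A, g = a * b * c := by
  have h0 := H4.two_eq_zero_of_even (even_iff_two_dvd.2 h2)
  obtain ⟨s, hs⟩ := H4.exists_ell_trace (F := F)
  have he : H4.Ell (H4.slComp s).1 := fun c => by rw [H4.trace_slComp, (H4.slComp s).2]; exact hs c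
  have hg : H4.disc (H4.sgl (H4.slComp s)).1 ≠ 0 := he.disc_ne_zero
  have hi : Function.Injective (QuotientGroup.mk' (Subgroup.center (Matrix.SpecialLinearGroup (Fin 2) F))) := by
    rw [injective_iff_map_eq_one]
    intro x hx
    rcases H4.sl_sc_iff.1 (H4.sl_mem_center_iff.1 ((QuotientGroup.eq_one_iff x).1 hx)) with h | h
    exacts [h, h.trans (H4.sl_neg_one_eq_one h0)]
  have hU : ∀ x ∈ H22.slU F, x = H4.upT (x.1 0 1) := fun x hx =>
    H4.sl2_ext (H22.mem_slU.1 hx).2.1 rfl (H22.mem_slU.1 hx).1 (H22.mem_slU.1 hx).2.2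
  have := H4.isCyclic_sT hg
  refine ⟨(H4.sT (H4.sgl (H4.slComp s))).map (QuotientGroup.mk' _), (H22.slU F).map (QuotientGroup.mk' _),
    isCyclic_of_surjective _ (Subgroup.equivMapOfInjective _ _ hi).surjective,
    by rw [Subgroup.card_map_of_injective hi, H4.card_sT hg, H4.card_pT_ell he], ⟨⟨?_⟩⟩, ?_,
    by rw [Subgroup.card_map_of_injective hi, H22.card_slU], fun g => ?_⟩
  · rintro ⟨_, x, hx, rfl⟩ ⟨_, y, hy, rfl⟩
    refine Subtype.ext ?_
    change QuotientGroup.mk' _ x * QuotientGroup.mk' _ y = QuotientGroup.mk' _ y * QuotientGroup.mk' _ x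
    rw [← map_mul, ← map_mul, hU x hx, hU y hy, ← H4.upT_add, ← H4.upT_add, add_comm]
  · rintro _ ⟨x, hx, rfl⟩
    rw [← map_mul, hU x hx, ← H4.upT_add, ← two_mul, h0, zero_mul, H4.upT_zero, map_one]
  · obtain ⟨g, rfl⟩ := QuotientGroup.mk_surjective g
    obtain ⟨a, ha, t, c, hc, rfl⟩ := key h0 he g
    exact ⟨_, ⟨a, ha, rfl⟩, _, ⟨H4.upT t, H22.mem_slU.2 ⟨rfl, rfl, rfl⟩, rfl⟩, _, ⟨c, hc, rfl⟩, rfl⟩

end Cfsg.Agent.S2503
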