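import Cfsg.Statements.S3333
import Cfsg.Agent.H5.T8e

set_option autoImplicit false
open Cfsg

namespace Cfsg.Agent.S3333

/-- Let G be a finite group with a Sylow 3-subgroup S of order 9 that is its own centralizer, with N_G(S)/S dihedral of order 8, and such that C_G(x) ≤ N_G(S) for every non-identity x in S. Then S is normal in G or G is isomorphic to the symmetric group of degree 6. -/
theorem result {G : Type*} [Group G] [Finite G]
    (P : Sylow 3 G) (S : Subgroup G) (hSP : S = P) (hcard : Nat.card S = 9)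
    (hC : Subgroup.centralizer (S : Set G) = S)
    (eN : Subgroup.normalizer (S : Set G) ⧸ S.subgroupOf (Subgroup.normalizer (S : Set G)) ≃* DihedralGroup 4)
    (hcent : ∀ x ∈ S, x ≠ 1 → Subgroup.centralizer ({x} : Set G) ≤ Subgroup.normalizer (S : Set G)) :
    S.Normal ∨ Nonempty (G ≃* Equiv.Perm (Fin 6)) := by
-----
  subst hSP
  open Subgroup in
  have hN : ((P : Subgroup G).subgroupOf (normalizer ((P : Subgroup G) : Set G))).index = 8 :=
    (Nat.card_congr eN.toEquiv).trans DihedralGroup.nat_card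
  have h9 : Nat.card ((P : Subgroup G).subgroupOf (normalizer ((P : Subgroup G) : Set G))) = 9 :=
    (Nat.card_congr (subgroupOfEquivOfLe le_normalizer).toEquiv).trans hcard
  refine H25.Hyp9.s6 ⟨hcard, fun m hm => by_contra fun k => ?_, hC, hcent⟩ fun T => ?_
  · have k1 : orderOf m ∣ 3 ^ 2 := (Subgroup.orderOf_dvd_natCard _ hm).trans hcard.dvd
    obtain ⟨i, hi, e⟩ := (Nat.dvd_prime_pow Nat.prime_three).1 k1
    have : IsCyclic (P : Subgroup G) := isCyclic_of_orderOf_eq_card ⟨m, hm⟩ (by
      rw [hcard, ← orderOf_coe, e]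
      obtain rfl | rfl | rfl : i = 0 ∨ i = 1 ∨ i = 2 := by omega
      · exact (k (orderOf_dvd_iff_pow_eq_one.1 (e ▸ by norm_num))).elim
      · exact (k (orderOf_dvd_iff_pow_eq_one.1 (e ▸ by norm_num))).elim
      · rfl)
    have k2 := card_dvd_of_injective _ (QuotientGroup.kerLift_injective (P : Subgroup G).normalizerMonoidHom)
    rw [normalizerMonoidHom_ker, ← index, hC, hN, IsCyclic.card_mulAut, hcard] at k2
    revert k2
    decide
  have k1 := index_mul_card ((P : Subgroup G).subgroupOf (normalizer ((P : Subgroup G) : Set G)))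
  have k2 := H2.sm_card_sylow_eq T (k := 3) (m := 9) (by rw [← k1, hN, h9]; rfl) (by norm_num)
  refine ⟨(MulEquiv.ofBijective ((QuotientGroup.mk' _).comp T.1.subtype) ((Nat.bijective_iff_injective_and_card _).2
    ⟨(injective_iff_map_eq_one _).2 fun x hx => ?_, k2.trans hN.symm⟩)).trans eN⟩
  have k3 := Subgroup.orderOf_dvd_natCard _ ((QuotientGroup.eq_one_iff x.1).1 hx)
  have k4 := Subgroup.orderOf_dvd_natCard _ x.2
  rw [h9] at k3
  rw [k2] at k4
  exact Subtype.ext (orderOf_eq_one_iff.1 (Nat.eq_one_of_dvd_coprimes (by norm_num) k3 k4))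

end Cfsg.Agent.S3333
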