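import Cfsg.Statements.S2910
import Cfsg.Agent.H10.PMin2
import Cfsg.Agent.H3.Alperin
import Cfsg.Agent.H15.TB

set_option autoImplicit false
open Cfsg H10

namespace Cfsg.Agent.S2910

/-- Let p be an odd prime dividing the order of the finite group G and P a Sylow p-subgroup of G. If Ω₁(P) (generated by the elements of order dividing p) is contained in the centre of G, then G has a normal p-complement. In particular, if G is quasisimple then Ω₁(P) is not central in G. -/
theorem result {G : Type*} [Group G] [Finite G] {p : ℕ} [Fact p.Prime] (hp : p ≠ 2) (hdiv : p ∣ Nat.card G) (P : Sylow p G) (hZ : Cfsg.omegaOne p (P : Subgroup G) ≤ Subgroup.center G) : Cfsg.HasNormalPComplement p G ∧ ¬ Cfsg.IsQuasisimple G := by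
  have h : HasNormalPComplement p G := H3.frobenius P fun Q hQ g hg ho =>
    H15.cent_of_cent_om hp (K := Subgroup.zpowers g) 
      (H15.isPi_compl_of_coprime (coprime_zpowers ho)) (H15.IsPGroup.isPi (P.isPGroup'.to_le hQ))
      (Subgroup.zpowers_le_of_mem hg)
      (le_top.trans (le_CC_symm ((omegaOne_mono hQ).trans (hZ.trans CC_top.ge)))) (Subgroup.mem_zpowers g)
  refine ⟨h, fun hq => ?_⟩
  have h1 := H3.hasNormalPComplement_iff_coprime.1 h
  rw [← resOf_top, resOf_eq_of_perfect (H5.qs_perfect (H5.qs_top_iff.2 hq)), Subgroup.card_top] at h1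
  exact not_dvd_of_coprime h1 hdiv

end Cfsg.Agent.S2910
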