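import Cfsg.Statements.S1896
import Cfsg.Agent.H13.Sup2

set_option autoImplicit false
open Cfsg

namespace Cfsg.Agent.S1896

open H13 Equiv Cfsg.FusionSystem

/-- A finite metacyclic 2-group whose automorphism group is not a 2-group is isomorphic to the quaternion group of order 8 or to a homocyclic abelian group Z_{2^n} × Z_{2^n}. -/
theorem result {X : Type*} [Group X] [Finite X] (hX : IsPGroup 2 X)
    (hm : Cfsg.IsMetacyclic X) (hA : ¬ IsPGroup 2 (MulAut X)) :
    Nonempty (X ≃* QuaternionGroup 2) ∨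
      ∃ n : ℕ, Nonempty (X ≃* Multiplicative (ZMod (2 ^ n)) × Multiplicative (ZMod (2 ^ n))) := by
  haveI := Fact.mk Nat.prime_two
  rcases pa_or_irr hX (index_frattini_le_of_meta hX hm) with h | ⟨h1, h2⟩
  · exact (hA h.isPGroup).elim
  by_cases hc : IsMulCommutative X
  · letI : CommGroup X := { (inferInstance : Group X) with mul_comm := hc.1.1 }
    obtain ⟨k, -, e⟩ := h2.homocyclic hX h1
    exact Or.inr ⟨k, e⟩
  obtain ⟨-, h3, h4⟩ := h2.card_eq hX h1 hm hc
  rcases (H6.taussky hX h4.le hc).iso with ⟨k, ⟨e⟩⟩ | ⟨k, h5, -⟩ | ⟨k, ⟨e⟩⟩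
  · obtain ⟨a, b, h5, h6, h7, h8, h9⟩ := H6.exists_gens_of_dihedral e
    have h10 := Subgroup.index_antitone (h2 (Subgroup.zpowers a) (Subgroup.characteristic_iff_le_comap.2 fun φ =>
      (Subgroup.zpowers_le).2 ((h9 (φ a)).elim fun i hi => hi.elim (fun h => ⟨i, h.symm⟩) fun h => ?_))
      fun e => h8 (e ▸ Subgroup.mem_top b))
    · have := (Subgroup.zpowers a).index_mul_card
      rw [Nat.card_zpowers, h5, h3, pow_add] at this
      have : 0 < 2 ^ k := by positivity
      nlinarith
    · have h11 : φ a ^ 2 = 1 := by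
        have : b * a ^ i * b⁻¹ = (a ^ i)⁻¹ := by rw [← conj_zpow, h7, inv_zpow]
        rw [h, pow_two, show a ^ i * b * (a ^ i * b) = a ^ i * (b * a ^ i * b⁻¹) * (b * b) by group, this, h6]; simp
      have := Nat.le_of_dvd two_pos (orderOf_dvd_of_pow_eq_one h11)
      rw [φ.orderOf_eq, h5, pow_add] at this
      have : 0 < 2 ^ k := by positivity
      omega
  · have := Nat.pow_right_injective le_rfl (h3.symm.trans h5)
    omega
  · have := Nat.card_congr e.toEquiv
    rw [h3, Nat.card_eq_fintype_card, QuaternionGroup.card, show 4 * 2 ^ (k + 1) = 2 ^ (k + 3) by ring] at this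
    obtain rfl : k = 0 := by have := Nat.pow_right_injective le_rfl this; omega
    exact Or.inl ⟨e⟩

end Cfsg.Agent.S1896
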