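import Cfsg.Statements.S2222
import Cfsg.Agent.H7.SymSyl
import Cfsg.Agent.H1.Pron
import Cfsg.Agent.H7.PGrp

set_option autoImplicit false
open Cfsg

namespace Cfsg.Agent.S2222

theorem pron_of_coatom {G : Type*} [Group G] [Finite G] {H : Subgroup G} (h : IsCoatom H) :
    Cfsg.IsPronormal H := by
  intro g
  rcases (h.le_iff.mp (le_sup_left : H ≤ H ⊔ H.map (MulAut.conj g).toMonoidHom)) with h1 | h1
  · exact ⟨g, by rw [h1]; trivial, rfl⟩
  · refine ⟨1, one_mem _, ?_⟩
    have h2 : H.map (MulAut.conj g).toMonoidHom ≤ H := sup_eq_left.mp h1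
    have h3 : H.map (MulAut.conj g).toMonoidHom = H :=
      Subgroup.eq_of_le_of_card_ge h2
        (Subgroup.card_map_of_injective (f := (MulAut.conj g).toMonoidHom) (K := H)
          (MulAut.conj g).injective).ge
    rw [h3]
    ext x; simp

theorem pron_of_sylow {G : Type*} [Group G] [Finite G] {p : ℕ} [Fact p.Prime] (P : Sylow p G) :
    Cfsg.IsPronormal (P : Subgroup G) := by
  rw [H1.isPronormal_iff]
  intro g K h1 h2
  have a := H10.isSylowIn_top P
  obtain ⟨x, hx, e⟩ := (a.of_le h1 le_top).exists_cj ((a.cj_top g).of_le h2 le_top)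
  exact ⟨x, hx, e.symm⟩

theorem result (n : ℕ) (hn : 5 ≤ n)
    (H : Subgroup (alternatingGroup (Fin n))) (hH : Odd H.index) : Cfsg.IsPronormal H := by
  haveI : Fact (Nat.Prime 2) := ⟨Nat.prime_two⟩
  have hH2 : ¬ 2 ∣ H.index := hH.not_two_dvd_nat
  rcases Nat.lt_or_ge 5 n with h6 | h6
  · exact (H1.pronSyl_of_self_normalizing (p := 2) (fun P => le_antisymm
      (H7.normalizer_sylow_alt (by simp; omega) P) Subgroup.le_normalizer)).1 H
      (H1.exists_sylow_le_iff.mpr hH2)
  · obtain rfl : n = 5 := by omega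
    have h60 := H.index_mul_card
    rw [show Nat.card (alternatingGroup (Fin 5)) = 60 by
      rw [nat_card_alternatingGroup]; simp [Nat.factorial]] at h60
    have hd : H.index ∣ 15 := by
      have : H.index ∣ 4 * 15 := ⟨_, h60.symm⟩
      exact (Nat.Coprime.pow_right 2 ((Nat.coprime_two_right).mpr hH)).dvd_of_dvd_mul_left this
    have hle := Nat.le_of_dvd (by norm_num) hd
    have h : H.index = 1 ∨ H.index = 3 ∨ H.index = 5 ∨ H.index = 15 := by
      generalize H.index = k at hd hle
      interval_cases k <;> simp_all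
    rcases h with h | h | h | h
    · rw [Subgroup.index_eq_one.mp h]
      intro g
      exact ⟨g, Subgroup.mem_sup_left trivial, rfl⟩
    · haveI : Fact (Nat.Prime 3) := ⟨Nat.prime_three⟩
      exact pron_of_coatom (H7.isCoatom_of_index_prime h)
    · haveI : Fact (Nat.Prime 5) := ⟨Nat.prime_five⟩
      exact pron_of_coatom (H7.isCoatom_of_index_prime h)
    · have h4 : Nat.card H = 2 ^ 2 := by rw [h] at h60; omega
      obtain ⟨P, hP⟩ := H1.exists_sylow_le_iff.mpr hH2
      have := P.is_maximal' (IsPGroup.of_card h4) hP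
      rw [this]
      exact pron_of_sylow P

end Cfsg.Agent.S2222
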