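import Cfsg.Statements.S5569
import Cfsg.Agent.H13.JG
import Cfsg.Agent.H13.JI

set_option autoImplicit false
open Cfsg

namespace Cfsg.Agent.S5569

open H13

open H13 H27 Subgroup

/-- Let G be a finite non-abelian simple group of Janko-four type (an involution z whose centralizer H has an extraspecial largest normal 2-subgroup E of order 2^13 containing its centralizer in H, a normal subgroup N ≥ E of H with N/E of order 3 and H/N the automorphism group of M₂₂, and a subgroup P ≤ N of order 3 with C_E(P) = ⟨z⟩, N_H(P) ≠ C_H(P) and P ≤ C_H(P)′). Then the centralizer of an involution t of G that is not conjugate to z is a split extension of an elementary abelian normal subgroup of order 2^11 by a complement isomorphic to the automorphism group of M₂₂. -/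
theorem result {G : Type*} [Group G] [Finite G] [IsSimpleGroup G] (hG : ¬ IsMulCommutative G) (z : G) (hJ : Cfsg.IsOfJankoFourTypeAt z) (t : G) (ht : orderOf t = 2) (hnc : ¬ IsConj z t) :
    ∃ V K : Subgroup G, V ≤ Subgroup.centralizer ({t} : Set G) ∧ K ≤ Subgroup.centralizer ({t} : Set G) ∧
    Subgroup.centralizer ({t} : Set G) ≤ Subgroup.normalizer (V : Set G) ∧ Cfsg.IsElementaryAbelian 2 V ∧ Nat.card ↥V = 2 ^ 11 ∧
    K ⊓ V = ⊥ ∧ K ⊔ V = Subgroup.centralizer ({t} : Set G) ∧ Nonempty (↥K ≃* MulAut ↥Cfsg.Spor.M22) := by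
  obtain ⟨Q, hJ⟩ := hJ
  obtain ⟨π, P, h, -⟩ := H13.exists_jt0 hJ
  obtain ⟨v, a, b⟩ := h.conj_A hG (y := t) (by rw [← pow_two, ← ht, pow_orderOf_eq_one])
  obtain ⟨g, b⟩ := _root_.isConj_iff.1 b
  obtain ⟨y, R, π, P, h, t1, nt⟩ : ∃ y R π P, ∃ h : JT0 y R π P, t ∈ h.A ∧ ¬ IsConj y t :=
    ⟨_, _, _, _, h.cj g, by rw [h.cj_A, mem_cj, ← b]; simpa [mul_assoc] using a, mt (isConj_cj g z).trans hnc⟩
  have t0 : t ≠ 1 := by rintro rfl; simp at ht
  obtain ⟨x, hx, x3⟩ := h.exists_x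
  obtain ⟨E, p⟩ := h.main hx hG x3
  obtain ⟨K, a, b, c⟩ := p.split hG
  obtain ⟨φ, sj, kr, st⟩ := h.exSt hG t1 t0 nt
  have l : h.A ≤ Cz t := fun v a => mem_Cz.2 (h.A_comm a t1)
  have n := h.cen_t hG t1 t0 nt
  obtain ⟨e⟩ := SDu_iso
  have f : ∀ y ∈ Cz t, ∃ k ∈ K ⊓ Cz t, ∃ v ∈ h.A, k * v = y := fun y d => by
    obtain ⟨k, u, v, w, rfl⟩ := (coe_mul_of_left_le_normalizer_right K h.A a).le (c.ge (n d))
    exact ⟨k, ⟨u, ((Cz _).mul_mem_cancel_right (l w)).1 d⟩, v, w, rfl⟩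
  refine ⟨h.A, K ⊓ Cz t, l, inf_le_right, n, h.A_ea, h.card_A, eq_bot_iff.2 fun y d => b.le ⟨d.1.1, d.2⟩,
    le_antisymm (sup_le inf_le_right l) fun y d => ?_, ⟨(MulEquiv.ofBijective ((φ.comp (inclusion (inf_le_left.trans a))).codRestrict
      SDu fun y => (st _).1 y.2.2) ⟨(injective_iff_map_eq_one _).2 fun y d => Subtype.ext (b.le ⟨y.2.1,
        (kr _).1 (congrArg Subtype.val d)⟩), fun y => ?_⟩).trans e⟩⟩
  · obtain ⟨k, u, v, w, rfl⟩ := f y d
    exact mul_mem (mem_sup_left u) (mem_sup_right w)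
  · obtain ⟨m, d⟩ := sj y
    obtain ⟨k, u, v, w, i⟩ := f m ((st m).2 (d ▸ y.2))
    refine ⟨⟨k, u⟩, Subtype.ext (Eq.trans ?_ d)⟩
    rw [show m = ⟨k, a u.1⟩ * ⟨v, le_normalizer w⟩ from Subtype.ext i.symm, map_mul, (kr ⟨v, _⟩).2 w, mul_one]; rfl

end Cfsg.Agent.S5569
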