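import Cfsg.Statements.S5572
import Cfsg.Agent.H13.JF2

set_option autoImplicit false
open Cfsg

namespace Cfsg.Agent.S5572

open H13

open Subgroup

/-- Let G be a finite non-abelian simple group of Janko-four type (an involution z whose centralizer H has an extraspecial largest normal 2-subgroup E of order 2^13 containing its centralizer in H, a normal subgroup N ≥ E of H with N/E of order 3 and H/N the automorphism group of M₂₂, and a subgroup P ≤ N of order 3 with C_E(P) = ⟨z⟩, N_H(P) ≠ C_H(P) and P ≤ C_H(P)′). Let Q ≤ H have order 5. Then Q is a Sylow 5-subgroup of G; its centralizer is Q × J with J a non-split extension of an elementary abelian group of order 8 by L₃(2); its normalizer contains a subgroup of order 20 containing Q in which Q is self-centralizing (a Frobenius group of order 20); and the normalizer of Q has order 2^8·3·5·7. -/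
theorem result {G : Type*} [Group G] [Finite G] [IsSimpleGroup G] (hG : ¬ IsMulCommutative G) (z : G) (hJ : Cfsg.IsOfJankoFourTypeAt z) (Q : Subgroup G) (hQ : Nat.card ↥Q = 5) (hQz : Q ≤ Subgroup.centralizer ({z} : Set G)) :
    ¬ (25 ∣ Nat.card G) ∧
    (∃ J : Subgroup G, Cfsg.IsInternalDirectProduct Q J (Subgroup.centralizer (Q : Set G)) ∧
      ∃ (E : Subgroup ↥J) (_ : E.Normal), Cfsg.IsElementaryAbelian 2 E ∧ Nat.card ↥E = 8 ∧
        Nonempty (↥J ⧸ E ≃* Matrix.SpecialLinearGroup (Fin 3) (ZMod 2)) ∧ ∀ K : Subgroup ↥J, ¬ E.IsComplement' K) ∧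
    (∃ R : Subgroup G, Q ≤ R ∧ R ≤ Subgroup.normalizer (Q : Set G) ∧ Nat.card ↥R = 20 ∧ R ⊓ Subgroup.centralizer (Q : Set G) = Q) ∧
    Nat.card ↥(Subgroup.normalizer (Q : Set G)) = 2 ^ 8 * 3 * 5 * 7 := by
  obtain ⟨P, hJ⟩ := hJ
  obtain ⟨π, P, h, -⟩ := H13.exists_jt0 hJ
  obtain ⟨q, o, rfl⟩ := H13.zp_eq (by norm_num) hQ
  have a : z ∈ H13.Cz q := H13.mem_Cz.2 (H13.mem_Cz.1 (hQz (mem_zpowers q))).symm
  obtain ⟨W, l⟩ := h.l5 hG o (.refl z) a
  obtain ⟨n, c⟩ := h.five hG o a l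
  obtain ⟨J, j, d, e⟩ := H13.cent_split (m := 1344) (by norm_num) (by norm_num) o c (by norm_num)
  rw [H13.cent_zpowers]
  refine ⟨h.n25 hG o a l, ⟨J, j, ?_⟩, h.ex20 hG o a l, h.cardN5 hG o a l⟩
  have w : W ≤ J := fun y b => e y (((l.mem y).1 b).elim (· ▸ one_mem _) And.left) (h.l5_sq l b)
  obtain ⟨φ, f⟩ := H13.ex_phi l.comm (fun _ => h.l5_sq l) l.card
  let ψ := φ.comp (inclusion (j.2.1.trans n))
  have k : ψ.ker = W.subgroupOf J := Subgroup.ext fun y => (f _).trans ⟨fun b => by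
    obtain ⟨s, u, t, v, i⟩ := (coe_mul_of_left_le_normalizer_right _ _ (j.1.trans n)).le (l.cw ⟨j.2.1 y.2, b⟩)
    obtain rfl : s = 1 := j.2.2.2.1.le ⟨u, (J.mul_mem_cancel_right (w v)).1 (i ▸ y.2 :)⟩
    exact show y.1 ∈ W from Set.mem_of_eq_of_mem (show y.1 = t by simpa using i.symm) v, fun b x m => l.comm _ m _ b⟩
  have cW : Nat.card (W.subgroupOf J) = 8 := (H1.card_subgroupOf_of_le w).trans l.card
  refine ⟨ψ.ker, inferInstance, k ▸ ⟨⟨⟨fun x y => Subtype.ext (Subtype.ext (l.comm _ x.2 _ y.2))⟩⟩, fun y b =>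
    Subtype.ext ((pow_two _).trans (h.l5_sq l b))⟩, k ▸ cW, ⟨QuotientGroup.quotientKerEquivOfSurjective ψ (MonoidHom.range_eq_top.1
      (eq_top_of_card_eq _ ?_))⟩, fun K i => h.nosplit hG o a l ((map_subtype_le K).trans j.2.1) ?_ (eq_bot_iff.2 ?_)⟩
  · have := ψ.ker.card_mul_index
    rw [index_ker, k, cW, d] at this
    rw [H13.card_sl32]; omega
  · have := i.card_mul_card
    rw [k, cW, d] at this
    rw [card_map_of_injective J.subtype_injective, show Nat.card K = 168 by omega]; norm_num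
  · rintro _ ⟨⟨y, u, rfl⟩, v⟩
    exact congrArg Subtype.val (i.disjoint.le_bot ⟨k.ge v, u⟩ : y = 1)

end Cfsg.Agent.S5572
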