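import Cfsg.Statements.S0384
import Cfsg.Agent.H27.MSub

set_option autoImplicit false
open scoped Pointwise
open Cfsg

namespace Cfsg.Agent.S0384
open H27 MulAction
open scoped Pointwise

/-- A dodecad stabiliser is sharply 5-transitive on the dodecad. -/
theorem result (d : Finset Cfsg.GolayPt) (hd : d ∈ Cfsg.dodecads) (x y : Fin 5 ↪ Cfsg.GolayPt) (hx : ∀ i, x i ∈ d) (hy : ∀ i, y i ∈ d) : ∃! g : MulAction.stabilizer Cfsg.M24 d, ∀ i, ((g : Cfsg.M24) : Equiv.Perm Cfsg.GolayPt) (x i) = y i := by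
  obtain ⟨g, rfl⟩ := exists_smul_eD hd
  have h0 := exists_emb_of_list (H := H12) (X := ↑(eD 0)) (k := 5) (bs := [0, 1, 2, 3, 4].map GE.e) rfl
    (fun l a b c => H12_trans (k := 5) le_rfl l a b c)
  have h1 : ∀ x y : Fin 5 ↪ Cfsg.GolayPt, (∀ i, x i ∈ g • eD 0) → (∀ i, y i ∈ g • eD 0) →
      ∃ k ∈ stabilizer MM (g • eD 0), ∀ i, k • x i = y i := by
    intro x y hx hy
    obtain ⟨k, hk, a⟩ := h0 (g⁻¹ • x) (g⁻¹ • y) (fun i => Finset.inv_smul_mem_iff.2 (hx i))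
      (fun i => Finset.inv_smul_mem_iff.2 (hy i))
    exact ⟨_, (CjRel.stab g _ k).1 hk, fun i => by
      rw [mul_smul, mul_smul]; exact smul_eq_iff_eq_inv_smul g |>.2 (a i)⟩
  obtain ⟨k, hk, a⟩ := h1 x y hx hy
  refine ⟨⟨k, hk⟩, a, fun k' a' => Subtype.ext ?_⟩
  let b : Fin 5 ↪ Cfsg.GolayPt := ⟨fun i => GE.e i, by decide +kernel⟩
  obtain ⟨u, hu, c⟩ := h1 (g • b) x (fun i => Finset.smul_mem_smul_finset (a := g) (by
    rw [eD_zero]; revert i; decide +kernel)) hx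
  have hb : H12 ⊓ fixM 0x1f = ⊥ := Subgroup.card_eq_one.1 card_D5
  have : (u * g)⁻¹ * (k⁻¹ * k') * (u * g) ∈ H12 ⊓ fixM 0x1f := by
    refine ⟨?_, mem_fixM'.2 fun i hi h => ?_⟩
    · change _ • eD 0 = eD 0
      simp only [mul_smul]
      rw [hu, k'.2, inv_smul_eq_iff.2 hk.symm, mul_inv_rev, mul_smul, inv_smul_eq_iff.2 hu.symm, inv_smul_smul]
    · have h5 : i < 5 := by revert i; decide +kernel
      have c' : u • g • GE.e i = x ⟨i, h5⟩ := c ⟨i, h5⟩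
      have a2 : (k' : MM) • x ⟨i, h5⟩ = y ⟨i, h5⟩ := a' ⟨i, h5⟩
      simp only [mul_smul]
      rw [c', a2, ← a, inv_smul_smul, ← c', ← mul_smul u, inv_smul_smul]
  rw [hb, Subgroup.mem_bot, mul_assoc, inv_mul_eq_one, eq_comm, mul_eq_right, inv_mul_eq_one] at this
  exact this.symm

end Cfsg.Agent.S0384
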