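import Cfsg.Statements.S0102
import Cfsg.Agent.H3.Critical

set_option autoImplicit false
open Cfsg

namespace Cfsg.Agent.S0102

/-- A finite perfect group with cyclic Sylow p-subgroups has no perfect central extension whose kernel has order divisible by p. -/
theorem result {G : Type*} {H : Type*} [Group G] [Group H] [Finite G] [Finite H] (hG : commutator G = ⊤) {p : ℕ} [Fact p.Prime] (hcyc : ∀ P : Sylow p G, IsCyclic P) (σ : H →* G) (hσ : Function.Surjective σ) (hz : σ.ker ≤ Subgroup.center H) (hH : commutator H = ⊤) : ¬ p ∣ Nat.card σ.ker := by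
  intro hd
  obtain ⟨x, hx⟩ := exists_prime_orderOf_dvd_card' p hd
  have hz' : IsPGroup p (Subgroup.zpowers (x : H)) :=
    IsPGroup.of_card (n := 1) (by rw [Nat.card_zpowers, Subgroup.orderOf_coe, hx, pow_one])
  obtain ⟨Q, hQ⟩ := hz'.exists_le_sylow
  have h1 : IsCyclic ((Q : Subgroup H).map σ) := hcyc (Q.mapSurjective hσ)
  have h2 : IsMulCommutative Q := by
    refine MonoidHom.isMulCommutative_of_isCyclic_of_ker_le_center (σ.subgroupMap Q) fun y hy => ?_
    have h3 : (y : H) ∈ σ.ker := congrArg Subtype.val hy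
    exact Subgroup.mem_center_iff.mpr fun g => Subtype.ext (Subgroup.mem_center_iff.mp (hz h3) g)
  have h4 : (x : H) = 1 := H3.eq_one_of_mem_abelian_hall Q.card_coprime_index
    (hQ (Subgroup.mem_zpowers _)) (hH ▸ Subgroup.mem_top _) (hz x.2)
  rw [← Subgroup.orderOf_coe, h4, orderOf_one] at hx
  exact (Fact.out : p.Prime).ne_one hx.symm

end Cfsg.Agent.S0102
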