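import Cfsg.Statements.S0214
import Cfsg.Agent.H6.Baer

set_option autoImplicit false
open Cfsg

namespace Cfsg.Agent.S0214

/-- Let H be a proper subgroup of the finite group G and P a nontrivial Sylow 2-subgroup of H. Then H is strongly embedded in G if and only if N_G(X) ≤ H for every nontrivial subgroup X of P. -/
theorem result {G : Type*} [Group G] [Finite G] (H : Subgroup G) (hH : H ≠ ⊤) (P : Sylow 2 ↥H) (hP : (P : Subgroup ↥H) ≠ ⊥) : Cfsg.IsStronglyEmbedded H ↔ (∀ X : Subgroup ↥H, X ≤ (P : Subgroup ↥H) → X ≠ ⊥ → Subgroup.normalizer ((X.map H.subtype : Subgroup G) : Set G) ≤ H) := by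
  constructor
  · intro hse X hXP hX1 g hg
    have hX : IsPGroup 2 (X.map H.subtype) := (P.isPGroup'.to_le hXP).map _
    obtain ⟨t, ht, ht2⟩ := H6.exists_ord2_of_pgroup hX (by
      rwa [Ne, Subgroup.map_eq_bot_iff_of_injective _ H.subtype_injective])
    exact H6.se_mem hse ht2 (Subgroup.map_subtype_le _ ht)
      (Subgroup.map_subtype_le _ ((Subgroup.mem_normalizer_iff.1 hg t).1 ht))
  · intro h
    rw [H6.stronglyEmbedded_iff]
    refine ⟨hH, ?_, fun g t ht htH hg => ?_⟩
    · obtain ⟨t, -, ht⟩ := H6.exists_ord2_of_pgroup P.isPGroup' hP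
      exact ⟨t, t.2, by rw [Subgroup.orderOf_coe, ht]⟩
    · refine H6.embed_aux (p := 2) (fun X => X ≠ ⊥) (fun X Y hX hXY hY => hX (le_bot_iff.1 (hY ▸ hXY)))
        (fun X g hX => by rwa [Ne, Subgroup.map_eq_bot_iff_of_injective _ (MulAut.conj g).injective])
        (fun X hXH hX hX1 => ?_) (H6.isPGroup_zpowers_ord2 (H6.ord2_mul_self (H6.ord2_conj ht g)))
        (by rw [Ne, Subgroup.zpowers_eq_bot]; exact H6.ord2_ne_one (H6.ord2_conj ht g))
        (Subgroup.zpowers_le.2 hg) (Subgroup.zpowers_le.2 (H6.conj_mem_map_conj.2 htH))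
      obtain ⟨c, hcH, hc⟩ := H6.exists_conj_le_sylow_sub P hX hXH
      let Y := X.map (MulAut.conj c).toMonoidHom
      have hYP : Y ≤ (P : Subgroup H).map H.subtype := by
        rintro _ ⟨x, hx, rfl⟩
        exact hc x hx
      have hYH : Y ≤ H := hYP.trans (Subgroup.map_subtype_le _)
      have h1 := h (Y.subgroupOf H) (by
        intro y hy
        obtain ⟨z, hz, hzy⟩ := hYP hy
        rwa [← Subtype.ext hzy]) (by
        rw [Ne, Subgroup.subgroupOf_eq_bot, disjoint_iff, inf_of_le_left hYH,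
          Subgroup.map_eq_bot_iff_of_injective _ (MulAut.conj c).injective]
        exact hX1)
      rw [Subgroup.subgroupOf_map_subtype, inf_of_le_left hYH] at h1
      intro x hx
      have : c * x * c⁻¹ ∈ H := by
        apply h1
        rw [← H6.map_conj_eq_iff, H6.map_conj_map_conj, mul_assoc, inv_mul_cancel, mul_one,
          ← H6.map_conj_map_conj, H6.map_conj_eq_iff.2 hx]
      simpa [mul_assoc] using H.mul_mem (H.mul_mem (H.inv_mem hcH) this) hcH

end Cfsg.Agent.S0214
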