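import Cfsg.Statements.S0374
import Cfsg.Agent.H27.M24
import Cfsg.Agent.H27.Slp
import Cfsg.Agent.S0370
import Cfsg.Agent.S0372
import Cfsg.Agent.S0373

set_option autoImplicit false
open Cfsg

namespace Cfsg.Agent.S0374
open H27 MulAction
open scoped Pointwise
def nets : List Net := [(.cons 1 0x555555 (.cons 2 0x222222 (.cons 4 0x80808 (.cons 16 0x80 (.cons 8 0x80 (.cons 1 0x400000 .nil)))))),
  (.cons 1 0x411441 (.cons 2 0x301033 (.cons 4 0xf0b04 (.cons 8 0x93 (.cons 16 0xff (.cons 8 0x6c (.cons 4 0xa0a00 (.cons 2 0x32300 (.cons 1 0x11440 .nil))))))))),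
  (.cons 1 0x50410 (.cons 2 0x220120 (.cons 4 0x10706 (.cons 8 0x1e (.cons 16 0x9e (.cons 8 0x1c (.cons 4 0xd0000 (.cons 2 0x201230 (.cons 1 0x150540 .nil)))))))))]
def prog : List (List Nat × Net) := [([1, 1, 3, 0, 4, 0, 3, 5, 0], (.cons 1 0x54000 (.cons 2 0x331122 (.cons 4 0x7090a (.cons 8 0x4d (.cons 16 0x19 (.cons 8 0x1 (.cons 2 0x113310 (.cons 1 0x514004 .nil))))))))),
  ([2, 7, 2, 2, 4, 3, 4, 2], (.cons 1 0x45454 (.cons 2 0x231132 (.cons 4 0xc020c (.cons 8 0xf0 (.cons 16 0x9c (.cons 8 0x88 (.cons 4 0xd0100 (.cons 2 0x21100 (.cons 1 0x45140 .nil)))))))))),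
  ([1, 2, 0, 3, 0, 0, 0], (.cons 1 0x451450 (.cons 2 0x210130 (.cons 4 0xf0d08 (.cons 8 0x83 (.cons 16 0x97 (.cons 8 0x17 (.cons 4 0x40400 (.cons 2 0x20220 (.cons 1 0x101540 .nil)))))))))),
  ([5, 2, 5, 3, 4, 2, 5, 5, 5, 2], (.cons 1 0x151140 (.cons 2 0x223220 (.cons 4 0x104 (.cons 8 0x4c (.cons 16 0xb8 (.cons 4 0x10000 (.cons 2 0x31000 (.cons 1 0x155140 .nil))))))))),
  ([0, 2, 0, 3, 3, 1, 1, 3, 1], (.cons 1 0x55510 (.cons 2 0x33110 (.cons 4 0x90808 (.cons 8 0xc2 (.cons 16 0xf2 (.cons 8 0x12 (.cons 4 0xb0c00 (.cons 2 0x121200 (.cons 1 0x111540 .nil)))))))))),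
  ([5, 5, 5, 2], (.cons 1 0x401010 (.cons 2 0x3100 (.cons 4 0x30200 (.cons 8 0x34 (.cons 16 0xdc (.cons 8 0x54 (.cons 2 0x321020 (.cons 1 0x55100 .nil))))))))),
  ([3, 3, 3, 1, 3, 1], (.cons 1 0x541050 (.cons 2 0x223030 (.cons 4 0x90200 (.cons 8 0x9a (.cons 16 0x7a (.cons 8 0x5a (.cons 4 0x10000 (.cons 2 0x333000 (.cons 1 0x105000 .nil)))))))))),
  ([5, 3, 4, 3, 3, 3, 4, 3, 5, 2], (.cons 1 0x415450 (.cons 2 0x222020 (.cons 4 0xc0100 (.cons 8 0xe6 (.cons 16 0xb6 (.cons 8 0x96 (.cons 4 0x50500 (.cons 2 0x13200 (.cons 1 0x505440 .nil)))))))))),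
  ([], .nil),
  ([5, 3, 3, 4, 3, 3, 5, 2], (.cons 1 0x4500 (.cons 2 0x303300 (.cons 4 0x70500 (.cons 8 0xf9 (.cons 16 0x99 (.cons 8 0x99 (.cons 4 0x400 (.cons 2 0x303300 (.cons 1 0x4500 .nil)))))))))),
  ([7, 5, 6, 5, 5, 5, 6, 5, 5], (.cons 1 0x544140 (.cons 2 0x131020 (.cons 4 0x90100 (.cons 8 0xd1 (.cons 16 0x31 (.cons 8 0x31 (.cons 4 0xc00 (.cons 2 0x3000 (.cons 1 0x544140 .nil)))))))))),
  ([6, 9, 6, 6, 9, 9], (.cons 1 0x104000 (.cons 2 0x321220 (.cons 4 0x70d00 (.cons 8 0xa9 (.cons 16 0x49 (.cons 8 0x49 (.cons 4 0x10800 (.cons 2 0x30200 (.cons 1 0x111140 .nil)))))))))),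
  ([1, 2, 7, 7], (.cons 1 0x505400 (.cons 2 0x111000 (.cons 4 0x40e00 (.cons 8 0xb8 (.cons 16 0x78 (.cons 8 0x38 (.cons 4 0x20000 (.cons 2 0x333300 (.cons 1 0x141400 .nil))))))))))]

/-- The group of the length-24 code is generated by x ↦ x+1, x ↦ -1/x and the cube-twist permutation. -/
theorem result : Subgroup.closure {Equiv.optionCongr (Equiv.addRight (1 : ZMod 23)), Cfsg.projInv, Cfsg.cubeTwist} = Cfsg.M24 := by
  have h : ActsL 24 GE.e [Equiv.optionCongr (Equiv.addRight (1 : ZMod 23)), Cfsg.projInv, Cfsg.cubeTwist] nets :=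
    .cons ⟨Net.ok_of_valid (by decide +kernel), by decide +kernel⟩
      (.cons ⟨Net.ok_of_valid (by decide +kernel), by decide +kernel⟩
        (.cons ⟨Net.ok_of_valid (by decide +kernel), by decide +kernel⟩ .nil))
  rw [← h.cl_eq_slp (K := 5) GE.injOn (by norm_num) prog [13, 14, 15, 12, 11, 10, 9, 8, 7, 6, 5, 4, 3, 2, 1, 0] [(0, 1, 3), (1, 1, 2), (2, 2, 2), (3, 2, 2), (4, 1, 2), (5, 2, 4), (6, 2, 1)] (H := M24) (by
    simp only [List.mem_cons, List.not_mem_nil, or_false]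
    rintro g (rfl | rfl | rfl)
    exacts [S0370.result, S0372.result, S0373.result]) card_MM.le (by decide +kernel) (by decide +kernel), cl]
  congr 1; ext g; simp

end Cfsg.Agent.S0374
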