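import Cfsg.Statements.S0380
import Cfsg.Agent.H9.Mz1

set_option autoImplicit false
open Cfsg

namespace Cfsg.Agent.S0380
open H27 MulAction
open scoped Pointwise
open H9 Matrix
open scoped MatrixGroups
abbrev K := _root_.H22.GF4
noncomputable def gM : List Net := [(.cons 1 0x44055 (.cons 2 0x20022 (.cons 4 0x10006 (.cons 8 0x36 (.cons 16 0x6 (.cons 8 0x6 (.cons 4 0x302 (.cons 2 0x1101 (.cons 1 0x15510 .nil))))))))),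
  (.cons 1 0x40555 (.cons 2 0x30102 (.cons 4 0x10f03 (.cons 8 0xa3 (.cons 16 0xf (.cons 8 0xe (.cons 4 0x10906 (.cons 2 0x11020 (.cons 1 0x44040 .nil)))))))))]
noncomputable def v (i : Nat) : Fin 3 → K := nth 0 [![⟨0, 0⟩, ⟨0, 0⟩, ⟨1, 0⟩], ![⟨0, 0⟩, ⟨1, 0⟩, ⟨0, 0⟩], ![⟨1, 0⟩, ⟨0, 0⟩, ⟨0, 0⟩], ![⟨0, 0⟩, ⟨1, 0⟩, ⟨1, 0⟩], ![⟨1, 0⟩, ⟨1, 0⟩, ⟨0, 1⟩], ![⟨1, 0⟩, ⟨1, 0⟩, ⟨1, 0⟩], ![⟨1, 0⟩, ⟨0, 1⟩, ⟨0, 1⟩], ![⟨1, 0⟩, ⟨1, 1⟩, ⟨1, 0⟩], ![⟨1, 0⟩, ⟨1, 1⟩, ⟨0, 1⟩], ![⟨1, 0⟩, ⟨0, 1⟩, ⟨0, 0⟩], ![⟨1, 0⟩, ⟨0, 1⟩, ⟨1, 1⟩], ![⟨1, 0⟩, ⟨0, 0⟩, ⟨0, 1⟩], ![⟨0, 0⟩, ⟨1, 0⟩, ⟨1, 1⟩], ![⟨1, 0⟩, ⟨1, 1⟩, ⟨1, 1⟩], ![⟨1, 0⟩, ⟨0, 0⟩, ⟨1, 0⟩], ![⟨0, 0⟩, ⟨1, 0⟩, ⟨0, 1⟩], ![⟨1, 0⟩, ⟨0, 1⟩, ⟨1, 0⟩], ![⟨1, 0⟩, ⟨1, 0⟩, ⟨0, 0⟩], ![⟨1, 0⟩, ⟨1, 1⟩, ⟨0, 0⟩], ![⟨1, 0⟩, ⟨1, 0⟩, ⟨1, 1⟩], ![⟨1,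 0⟩, ⟨0, 0⟩, ⟨1, 1⟩]] i
noncomputable def xs : List SL(3, K) := [⟨!![⟨0, 0⟩, ⟨0, 1⟩, ⟨0, 1⟩; ⟨1, 0⟩, ⟨1, 0⟩, ⟨1, 0⟩; ⟨0, 0⟩, ⟨1, 0⟩, ⟨0, 1⟩], by decide +kernel⟩, ⟨!![⟨1, 0⟩, ⟨0, 1⟩, ⟨0, 1⟩; ⟨1, 1⟩, ⟨1, 0⟩, ⟨0, 0⟩; ⟨1, 0⟩, ⟨1, 1⟩, ⟨1, 0⟩], by decide +kernel⟩]
theorem xa : ActsL 21 (fun i => ln (v i)) xs gM :=
  .cons (acts_ln (by decide +kernel) (by decide +kernel)) (.cons (acts_ln (by decide +kernel) (by decide +kernel)) .nil)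
theorem cX : Nat.card PSL(3, K) = 20160 := by
  have h1 := _root_.H22.gcd_mul_card_PSL (F := K) 3 (by norm_num)
  have h2 := _root_.H22.card_SL (F := K) 3 (by norm_num)
  rw [_root_.H22.card_GF4] at h1 h2
  rw [Fin.prod_univ_three] at h2
  norm_num [-Nat.card_eq_fintype_card] at h1 h2
  omega


/-- A three-point stabiliser in the group of the length-24 code is isomorphic to PSL(3, F) for the field F with 4 elements. -/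
theorem result (p q r : Cfsg.GolayPt) (hpq : p ≠ q) (hpr : p ≠ r) (hqr : q ≠ r) (F : Type) [Field F] [Fintype F] (hF : Fintype.card F = 4) : Nonempty (↥(MulAction.stabilizer Cfsg.M24 p ⊓ MulAction.stabilizer Cfsg.M24 q ⊓ MulAction.stabilizer Cfsg.M24 r) ≃* Matrix.ProjectiveSpecialLinearGroup (Fin 3) F) := by
  obtain ⟨g, rfl, rfl, rfl⟩ := exists_smul_pt3 hpq hpr hqr
  exact (((CjRel.stab g _).inf (CjRel.stab g _)).inf (CjRel.stab g _)).iso (iso_psl (K := K) (k := 5) hF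
    (subT_injOn GE.injOn (by decide +kernel)) (g21_acts.sub (l := [2, 3, 4, 5, 6, 7, 8, 9, 10, 11, 12, 13, 14, 15, 16, 17, 18, 19, 20, 21, 22]) (Ms := gM) (by decide +kernel))
    g21_mem card_H21.le (by decide +kernel) xa cX.le (by norm_num) [([2, 2, 2, 1, 3], (.cons 1 0x40104 (.cons 2 0x11333 (.cons 4 0x609 (.cons 8 0xb5 (.cons 16 0xf (.cons 8 0x7 (.cons 4 0x10900 (.cons 2 0x10001 (.cons 1 0x41550 .nil)))))))))),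
      ([2, 5, 2, 2, 4, 3, 3, 3], (.cons 1 0x15050 (.cons 2 0x21233 (.cons 4 0x10207 (.cons 8 0x6 (.cons 16 0x1f (.cons 8 0x18 (.cons 4 0xc0c (.cons 2 0x22101 (.cons 1 0x4100 .nil)))))))))),
      ([3, 1, 1, 1, 3, 3, 1, 3], (.cons 1 0x55050 (.cons 2 0x23121 (.cons 4 0x10d0d (.cons 8 0x9a (.cons 16 0x6 (.cons 8 0x6 (.cons 4 0x704 (.cons 2 0x20101 (.cons 1 0x50 .nil)))))))))),
      ([5, 3, 3, 5, 5, 3, 4, 4, 3, 5], (.cons 1 0x50410 (.cons 2 0x31201 (.cons 4 0x10b0f (.cons 8 0x93 (.cons 16 0xf (.cons 8 0xd (.cons 4 0x306 (.cons 2 0x32201 (.cons 1 0x5450 .nil)))))))))),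
      ([6, 5, 6, 4, 7, 5, 7, 5, 6], (.cons 1 0x41500 (.cons 2 0x33101 (.cons 4 0x10b08 (.cons 8 0xe0 (.cons 16 0x9 (.cons 8 0x9 (.cons 4 0x10700 (.cons 2 0x21111 (.cons 1 0x1410 .nil)))))))))),
      ([4, 1, 3, 0, 0, 5], (.cons 1 0x45414 (.cons 2 0x2300 (.cons 4 0x10304 (.cons 8 0x79 (.cons 16 0x1d (.cons 8 0x9 (.cons 4 0x104 (.cons 2 0x21200 (.cons 1 0x40044 .nil))))))))))]
      [6, 7, 5, 4, 3, 2, 1, 0] [(0, 2, 2), (1, 2, 2), (2, 2, 3), (3, 2, 1)] (by decide +kernel))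

end Cfsg.Agent.S0380
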