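import Cfsg.Statements.S0449
import Cfsg.Agent.H26.JRU
import Cfsg.Agent.H26.JR5

set_option autoImplicit false
open Cfsg

namespace Cfsg.Agent.S0449

theorem aux {G : Type*} [Group G] [Finite G] [IsSimpleGroup G] {t : G}
    (ht : Cfsg.IsTwoCentralInvolution t)
    (e : Subgroup.centralizer ({t} : Set G) ≃* Multiplicative (ZMod 2) × alternatingGroup (Fin 5)) :
    Spor.IsoJ1 G := by
  obtain ⟨h1, P, h2, h3⟩ := ht
  obtain ⟨S, h⟩ := H26.J.jr_of_a5 ‹_› h1 (Nat.odd_iff.2 (Nat.two_dvd_ne_zero.1 fun k =>
    P.not_dvd_index (k.trans (Subgroup.index_dvd_of_le fun x hx =>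
      Subgroup.mem_centralizer_singleton_iff.2 (h3 x hx))))) e
  exact h.isoJ1


/-- Uniqueness of Janko's first group: two finite simple groups, each with a 2-central involution whose centraliser is isomorphic to (cyclic of order 2) × (alternating group of degree 5), are isomorphic. -/
theorem result {G H : Type*} [Group G] [Finite G] [IsSimpleGroup G] [Group H] [Finite H] [IsSimpleGroup H] (t : G) (u : H) (ht : Cfsg.IsTwoCentralInvolution t) (hu : Cfsg.IsTwoCentralInvolution u) (e : Subgroup.centralizer ({t} : Set G) ≃* Multiplicative (ZMod 2) × alternatingGroup (Fin 5)) (f : Subgroup.centralizer ({u} : Set H) ≃* Multiplicative (ZMod 2) × alternatingGroup (Fin 5)) : Nonempty (G ≃* H) := by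
  obtain ⟨a⟩ := aux ht e
  obtain ⟨b⟩ := aux hu f
  exact ⟨a.trans b.symm⟩

end Cfsg.Agent.S0449
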