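import Cfsg.Statements.S0506
import Cfsg.Agent.H26.JRy

set_option autoImplicit false
open Cfsg

namespace Cfsg.Agent.S0506


/-- A non-abelian finite simple group with abelian Sylow 2-subgroups is isomorphic to a projective special linear group
of dimension 2 over a field with 2^a ≥ 4 elements or with q ≡ 3, 5 mod 8 elements, or is simple with the order of a Ree
group or of order 175560. -/
theorem result {G : Type*} [Group G] [Finite G] [IsSimpleGroup G]
    (hG : ¬ IsMulCommutative G) (S : Sylow 2 G) (hS : IsMulCommutative (S : Subgroup G)) :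
    (∃ a : ℕ, 2 ≤ a ∧ ∃ (F : Type) (_ : Field F) (_ : Fintype F), Fintype.card F = 2 ^ a ∧ Nonempty (G ≃* Matrix.ProjectiveSpecialLinearGroup (Fin 2) F)) ∨
      (∃ (F : Type) (_ : Field F) (_ : Fintype F), (Fintype.card F % 8 = 3 ∨ Fintype.card F % 8 = 5) ∧ Nonempty (G ≃* Matrix.ProjectiveSpecialLinearGroup (Fin 2) F)) ∨
      Cfsg.IsRee G ∨ Cfsg.IsJ1 G := by
  rcases H26.J.walter ‹_› hG (H10.isSylowIn_top S) (H10.isMulCommutative_iff_le_CC.1 hS) with
    ⟨-, F, _, _, n, h1, h2, e⟩ | ⟨F, _, _, h1, -, e⟩ | ⟨p, n, ρ, τ, f, h⟩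
  exacts [Or.inl ⟨n, by omega, F, _, _, h2, e⟩, Or.inr (Or.inl ⟨F, _, _, h1, e⟩),
    Or.inr (Or.inr h.ree_or)]

end Cfsg.Agent.S0506
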