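import Cfsg.Statements.S0647
import Cfsg.Agent.H4.Thompson

set_option autoImplicit false
open Cfsg

namespace Cfsg.Agent.S0647

/-- For a nonempty family of maximal abelian subgroups of a finite group, the intersection of the family is the centre of the subgroup it generates, which is also the full centralizer of that subgroup. -/
theorem result {S : Type*} [Group S] [Finite S] (𝒜 : Set (Subgroup S)) (hne : 𝒜.Nonempty) (hab : ∀ A ∈ 𝒜, IsMulCommutative A) (hmax : ∀ A ∈ 𝒜, ∀ B : Subgroup S, IsMulCommutative B → A ≤ B → B = A) : sInf 𝒜 = sSup 𝒜 ⊓ Subgroup.centralizer ((sSup 𝒜 : Subgroup S) : Set S) ∧ sInf 𝒜 = Subgroup.centralizer ((sSup 𝒜 : Subgroup S) : Set S) := by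
  have key : ∀ A ∈ 𝒜, Subgroup.centralizer (A : Set S) ≤ A := by
    intro A hA x hx
    have h1 : IsElementaryAbelian 0 (Subgroup.zpowers x ⊔ A) :=
      H4.elemAb_sup (H4.elemAb_zpowers (pow_zero x)) (H4.elemAb_zero_iff.2 (hab A hA))
        (Subgroup.zpowers_le.2 hx)
    rw [← hmax A hA _ h1.1 le_sup_right]
    exact Subgroup.mem_sup_left (Subgroup.mem_zpowers x)
  have h2 : sInf 𝒜 = Subgroup.centralizer ((sSup 𝒜 : Subgroup S) : Set S) := by
    refine le_antisymm ?_ (le_sInf fun A hA =>
      (Subgroup.centralizer_le (SetLike.coe_subset_coe.2 (le_sSup hA))).trans (key A hA))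
    rw [Subgroup.le_centralizer_iff]
    refine sSup_le fun A hA => ?_
    have := hab A hA
    exact (Subgroup.le_centralizer A).trans
      (Subgroup.centralizer_le (SetLike.coe_subset_coe.2 (sInf_le hA)))
  refine ⟨le_antisymm (le_inf ?_ h2.le) (inf_le_right.trans h2.ge), h2⟩
  obtain ⟨A, hA⟩ := hne
  exact (sInf_le hA).trans (le_sSup hA)

end Cfsg.Agent.S0647
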