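import Cfsg.Statements.S0650
import Cfsg.Agent.H4.Glaub

set_option autoImplicit false
open Cfsg

namespace Cfsg.Agent.S0650

/-- The Glauberman replacement Theorem: from an abelian A ⊇ [B, B] not normalized by the normal subgroup B and a suitable b ∈ B one gets the abelian subgroup A* = (A ∩ b⁻¹Ab)[A, b] of the same order, containing [B, B], meeting B strictly more than A does but not containing B, mutually normalizing with A, with strictly larger normalizer containing b, and (p odd) of no larger exponent. -/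
theorem result {S : Type*} [Group S] [Finite S] {p : ℕ} [Fact p.Prime] (hS : IsPGroup p S) (B : Subgroup S) [B.Normal] (hB2 : p = 2 → IsMulCommutative B) (A : Subgroup S) (hA : IsMulCommutative A) (hBA : ⁅B, B⁆ ≤ A) (hnot : ¬ B ≤ Subgroup.normalizer (A : Set S)) (b : S) (hb : b ∈ B) (hbN : b ∈ Subgroup.normalizer ((Subgroup.normalizer (A : Set S)) : Set S)) (hbA : b ∉ Subgroup.normalizer (A : Set S)) : Nat.card ↥((A ⊓ A.map (MulAut.conj (b⁻¹)).toMonoidHom) ⊔ Subgroup.closure {g : S | ∃ a ∈ A, g = a * b⁻¹ * a⁻¹ * b}) = Nat.card A ∧ IsMulCommutative ↥((A ⊓ A.map (MulAut.conj (b⁻¹)).toMonoidHom) ⊔ Subgroup.closure {g : S | ∃ a ∈ A, g = a * b⁻¹ * a⁻¹ * b}) ∧ ⁅B, B⁆ ≤ ((A ⊓ A.map (MulAut.conj (b⁻¹)).toMonoidHom) ⊔ Subgroup.closure {g : S | ∃ a ∈ A, g = a * b⁻¹ * a⁻¹ * b}) ∧ A ⊓ B < ((A ⊓ A.map (MulAut.conj (b⁻¹)).toMonoidHom) ⊔ Subgroup.closure {g : S | ∃ a ∈ A, g = a * b⁻¹ * a⁻¹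 * b}) ⊓ B ∧ ((A ⊓ A.map (MulAut.conj (b⁻¹)).toMonoidHom) ⊔ Subgroup.closure {g : S | ∃ a ∈ A, g = a * b⁻¹ * a⁻¹ * b}) ⊓ B < B ∧ A ≤ Subgroup.normalizer (((A ⊓ A.map (MulAut.conj (b⁻¹)).toMonoidHom) ⊔ Subgroup.closure {g : S | ∃ a ∈ A, g = a * b⁻¹ * a⁻¹ * b} : Subgroup S) : Set S) ∧ ((A ⊓ A.map (MulAut.conj (b⁻¹)).toMonoidHom) ⊔ Subgroup.closure {g : S | ∃ a ∈ A, g = a * b⁻¹ * a⁻¹ * b}) ≤ Subgroup.normalizer (A : Set S) ∧ b ∈ Subgroup.normalizer (((A ⊓ A.map (MulAut.conj (b⁻¹)).toMonoidHom) ⊔ Subgroup.closure {g : S | ∃ a ∈ A, g = a * b⁻¹ * a⁻¹ * b} : Subgroup S) : Set S) ∧ Subgroup.normalizer (A : Set S) < Subgroup.normalizer (((A ⊓ A.map (MulAut.conj (b⁻¹)).toMonoidHom) ⊔ Subgroup.closure {g : S | ∃ a ∈ A, g = a * b⁻¹ * a⁻¹ * b} : Subgroup S) : Set S) ∧ (p ≠ 2 → Monoid.exponent ↥((A ⊓ A.map (MulAut.conj (b⁻¹)).toMonoidHom) ⊔ Subgroup.closure {g : S | ∃ a ∈ A, g = a * b⁻¹ *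 a⁻¹ * b}) ∣ Monoid.exponent A) := by
  obtain ⟨h, hN⟩ := H4.gHyp_of (S := ⊤) (B := B) le_top (by rw [Subgroup.normalizer_eq_top]) hA hBA
    hb (by rwa [top_inf_eq])
  rw [top_inf_eq] at hN
  have h2 : IsMulCommutative B ∨ ∀ w ∈ B, w ^ 2 = 1 → w = 1 := by
    by_cases hp : p = 2
    · exact Or.inl (hB2 hp)
    · exact Or.inr (H4.eq_one_of_sq_of_isPGroup hp (hS.to_subgroup B))
  have hN' := H4.GHyp.le_norm_gStar (A := A) (B := B) (b := b) le_rfl hN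
    (by rw [B.normalizer_eq_top]; exact le_top)
  rw [H4.bComm_eq, ← h.gStar_eq]
  refine ⟨h.card_gStar, h.comm_gStar h2, h.der_le_gStar, h.inf_lt hbA,
    lt_of_le_of_ne inf_le_right fun he => h.not_le hbA (he.symm.le.trans inf_le_left),
    (H15.le_norm_self A).trans hN', h.gStar_le_norm, h.mem_norm_gStar,
    lt_of_le_of_ne hN' fun he => hbA (he ▸ h.mem_norm_gStar), fun hp => ?_⟩
  have hodd : Odd (Monoid.exponent A) := by
    obtain ⟨k, hk⟩ := IsPGroup.iff_card.1 (hS.to_subgroup A)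
    refine Odd.of_dvd_nat ?_ (Group.exponent_dvd_nat_card (G := A))
    rw [hk]
    exact ((Fact.out : p.Prime).odd_of_ne_two hp).pow
  have := h.elemAb_gStar h2 (Or.inr hodd) ⟨hA, fun a ha =>
    congrArg Subtype.val (Monoid.pow_exponent_eq_one (⟨a, ha⟩ : A))⟩
  exact Monoid.exponent_dvd_of_forall_pow_eq_one fun g => Subtype.ext (this.2 g g.2)

end Cfsg.Agent.S0650
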