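import Cfsg.Statements.S0655
import Cfsg.Agent.H4.Thompson

set_option autoImplicit false
open Cfsg

namespace Cfsg.Agent.S0655

/-- In a p-group the intersection of all elementary abelian subgroups of largest order is the subgroup generated by the elements of order dividing p in the centre (equivalently the centralizer) of the elementary-version Thompson subgroup. -/
theorem result {S : Type*} [Group S] [Finite S] {p : ℕ} [Fact p.Prime] (hS : IsPGroup p S) : sInf (Cfsg.maxElementaryAbelianSubgroups p S) = Cfsg.omegaCenterThompson p S ∧ Cfsg.omegaCenterThompson p S = Cfsg.omegaOne p (Subgroup.centralizer (Cfsg.thompsonSubgroup p S : Set S)) := by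
  rw [H4.omegaCenterThompson_eq, ← H4.maxAb_top, ← H4.thompsonOf_top]
  refine ⟨le_antisymm ?_ (le_sInf fun A hA => H4.omegaOne_centerThompsonOf_le hA),
    le_antisymm (H4.omegaOne_mono inf_le_right) (H4.omegaOne_le_iff.2 fun x hx hn =>
      H4.mem_omegaOne ⟨H4.mem_thompsonOf_of_centralizes (Subgroup.mem_top x) hn hx, hx⟩ hn)⟩
  obtain ⟨A, hA⟩ := H4.maxAb_nonempty p (⊤ : Subgroup S)
  refine H4.elemAb_le_omegaOne (H4.elemAb_of_le hA.2.1 (sInf_le hA))
    (le_inf ((sInf_le hA).trans (H4.le_thompsonOf hA)) ?_)
  rw [Subgroup.le_centralizer_iff, H4.thompsonOf_le_iff]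
  intro B hB
  exact (H4.elemAb_le_centralizer hB.2.1).trans
    (Subgroup.centralizer_le (SetLike.coe_subset_coe.2 (sInf_le hB)))

end Cfsg.Agent.S0655
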