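import Cfsg.Statements.S0732
import Cfsg.Agent.H26.ZS17

set_option autoImplicit false
open Cfsg

namespace Cfsg.Agent.S0732


/-- A transitive permutation group on `p + 1` points (`p` prime) of order `(p+1) p d` with `d < p` is isomorphic to `PGL(2,p)` with `d = p - 1`, or to `PSL(2,p)` with `2d = p - 1`, or else `p + 1 = 2^q` for a prime `q`, `d = 1` or `d = q`, and the group is permutation-isomorphic to a group of semi-affine maps `x ↦ a φ(x) + b` of the field with `2^q` elements. -/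
theorem result {α : Type*} [Fintype α] [DecidableEq α] {p d : ℕ} (hp : p.Prime) (hα : Fintype.card α = p + 1) (G : Subgroup (Equiv.Perm α)) [MulAction.IsPretransitive G α] (hG : Nat.card G = (p + 1) * p * d) (hd : d < p) : (d = p - 1 ∧ Nonempty (G ≃* Matrix.ProjGenLinGroup (Fin 2) (ZMod p))) ∨ (2 * d = p - 1 ∧ Nonempty (G ≃* Matrix.ProjectiveSpecialLinearGroup (Fin 2) (ZMod p))) ∨ (∃ q : ℕ, q.Prime ∧ p + 1 = 2 ^ q ∧ (d = 1 ∨ d = q) ∧ ∃ e : α ≃ GaloisField 2 q, ∀ g : G, (e.symm.trans (((g : Equiv.Perm α)).trans e)) ∈ Cfsg.semiaffineGroup (GaloisField 2 q)) := by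
  haveI := Fact.mk hp
  have hα' : Nat.card α = p + 1 := by rw [Nat.card_eq_fintype_card, hα]
  have hker := H26.exists_ker_prime hp hα' hG hd
  have hZ := H26.z3_of_ker_prime hp hker
  have h2 := hp.two_le
  obtain ⟨a, b, hab⟩ := Fintype.exists_pair_of_one_lt_card (show 1 < Fintype.card α by omega)
  replace hab := hab.symm
  obtain ⟨H, hK, hH⟩ := hker a
  have hD : Nat.card (H26.D2 G a b) = d := by
    have := hZ.card_G hK hab
    rw [hG, hH, mul_assoc] at this
    exact (Nat.eq_of_mul_eq_mul_left hp.pos (Nat.eq_of_mul_eq_mul_left (by omega) this)).symm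
  have hc : IsMulCommutative H := by
    haveI := isCyclic_of_prime_card hH
    exact ⟨⟨fun x y => IsCyclic.commGroup.mul_comm x y⟩⟩
  have hiso : ∀ (K : Type) [Field K] [Fintype K], Fintype.card K = Nat.card H →
      Nonempty (K ≃+* ZMod p) := fun K _ _ h =>
    ⟨FiniteField.ringEquivOfCardEq (by rw [h, hH, ZMod.card])⟩
  by_cases h3 : p = d + 1
  · have h3t := hZ.three_trans_of_card hK hab (by rw [hH, hD, h3])
    obtain ⟨K, _, _, h4, ⟨e⟩⟩ : ∃ (K : Type) (_ : Field K) (_ : Fintype K),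
        Fintype.card K = Nat.card H ∧ Nonempty (G ≃* Matrix.ProjGenLinGroup (Fin 2) K) := by
      by_cases hp2 : p = 2
      · exact hZ.pgl_of_odd h3t hK hab (by rw [hα', hp2]; decide)
      · exact hZ.pgl_of_odd_exp h3t hK hab hp hp2 odd_one (by rw [hH, pow_one])
    obtain ⟨f⟩ := hiso K h4
    obtain ⟨f⟩ := H26.pgl_congr f
    exact Or.inl ⟨by omega, ⟨e.trans f⟩⟩
  by_cases hN : ∃ N : Subgroup G, N.Normal ∧ MulAction.IsPretransitive N α ∧
      ∀ x : α, MulAction.stabilizer N x = ⊥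
  · obtain ⟨N, hn, hNt, hNr⟩ := hN
    obtain ⟨K, _, _, e, h4, h5⟩ := hZ.affine hK hab hc N hNt hNr
    have hd0 : 0 < d := hD ▸ Nat.card_pos
    have hp2 : p ≠ 2 := by omega
    have hcK : Fintype.card K = p + 1 := by rw [Fintype.card_congr e, hα]
    obtain ⟨n, h6, h7⟩ := FiniteField.card K (ringChar K)
    have h8 : ringChar K = 2 := by
      have : 2 ∣ ringChar K ^ (n : ℕ) := by
        rw [← h7, hcK]; exact (hp.odd_of_ne_two hp2).add_one.two_dvd
      exact ((Nat.prime_dvd_prime_iff_eq Nat.prime_two h6).1 (Nat.prime_two.dvd_of_dvd_pow this)).symm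
    rw [h8] at h7
    have hq : (n : ℕ).Prime := (Nat.prime_of_pow_sub_one_prime (a := 2) (n := n) (by
      intro h; rw [h, hcK] at h7; omega) (by rwa [← h7, hcK, Nat.add_sub_cancel])).2
    rw [H26.card_ringAut' Nat.prime_two h7, hD] at h4
    letI := Fintype.ofFinite (GaloisField 2 n)
    let f : K ≃+* GaloisField 2 n := FiniteField.ringEquivOfCardEq (by
      rw [h7, ← Nat.card_eq_fintype_card, GaloisField.card 2 n hq.ne_zero])
    refine Or.inr (Or.inr ⟨n, hq, by rw [← hcK, h7], (Nat.dvd_prime hq).1 h4,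
      e.symm.trans f.toEquiv, fun g => ?_⟩)
    obtain ⟨c, t, β, h9⟩ := h5 g
    refine ⟨Units.map (f : K →* GaloisField 2 n) c, f t, (f.symm.trans β).trans f, fun x => ?_⟩
    have := h9 (f.symm x)
    change f (e.symm (g • e (f.symm x))) = _
    rw [this]
    simp
  have hZ' : H26.Zas G α := ⟨inferInstance, hZ.two_trans, hZ.three, by
    by_contra h
    push Not at h
    obtain ⟨N, h4, -, h5⟩ := H25.frobenius_perm (G := G) a fun x y hxy g h1 h2 => by
      by_contra hg
      exact h g hg x y hxy h1 h2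
    exact hN ⟨N, h4, h5⟩, fun N h4 h5 => by
      by_contra h
      push Not at h
      exact hN ⟨N, h4, h5, h⟩⟩
  obtain ⟨h4, h5⟩ := (hZ'.of_comm hK hab hc).resolve_left (by rwa [hH, hD])
  obtain ⟨s, hs, h6⟩ := hZ.exists_swap hab
  obtain ⟨K, _, _, h7, -, ⟨e⟩⟩ := hZ.psl_of_half hK hab h4 hs h6 (h5 s hs).2
  obtain ⟨f⟩ := hiso K h7
  obtain ⟨f⟩ := H26.psl_congr' f
  exact Or.inr (Or.inl ⟨by omega, ⟨e.trans f⟩⟩)

end Cfsg.Agent.S0732
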