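import Cfsg.Statements.S0981
import Cfsg.Agent.H2.Br4

set_option autoImplicit false
open Cfsg

namespace Cfsg.Agent.S0981

/-- A simple group of order 4080 is isomorphic to the projective special linear group of dimension 2 over the field with 16 elements. -/
theorem result {G : Type*} [Group G] [Finite G] [IsSimpleGroup G] (h : Nat.card G = 4080) {F : Type*} [Field F] [Fintype F] (hF : Fintype.card F = 16) : Nonempty (G ≃* Matrix.ProjectiveSpecialLinearGroup (Fin 2) F) := by
  haveI : Fact (Nat.Prime 17) := ⟨by norm_num⟩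
  obtain ⟨-, ⟨h1, -⟩ | ⟨-, m, K, _, _, h1, h2, h4⟩⟩ := H2.br_simple_cube (G := G) (p := 17)
    (H2.sm_noncomm_of_card (by rw [h]; norm_num)) (by rw [h]; norm_num) (by rw [h]; norm_num)
  · omega
  have h5 : Fintype.card K = Fintype.card F := by omega
  obtain ⟨e⟩ := H2.z_psl_of_sl (by rw [h5, hF]; decide) h4
  obtain ⟨e'⟩ := H2.z_psl_congr h5 2
  exact ⟨e.trans e'⟩

end Cfsg.Agent.S0981
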