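import Cfsg.Statements.S1011
import Cfsg.Agent.H2.Sm6
import Cfsg.Agent.S0848

set_option autoImplicit false
open Cfsg

namespace Cfsg.Agent.S1011

/-- A simple group of order 504 is isomorphic to the projective special linear group of dimension 2 over the field with 8 elements. -/
theorem result {G : Type*} [Group G] [Finite G] [IsSimpleGroup G] (h : Nat.card G = 504) {F : Type*} [Field F] [Fintype F] (hF : Fintype.card F = 8) : Nonempty (G ≃* Matrix.ProjectiveSpecialLinearGroup (Fin 2) F) := by
  have hG := H2.sm_noncomm_of_card (G := G) (by rw [h]; norm_num)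
  haveI := Fact.mk Nat.prime_seven
  obtain ⟨t, ht, h1⟩ := H2.sm_small_inv (p := 7) (d := 36) hG (by omega) (by norm_num) (by omega)
    (by omega) (by rw [h]; decide +kernel)
  refine ((H2.sm_eight hG (m := 63) h (by norm_num) ht h1).resolve_left ?_).2 F hF
  rintro ⟨-, x, y, h2⟩
  obtain ⟨e⟩ := H18.dh_equiv h2
  have := Cfsg.Agent.S0848.result (H2.sm_commutator_eq_top hG) t ht e
  omega

end Cfsg.Agent.S1011
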