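import Cfsg.Statements.S1174
import Cfsg.Agent.H11.YC

set_option autoImplicit false
open Cfsg

namespace Cfsg.Agent.S1174

open Subgroup MulAction H16 H15.Bd H11.ZD H11.YZ


/-- Let X be a finite simple group, S a Sylow 2-subgroup and T ≠ 1 a subgroup strongly closed in S. If the subgroup generated by the centralizers C_X(t) of the involutions t of T is proper in X, then X has a strongly embedded subgroup. -/
theorem result {X : Type*} [Group X] [Finite X] [IsSimpleGroup X] (S : Sylow 2 X) (T : Subgroup X) (hT1 : T ≠ ⊥) (hT : Cfsg.IsStronglyClosed T (S : Subgroup X)) (hprop : (⨆ t : {t : X // t ∈ T ∧ orderOf t = 2}, Subgroup.centralizer ({(t : X)} : Set X)) ≠ ⊤) : ∃ H : Subgroup X, Cfsg.IsStronglyEmbedded H := by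
  set Γ := ⨆ t : {t : X // t ∈ T ∧ orderOf t = 2}, Subgroup.centralizer ({(t : X)} : Set X)
  have h1 : ∀ t ∈ T, orderOf t = 2 → C1[t] ≤ Γ := fun t ht ot => le_iSup (fun t : {t : X // t ∈ T ∧ orderOf t = 2} =>
    Subgroup.centralizer ({(t : X)} : Set X)) ⟨t, ht, ot⟩
  obtain ⟨z, hz, oz⟩ := H6.exists_ord2_of_pgroup (S.isPGroup'.to_le hT.1) hT1
  have h : SCH S T N[Γ] := ⟨sy_top_of_sylow S, hT, hT1, fun s hs os => (h1 s hs os).trans (le_norm Γ), fun g hg =>
    mem_norm_of_cj_le (cj_le_iff.2 (iSup_le fun t => cj_le_iff.1 (cent1_cj _ g ▸ h1 _ (conj_mem (sc_norm hT hg) t.2.1)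
      (H6.ord2_conj t.2.2 g)))), fun e => ((IsSimpleGroup.eq_bot_or_eq_top_of_normal Γ (normalizer_eq_top_iff.1 e)).elim
      (ne_bot_of_mem (h1 z hz oz (mem_cent1.2 rfl)) (H6.ord2_ne_one oz)) hprop)⟩
  exact ⟨_, h.y0.se_simple inferInstance h.nt (mem_DS hz oz) (zf_St.ge (h.SH hz))⟩

end Cfsg.Agent.S1174
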