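import Cfsg.Statements.S1232
import Cfsg.Agent.H3.Hd4
import Cfsg.Agent.H10.Good
import Cfsg.Agent.H8.Gl
import Cfsg.Agent.H9.Small
import Cfsg.Agent.H8.Y1

set_option autoImplicit false
open Cfsg

namespace Cfsg.Agent.S1232

/-- Let S be a finite 2-group containing an elementary abelian subgroup A of order 8 with C_S(A) = A. Then every section of S has 2-rank at most 4. -/
theorem result {S : Type*} [Group S] [Finite S] (hS : IsPGroup 2 S) (A : Subgroup S) (hA : Cfsg.IsElementaryAbelian 2 A) (hA8 : Nat.card A = 8) (hC : Subgroup.centralizer (A : Set S) = A) : Cfsg.SectionalPRankLE 2 4 S := by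
  have hR : H17.Mw.R (⊤ : Subgroup S) 16 := by
    rcases H3.Hd.ex hS hA8 (fun x hx => pow_two x ▸ hA.2 x hx) hC with h | ⟨B, _, h⟩
    · exact h
    refine H3.Hd.fin h fun H K hb => ?_
    by_cases e : A ≤ B
    · obtain rfl := Subgroup.eq_of_le_of_card_ge e (by rw [h.c8, hA8])
      exact H3.Hd.eqc h hb
    obtain ⟨a, ha, aB⟩ := SetLike.not_le_iff_exists.1 e
    have g := H10.Good.good h
    obtain ⟨c4, c64⟩ := (le_or_gt _ 16).elim (H9.Small.small h g ha aB hb) (H8Gl.large h g ha aB)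
    obtain ⟨Y, hy⟩ := H8Y1.y1 h g ha aB c4 c64
    obtain ⟨v, w, h2⟩ := H3.Hd.y2 h g ha aB c4 hy
    exact H3.Hd.y3 h (fun e => aB (g.ac ⟨ha, e⟩)) (h.a2 a ha)
      (Subgroup.mem_centralizer_iff.2 fun x hx => h.aab hx.1 ha) hy h2 hb
  intro H N _ A' _ hA'
  exact H17.Mw.sect hR H N A' hA'

end Cfsg.Agent.S1232
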