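import Cfsg.Statements.S1237
import Cfsg.Agent.H6.U34b
import Cfsg.Agent.H6.Rank2

set_option autoImplicit false
open Cfsg

namespace Cfsg.Agent.S1237

/-- Let T be a finite 2-group of 2-rank exactly 2 (it has a Klein four-subgroup but no elementary abelian subgroup of order 8) admitting an automorphism φ such that any two involutions of T are carried to one another by a power of φ. Then T ≅ Z_{2^n} × Z_{2^n} for some n ≥ 1, or T is isomorphic to a Sylow 2-subgroup of PSU(3) over the field with 16 elements. -/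
theorem result {T : Type*} [Group T] [Finite T] (hT : IsPGroup 2 T) (h2 : Cfsg.PRankLE 2 2 T) (h1 : ¬ Cfsg.PRankLE 2 1 T) (φ : MulAut T) (htrans : ∀ s t : T, orderOf s = 2 → orderOf t = 2 → ∃ k : ℕ, (φ ^ k) s = t) {F : Type*} [Field F] [Fintype F] (hF : Fintype.card F = 16) (P : Sylow 2 (Cfsg.PSU 3 F 4)) : (∃ n : ℕ, 1 ≤ n ∧ Nonempty (T ≃* Multiplicative (ZMod (2 ^ n) × ZMod (2 ^ n)))) ∨ Nonempty (T ≃* (P : Subgroup (Cfsg.PSU 3 F 4))) := by
  obtain ⟨A, hA, hA4⟩ := H9.exists_of_not_prank h1
  haveI : Nontrivial T := by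
    have := Subgroup.card_le_card_group A
    exact Finite.one_lt_card_iff_nontrivial.1 (by omega)
  obtain ⟨z, -, hz, hc⟩ := H6.exists_central_ord2 (hT.to_subgroup ⊤) top_ne_bot
  have hcen : ∀ x : T, orderOf x = 2 → ∀ g, Commute x g := fun x hx g => by
    obtain ⟨k, rfl⟩ := htrans z x hz hx
    obtain ⟨g, rfl⟩ := (φ ^ k).surjective g
    exact (hc g trivial).map _
  obtain ⟨w, hw, hwz⟩ : ∃ w, orderOf w = 2 ∧ w ≠ z := by
    by_contra! h
    have : A ≤ Subgroup.zpowers z := fun x hx => by
      by_cases h1 : x = 1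
      · rw [h1]; exact one_mem _
      · rw [h x (orderOf_eq_prime (hA.2 x hx) h1)]; exact Subgroup.mem_zpowers z
    have := Subgroup.card_le_of_le this
    rw [Nat.card_zpowers, hz] at this
    omega
  have hfix : ∀ x : T, orderOf x = 2 → φ x ≠ x := fun x hx e => by
    have key : ∀ y, orderOf y = 2 → y = x := fun y hy => by
      obtain ⟨k, rfl⟩ := htrans x y hx hy
      exact (pow_mem (show φ ∈ MulAction.stabilizer (MulAut T) x from e) k :)
    exact hwz ((key w hw).trans (key z hz).symm)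
  have ob : orderOf (φ z) = 2 := (φ.orderOf_eq z).trans hz
  have h : H6.Tri (⊤ : Subgroup T) z (φ z) := H6.tri_of_rank (H9.prank_top.2 h2) trivial trivial hz ob
    (hfix z hz).symm (hcen z hz _) fun x _ _ => ⟨(hcen z hz x).symm, (hcen _ ob x).symm⟩
  have oc : orderOf (φ (φ z)) = 2 := (φ.orderOf_eq _).trans ob
  refine (h.cases hT (φ := φ) rfl ?_).imp_right fun hU => hU.iso (H6.isU34_sylow hF P)
  rcases h.all _ trivial (H6.ord2_mul_self oc) with e | e | e | e
  · exact absurd e (H6.ord2_ne_one oc)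
  · exact absurd (by rw [map_mul, e, h.comm.eq]) (hfix _ h.rot.ob)
  · exact absurd e (hfix _ ob)
  · exact e

end Cfsg.Agent.S1237
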