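import Cfsg.Statements.S1245
import Cfsg.Agent.H6.JR
import Cfsg.Agent.H5.GF

set_option autoImplicit false
open Cfsg

namespace Cfsg.Agent.S1245

/-- Let G be a non-abelian finite simple group with commutative Sylow 2-subgroups, and t an involution whose centralizer is the internal direct product of ⟨t⟩ and a subgroup E which has a normal subgroup E₀ ≅ PSL(2,F), |F| odd, with C_E(E₀) = 1 (so PSL(2,q) ≤ E ≤ Aut PSL(2,q)). Then C_G(t) is a maximal subgroup of G. -/
theorem result {G : Type*} [Group G] [Finite G] [IsSimpleGroup G] (hna : ¬ IsMulCommutative G) (S : Sylow 2 G) (hS : IsMulCommutative (S : Subgroup G)) (t : G) (ht : orderOf t = 2) (E E₀ : Subgroup G) (hprod : Cfsg.IsInternalDirectProduct (Subgroup.zpowers t) E (Subgroup.centralizer ({t} : Set G))) (hE₀E : E₀ ≤ E) (hE₀n : (E₀.subgroupOf E).Normal) (hE₀ : ∃ (F : Type) (_ : Field F) (_ : Fintype F), Odd (Fintype.card F) ∧ Nonempty (E₀ ≃* Matrix.ProjectiveSpecialLinearGroup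 (Fin 2) F)) (hCE : E ⊓ Subgroup.centralizer (E₀ : Set G) = ⊥) : IsCoatom (Subgroup.centralizer ({t} : Set G)) := by
  obtain ⟨F, _, _, h2, ⟨φ⟩⟩ := hE₀
  have h4 : 4 ∣ Nat.card E₀ := by
    obtain ⟨T⟩ : Nonempty (Sylow 2 (Matrix.ProjectiveSpecialLinearGroup (Fin 2) F)) := inferInstance
    obtain ⟨k, -, ⟨e⟩⟩ := H13.psl2_dihedral h2 T
    rw [Nat.card_congr φ.toEquiv]
    refine Dvd.dvd.trans ?_ (T : Subgroup _).card_subgroup_dvd_card
    rw [Nat.card_congr e.toEquiv, DihedralGroup.nat_card]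
    exact ⟨2 ^ k, by ring⟩
  obtain ⟨h1, h3, h5, h6, h7⟩ := hprod
  rcases H6.JR.types ‹_› hna (H5.Gd.thmS G ‹_› hna) S hS with h | h | h
  · obtain ⟨s, hs, ho⟩ := H10.exists_orderOf_eq_of_dvd (p := 2) ((by norm_num : 2 ∣ 4).trans h4)
    have := H6.JR.se_cent ‹_› hna h.1 ht (by rw [← pow_two, ← ho, pow_orderOf_eq_one]) (h3 (hE₀E hs))
    exact absurd (Subgroup.mem_bot.1 (hCE ▸ Subgroup.mem_inf.2 ⟨hE₀E hs, fun x hx =>
      Subgroup.mem_centralizer_singleton_iff.1 (this (h3 (hE₀E hx)))⟩)) (H10.ne_one_of_orderOf_eq ho)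
  · refine absurd ?_ h.1
    have := H10.card_sup_mul_card_inf (L := Subgroup.zpowers t) (N := E)
      (fun a ha => H10.CC_le_NN E fun b hb => (h5 a ha b hb).symm)
    rw [h6, h7, Subgroup.card_bot, Nat.card_zpowers, ht, mul_one] at this
    refine Dvd.dvd.trans ?_ (Subgroup.card_subgroup_dvd_card (Subgroup.centralizer {t}))
    rw [this]
    exact Nat.mul_dvd_mul_left 2 (h4.trans (Subgroup.card_dvd_of_le hE₀E))
  · exact H6.JR.TR.coatom ‹_› hna h (fun H _ => H5.Gd.good H) ht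

end Cfsg.Agent.S1245
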