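import Cfsg.Statements.S1250
import Cfsg.Agent.H6.Iso

set_option autoImplicit false
open Cfsg
open scoped Pointwise

namespace Cfsg.Agent.S1250

/-- Let S be a Sylow p-subgroup of the finite group G, A ≤ S strongly closed in S, and N a normal subgroup. Then the image of A in G ⧸ N is strongly closed in the image of S (which is a Sylow p-subgroup of G ⧸ N). -/
theorem result {G : Type*} [Group G] [Finite G] {p : ℕ} [Fact p.Prime] (S : Sylow p G) (A : Subgroup G) (hA : Cfsg.IsStronglyClosed A (S : Subgroup G)) (N : Subgroup G) [N.Normal] : Cfsg.IsStronglyClosed (A.map (QuotientGroup.mk' N)) ((S : Subgroup G).map (QuotientGroup.mk' N)) := by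
  refine ⟨Subgroup.map_mono hA.1, ?_⟩
  rintro _ ⟨x, hx, rfl⟩ g ⟨s, hs, he⟩
  obtain ⟨g, rfl⟩ := QuotientGroup.mk_surjective g
  have hn : s⁻¹ * (g * x * g⁻¹) ∈ N := QuotientGroup.eq.1 he
  let H := (S : Subgroup G) ⊔ N
  have hSH : (S : Subgroup G) ≤ H := le_sup_left
  have hyH : g * x * g⁻¹ ∈ H := by
    simpa using H.mul_mem (hSH hs) (Subgroup.mem_sup_right hn)
  obtain ⟨k, hk⟩ := H6.IsPGroup_pow_eq_one S.isPGroup' (hA.1 hx)
  have hy : IsPGroup p (Subgroup.zpowers (g * x * g⁻¹)) :=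
    H6.isPGroup_zpowers (k := k) (by rw [conj_pow, hk]; simp)
  obtain ⟨c, hcH, hc⟩ := H6.exists_conj_le_sylow_sub (S.subtype hSH) hy (Subgroup.zpowers_le.2 hyH)
  have h1 := hc _ (Subgroup.mem_zpowers _)
  rw [Sylow.coe_subtype, Subgroup.subgroupOf_map_subtype] at h1
  have h2 : c ∈ ((S : Subgroup G) : Set G) * (N : Set G) := by
    rw [← Subgroup.mul_normal]; exact hcH
  obtain ⟨t, ht, n, hn', rfl⟩ := h2
  have h3 : n * g * x * (n * g)⁻¹ ∈ (S : Subgroup G) := by
    have := (S : Subgroup G).mul_mem ((S : Subgroup G).mul_mem ((S : Subgroup G).inv_mem ht) h1.1) ht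
    simpa [mul_assoc] using this
  refine ⟨_, hA.2 x hx _ h3, ?_⟩
  simp [(QuotientGroup.eq_one_iff n).2 hn']

end Cfsg.Agent.S1250
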