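import Cfsg.Statements.S1294
import Cfsg.Agent.H5.SigEq

set_option autoImplicit false
open Cfsg

namespace Cfsg.Agent.S1294

/-- Let G be finite with O_{p'}(G) = 1 and p-rank at least 3, whose reduced rank-2 commuting graph for p is connected. Let θ assign to every element a of order p with m_p(C_G(a)) ≥ 3 a solvable subgroup θ a ≤ C_G(a) of order prime to p, so that θ (g a g⁻¹) = g (θ a) g⁻¹ for all g and θ a ∩ C_G(b) ≤ θ b for commuting such a, b. Then θ a = 1 for every such a. -/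
theorem result {G : Type*} [Group G] [Finite G] (p : ℕ) [Fact p.Prime] (hO : Cfsg.pPrimeCore p G = ⊥) (hrk : ¬ Cfsg.PRankLE p 2 G) (hconn : Cfsg.IsRankGraphConnected p 2 G) (θ : G → Subgroup G) (hC : ∀ a : G, (orderOf a = p ∧ ¬ Cfsg.PRankLE p 2 ↥(Subgroup.centralizer ({a} : Set G))) → θ a ≤ Subgroup.centralizer ({a} : Set G) ∧ ¬ p ∣ Nat.card ↥(θ a) ∧ Group.IsSolvable ↥(θ a)) (heq : ∀ a g : G, (orderOf a = p ∧ ¬ Cfsg.PRankLE p 2 ↥(Subgroup.centralizer ({a} : Set G))) → θ (g * a * g⁻¹) = (θ a).map (MulAut.conj g).toMonoidHom) (hbal : ∀ a b : G, (orderOf a = p ∧ ¬ Cfsg.PRankLE p 2 ↥(Subgroup.centralizer ({a} : Set G))) → (orderOf b = p ∧ ¬ Cfsg.PRankLE p 2 ↥(Subgroup.centralizer ({b} : Set G))) → a * b = b * a → θ a ⊓ Subgroup.centralizer {b} ≤ θ b) (a : G) (ha : (orderOf a = p ∧ ¬ Cfsg.PRankLE p 2 ↥(Subgroup.centralizer ({a} : Set G)))) : θ a = ⊥ := by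
  have key : ∀ A : Subgroup G, Cfsg.IsElementaryAbelian p A → p ^ 3 ≤ Nat.card A → ∀ a ∈ A, a ≠ 1 →
      orderOf a = p ∧ ¬ Cfsg.PRankLE p 2 ↥(Subgroup.centralizer ({a} : Set G)) :=
    fun A hA h3 a ha a1 => ⟨H5.orderOf_eq_of_elemAb hA ha a1, H5.not_pRankLE_centralizer₁ hA h3 ha⟩
  have hg : H5.GF p θ := by
    refine ⟨fun A hA h3 => ⟨hA, fun a ha a1 => (hC a (key A hA h3 a ha a1)).1,
      fun a ha a1 => ((Nat.Prime.coprime_iff_not_dvd Fact.out).2 (hC a (key A hA h3 a ha a1)).2.1).symm,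
      fun a ha a1 => H5.inv_of_eqv hA ha fun g => heq a g (key A hA h3 a ha a1),
      fun a ha a1 b hb b1 => hbal a b (key A hA h3 a ha a1) (key A hA h3 b hb b1) (H5.elemAb_comm hA ha hb),
      fun a ha a1 => (hC a (key A hA h3 a ha a1)).2.2⟩, fun A hA h3 a ha a1 g => heq a g (key A hA h3 a ha a1)⟩
  obtain ⟨A, hA, h3, haA⟩ := H5.exists_elemAb_mem ha.1 ha.2
  have a1 : a ≠ 1 := by
    rintro rfl
    exact (Fact.out : p.Prime).one_lt.ne (orderOf_one.symm.trans ha.1)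
  have := H5.le_sigClosure' (θ := θ) haA a1
  rw [hg.eq_bot_of_conn hO hconn hA h3] at this
  exact le_bot_iff.1 this

end Cfsg.Agent.S1294
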