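import Cfsg.Statements.S1295
import Cfsg.Agent.H5.SigEq

set_option autoImplicit false
open Cfsg

namespace Cfsg.Agent.S1295

/-- Let G be finite with O_{p'}(G) = 1 and p-rank at least 3, whose reduced rank-2 commuting graph for p is connected. Suppose that for every element a of order p with m_p(C_G(a)) ≥ 3 the p-layer of C_G(a) is trivial and O_{p'}(C_G(a)) is solvable. Then F*(C_G(a)) = O_p(C_G(a)) for every such a. -/
theorem result {G : Type*} [Group G] [Finite G] (p : ℕ) [Fact p.Prime] (hO : Cfsg.pPrimeCore p G = ⊥) (hrk : ¬ Cfsg.PRankLE p 2 G) (hconn : Cfsg.IsRankGraphConnected p 2 G) (hL : ∀ a : G, (orderOf a = p ∧ ¬ Cfsg.PRankLE p 2 ↥(Subgroup.centralizer ({a} : Set G))) → Cfsg.pLayer p ↥(Subgroup.centralizer ({a} : Set G)) = ⊥ ∧ Group.IsSolvable ↥(Cfsg.centralizerPPrimeCore p a)) (a : G) (ha : (orderOf a = p ∧ ¬ Cfsg.PRankLE p 2 ↥(Subgroup.centralizer ({a} : Set G)))) : Cfsg.generalizedFittingSubgroup ↥(Subgroup.centralizer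 ({a} : Set G)) = Cfsg.pCore p ↥(Subgroup.centralizer ({a} : Set G)) := by
  have key : ∀ A : Subgroup G, Cfsg.IsElementaryAbelian p A → p ^ 3 ≤ Nat.card A → ∀ a ∈ A, a ≠ 1 →
      orderOf a = p ∧ ¬ Cfsg.PRankLE p 2 ↥(Subgroup.centralizer ({a} : Set G)) :=
    fun A hA h3 a ha a1 => ⟨H5.orderOf_eq_of_elemAb hA ha a1, H5.not_pRankLE_centralizer₁ hA h3 ha⟩
  have hg : H5.GF p (fun a : G => H5.oppOf p (Subgroup.centralizer ({a} : Set G))) :=
    H5.gf_core (fun A hA h3 a ha a1 => (hL a (key A hA h3 a ha a1)).2)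
      fun A hA h3 a ha a1 b hb b1 => H5.core_balance_of_plOf
        (H5.pow_pow_one_of_orderOf (key A hA h3 a ha a1).1) (H5.elemAb_comm hA ha hb)
        (H5.pLayer_eq_bot_iff_of.1 (hL b (key A hA h3 b hb b1)).1)
  obtain ⟨A, hA, h3, haA⟩ := H5.exists_elemAb_mem ha.1 ha.2
  have a1 : a ≠ 1 := by
    rintro rfl
    exact (Fact.out : p.Prime).one_lt.ne (orderOf_one.symm.trans ha.1)
  have := H5.le_sigClosure' (θ := fun a : G => H5.oppOf p (Subgroup.centralizer ({a} : Set G))) haA a1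
  rw [hg.eq_bot_of_conn hO hconn hA h3] at this
  have h0 := le_bot_iff.1 this
  rw [H5.fstar_eq_pCore_iff_of, H5.fstarOf_eq_opOf_iff, ← H5.plOf_eq_layerOf h0]
  exact ⟨H5.pLayer_eq_bot_iff_of.1 (hL a ha).1, h0⟩

end Cfsg.Agent.S1295
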