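import Cfsg.Statements.S1322
import Cfsg.Agent.H5.LBal

set_option autoImplicit false
open Cfsg

namespace Cfsg.Agent.S1322

/-- Let G be finite with L_{2'}(G) = E(G), t an involution and L ≤ C_G(t) a component of C_G(t). Then there is a component D of G with: L = D; or L < D and D = ⁅D, ⟨t⟩⁆; or tDt⁻¹ ≠ D and L is the layer of C_{D ⊔ tDt⁻¹}(t). -/
theorem result {G : Type*} [Group G] [Finite G] (hL2 : Cfsg.pLayer 2 G = Cfsg.layer G) (t : G) (ht : orderOf t = 2) (L : Subgroup G) (hLt : L ≤ Subgroup.centralizer ({t} : Set G)) (hL : Cfsg.IsComponent (L.subgroupOf (Subgroup.centralizer ({t} : Set G)))) : ∃ D : Subgroup G, Cfsg.IsComponent D ∧ (L = D ∨ (L < D ∧ D = ⁅D, Subgroup.zpowers t⁆) ∨ (D.map (MulAut.conj t).toMonoidHom ≠ D ∧ L = (Cfsg.layer ↥((D ⊔ D.map (MulAut.conj t).toMonoidHom) ⊓ Subgroup.centralizer ({t} : Set G))).map ((D ⊔ D.map (MulAut.conj t).toMonoidHom) ⊓ Subgroup.centralizer ({t} : Set G)).subtype)) :=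 by
  have hL' : H5.CompOf L (Subgroup.centralizer ({t} : Set G)) := H5.compOf_iff.2 ⟨hLt, hL⟩
  have hLE : L ≤ H5.layerOf ⊤ := by
    rw [H5.layerOf_top, ← hL2]
    refine hL'.pCompOf_two.le_plOf.trans ?_
    have := H5.lbalance_top (H5.isPGroup_zpowers ht)
    rwa [H5.centralizer_zpowers] at this
  obtain ⟨D, hD, h⟩ := H5.comp_trichotomy ht (Subgroup.le_normalizer (Subgroup.mem_top t)) hL'
    inf_le_right hLE hLt
  refine ⟨D, H5.compOf_top_iff.1 hD, ?_⟩
  rcases h with h | h | ⟨h1, h2, h3⟩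
  · exact Or.inl h
  · exact Or.inr (Or.inl h)
  · exact Or.inr (Or.inr ⟨h1, h3.trans (H5.layerOf_diag h2 (H6.ord2_mul_self ht) hD.qs).symm⟩)

end Cfsg.Agent.S1322
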