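import Cfsg.Statements.S1323
import Cfsg.Agent.H5.Component

set_option autoImplicit false
open Cfsg

namespace Cfsg.Agent.S1323

open Subgroup Equiv
open scoped Pointwise

variable {X : Type*} [Fintype X] [DecidableEq X]

/-- The even permutations supported on `T`. -/
abbrev A (T : Finset X) : Subgroup (alternatingGroup X) := (alternatingGroup.ofSubtype T).range

theorem mem_A {T : Finset X} {g : alternatingGroup X} : g ∈ A T ↔ ∀ x, x ∉ T → g.1 x = x := by
  rw [alternatingGroup.mem_range_ofSubtype_iff]
  exact ⟨fun h x hx => Perm.notMem_support.1 fun h' => hx (h h'), fun h x hx => by_contra fun h' =>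
    Perm.mem_support.1 hx (h x h')⟩

theorem exists_move {T : Finset X} {x : X} (hx : x ∈ T) (y : X) (hy : y ≠ x) (h : 4 ≤ T.card) :
    ∃ c ∈ A T, c.1 x ≠ x ∧ c.1 y = y := by
  have h1 : 1 < ((T.erase x).erase y).card := by
    have := Finset.pred_card_le_card_erase (s := T.erase x) (a := y)
    rw [Finset.card_erase_of_mem hx] at this
    omega
  obtain ⟨a, ha, b, hb, hab⟩ := Finset.one_lt_card.1 h1
  simp only [Finset.mem_erase] at ha hb
  refine ⟨⟨swap x a * swap x b, by simp [Perm.mem_alternatingGroup, ha.2.1.symm, hb.2.1.symm]⟩, mem_A.2 fun z hz => ?_, ?_, ?_⟩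
  · have h2 : ∀ w ∈ T, z ≠ w := fun w hw e => hz (e ▸ hw)
    simp [swap_apply_of_ne_of_ne, h2 x hx, h2 a ha.2.2, h2 b hb.2.2]
  · simp [swap_apply_of_ne_of_ne, hb.2.1, hab.symm]
  · simp [swap_apply_of_ne_of_ne, hy, ha.1.symm, hb.1.symm]

theorem cent_A {T : Finset X} (h : 4 ≤ T.card) : centralizer (A T : Set (alternatingGroup X)) = A Tᶜ := by
  ext g
  rw [mem_A, mem_centralizer_iff]
  constructor
  · intro hg x hx
    by_contra hy
    obtain ⟨c, hc, h1, h2⟩ := exists_move (by simpa using hx) _ hy h
    have := congrArg (fun g : alternatingGroup X => g.1 x) (hg c hc)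
    exact h1 (g.1.injective (this.symm.trans h2))
  · intro hg c hc
    refine Subtype.ext (Perm.Disjoint.commute fun x => ?_)
    by_cases hx : x ∈ T
    exacts [.inr (hg x (by simpa using hx)), .inl (mem_A.1 hc x hx)]

theorem sub_of_le {T S : Finset X} (h : 4 ≤ T.card) (hle : A T ≤ A S) : T ⊆ S := fun x hx => by
  obtain ⟨y, -, hy⟩ := Finset.exists_mem_ne (s := T) (by omega) x
  obtain ⟨c, hc, h1, -⟩ := exists_move hx y hy h
  exact by_contra fun h' => h1 (mem_A.1 (hle hc) x h')

theorem map_A (T : Finset X) (g : alternatingGroup X) : (A T).map (MulAut.conj g).toMonoidHom = A (g • T) :=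
  alternatingGroup.conj_smul_range_ofSubtype T g

theorem mem_norm {T : Finset X} (h : 4 ≤ T.card) {g : alternatingGroup X} :
    g ∈ normalizer (A T : Set (alternatingGroup X)) ↔ g • T = T := by
  rw [← conjAct_pointwise_smul_iff]
  show (A T).map (MulAut.conj g).toMonoidHom = A T ↔ _
  rw [map_A]
  exact ⟨fun e => (Finset.eq_of_subset_of_card_le (sub_of_le h e.ge) (by simp)).symm, fun e => by rw [e]⟩

theorem card_A (T : Finset X) : Nat.card (A T) = Nat.card (alternatingGroup T) :=
  (Nat.card_congr (MonoidHom.ofInjective alternatingGroup.ofSubtype_injective).toEquiv).symm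

theorem std {T : Finset X} (h4 : T.card = 4) (h5 : 5 ≤ Tᶜ.card) : Cfsg.IsStandardSubgroup (A Tᶜ) := by
  have hC : centralizer (A Tᶜ : Set (alternatingGroup X)) = A T := by rw [cent_A (by omega), compl_compl]
  refine ⟨H5.qs_of_equiv ?_ (MonoidHom.ofInjective alternatingGroup.ofSubtype_injective), ⟨?_, fun g hg => ?_⟩,
    fun g _ h => ?_, ?_⟩
  · have h6 : 5 ≤ Nat.card (Tᶜ : Finset X) := by rwa [Nat.card_eq_fintype_card, Fintype.card_coe]
    have := alternatingGroup.isSimpleGroup h6
    exact H5.isQuasisimple_iff_top.2 ⟨commutator_alternatingGroup_eq_top h6, inferInstance,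
      fun N hN => (hN.eq_bot_or_eq_top).symm.imp_right fun h : N = ⊥ => h ▸ bot_le⟩
  · have : Nontrivial T := Finite.one_lt_card_iff_nontrivial.1 (by simp [h4])
    rw [hC, card_A, nat_card_alternatingGroup]
    simp [h4, Nat.factorial]
    decide
  · rw [hC, mem_norm h4.ge] at hg
    have h1 : A T ⊓ A (g • T) = A (T ∩ g • T) := by
      ext k
      simp only [mem_inf, mem_A, Finset.mem_inter, not_and_or, or_imp, forall_and]
    have h2 : (T ∩ g • T).card ≤ 3 := by
      by_contra h
      have h3 := Finset.eq_of_subset_of_card_le (Finset.inter_subset_left (s₁ := T) (s₂ := g • T)) (by omega)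
      exact hg (Finset.eq_of_subset_of_card_le (Finset.inter_eq_left.1 h3) (by simp)).symm
    rw [hC, map_A, h1, card_A]
    rcases subsingleton_or_nontrivial (T ∩ g • T : Finset X) with h | h
    · rw [Nat.card_unique]; exact odd_one
    · have : 1 < Nat.card (T ∩ g • T : Finset X) := Finite.one_lt_card
      rw [nat_card_alternatingGroup]
      simp only [Nat.card_eq_fintype_card, Fintype.card_coe] at this ⊢
      generalize (T ∩ g • T).card = k at h2 this
      interval_cases k <;> decide
  · rw [map_A, commutator_comm, commutator_eq_bot_iff_le_centralizer, hC] at h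
    have := Finset.card_le_card (sub_of_le (by simp; omega) h)
    simp at this
    omega
  · ext g
    rw [hC, mem_norm (by omega), mem_norm h4.ge, show g • Tᶜ = (g • T)ᶜ from Finset.coe_injective (by simp [Set.smul_set_compl]),
      compl_inj_iff]

/-- For n ≥ 9, the subgroup of the alternating group on Fin n fixing each of the points 0, 1, 2, 3 is a standard subgroup. -/
theorem result (n : ℕ) (h4 : 4 ≤ n) (hn : 9 ≤ n) : Cfsg.IsStandardSubgroup (⨅ i : Fin 4, MulAction.stabilizer ↥(alternatingGroup (Fin n)) (Fin.castLE h4 i : Fin n)) := by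
  have h := std (T := Finset.univ.map (Fin.castLEEmb h4)) (by simp) (by simp [Finset.card_compl]; omega)
  convert h using 1
  ext g
  rw [mem_A]
  simp [Subgroup.mem_iInf, Subgroup.smul_def]

end Cfsg.Agent.S1323
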