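import Cfsg.Statements.S1339
import Cfsg.Agent.H12.AffL
import Cfsg.Agent.H10.PMin2

set_option autoImplicit false
open Cfsg

namespace Cfsg.Agent.S1339

open H12 Subgroup

/-- Let F be a field with 2 elements, n ≥ 3, and t ∈ SL(n, F) a transvection (t = 1 + E_{ij}, i ≠ j). Then the generalized Fitting subgroup of C(t) is O_2(C(t)). -/
theorem result {F : Type*} [Field F] [Fintype F] [DecidableEq F] (hF : Fintype.card F = 2) (n : ℕ) (hn : 3 ≤ n) (i j : Fin n) (hij : i ≠ j) (t : Matrix.SpecialLinearGroup (Fin n) F) (ht : (t : Matrix (Fin n) (Fin n) F) = Matrix.transvection i j 1) : Cfsg.generalizedFittingSubgroup ↥(Subgroup.centralizer ({t} : Set (Matrix.SpecialLinearGroup (Fin n) F))) = Cfsg.pCore 2 ↥(Subgroup.centralizer ({t} : Set (Matrix.SpecialLinearGroup (Fin n) F))) := by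
  obtain ⟨m, rfl⟩ : ∃ m, n = m + 2 := ⟨n - 2, by omega⟩
  have two : ∀ a : F, a = 0 ∨ a = 1 := fun a => by
    by_contra h
    push Not at h
    have := Finset.card_le_univ ({0, 1, a} : Finset F)
    rw [Finset.card_eq_three.2 ⟨0, 1, a, zero_ne_one, h.1.symm, h.2.symm, rfl⟩] at this
    omega
  obtain ⟨A, -⟩ := exists_affC_sl two (by omega : 1 ≤ m) hij (z := t) (by convert ht)
  exact H10.charPIn_iff_fstar.1 A.amb_charP

end Cfsg.Agent.S1339
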