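import Cfsg.Statements.S1340
import Cfsg.Agent.H4.Blk
import Cfsg.Agent.H1.Cores

set_option autoImplicit false
open Cfsg

namespace Cfsg.Agent.S1340

open Matrix Subgroup H4.Blk

/-- Let F be a finite field of odd order and n ≥ 3 with (n, |F|) ≠ (3, 3). Then GL(n, F) has a non-central involution t such that C(t) / O(C(t)) has a component. -/
theorem result {F : Type*} [Field F] [Fintype F] [DecidableEq F] (hF : Odd (Fintype.card F)) (n : ℕ) (hn : 3 ≤ n) (h33 : ¬ (n = 3 ∧ Fintype.card F = 3)) : ∃ t : Matrix.GeneralLinearGroup (Fin n) F, orderOf t = 2 ∧ t ∉ Subgroup.center (Matrix.GeneralLinearGroup (Fin n) F) ∧ Cfsg.HasComponent (↥(Subgroup.centralizer ({t} : Set (Matrix.GeneralLinearGroup (Fin n) F))) ⧸ Cfsg.oddCore ↥(Subgroup.centralizer ({t} : Set (Matrix.GeneralLinearGroup (Fin n) F)))) := by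
  classical
  obtain ⟨k, rfl⟩ : ∃ k, n = k + 2 + 1 := ⟨n - 3, by omega⟩
  have h2 := two_ne hF
  have hE : E F (k + 2) * E F (k + 2) = E F (k + 2) := by simp [single_mul_single_same]
  have ht : ((2 : F) • E F (k + 2) - 1) * ((2 : F) • E F (k + 2) - 1) = 1 := by
    simp only [two_smul, mul_sub, sub_mul, mul_add, add_mul, hE, mul_one, one_mul]; abel
  let t : GL (Fin (k + 2 + 1)) F := ⟨_, _, ht, ht⟩
  have hc : t ∉ center (GL (Fin (k + 2 + 1)) F) := fun h => by
    have h0 : Fin.last (k + 2) ≠ 0 := by simp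
    have h1 := comm_E h2 (congrArg Units.val (mem_center_iff.1 h
      (SpecialLinearGroup.toGL (SpecialLinearGroup.transvection h0 (1 : F)))))
    have h3 : transvection (Fin.last (k + 2)) 0 (1 : F) * E F (k + 2) = E F (k + 2) * transvection (Fin.last (k + 2)) 0 1 := h1
    rw [transvection, add_mul, mul_add, one_mul, mul_one, single_mul_single_of_ne _ _ _ _ h0.symm,
      single_mul_single_same, add_right_inj] at h3
    simpa using congrFun (congrFun h3 (Fin.last _)) 0
  have : Fact (Nat.Prime 2) := ⟨Nat.prime_two⟩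
  refine ⟨t, orderOf_eq_prime (Units.ext (by rw [sq]; exact ht)) (fun h => hc (h ▸ one_mem _)), hc, ?_⟩
  set C := centralizer ({t} : Set (GL (Fin (k + 2 + 1)) F))
  set L := (K F (k + 2)).map SpecialLinearGroup.toGL
  have hq : IsQuasisimple L := (H5.qs_map_iff SpecialLinearGroup.toGL_injective).2 (qs_K (by omega) fun h => by
    have := Fintype.one_lt_card (α := F)
    obtain ⟨j, hj⟩ := hF
    omega)
  have hLC : L ≤ C := by
    rintro _ ⟨g, hg, rfl⟩
    refine mem_centralizer_singleton_iff.2 (Units.ext ?_)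
    show g.1 * ((2 : F) • E F (k + 2) - 1) = ((2 : F) • E F (k + 2) - 1) * g.1
    rw [mul_sub, sub_mul, mul_smul_comm, smul_mul_assoc, hg.1, hg.2, mul_one, one_mul]
  have hn : (L.subgroupOf C).Normal := ⟨by
    rintro ⟨_, h⟩ ⟨g, hg, rfl⟩ ⟨c, hc⟩
    have h1 := comm_E h2 (congrArg Units.val (mem_centralizer_singleton_iff.1 hc))
    refine ⟨⟨c.1 * g.1 * (c⁻¹).1, ?_⟩, conj_E c.mul_inv h1 hg, Units.ext rfl⟩
    rw [det_mul, det_mul, g.2, mul_one, ← det_mul, c.mul_inv, det_one]⟩
  refine ⟨(L.subgroupOf C).map (QuotientGroup.mk' _), (hn.map _ (QuotientGroup.mk'_surjective _)).isSubnormal,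
    H5.qs_map _ ((H5.qs_subgroupOf_iff hLC).2 hq) fun h => ?_⟩
  rw [Subgroup.map_eq_bot_iff, QuotientGroup.ker_mk'] at h
  let d : SpecialLinearGroup (Fin (k + 2 + 1)) F :=
    ⟨diagonal fun i => if i.val < 2 then -1 else 1, by simp [Fin.prod_univ_succ]⟩
  have hd : d ∈ K F (k + 2) := by
    constructor
    · show diagonal _ * _ = _
      ext i j
      rw [diagonal_mul, E, single_apply]
      split_ifs with h1 h3 h3 <;> simp
      rw [← h3.1] at h1
      simp at h1
    · show _ * diagonal _ = _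
      ext i j
      rw [mul_diagonal, E, single_apply]
      split_ifs with h3 h1 h1 <;> simp
      rw [← h3.2] at h1
      simp at h1
  have hd2 : orderOf d = 2 := orderOf_eq_prime (Subtype.ext (by
    show diagonal _ ^ 2 = 1
    rw [diagonal_pow, ← diagonal_one]
    congr 1
    ext i
    by_cases h : i.val < 2 <;> simp [h])) fun h => h2 (by
      have := congrFun (congrFun (congrArg Subtype.val h) 0) 0
      simp [d] at this
      linear_combination -this)
  refine H1.not_dvd_card_pPrimeCore Nat.prime_two (dvd_trans (dvd_of_eq ?_)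
    (orderOf_dvd_natCard (⟨⟨_, hLC ⟨d, hd, rfl⟩⟩, h ⟨d, hd, rfl⟩⟩ : oddCore C)))
  rw [orderOf_mk, orderOf_mk, orderOf_injective _ SpecialLinearGroup.toGL_injective, hd2]

end Cfsg.Agent.S1340
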