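import Cfsg.Statements.S1601
import Cfsg.Agent.H9.Mz1
import Cfsg.Agent.H27.Tr2

set_option autoImplicit false
open scoped Pointwise
open Cfsg

namespace Cfsg.Agent.S1601
open H27 MulAction
open scoped Pointwise
open H9 Matrix
open scoped MatrixGroups
instance : Fact (Nat.Prime 11) := ⟨by norm_num⟩
noncomputable def gN : List Net := [(.cons 1 0x101054 (.cons 2 0x132112 (.cons 4 0x9000c (.cons 8 0x83 (.cons 16 0xb5 (.cons 8 0x5 (.cons 4 0xb0f00 (.cons 2 0x1210 (.cons 1 0x154000 .nil))))))))),
  (.cons 1 0x154044 (.cons 2 0x200110 (.cons 4 0x60302 (.cons 8 0x3e (.cons 16 0xb8 (.cons 8 0xb0 (.cons 4 0xa0400 (.cons 2 0x331200 (.cons 1 0x51410 .nil)))))))))]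
noncomputable def gM : List Net := [(.cons 1 0x551 (.cons 2 0x1 (.cons 4 0xd (.cons 8 0x7 (.cons 4 0x1 (.cons 2 0x230 (.cons 1 0x440 .nil))))))),
  (.cons 1 0x50 (.cons 2 0x102 (.cons 4 0x2 (.cons 8 0x7 (.cons 4 0x6 (.cons 2 0x200 (.cons 1 0x144 .nil)))))))]
noncomputable def v (i : Nat) : Fin 2 → ZMod 11 := nth 0 [![0, 1], ![1, 1], ![2, 1], ![3, 1], ![4, 1], ![5, 1], ![6, 1], ![7, 1], ![8, 1], ![9, 1], ![10, 1], ![1, 0]] i
noncomputable def xs : List SL(2, ZMod 11) := [⟨!![4, 4; 10, 2], by decide +kernel⟩, ⟨!![2, 4; 6, 7], by decide +kernel⟩]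
theorem xa : ActsL 12 (fun i => ln (v i)) xs gM :=
  .cons (acts_ln (by decide +kernel) (by decide +kernel)) (.cons (acts_ln (by decide +kernel) (by decide +kernel)) .nil)
theorem cX : Nat.card PSL(2, ZMod 11) = 660 := by
  have h1 := _root_.H22.gcd_mul_card_PSL (F := ZMod 11) 2 (by norm_num)
  have h2 := _root_.H22.card_SL (F := ZMod 11) 2 (by norm_num)
  rw [ZMod.card] at h1 h2
  rw [Fin.prod_univ_two] at h2
  norm_num [-Nat.card_eq_fintype_card] at h1 h2
  omega
theorem ga : ActsL 24 GE.e (gN.map mm) gN := actsL_mm (by decide +kernel)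
theorem cA : Nat.card ↥(H11 ⊓ stabilizer MM (GE.e 23)) = 660 :=
  g11_acts.card_inf_stab (k := 4) (b := 23) (X := 0xfacca0) (d := 5) (m := 12) cl_g11 GE.injOn (by norm_num) (by norm_num)
    (by decide +kernel) (by norm_num) card_H11


/-- In the 3-transitive action of the smallest Mathieu group on the complementary dodecad, a point stabiliser is isomorphic to PSL(2, 11). -/
theorem result (d : Finset Cfsg.GolayPt) (hd : d ∈ Cfsg.dodecads) (p q : Cfsg.GolayPt) (hp : p ∈ d) (hq : q ∉ d) : Nonempty (↥(MulAction.stabilizer Cfsg.M24 d ⊓ MulAction.stabilizer Cfsg.M24 p ⊓ MulAction.stabilizer Cfsg.M24 q) ≃* Matrix.ProjectiveSpecialLinearGroup (Fin 2) (ZMod 11)) := by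
  obtain ⟨g, rfl, rfl, e⟩ := exists_smul_dod_out hd hp [q] (List.nodup_singleton _) (by simpa) (by simp)
  obtain rfl := (List.cons.inj e).1
  exact (((CjRel.stab g _).inf (CjRel.stab g _)).inf (CjRel.stab g _)).iso (iso_psl (K := ZMod 11) (k := 4) rfl
    (tfam_inj GE (by decide +kernel)) (GE.actsL_tfam ga (k := 11) (P := 0x4002002400001000100820000201000108000080080050000004040000c0000022400008200040140000082000030000008004004002001400000810000220000180400008240000100100080002020004014000008010002800001080000600000060400200201000100002080004060000010020008040004008002800000410000180400040200002100200080008060000010800008010004100002080001400000024401000202000100200080004048000020100010400004002000808000090000060440000200002100010080200022000010400008004004008001080000840000120401000210000140000080002020008008040004010002080000a000004040001204001002010001020000800080480000300000040100008400006000000840000224000402020001001000802000404000200080100200080020050000008100000844400002100001020000810000200040080020041000008080004100002200000c0400100200040100002081000040400022000014000008008000a00000090000024)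 (Ms := gM) (by decide +kernel))
    (mem_inf_of (mem_inf_of (ga.stab_eD (by decide +kernel)) (ga.stab_pt (by norm_num) (by decide +kernel)))
      (ga.stab_pt (by norm_num) (by decide +kernel))) cA.le (by decide +kernel) xa cX.le (by norm_num)
      [([1, 1, 3, 3, 0, 2, 1, 3], (.cons 1 0x540 (.cons 2 0x130 (.cons 4 0xb (.cons 8 0xf (.cons 4 0x3 (.cons 2 0x10 (.cons 1 0x50 .nil)))))))),
      ([4, 3, 3, 5, 3], (.cons 1 0x504 (.cons 2 0x312 (.cons 4 0x8 (.cons 8 0x6 (.cons 4 0x4 (.cons 2 0x30 (.cons 1 0x100 .nil)))))))),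
      ([1, 1, 1, 3, 3, 1, 2], .nil),
      ([2, 2, 4, 3, 3, 4, 2, 2, 2, 2], (.cons 1 0x540 (.cons 2 0x130 (.cons 4 0xb (.cons 8 0xf (.cons 4 0x3 (.cons 2 0x10 (.cons 1 0x50 .nil))))))))]
      [4, 5, 3, 2, 1, 0] [(0, 2, 2), (1, 3, 2), (2, 4, 2)] (by decide +kernel))

end Cfsg.Agent.S1601
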