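import Cfsg.Statements.S1617
import Cfsg.Agent.H6.PT4

set_option autoImplicit false
open Cfsg

namespace Cfsg.Agent.S1617

open H6 H6.Tp Subgroup in
theorem aux {G : Type*} [Group G] [Finite G] (hsol : ∀ N : Subgroup G, N.Normal → Group.IsSolvable ↥N → N = ⊥) {D : Set G} (hinv : ∀ d ∈ D, orderOf d = 2) {x : G} (hD : D = conjugatesOf x) (hgen : Subgroup.closure D = ⊤) {y z : G} (hy : y ∈ D) (hz : z ∈ D) (yx : y ≠ x) (zx : z ≠ x)
    (H : ∀ w ∈ D, w = x ∨ (∃ g : G, Commute g x ∧ g * y * g⁻¹ = w) ∨ ∃ g : G, Commute g x ∧ g * z * g⁻¹ = w) :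
    ∀ d ∈ D, ∀ e ∈ D, (d * e) ^ 2 = 1 ∨ (d * e) ^ 3 = 1 := by
  have hx : x ∈ D := hD ▸ IsConj.refl x
  have cj : ∀ g : G, ∀ d ∈ D, g * d * g⁻¹ ∈ D := fun g d hd => by
    rw [hD] at hd ⊢; exact IsConj.trans hd (isConj_iff.2 ⟨g, rfl⟩)
  have cls : ∀ a ∈ D, ∀ b ∈ D, IsConj a b := fun a ha b hb => by
    rw [hD] at ha hb; exact IsConj.trans (IsConj.symm ha) hb
  have sq : ∀ d ∈ D, d * d = 1 := fun d hd => ord2_mul_self (hinv d hd)
  have o2 : pCore 2 G = ⊥ := hsol _ inferInstance (by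
    have := (H1.isPGroup_pCore (G := G) 2).isNilpotent
    infer_instance)
  have oo : pPrimeCore 2 G = ⊥ := hsol _ inferInstance
    (H17.odd_solvable (Nat.coprime_two_right.1 (H1.coprime_card_pPrimeCore 2)))
  have baer : ¬ ∀ w ∈ D, ∃ k, (x * w) ^ 2 ^ k = 1 := fun k => by
    obtain ⟨P⟩ : Nonempty (Sylow 2 G) := inferInstance
    have key := baer_suzuki_elt (x := x) (fun g => (k _ (cj g x hx)).elim fun n hn =>
      isPGroup_closure_pair (sq x hx) (sq _ (cj g x hx)) hn) P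
    have : (P : Subgroup G).normalCore ≤ ⊥ := o2 ▸ H1.le_pCore (P.2.to_le (normalCore_le _))
    exact ord2_ne_one (hinv x hx) (this key)
  have c2 : ∀ a ∈ D, ∀ b ∈ D, Commute a b → (a * b) ^ 2 = 1 := fun a ha b hb c => by
    rw [c.mul_pow, pow_two, pow_two, sq a ha, sq b hb, one_mul]
  -- one orbit commutes, the other does not
  have main : ∀ y ∈ D, ∀ z ∈ D, y ≠ x → Commute x y → ¬ Commute x z →
      (∀ w ∈ D, w = x ∨ (∃ g : G, Commute g x ∧ g * y * g⁻¹ = w) ∨ ∃ g : G, Commute g x ∧ g * z * g⁻¹ = w) →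
      ∀ d ∈ D, ∀ e ∈ D, (d * e) ^ 2 = 1 ∨ (d * e) ^ 3 = 1 := by
    intro y hy z hz yx xy xz H
    have o1 : ∀ w ∈ D, ¬ Commute x w → orderOf (x * w) = orderOf (x * z) := fun w hw k => by
      rcases H w hw with rfl | ⟨g, hg, rfl⟩ | ⟨g, hg, rfl⟩
      · exact absurd (Commute.refl _) k
      · exact absurd (by simpa only [cfix hg] using cm g xy) k
      · rw [← orderOf_conj' g (x * z), cmul, cfix hg]
    have o3 : ∀ a ∈ D, ∀ b ∈ D, ¬ Commute a b → orderOf (a * b) = orderOf (x * z) := fun a ha b hb k => by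
      obtain ⟨g, e⟩ := isConj_iff.1 (cls a ha x hx)
      rw [← o1 _ (cj g b hb) (fun c => k ((cm_iff g).1 (e ▸ c))), ← e, ← cmul, orderOf_conj']
    set k := orderOf (x * z) with hk
    have k0 : k ≠ 0 := (orderOf_pos _).ne'
    have kp : k.Prime ∧ k ≠ 2 := by
      by_contra n
      refine baer fun w hw => ?_
      by_cases c : Commute x w
      · exact ⟨1, c2 x hx w hw c⟩
      have : ∀ q : ℕ, q.Prime → q ∣ k → q = 2 := fun q hq ⟨m, hm⟩ => by
        by_contra q2
        have m0 : m ≠ 0 := fun e => k0 (by rw [hm, e, mul_zero])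
        have oq : orderOf ((x * z) ^ m) = q := by
          rw [orderOf_pow' _ m0, ← hk, hm, Nat.gcd_mul_left_left, Nat.mul_div_cancel _ (Nat.pos_of_ne_zero m0)]
        have i1 := conj_pow_of_inverts (inv_conj_mul (sq x hx) (sq z hz)) m
        obtain ⟨j, hj⟩ := exists_sq_pow_of_odd (x := (x * z) ^ m) (oq ▸ hq.odd_of_ne_two q2)
        have i2 := conj_pow_of_inverts i1 j
        have xi := ord2_inv (hinv x hx)
        have e : x * ((((x * z) ^ m) ^ j)⁻¹ * x * (((x * z) ^ m) ^ j)⁻¹⁻¹) = (x * z) ^ m := by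
          rw [inv_inv, ← i2, xi]
          simp only [mul_assoc, ord2_mul_mul (hinv x hx), hj]
        have hw' := cj (((x * z) ^ m) ^ j)⁻¹ x hx
        by_cases c3 : Commute x ((((x * z) ^ m) ^ j)⁻¹ * x * (((x * z) ^ m) ^ j)⁻¹⁻¹)
        · have := c2 x hx _ hw' c3
          rw [e] at this
          exact q2 ((Nat.prime_dvd_prime_iff_eq hq Nat.prime_two).1 (oq ▸ orderOf_dvd_of_pow_eq_one this))
        · have := o1 _ hw' c3
          rw [e, oq] at this
          exact n ⟨this ▸ hq, this ▸ q2⟩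
      refine ⟨k.primeFactorsList.length, ?_⟩
      rw [← Nat.eq_prime_pow_of_unique_prime_dvd k0 (fun {q} => this q), ← o1 w hw c, pow_orderOf_eq_one]
    by_cases k3 : k = 3
    · intro a ha b hb
      by_cases c : Commute a b
      · exact Or.inl (c2 a ha b hb c)
      · exact Or.inr (by rw [← k3, ← o3 a ha b hb c, pow_orderOf_eq_one])
    have h : PT k D := ⟨kp.1, kp.2, k3, hinv, cj, o3⟩
    have := h.main cls hgen hx hy xy
    rw [o2, mem_bot] at this
    exact absurd this (h.mul_ne hx hy yx.symm)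
  by_cases xy : Commute x y <;> by_cases xz : Commute x z
  · exfalso
    refine baer fun w hw => ⟨1, c2 x hx w hw ?_⟩
    rcases H w hw with rfl | ⟨g, hg, rfl⟩ | ⟨g, hg, rfl⟩
    exacts [Commute.refl _, by simpa only [cfix hg] using cm g xy, by simpa only [cfix hg] using cm g xz]
  · exact main y hy z hz yx xy xz H
  · exact main z hz y hy zx xz xy fun w hw => (H w hw).imp_right Or.symm
  · exfalso
    have nc : ∀ w ∈ D, Commute x w → w = x := fun w hw c => by
      rcases H w hw with rfl | ⟨g, hg, rfl⟩ | ⟨g, hg, rfl⟩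
      · rfl
      · exact absurd ((cm_iff g).1 (by rwa [cfix hg])) xy
      · exact absurd ((cm_iff g).1 (by rwa [cfix hg])) xz
    obtain ⟨T, hT⟩ := (isPGroup_zpowers_ord2 (sq x hx)).exists_le_sylow
    have xT : x ∈ (T : Subgroup G) := hT (mem_zpowers x)
    have wc : WC (T : Subgroup G) x := by
      refine ⟨xT, fun g hg => ?_⟩
      by_contra n
      have hw := cj g x hx
      generalize g * x * g⁻¹ = w at hg n hw
      obtain ⟨m, hm⟩ := IsPGroup_pow_eq_one T.2 (mul_mem xT hg)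
      induction m generalizing w with
      | zero => exact n (by rw [pow_zero, pow_one] at hm; rw [eq_inv_of_mul_eq_one_right hm, ord2_inv (hinv x hx)])
      | succ m ih =>
        by_cases e : w * x * w⁻¹ = x
        · exact n (nc w hw (conj_eq_iff_commute.1 e).symm)
        · refine ih _ (mul_mem (mul_mem hg xT) (inv_mem hg)) e (cj w x hx) ?_
          rw [← hm, pow_succ', pow_mul, ord2_inv (hinv w hw), pow_two]
          simp only [mul_assoc]
    have := zstar2 wc y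
    rw [oo, mem_bot, mul_inv_eq_one] at this
    exact xy (conj_eq_iff_commute.1 this).symm

/-- A generating conjugacy class of involutions on which the group (with trivial solvable radical) acts with rank 3 is a class of 3-transpositions. -/
theorem result {G : Type*} [Group G] [Finite G] (hsol : ∀ N : Subgroup G, N.Normal → Group.IsSolvable ↥N → N = ⊥) {D : Set G} (hinv : ∀ d ∈ D, orderOf d = 2) (hconj : ∃ d ∈ D, D = conjugatesOf d) (hgen : Subgroup.closure D = ⊤) (hrank : ∀ x ∈ D, ∃ y ∈ D, ∃ z ∈ D, {w : G | ∃ g : G, Commute g x ∧ g * y * g⁻¹ = w} ≠ {w : G | ∃ g : G, Commute g x ∧ g * x * g⁻¹ = w} ∧ {w : G | ∃ g : G, Commute g x ∧ g * z * g⁻¹ = w} ≠ {w : G | ∃ g : G, Commute g x ∧ g * x * g⁻¹ = w} ∧ {w : G | ∃ g : G, Commute g x ∧ g * y * g⁻¹ = w} ≠ {w : G | ∃ g : G, Commute g x ∧ g * z * g⁻¹ = w} ∧ D = {w : G | ∃ g : G, Commute g x ∧ g * x * g⁻¹ = w} ∪ {w : G | ∃ g : G, Commute g x ∧ g * y * g⁻¹ = w} ∪ {w : G | ∃ g : G, Commute g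 x ∧ g * z * g⁻¹ = w}) : Cfsg.IsThreeTranspositionClass D := by
  obtain ⟨x, hx, hD⟩ := hconj
  obtain ⟨y, hy, z, hz, h1, h2, -, h3⟩ := hrank x hx
  refine ⟨⟨hinv, aux hsol hinv hD hgen hy hz (fun e => h1 (by rw [e])) (fun e => h2 (by rw [e])) fun w hw => ?_⟩,
    ⟨x, hx, hD⟩, hgen⟩
  rw [h3] at hw
  rcases hw with (⟨g, hg, rfl⟩ | h) | h
  exacts [Or.inl (H6.Tp.cfix hg), Or.inr (Or.inl h), Or.inr (Or.inr h)]

end Cfsg.Agent.S1617
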