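import Cfsg.Statements.S1628
import Cfsg.Agent.H29.Ru5

set_option autoImplicit false
open Cfsg

namespace Cfsg.Agent.S1628

/-- The Conway–Wales lattice as stored is even with no vectors of true norm 2: stored norms are multiples of 8, never equal to 8, and the minimum over nonzero vectors is 16. -/
theorem result : (∀ x ∈ Cfsg.Spor.ruLattice, (8 : ℤ) ∣ Cfsg.Spor.ruNorm x) ∧ (∀ x ∈ Cfsg.Spor.ruLattice, Cfsg.Spor.ruNorm x ≠ 8) ∧ (∀ x ∈ Cfsg.Spor.ruLattice, x ≠ 0 → 16 ≤ Cfsg.Spor.ruNorm x) ∧ ∃ x ∈ Cfsg.Spor.ruLattice, Cfsg.Spor.ruNorm x = 16 := by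
  refine ⟨H29.ru_even, fun x hx h => ?_, H29.ru_min, _, (H29.lam (Pi.single 0 1)).2, ?_⟩
  · have := H29.ru_min x hx fun e => by simp [e, Cfsg.Spor.ruNorm] at h
    omega
  · rw [H29.norm_lam, Matrix.mulVec_single_one, single_one_dotProduct, Matrix.col_apply, H29.rG_diag]; rfl

end Cfsg.Agent.S1628
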