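import Cfsg.Statements.S1847
import Cfsg.Agent.H5.GC
import Cfsg.Agent.H12.Gold
import Cfsg.Agent.H10.JC3

set_option autoImplicit false
open Cfsg

namespace Cfsg.Agent.S1847

open H5 H5.Gd Subgroup
open H10 (IsSylowIn ZO)

/-- Let G be a non-abelian finite simple QTKE-group and T a Sylow 2-subgroup of G lying in a unique maximal 2-local subgroup M of G. Suppose N_G(D) ≤ M for every member D of the Alperin–Goldschmidt conjugation family of T in G. Then every normal 2-subgroup of M is strongly closed in T with respect to G, and G is a Bender group: G is isomorphic to L₂(2ⁿ) (n ≥ 2), U₃(2ⁿ) (n ≥ 2) or Sz(2ⁿ) (n ≥ 3 odd). -/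
theorem result {G : Type*} [Group G] [Finite G] [IsSimpleGroup G]
    (hG : ¬ IsMulCommutative G) (hQ : Cfsg.IsQTKE G) (T : Sylow 2 G) (M : Subgroup G)
    (hM : Cfsg.maxTwoLocalsContaining (T : Subgroup G) = {M})
    (h : ∀ D ∈ Cfsg.agConjFamily (T : Subgroup G), Subgroup.normalizer (D : Set G) ≤ M) :
    (∀ U : Subgroup G, U ≤ M → M ≤ Subgroup.normalizer (U : Set G) → IsPGroup 2 ↥U →
        Cfsg.IsStronglyClosed U (T : Subgroup G)) ∧
      Cfsg.IsBenderGroup G := by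
  have hM' : ∀ N, N ∈ maxTwoLocalsContaining (T : Subgroup G) ↔ N = M := fun N => by rw [hM]; rfl
  obtain ⟨⟨⟨P, hP, P1, eM⟩, hmax⟩, hTM⟩ := (hM' M).2 rfl
  have hT := H10.isSylowIn_top T
  have hTM' : IsSylowIn 2 (T : Subgroup G) M := hT.of_le hTM le_top
  have fus : ∀ a ∈ (T : Subgroup G), ∀ g : G, g * a * g⁻¹ ∈ (T : Subgroup G) →
      ∃ m ∈ M, m * a * m⁻¹ = g * a * g⁻¹ := fun a ha g hg => by
    obtain ⟨m, hm, e⟩ := H12.goldschmidt (H12.sylIn_top T)
      (𝒢 := fun A g => ∃ m ∈ M, ∀ a ∈ A, m * a * m⁻¹ = g * a * g⁻¹)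
      ⟨⟨fun _ _ _ ⟨m, hm, e⟩ ⟨m', hm', e'⟩ => ⟨m' * m, mul_mem hm' hm, fun a ha => by
          have := e' _ ⟨a, ha, rfl⟩
          simp only [MulEquiv.coe_toMonoidHom, MulAut.conj_apply] at this
          rw [mul_inv_rev, mul_inv_rev]
          calc _ = m' * (m * a * m⁻¹) * m'⁻¹ := by group
            _ = _ := by rw [e a ha, this]; group⟩,
        fun h1 _ _ ⟨m, hm, e⟩ => ⟨m, hm, fun a ha => e a (h1 ha)⟩,
        fun _ _ ⟨m, hm, e⟩ => ⟨m⁻¹, inv_mem hm, by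
          rintro _ ⟨a, ha, rfl⟩
          simp only [MulEquiv.coe_toMonoidHom, MulAut.conj_apply]
          conv_lhs => rw [← e a ha]
          group⟩⟩,
        fun _ hg => ⟨1, one_mem _, fun a ha => by rw [← hg a ha]; group⟩⟩
      (fun D hD _ g hg => by
        by_cases D1 : D = ⊥
        · exact ⟨1, one_mem _, fun a ha => by rw [D1, mem_bot] at ha; simp [ha]⟩
        refine ⟨g, h D ⟨D1, hD.le, ⟨hD.ext.toSylow, rfl⟩,
          (hD.centric.le_sup hD.pgrp).trans hD.sup_oppOf.le,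
          H10.comm_eq_bot.2 (H12.oppOf_le_centralizer hD.pgrp le_normalizer le_rfl),
          (sup_comm _ _).trans hD.sup_oppOf⟩ hg, fun _ _ => rfl⟩)
      (zpowers a) (zpowers_le.2 ha) g (by
        rintro _ ⟨_, ⟨k, rfl⟩, rfl⟩
        simpa using zpow_mem hg k)
    exact ⟨m, hm, e a (mem_zpowers a)⟩
  have sc : ∀ U : Subgroup G, U ≤ M → M ≤ 𝒩(U) → IsPGroup 2 U → IsStronglyClosed U (T : Subgroup G) :=
    fun U h1 h2 h3 => have hU := hTM'.le_of_NN h3 h1 (hTM.trans h2)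
      ⟨hU, fun a ha g hg => by
        obtain ⟨m, hm, e⟩ := fus a (hU ha) g hg
        exact e ▸ H10.conj_mem_of_mem_NN (h2 hm) ha⟩
  refine ⟨sc, (SE.tri ‹_› hG ?_).bender⟩
  have hA := sc (ZO 2 P) ((H10.ZO_le P).trans (eM ▸ le_normalizer)) (eM ▸ H10.NN_le_NN_ZO P)
    (H10.isPGroup_ZO P)
  have key : IsMulCommutative (T : Subgroup G) → SE G := fun hc => by
    have h1 : (T : Subgroup G) ≤ 𝒞((T : Subgroup G)) := H10.isMulCommutative_iff_le_CC.1 hc
    have h2 : (T : Subgroup G) ≤ pCoreOf 2 M := fun x hx => ⟨⟨x, hTM hx⟩,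
      hQ.2.2 M ⟨P, hP, P1, eM⟩ ⟨T, hTM⟩ fun y hy =>
        Subtype.ext (h1 hx y (hTM'.pCoreOf_le ⟨y, hy, rfl⟩)), rfl⟩
    have h3 : ∀ t ∈ M, orderOf t = 2 → t ∈ (T : Subgroup G) := fun t ht ho =>
      hTM'.le_of_le_NN (H10.isPGroup_zpowers_of_orderOf_eq ho) (zpowers_le.2 ht)
        ((zpowers_le.2 ht).trans (hTM'.pCoreOf_le.antisymm h2 ▸ H10.le_NN_pCoreOf M)) (mem_zpowers t)
    obtain ⟨t, ht, ho⟩ := H10.exists_orderOf_eq_of_ne_bot hP P1
    refine ⟨M, H6.stronglyEmbedded_iff.2 ⟨fun e => ?_, ⟨t, eM ▸ le_normalizer ht, ho⟩,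
      fun g t ho ht hg => ?_⟩⟩
    · rcases (normalizer_eq_top_iff.1 (eM ▸ e)).eq_bot_or_eq_top with k | k
      · exact P1 k
      · have : Group.IsSolvable (⊤ : Subgroup G) := isSolvable_of_isPGroup (k ▸ hP)
        exact H6.simple_not_solvable hG (isSolvable_of_equiv topEquiv)
    obtain ⟨m, hm, e⟩ := fus t (h3 t ht ho) g (h3 _ hg (by rw [ord_conj, ho]))
    obtain ⟨N, hN, k⟩ := H10.exists_maximalTwoLocal ⟨zpowers t,
      H10.isPGroup_zpowers_of_orderOf_eq ho, by simpa using H10.ne_one_of_orderOf_eq ho, rfl⟩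
    have k1 : 𝒞₁(t) ≤ N := (centralizer_zpowers t).ge.trans ((centralizer_le_normalizer _).trans k)
    obtain rfl := (hM' N).1 ⟨hN, (h1.trans (centralizer_le_singleton (h3 t ht ho))).trans k1⟩
    refine (mul_mem_cancel_left (inv_mem hm)).1 (k1 (mem_centralizer_singleton_iff.2 ?_))
    calc m⁻¹ * g * t = m⁻¹ * (g * t * g⁻¹) * g := by group
      _ = _ := by rw [← e]; group
  rcases types_of_closed ‹_› hG hT hA.1 (ZO_ne hP P1)
    (H10.isMulCommutative_iff_le_CC.1 (H10.elab_ZO P).1) fun a ha _ g => hA.2 a ha g with k | k | k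
  exacts [k.1, key (k.elab ‹_› hT).1.1, key (k.elab ‹_› hG hT).1.1]

end Cfsg.Agent.S1847
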