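import Cfsg.Statements.S1904
import Cfsg.Agent.H10.Sc2
import Cfsg.Agent.H8.Sdp
import Cfsg.Agent.S1894

set_option autoImplicit false
open Cfsg H10

namespace Cfsg.Agent.S1904

open Subgroup H10.Sc

/-- Let X be a finite nonabelian 2-group with no normal abelian subgroup that is self-centralizing and contains an elementary abelian subgroup of order 8. Suppose a group A of automorphisms of X of odd order satisfies [X, A] = X. Then X is the quaternion group of order 8, or X is special of order 64 with exactly three involutions, all central, or X is extraspecial of order 32 with exactly eleven involutions (the central product of a quaternion group and a dihedral group of order 8). -/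
theorem result {X : Type*} [Group X] [Finite X] (hX : IsPGroup 2 X) (hna : ¬ IsMulCommutative X)
    (hscn : ¬ ∃ A : Subgroup X, A.Normal ∧ Subgroup.centralizer (A : Set X) = A ∧
      ∃ E : Subgroup X, E ≤ A ∧ Cfsg.IsElementaryAbelian 2 E ∧ Nat.card E = 8)
    (A : Subgroup (MulAut X)) (hA : Odd (Nat.card A))
    (hXA : Subgroup.closure {g : X | ∃ φ ∈ A, ∃ x : X, g = x⁻¹ * φ x} = ⊤) :
    Nonempty (X ≃* QuaternionGroup 2) ∨
      (Cfsg.IsSpecial 2 X ∧ Nat.card X = 64 ∧ Nat.card {x : X // orderOf x = 2} = 3 ∧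
        ∀ x : X, orderOf x = 2 → x ∈ Subgroup.center X) ∨
      (Cfsg.IsExtraspecial 2 X ∧ Nat.card X = 32 ∧ Nat.card {x : X // orderOf x = 2} = 11) := by
  have hN : ∀ B : Subgroup X, B.Normal → IsElementaryAbelian 2 B → Nat.card B ≤ 4 := by
    intro B _ hB
    by_contra! h
    obtain ⟨C, c1, c2, -, -, c3⟩ := Cfsg.Agent.S1894.result hX ⊤ B le_top hB.1
    obtain ⟨n, hn⟩ := (IsPGroup.iff_card (p := 2)).1 (elab_isPGroup hB)
    have h3 : 2 < n := (Nat.pow_lt_pow_iff_right (by norm_num : 1 < 2)).1 (hn ▸ h)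
    obtain ⟨E, hE, h8⟩ := H5.exists_le_card_eq_pow (elab_isPGroup hB) (k := 3)
      (hn ▸ Nat.pow_le_pow_right (by norm_num) h3)
    exact hscn ⟨C, c1, by rwa [top_inf_eq] at c3, E, hE.trans c2, elab_of_le hB hE, h8⟩
  have hc : (Nat.card A).Coprime 2 := Nat.coprime_two_right.2 hA
  let e := H8.sdLEquiv A.subtype (⊤ : Subgroup X)
  have hs : IsSpecial 2 (H8.sdL A.subtype ⊤) := by
    refine NR.special (A := H8.sdR A.subtype ⊤) (fun B hB hn hE => ?_)
      ((isPGroup_top_iff.2 hX).of_equiv e) (by rwa [H8.card_sdR, card_top]) ?_ fun h => hna ?_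
    · obtain ⟨B, rfl⟩ := H8.exists_sdL_eq _ hB
      rw [H8.card_sdL]
      refine hN B ⟨fun b hb g => (H8.inl_mem_sdL (φ := A.subtype)).1 ?_⟩ ⟨⟨⟨fun a b => ?_⟩⟩,
        fun b hb => SemidirectProduct.inl_injective (φ := A.subtype) ?_⟩
      · rw [map_mul, map_mul, map_inv]
        exact (mem_normalizer_iff.1 (hn ((H8.inl_mem_sdL _).2 (mem_top g))) _).1 ((H8.inl_mem_sdL _).2 hb)
      · refine Subtype.ext (SemidirectProduct.inl_injective (φ := A.subtype) ?_)
        rw [coe_mul, coe_mul, map_mul, map_mul]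
        exact mem_CC.1 (elab_le_CC hE ((H8.inl_mem_sdL _).2 b.2)) _ ((H8.inl_mem_sdL _).2 a.2)
      · rw [map_pow, map_one]; exact hE.2 _ ((H8.inl_mem_sdL _).2 hb)
    · rw [H8.commutator_sdL_sdR, H8.sdL_le_iff]
      exact hXA.ge.trans <| closure_mono (by
        rintro _ ⟨φ, h, x, rfl⟩
        exact ⟨⟨φ, h⟩, trivial, x, trivial, rfl⟩)
    · refine ⟨⟨fun a b => SemidirectProduct.inl_injective (φ := A.subtype) ?_⟩⟩
      rw [map_mul, map_mul]
      exact mem_CC.1 (h ((H8.inl_mem_sdL _).2 (mem_top b))) _ ((H8.inl_mem_sdL _).2 (mem_top a))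
  refine fin (special_equiv (e.symm.trans topEquiv) hs) hna hN (fun M hM h2 => ?_) fun h => ?_
  · have : ⊤ ≤ M := hXA ▸ (closure_le _).2 (by
      rintro _ ⟨φ, -, x, rfl⟩
      refine (mul_mem_iff_of_index_two h2).2 ?_
      rw [inv_mem_iff, ← characteristic_iff_comap_eq.1 hM φ, mem_comap,
        characteristic_iff_comap_eq.1 hM φ]
      rfl)
    rw [top_le_iff.1 this, index_top] at h2
    omega
  · obtain ⟨k, hk⟩ := (IsPGroup.iff_card (p := 2)).1 (h.to_subgroup A)
    have h1 : A = ⊥ := card_eq_one.1 ((hc.pow_right k).eq_one_of_dvd hk.dvd)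
    have : (⊤ : Subgroup X) ≤ ⊥ := hXA ▸ (closure_le _).2 (by
      rintro _ ⟨φ, h, x, rfl⟩
      rw [h1, mem_bot] at h
      simp [h])
    exact hna ⟨⟨fun a b => by rw [mem_bot.1 (this (mem_top a)), one_mul, mul_one]⟩⟩

end Cfsg.Agent.S1904
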