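import Cfsg.Statements.S1910
import Cfsg.Agent.H1.Basic
import Cfsg.Agent.H10.Act

set_option autoImplicit false
open Cfsg

namespace Cfsg.Agent.S1910

open Subgroup H10 in
theorem lemL {G : Type*} [Group G] [Finite G] {Q T U S : Subgroup G}
    (hTQ : T ≤ normalizer (Q : Set G)) (hUQ : U ≤ Q) (hd : T ⊓ Q = ⊥)
    (hc : T ≤ normalizer (U : Set G)) (hS : IsSylowIn 2 S (Q ⊔ T)) (hW : U ⊔ T ≤ S) :
    IsSylowIn 2 U Q ∨ ∃ y ∈ S ⊓ Q, y ∉ U ∧ y ∈ normalizer ((U ⊔ T : Subgroup G) : Set G) := by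
  have h1 := hS.inf_normal le_sup_left (sup_le le_normalizer hTQ)
  rcases hW.eq_or_lt with h | h
  · left
    rwa [← h, dedekind_right hUQ hc, hd, sup_bot_eq] at h1
  · obtain ⟨s, hs, hs'⟩ := SetLike.exists_of_lt (lt_inf_NN hS.isPGroup h)
    obtain ⟨q, hq, t, ht, rfl⟩ := (mem_sup_of_NN' hTQ).1 (hS.le hs.1)
    exact Or.inr ⟨q, ⟨(S.mul_mem_cancel_right (hW (mem_sup_right ht))).1 hs.1, hq⟩,
      fun h => hs' (mul_mem_sup h ht),
      (Subgroup.mul_mem_cancel_right _ (le_normalizer (mem_sup_right ht))).1 hs.2⟩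

open Subgroup H10 in
theorem lemE {G : Type*} [Group G] {X T U : Subgroup G} (hX : X ≤ U ⊔ T)
    (hc : U ≤ normalizer (T : Set G)) (h1 : T ⊓ U = ⊥) (h2 : X ⊓ T = ⊥) :
    ∃ f : X →* U, Function.Injective f := by
  haveI := normal_subgroupOf (sup_le hc le_normalizer)
  have h3 : IsComplement' (T.subgroupOf (U ⊔ T)) (U.subgroupOf (U ⊔ T)) :=
    H1.isComplement'_of_inf_sup (eq_bot_iff.2 fun x hx => Subtype.ext (mem_bot.1 (h1 ▸ (⟨hx.1, hx.2⟩ : x.1 ∈ T ⊓ U))))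
      (by rw [← subgroupOf_sup le_sup_right le_sup_left, sup_comm T U, subgroupOf_self])
  refine ⟨(subgroupOfEquivOfLe le_sup_left).toMonoidHom.comp
    (h3.symm.QuotientMulEquiv.toMonoidHom.comp ((QuotientGroup.mk' _).comp (inclusion hX))),
    (injective_iff_map_eq_one _).2 fun x hx => Subtype.ext (mem_bot.1 (h2 ▸ ⟨x.2, ?_⟩))⟩
  simp only [MonoidHom.comp_apply, MulEquiv.coe_toMonoidHom, EmbeddingLike.map_eq_one_iff] at hx
  exact (QuotientGroup.eq_one_iff (inclusion hX x)).1 hx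

open Subgroup H10 in
theorem lemT {G : Type*} [Group G] [Finite G] {Q : Subgroup G} (hQ : IsTightlyEmbedded Q) (a b : G)
    {X : Subgroup G} (hX : IsPGroup 2 X) (h1 : X ≤ cj a Q) (h2 : X ≤ cj b Q) (h0 : X ≠ ⊥) :
    cj a Q = cj b Q := by
  by_contra h
  have := hQ.2 (a⁻¹ * b) fun e => h (by rw [mem_NN, cj_mul, cj_eq_iff, inv_inv] at e; exact e.symm)
  rw [cj_def, ← card_cj a, cj_inf, ← cj_mul, mul_inv_cancel_left] at this
  exact Nat.not_even_iff_odd.2 this (even_iff_two_dvd.2 (dvd_card_of_le hX h0 (le_inf h1 h2)))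

/-- Let Q be a tightly embedded subgroup of a finite group G, g an element outside N_G(Q), T a nontrivial Sylow 2-subgroup of Q^g ∩ N_G(Q), and S a Sylow 2-subgroup of QT containing T. Then T ∩ Q = 1, and N_S(T) is the direct product of T and N_S(T) ∩ Q, with N_S(T) ∩ Q isomorphic to T. -/
theorem result {G : Type*} [Group G] [Finite G] (Q : Subgroup G) (hQ : Cfsg.IsTightlyEmbedded Q)
    (g : G) (hg : g ∉ Subgroup.normalizer (Q : Set G))
    (T : Subgroup G) (hT1 : T ≠ ⊥) (hT : T ≤ Q.map (MulAut.conj g).toMonoidHom ⊓ Subgroup.normalizer (Q : Set G))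
    (hTsyl : IsPGroup 2 T ∧ ¬ 2 ∣ T.relIndex (Q.map (MulAut.conj g).toMonoidHom ⊓ Subgroup.normalizer (Q : Set G)))
    (S : Subgroup G) (hTS : T ≤ S) (hS : S ≤ Q ⊔ T) (hSsyl : IsPGroup 2 S ∧ ¬ 2 ∣ S.relIndex (Q ⊔ T)) :
    T ⊓ Q = ⊥ ∧
      T ⊓ (S ⊓ Subgroup.normalizer (T : Set G) ⊓ Q) = ⊥ ∧
      ⁅T, S ⊓ Subgroup.normalizer (T : Set G) ⊓ Q⁆ = ⊥ ∧
      T ⊔ (S ⊓ Subgroup.normalizer (T : Set G) ⊓ Q) = S ⊓ Subgroup.normalizer (T : Set G) ∧
      Nonempty (↥(S ⊓ Subgroup.normalizer (T : Set G) ⊓ Q) ≃* T) := by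
  open Subgroup H10 in
  rw [cj_def] at *
  have hT' := isSylowIn_of_not_dvd hT hTsyl.1 hTsyl.2
  have hS' := isSylowIn_of_not_dvd hS hSsyl.1 hSsyl.2
  have hTQ := hT.trans inf_le_right
  have hTQ' := hT.trans inf_le_left
  have hne : cj 1 Q ≠ cj g Q := fun e => hg (mem_NN.2 (by rw [← e, cj_one]))
  have hd0 : ∀ X : Subgroup G, IsPGroup 2 X → X ≤ Q → X ≤ cj g Q → X = ⊥ := fun X h1 h2 h3 =>
    by_contra fun h => hne (lemT hQ 1 g h1 (by rwa [cj_one]) h3 h)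
  have hd : T ⊓ Q = ⊥ := hd0 _ (hTsyl.1.to_le inf_le_left) inf_le_right (inf_le_left.trans hTQ')
  set U := S ⊓ normalizer (T : Set G) ⊓ Q with hU
  have hUQ : U ≤ Q := inf_le_right
  have hUS : U ≤ S := inf_le_left.trans inf_le_left
  have hUT : U ≤ normalizer (T : Set G) := inf_le_left.trans inf_le_right
  have hUp := hSsyl.1.to_le hUS
  have hd1 : T ⊓ U = ⊥ := eq_bot_iff.2 ((inf_le_inf_left _ hUQ).trans hd.le)
  have hc : ⁅T, U⁆ = ⊥ := eq_bot_iff.2 ((le_inf (comm_le_left hUT)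
    ((commutator_mono le_rfl hUQ).trans (comm_le_right hTQ))).trans hd.le)
  have hTU : T ≤ normalizer (U : Set G) := (comm_eq_bot.1 hc).trans (CC_le_NN U)
  have hsup : T ⊔ U = S ⊓ normalizer (T : Set G) := by
    rw [hU, inf_comm _ Q, ← dedekind_left (le_inf hTS le_normalizer) hTQ, sup_comm T Q]
    exact inf_eq_right.2 (inf_le_left.trans hS)
  refine ⟨hd, hd1, hc, hsup, ?_⟩
  have hUQ' : U ≤ normalizer (cj g Q : Set G) := fun u hu => mem_NN.2 (by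
    rw [← cj_mul]
    exact lemT hQ _ _ hTsyl.1 (by rw [cj_mul, ← cj_eq_of_mem_NN (hUT hu)]; exact cj_mono _ hTQ') hTQ' hT1)
  have hdU : U ⊓ cj g Q = ⊥ := hd0 _ (hUp.to_le inf_le_left) (inf_le_left.trans hUQ) inf_le_right
  have hA : Nat.card U ≤ Nat.card T := by
    obtain ⟨S', h1, h2⟩ := exists_isSylowIn_ge (isPGroup_sup_of_NN hTsyl.1 hUp hTU)
      (sup_le_sup_right hTQ' U)
    rcases lemL hUQ' hTQ' hdU hUT h1 h2 with h | ⟨y, hy, hyT, hyN⟩
    · rw [← card_cj g]; exact h.card_le (isPGroup_cj g hUp) (cj_mono g hUQ)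
    have hyQ : y ∉ normalizer (Q : Set G) := fun h => hyT (hT'.eq_of_le
      (h1.isPGroup.to_le (inf_le_left : S' ⊓ (cj g Q ⊓ normalizer (Q : Set G)) ≤ S'))
      (le_inf (le_sup_left.trans h2) hT) inf_le_right ▸ ⟨hy.1, hy.2, h⟩)
    obtain ⟨f, hf⟩ := lemE (X := cj y U) (cj_le_of_mem_NN hyN le_sup_right) hTU
      (inf_comm T U ▸ hd1) (by_contra fun h => hyQ (mem_NN.2 ((lemT hQ y 1 (hUp.to_le inf_le_right)
        (inf_le_left.trans (cj_mono y hUQ)) (by rw [cj_one]; exact inf_le_right.trans hUQ) h).trans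
          (cj_one Q))))
    rw [← card_cj y]
    exact Nat.card_le_card_of_injective f hf
  obtain ⟨f, hf⟩ : ∃ f : T →* U, Function.Injective f := by
    rcases lemL hTQ hUQ hd hTU hS' (sup_le hUS hTS) with h | ⟨y, hy, hyU, hyN⟩
    · obtain ⟨x, -, hx⟩ := h.exists_cj_le (isPGroup_cj g⁻¹ hTsyl.1) (le_cj_iff.1 hTQ')
      rw [← cj_mul] at hx
      exact ⟨(inclusion hx).comp (cjEquiv _ T).toMonoidHom,
        (inclusion_injective hx).comp (cjEquiv _ T).injective⟩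
    have h1 := cj_le_of_mem_NN hyN (le_sup_right : T ≤ U ⊔ T)
    obtain ⟨f, hf⟩ := lemE h1 hUT hd1 (by_contra fun h => hyU ⟨⟨hy.1, mem_NN_of_cj_le (by
      have e := lemT hQ (y * g) g (hTsyl.1.to_le inf_le_right)
        (by rw [cj_mul]; exact inf_le_left.trans (cj_mono y hTQ')) (inf_le_right.trans hTQ') h
      have h2 : cj y T ≤ (T ⊔ U) ⊓ cj g Q := le_inf (sup_comm U T ▸ h1)
        (by rw [← e, cj_mul]; exact cj_mono y hTQ')
      rwa [dedekind_left hTQ' hTU, hdU, sup_bot_eq] at h2)⟩, hy.2⟩)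
    exact ⟨f.comp (cjEquiv y T).toMonoidHom, hf.comp (cjEquiv y T).injective⟩
  exact ⟨(MulEquiv.ofBijective f (hf.bijective_of_nat_card_le hA)).symm⟩

end Cfsg.Agent.S1910
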