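import Cfsg.Statements.S1913
import Cfsg.Agent.H11.YA

set_option autoImplicit false
open Cfsg

namespace Cfsg.Agent.S1913

open Subgroup MulAction H16 H15.Bd H11.ZD H11.YZ


/-- Let z be an involution in the centre of a Sylow 2-subgroup of a finite group G and H a proper subgroup such that z ∈ gHg⁻¹ exactly when g ∈ H, and such that for every involution u commuting with z whose centralizer is not contained in H, the subgroup H ∩ L is strongly embedded in L = ⟨G-conjugates of z commuting with u⟩. Then, with K the normal closure of z in G, H ∩ K is strongly embedded in K. -/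
theorem result {G : Type*} [Group G] [Finite G] (P : Sylow 2 G) (z : G) (hz2 : orderOf z = 2)
    (hzP : z ∈ (Subgroup.center ↥(P : Subgroup G)).map (P : Subgroup G).subtype)
    (H : Subgroup G) (hH : H ≠ ⊤) (hi : ∀ g : G, z ∈ H.map (MulAut.conj g).toMonoidHom ↔ g ∈ H)
    (hii : ∀ u : G, orderOf u = 2 → u * z = z * u → ¬ Subgroup.centralizer ({u} : Set G) ≤ H →
      Cfsg.IsStronglyEmbedded (H.subgroupOf (Subgroup.closure {x : G | IsConj z x ∧ x * u = u * x}))) :
    Cfsg.IsStronglyEmbedded (H.subgroupOf (Subgroup.normalClosure ({z} : Set G))) := by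
  obtain ⟨z', hz', rfl⟩ := hzP
  have e : ∀ u : G, Subgroup.closure {x : G | IsConj (z' : G) x ∧ x * u = u * x} = LX {d | IsConj (z' : G) d} C1[u] :=
    fun u => congrArg Subgroup.closure (Set.ext fun x => and_congr_right' mem_cent1.symm)
  refine se_of_central hH hz2 (by simpa using (hi 1).2 (one_mem H)) (fun g hg => ?_) (sy_top_of_sylow P)
    (fun x hx => mem_cent1.2 (congrArg Subtype.val (mem_center_iff.1 hz' ⟨x, hx⟩))) fun u ou hc h => e u ▸ hii u ou hc.symm h
  exact (inv_mem_iff (x := g)).1 ((hi g⁻¹).1 (mem_cj.2 (by simpa using hg)))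

end Cfsg.Agent.S1913
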