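import Cfsg.Statements.S1915
import Cfsg.Agent.H10.TT
import Cfsg.Agent.H10.PRed
import Cfsg.Agent.H10.Misc
import Cfsg.Agent.H9.NormalCyc
import Cfsg.Agent.H9.Rank
import Cfsg.Agent.H8.Cyc
import Cfsg.Agent.H4.Thompson
import Cfsg.Agent.H5.Component

set_option autoImplicit false
open Cfsg H10

namespace Cfsg.Agent.S1915

open scoped commutatorElement

theorem two {S : Type*} [Group S] [Finite S] (hS : IsPGroup 2 S) (T U W : Subgroup S) [T.Normal]
    (hU4 : Nat.card U = 4) (hU2 : ∀ u ∈ U, u * u = 1) (hTU : T ⊔ U = ⊤) (hW : W ≤ T)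
    (hWe : IsElementaryAbelian 2 W) (hW4 : 2 < Nat.card W)
    (hC : ∀ u ∈ U, u ≠ 1 → ∀ V ≤ T, IsElementaryAbelian 2 V → u ∈ CC(V) → Nat.card V ≤ 2) :
    ∃ (X : Subgroup S) (b w z : S), X ≤ T ∧ X.relIndex T = 2 ∧ b ∈ T ∧ b ∉ X ∧ b * b = 1 ∧
      w * b = b * w ∧ w * w = z ∧ z ∈ X ∧ z ≠ 1 ∧ (∀ s, s * z = z * s) ∧ (∀ s, s * s ∈ X) ∧
      ∀ c ∈ X, c * c = 1 → c = 1 ∨ c = z := by
  classical
  have hNF : ∀ E : Subgroup S, E.Normal → Nat.card E = 4 → ∃ u ∈ U, u ≠ 1 ∧ u ∈ CC(E) := by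
    intro E _ hE
    have h1 := H9.index_centralizer_le_prime hS E hE
    have h2 := card_inf_mul_relIndex CC(E) U
    have h3 := Subgroup.relIndex_le_of_le_right (H := CC(E)) (le_top (a := U))
      (by rw [Subgroup.relIndex_top_right]; exact Subgroup.FiniteIndex.index_ne_zero)
    rw [Subgroup.relIndex_top_right] at h3
    by_contra hh
    push Not at hh
    have h4 : CC(E) ⊓ U = ⊥ := eq_bot_iff.2 fun u hu => by_contra fun e => hh u hu.2 e hu.1
    rw [h4, Subgroup.card_bot] at h2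
    omega
  have hV : ∀ V ≤ T, V.Normal → IsElementaryAbelian 2 V → Nat.card V ≠ 4 := fun V h1 h2 h3 h4 => by
    obtain ⟨u, hu, hu1, hu2⟩ := hNF V h2 h4
    have := hC u hu hu1 V h1 h3 hu2
    omega
  obtain ⟨X, ⟨hXT, hXn, hXc⟩, hmax⟩ := exists_maximal_subgroup
    (P := fun X : Subgroup S => X ≤ T ∧ X.Normal ∧ X ≤ CC(X)) (X := ⊥) ⟨bot_le, inferInstance, bot_le⟩
  have hnorm : ∀ y : S, (∀ g, ⁅y, g⁆ ∈ X) → (X ⊔ Subgroup.zpowers y).Normal := fun y hy =>
    normal_of_top_le_NN (le_NN_of_comm_le_left (comm_sup_le (le_sup_left.trans (le_NN_self _))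
      (le_sup_right.trans (le_NN_self _)) ((comm_le_left (le_NN_of_normal _ _)).trans le_sup_left)
      (le_trans (by
        rw [Subgroup.zpowers_eq_closure]
        exact comm_closure_le (le_NN_of_normal _ _) fun x hx c _ => hx ▸ hy c) le_sup_left)))
  have hXC : T ⊓ CC(X) ≤ X := by
    by_contra hh
    obtain ⟨y, hy, hyX, -, hy2⟩ := H9.exists_central_step hS hh
    have h1 : Subgroup.zpowers y ≤ CC(X) := Subgroup.zpowers_le_of_mem hy.2
    refine hyX (hmax (X ⊔ Subgroup.zpowers y) ⟨sup_le hXT (Subgroup.zpowers_le_of_mem hy.1),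
      hnorm y hy2, ?_⟩ le_sup_left ▸ Subgroup.mem_sup_right (Subgroup.mem_zpowers y))
    rw [CC_sup]
    exact le_inf (sup_le hXc h1) (sup_le (le_CC_symm h1) (isMulCommutative_iff_le_CC.1 inferInstance))
  have hcyc : IsCyclic X := by
    by_contra hh
    obtain ⟨V, h1, h2, h3, h4⟩ := H9.exists_normal_rank_two_of_abelian hS X
      (isMulCommutative_iff_le_CC.2 hXc) hh
    exact hV V (h1.trans hXT) h2 h3 h4
  obtain ⟨b, hb, hbX⟩ : ∃ b ∈ W, b ∉ X := by
    by_contra hh
    push Not at hh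
    exact H9.not_isCyclic_of_elementary hWe.2 hW4 (Subgroup.isCyclic_of_le (show W ≤ X from hh))
  have hbb : b * b = 1 := by rw [← pow_two]; exact hWe.2 b hb
  obtain ⟨a, rfl⟩ := (Subgroup.isCyclic_iff_exists_zpowers_eq_top X).1 hcyc
  obtain ⟨m, ha⟩ := IsPGroup.iff_orderOf.1 hS a
  have hm : 2 ≤ m := by
    by_contra hm
    have : Subgroup.zpowers a ≤ Subgroup.center S := H9.le_center_of_card_le_prime hS (by
      rw [Nat.card_zpowers, ha]
      calc 2 ^ m ≤ 2 ^ 1 := Nat.pow_le_pow_right two_pos (by omega)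
        _ = 2 := rfl)
    exact hbX (hXC ⟨hW hb, mem_CC.2 fun h hh => (Subgroup.mem_center_iff.1 (this hh) b).symm⟩)
  obtain ⟨n, rfl⟩ : ∃ n, m = n + 2 := ⟨m - 2, by omega⟩
  have hx : orderOf (a ^ 2 ^ n) = 4 := by rw [H9.orderOf_pow_prime_pow ha]; rfl
  have hxn := H9.normal_zpowers_pow (a := a) (2 ^ n)
  have hxX : a ^ 2 ^ n ∈ Subgroup.zpowers a := Subgroup.npow_mem_zpowers a _
  generalize hxd : a ^ 2 ^ n = x at hx hxn hxX
  have hz : orderOf (x ^ 2) = 2 := by
    rw [orderOf_pow_of_dvd two_ne_zero (by rw [hx]; norm_num), hx]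
  have hzn := H9.normal_zpowers_pow (a := x) 2
  have hzc := H9.le_center_of_card_le_prime hS (N := Subgroup.zpowers (x ^ 2))
    (by rw [Nat.card_zpowers, hz]) (Subgroup.mem_zpowers _)
  have hchain : ∀ c ∈ Subgroup.zpowers a, ∀ d ∈ Subgroup.zpowers a, orderOf c ∣ orderOf d →
      c ∈ Subgroup.zpowers d := fun c hc d hd h =>
    H8.le_of_card_dvd_of_isCyclic hcyc (Subgroup.zpowers_le_of_mem hc)
      (Subgroup.zpowers_le_of_mem hd) (by rwa [Nat.card_zpowers, Nat.card_zpowers])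
      (Subgroup.mem_zpowers c)
  have L2 : ∀ c ∈ Subgroup.zpowers a, c * c = 1 → c = 1 ∨ c = x ^ 2 := fun c hc h => by
    have h1 := hchain c hc _ (pow_mem hxX 2) (by
      rw [hz]; exact orderOf_dvd_of_pow_eq_one (by rw [pow_two, h]))
    rw [mem_zpowers_iff_mem_range_orderOf, hz] at h1
    obtain ⟨k, hk, rfl⟩ := Finset.mem_image.1 h1
    rw [Finset.mem_range] at hk
    interval_cases k <;> simp
  have hx2 : x⁻¹ ≠ x := fun e => by
    have : x ^ 2 = 1 := by rw [pow_two]; nth_rw 1 [← e]; group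
    rw [this, orderOf_one] at hz
    omega
  have L1 : ∀ t c : S, t * x = x * t → c ∈ Subgroup.zpowers a → t * c * t⁻¹ = c⁻¹ → c * c = 1 := by
    intro t c ht hc h
    by_contra hcc
    obtain ⟨k, hk⟩ := IsPGroup.iff_orderOf.1 hS c
    have hk2 : 2 ≤ k := by
      by_contra hk2
      apply hcc
      rw [← pow_two]
      exact orderOf_dvd_iff_pow_eq_one.1 (hk ▸ (pow_dvd_pow 2 (by omega : k ≤ 1)))
    obtain ⟨j, hj⟩ := hchain x hxX c hc (by rw [hx, hk]; exact pow_dvd_pow 2 hk2)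
    apply hx2
    have h1 : t * c ^ j * t⁻¹ = (c ^ j)⁻¹ := by rw [← conj_zpow, h, inv_zpow]
    simp only at hj
    rw [hj, ht] at h1
    rw [← h1]; group
  have hK : ∀ y ∈ T, y * x = x * y → y ∈ Subgroup.zpowers a := by
    have : T ⊓ CC(Subgroup.zpowers x) ≤ Subgroup.zpowers a := by
      by_contra hh
      obtain ⟨y, hy, hyX, hy1, hy2⟩ := H9.exists_central_step hS hh
      have hyx : y * x = x * y := (mem_CC.1 hy.2 x (Subgroup.mem_zpowers x)).symm
      have hne : y * a * y⁻¹ ≠ a := fun e => hyX (hXC (Subgroup.mem_inf.2 ⟨hy.1, by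
        rw [CC_zpowers, Subgroup.mem_centralizer_singleton_iff]
        exact mul_inv_eq_iff_eq_mul.1 e⟩))
      obtain ⟨r, rfl⟩ : ∃ r, n = r + 1 := by
        rcases n with _ | r
        · refine absurd ?_ hne
          rw [pow_zero, pow_one] at hxd
          rw [hxd, hyx]; group
        · exact ⟨r, rfl⟩
      have ha4 : a ^ 2 * a ^ 2 ≠ 1 := fun e => by
        rw [← pow_add, ← orderOf_dvd_iff_pow_eq_one, ha] at e
        have := (Nat.pow_dvd_pow_iff_le_right (x := 2) (l := 2) one_lt_two).1 e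
        omega
      have hc : Commute (y ^ 2) a := by
        obtain ⟨k, hk⟩ := hy1
        rw [← hk]; exact (Commute.refl a).zpow_left k
      rcases H9.two_conj_cases (n := r + 2) ha (le_NN_of_normal ⊤ _ trivial) hc with h | h | h | h
      · exact hne h
      · exact ha4 (L1 y _ hyx (Subgroup.npow_mem_zpowers a 2) (by rw [← conj_pow, h, inv_pow]))
      · obtain ⟨i, hi⟩ := H9.modular_exists_involution ha h hy1
        have hai : a ^ i ∈ Subgroup.zpowers a := Subgroup.zpow_mem_zpowers a i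
        have htX : a ^ i * y ∉ Subgroup.zpowers a := fun e => hyX ((mul_mem_cancel_left hai).1 e)
        have htx : a ^ i * y * x = x * (a ^ i * y) := by
          rw [mul_assoc, hyx, ← mul_assoc, ← mul_assoc, mem_CC.1 (hXc hxX) _ hai]
        have htT : a ^ i * y ∈ T := mul_mem (hXT hai) hy.1
        have htg : ∀ g, g * (a ^ i * y) * g⁻¹ * (a ^ i * y)⁻¹ ∈ Subgroup.zpowers a := fun g => by
          have e : g * (a ^ i * y) * g⁻¹ * (a ^ i * y)⁻¹ =
              (g * a ^ i * g⁻¹) * ⁅y, g⁆⁻¹ * (a ^ i)⁻¹ := by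
            simp only [commutatorElement_def]; group
          rw [e]
          exact mul_mem (mul_mem (hXn.conj_mem _ hai g) (inv_mem (hy2 g))) (inv_mem hai)
        generalize a ^ i * y = t at hi htX htx htT htg
        have htt : t⁻¹ = t := inv_eq_of_mul_eq_one_right (by rw [← pow_two, hi])
        have hzt : t ∈ CC(Subgroup.zpowers (x ^ 2)) := by
          rw [CC_zpowers, Subgroup.mem_centralizer_singleton_iff]
          exact Subgroup.mem_center_iff.1 hzc t
        refine hV (Subgroup.zpowers (x ^ 2) ⊔ Subgroup.zpowers t)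
          (sup_le (Subgroup.zpowers_le_of_mem (hXT (pow_mem hxX 2))) (Subgroup.zpowers_le_of_mem htT))
          ⟨fun v hv g => ?_⟩ (elab_sup (H4.elemAb_zpowers (by have h4 := pow_orderOf_eq_one (x ^ 2); rwa [hz] at h4))
            (H4.elemAb_zpowers hi) (le_CC_symm (Subgroup.zpowers_le_of_mem hzt))) ?_
        · refine (show _ ≤ (Subgroup.zpowers (x ^ 2) ⊔ Subgroup.zpowers t).comap
            (MulAut.conj g).toMonoidHom from sup_le (fun v hv => Subgroup.mem_sup_left
              (hzn.conj_mem v hv g)) (Subgroup.zpowers_le_of_mem ?_)) hv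
          show g * t * g⁻¹ ∈ Subgroup.zpowers (x ^ 2) ⊔ Subgroup.zpowers t
          have h1 := L2 _ (htg g) (L1 t _ htx (htg g) (by
            calc t * (g * t * g⁻¹ * t⁻¹) * t⁻¹ = t * g * t * g⁻¹ * (t * t)⁻¹ := by group
              _ = _ := by rw [← pow_two, hi]; nth_rw 2 [← htt]; group))
          have e : g * t * g⁻¹ = (g * t * g⁻¹ * t⁻¹) * t := by group
          rw [e]
          refine mul_mem ?_ (Subgroup.mem_sup_right (Subgroup.mem_zpowers t))
          rcases h1 with h1 | h1 <;> rw [h1]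
          · exact one_mem _
          · exact Subgroup.mem_sup_left (Subgroup.mem_zpowers _)
        · rw [H9.card_sup_zpowers Nat.prime_two (CC_le_NN _ hzt)
            (fun e => htX (Subgroup.zpowers_le_of_mem (pow_mem hxX 2) e)) (hi ▸ one_mem _),
            Nat.card_zpowers, hz]
      · refine ha4 (L1 y _ hyx (Subgroup.npow_mem_zpowers a 2) ?_)
        have h2 : a ^ ((2 : ℤ) ^ (r + 3)) = 1 := by
          have := pow_orderOf_eq_one a
          rw [ha, ← zpow_natCast] at this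
          exact_mod_cast this
        rw [← conj_pow, h, ← zpow_natCast, ← zpow_mul,
          show ((2 : ℤ) ^ (r + 2) - 1) * (2 : ℕ) = 2 ^ (r + 3) + -2 by push_cast; ring, zpow_add, h2]
        group
    exact fun y hy h => this (Subgroup.mem_inf.2 ⟨hy, by
      rw [CC_zpowers, Subgroup.mem_centralizer_singleton_iff]; exact h⟩)
  have hinv : ∀ t ∈ T, t ∉ Subgroup.zpowers a → t * x * t⁻¹ = x⁻¹ := fun t ht htX =>
    (H9.conj_order_four hx (le_NN_of_normal ⊤ _ trivial)).resolve_left fun e =>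
      htX (hK t ht (mul_inv_eq_iff_eq_mul.1 e))
  have hmul : ∀ s ∈ T, ∀ t ∈ T, s ∉ Subgroup.zpowers a → t ∉ Subgroup.zpowers a →
      s * t ∈ Subgroup.zpowers a := fun s hs t ht h1 h2 => hK _ (mul_mem hs ht) (by
    rw [← mul_inv_eq_iff_eq_mul]
    calc s * t * x * (s * t)⁻¹ = s * (t * x * t⁻¹) * s⁻¹ := by group
      _ = (s * x * s⁻¹)⁻¹ := by rw [hinv t ht h2]; group
      _ = x := by rw [hinv s hs h1, inv_inv])
  have hcj : ∀ (u t : S), t ∉ Subgroup.zpowers a → u * t * u⁻¹ ∉ Subgroup.zpowers a :=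
    fun u t h e => h (by simpa [mul_assoc] using hXn.conj_mem _ e u⁻¹)
  obtain ⟨u, hu, hu1, hux⟩ := hNF _ hxn (by rw [Nat.card_zpowers, hx])
  have hux' : u * x = x * u := (mem_CC.1 hux x (Subgroup.mem_zpowers x)).symm
  have huu : u⁻¹ = u := inv_eq_of_mul_eq_one_right (hU2 u hu)
  have hbi : b⁻¹ = b := inv_eq_of_mul_eq_one_right hbb
  have hc := hmul _ ((inferInstance : T.Normal).conj_mem b (hW hb) u) b (hW hb) (hcj u b hbX) hbX
  have hcz : u * b * u⁻¹ * b = x ^ 2 := by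
    refine (L2 _ hc (L1 u _ hux' hc ?_)).resolve_left fun e => ?_
    · calc u * (u * b * u⁻¹ * b) * u⁻¹ = (u * u) * b * u⁻¹ * b * u⁻¹ := by group
        _ = _ := by rw [hU2 u hu]; simp only [mul_inv_rev, hbi, huu, inv_inv, one_mul, mul_assoc]
    · have hzb : b ∈ CC(Subgroup.zpowers (x ^ 2)) := by
        rw [CC_zpowers, Subgroup.mem_centralizer_singleton_iff]
        exact Subgroup.mem_center_iff.1 hzc b
      have := hC u hu hu1 (Subgroup.zpowers (x ^ 2) ⊔ Subgroup.zpowers b)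
        (sup_le (Subgroup.zpowers_le_of_mem (hXT (pow_mem hxX 2))) (Subgroup.zpowers_le_of_mem (hW hb)))
        (elab_sup (H4.elemAb_zpowers (by have h4 := pow_orderOf_eq_one (x ^ 2); rwa [hz] at h4))
          (H4.elemAb_zpowers (hWe.2 b hb)) (le_CC_symm (Subgroup.zpowers_le_of_mem hzb))) (by
        rw [CC_sup, CC_zpowers, CC_zpowers]
        refine ⟨Subgroup.mem_centralizer_singleton_iff.2 (Subgroup.mem_center_iff.1 hzc u),
          Subgroup.mem_centralizer_singleton_iff.2 ?_⟩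
        rw [← hbi, mul_inv_eq_one] at e
        nth_rw 2 [← e]
        rw [hbi]; group)
      rw [H9.card_sup_zpowers Nat.prime_two (CC_le_NN _ hzb)
        (fun e => hbX (Subgroup.zpowers_le_of_mem (pow_mem hxX 2) e)) (hWe.2 b hb ▸ one_mem _),
        Nat.card_zpowers, hz] at this
      omega
  refine ⟨_, b, u * x, x ^ 2, hXT, ?_, hW hb, hbX, hbb, ?_, ?_, pow_mem hxX 2,
    fun e => by rw [e, orderOf_one] at hz; omega, Subgroup.mem_center_iff.1 hzc, fun s => ?_, L2⟩
  · rw [Subgroup.relIndex_eq_two_iff_exists_notMem_and]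
    exact ⟨b, hW hb, hbX, fun g hg => (em (g ∈ Subgroup.zpowers a)).symm.imp_left
      fun h => hmul g hg b (hW hb) h hbX⟩
  · have h1 := hinv b (hW hb) hbX
    have h2 : b * x = x⁻¹ * b := mul_inv_eq_iff_eq_mul.1 h1
    have h3 : u * b = x ^ 2 * b * u := by
      rw [← hcz]; simp only [mul_assoc, huu]
      rw [← mul_assoc b b, hbb, one_mul, hU2 u hu, mul_one]
    have h4 : x * b = b * x⁻¹ := by
      calc x * b = b * (b * x * b⁻¹) := by rw [hbi]; simp only [← mul_assoc, hbb, one_mul]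
        _ = _ := by rw [h1]
    have h5 : x ^ 2 * x⁻¹ = x := by group
    have h6 : u * x⁻¹ = x⁻¹ * u := (Commute.inv_right (show Commute u x from hux'))
    calc u * x * b = u * b * x⁻¹ := by rw [mul_assoc, h4, mul_assoc]
      _ = b * u * (x ^ 2 * x⁻¹) := by
          rw [h3, ← Subgroup.mem_center_iff.1 hzc b, mul_assoc b, ← Subgroup.mem_center_iff.1 hzc u]
          group
      _ = _ := by rw [h5, mul_assoc]
  · calc u * x * (u * x) = u * (x * u) * x := by group
      _ = _ := by rw [← hux', ← mul_assoc, hU2 u hu, one_mul, pow_two]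
  · obtain ⟨t, ht, v, hv, rfl⟩ := (mem_sup_of_NN' (le_NN_of_normal U T)).1
      (hTU ▸ Subgroup.mem_top s)
    have e : t * v * (t * v) = t * (v * t * v⁻¹) := by
      rw [inv_eq_of_mul_eq_one_right (hU2 v hv)]; group
    rw [e]
    by_cases h : t ∈ Subgroup.zpowers a
    · exact mul_mem h (hXn.conj_mem t h v)
    · exact hmul t ht _ ((inferInstance : T.Normal).conj_mem t ht v) h (hcj v t h)

/-- Let A be a semisimple subgroup (A = E(A)) of a finite group and U a Klein four-group normalizing A. If the subgroup of A generated by the normalizers N_A(V) of the nontrivial subgroups V of U has 2-rank exactly 1, then A has 2-rank exactly 1. -/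
theorem result {G : Type*} [Group G] [Finite G] (A : Subgroup G) (hA : Cfsg.layer ↥A = ⊤)
    (U : Subgroup G) (hU : IsKleinFour U) (hUA : U ≤ Subgroup.normalizer (A : Set G))
    (hΓ : Cfsg.PRankLE 2 1 ↥(⨆ V : {V : Subgroup G // V ≤ U ∧ V ≠ ⊥}, A ⊓ Subgroup.normalizer ((V : Subgroup G) : Set G)) ∧
      ¬ Cfsg.PRankLE 2 0 ↥(⨆ V : {V : Subgroup G // V ≤ U ∧ V ≠ ⊥}, A ⊓ Subgroup.normalizer ((V : Subgroup G) : Set G))) :
    Cfsg.PRankLE 2 1 A ∧ ¬ Cfsg.PRankLE 2 0 A := by
  set Γ := ⨆ V : {V : Subgroup G // V ≤ U ∧ V ≠ ⊥}, A ⊓ NN((V : Subgroup G)) with hΓd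
  have hΓA : Γ ≤ A := iSup_le fun V => inf_le_left
  have key : ∀ {L V : Subgroup G} {k : ℕ}, PRankLE 2 k L → V ≤ L → IsElementaryAbelian 2 V →
      Nat.card V ≤ 2 ^ k := fun {L V k} h h1 h2 => by
    rw [← card_subgroupOf_of_le h1]
    exact h _ (elab_subgroupOf h2 L).1 (elab_subgroupOf h2 L).2
  refine ⟨fun W₀ h1 h2 => by_contra fun hW4 => ?_, fun h => hΓ.2 fun W₀ h1 h2 => ?_⟩
  swap
  · rw [← card_map_subtype]
    exact key h ((Subgroup.map_subtype_le _).trans hΓA) (elab_map _ ⟨h1, h2⟩)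
  have hU2 : ∀ u ∈ U, u * u = 1 := fun u hu => congrArg Subtype.val (IsKleinFour.mul_self (⟨u, hu⟩ : U))
  have hUp : IsPGroup 2 U := isPGroup_iff_mem.2 fun u hu => ⟨1, by rw [pow_one, pow_two, hU2 u hu]⟩
  have hn : A ⊔ U ≤ NN(A) := sup_le (le_NN_self A) hUA
  obtain ⟨S, hS, hUS⟩ := exists_isSylowIn_ge hUp (le_sup_right : U ≤ A ⊔ U)
  have hT := hS.inf_normal le_sup_left hn
  have hW₀ := elab_map A.subtype (⟨h1, h2⟩ : IsElementaryAbelian 2 W₀)
  obtain ⟨g₀, -, hg₀⟩ := hT.exists_cj_le (elab_isPGroup hW₀) (Subgroup.map_subtype_le _)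
  have := normal_subgroupOf (hS.le.trans hn)
  obtain ⟨X, b, w, z, hXT, hi, hb, hbX, hbb, hwb, hwz, hzX, hz1, hzc, hsq, huniq⟩ :=
    two hS.isPGroup (A.subgroupOf S) (U.subgroupOf S) ((cj g₀ (W₀.map A.subtype)).subgroupOf S)
    (by rw [card_subgroupOf_of_le hUS, hU.card_four]) (fun u hu => Subtype.ext (hU2 u hu))
    (eq_top_iff.2 fun s _ => by
      obtain ⟨t, ht, v, hv, e⟩ := (mem_sup_of_NN' hUA).1 (hS.le s.2)
      have htS : t ∈ S := (mul_mem_cancel_right (hUS hv)).1 (e ▸ s.2)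
      rw [show s = ⟨t, htS⟩ * ⟨v, hUS hv⟩ from Subtype.ext e.symm]
      exact Subgroup.mul_mem_sup ht hv)
    (fun x hx => (hg₀ hx).2) (elab_subgroupOf (elab_cj _ hW₀) S)
    (by rw [card_subgroupOf_of_le (hg₀.trans inf_le_left), card_cj, card_map_subtype]; omega)
    (fun u hu hu1 V hV hVe huV => by
      rw [← card_map_subtype]
      refine key hΓ.1 (le_trans ?_ (le_iSup _ ⟨Subgroup.zpowers (u : G),
        Subgroup.zpowers_le_of_mem hu, fun e => hu1 (Subtype.ext (Subgroup.zpowers_eq_bot.1 e))⟩))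
        (elab_map _ hVe)
      rintro _ ⟨v, hv, rfl⟩
      refine ⟨hV hv, CC_le_NN _ ?_⟩
      rw [CC_zpowers, Subgroup.mem_centralizer_singleton_iff]
      exact congrArg Subtype.val (mem_CC.1 huV v hv))
  have hperf : ⁅A, A⁆ = A := by
    have := H5.layerOf_perfect A
    rwa [H5.layerOf, hA, map_top_subtype] at this
  have hres : pResidual 2 A = ⊤ := by
    rw [← resOf_subgroupOf, resOf_eq_of_perfect hperf, Subgroup.subgroupOf_self]
  have hXle : X.map S.subtype ≤ S ⊓ A := by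
    rintro _ ⟨x, hx, rfl⟩
    exact ⟨x.2, hXT hx⟩
  have hmem : ∀ x : S, (x : G) ∈ X.map S.subtype → x ∈ X := by
    rintro x ⟨y, hy, e⟩
    rwa [← Subtype.ext e]
  obtain ⟨g, hg, -⟩ := thompson_transfer_two hres (isSylowIn_subgroupOf_top hT)
    (T := (X.map S.subtype).subgroupOf A) (y := ⟨b, hb⟩) (by
      rw [Subgroup.relIndex_subgroupOf inf_le_right, ← hi, inf_comm, ← Subgroup.subgroupOf_map_subtype,
        Subgroup.relIndex_map_map_of_injective _ _ S.subtype_injective])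
    ⟨b.2, hb⟩ (Subtype.ext (show (b : G) * b = 1 from congrArg Subtype.val hbb)) (fun e => hbX (hmem b e)) (R := ⊥)
    IsPGroup.of_bot bot_le
  obtain ⟨c, hc, hce⟩ := hg.2
  have hce' : (c : G) = g * b * (g : G)⁻¹ := hce
  have hcz : (c : G) = z := by
    refine congrArg Subtype.val ((huniq c hc (Subtype.ext ?_)).resolve_left fun e => hbX ?_)
    · have : (b : G) * b = 1 := congrArg Subtype.val hbb
      show (c : G) * c = 1
      rw [hce']
      calc _ = (g : G) * (b * b) * (g : G)⁻¹ := by group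
        _ = 1 := by rw [this]; group
    · rw [e] at hce'
      have : (b : G) = 1 := by
        calc (b : G) = (g : G)⁻¹ * (g * b * (g : G)⁻¹) * g := by group
          _ = 1 := by rw [← hce']; simp
      rw [show b = 1 from Subtype.ext this]
      exact one_mem _
  have hSz : S ≤ (A ⊔ U) ⊓ Subgroup.centralizer {(z : G)} := le_inf hS.le fun s hs =>
    Subgroup.mem_centralizer_singleton_iff.2 (congrArg Subtype.val (hzc ⟨s, hs⟩))
  have hwb' : (w : G) * b = b * w := congrArg Subtype.val hwb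
  obtain ⟨h, hh, hle⟩ := (hS.of_le hSz inf_le_left).exists_cj_le
    (P := cj (g : G) (Subgroup.zpowers (w : G)))
    (isPGroup_cj _ (hS.isPGroup.to_le (Subgroup.zpowers_le_of_mem w.2))) (by
      rw [cj_zpowers, Subgroup.zpowers_le]
      refine ⟨conj_mem_of_mem_NN (le_NN_self _ (Subgroup.mem_sup_left g.2)) (hS.le w.2),
        Subgroup.mem_centralizer_singleton_iff.2 ?_⟩
      rw [← hcz, hce']
      calc _ = (g : G) * (w * b) * (g : G)⁻¹ := by group
        _ = _ := by rw [hwb']; group)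
  have hw' := hle (conj_mem_cj (conj_mem_cj (Subgroup.mem_zpowers (w : G))))
  have hwz' : (w : G) * w = z := congrArg Subtype.val hwz
  have hzz : (z : G) * z = 1 := by
    rw [← hcz, hce']
    calc _ = (g : G) * (b * b) * (g : G)⁻¹ := by group
      _ = 1 := by rw [show (b : G) * b = 1 from congrArg Subtype.val hbb]; group
  have e1 : h * (g * w * (g : G)⁻¹) * h⁻¹ * (h * (g * w * (g : G)⁻¹) * h⁻¹) =
      h * (g * z * (g : G)⁻¹) * h⁻¹ := by rw [← hwz']; group
  have hhz := Subgroup.mem_centralizer_singleton_iff.1 hh.2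
  rcases huniq _ (hsq ⟨_, hw'⟩) (Subtype.ext (by
    show _ * _ * (_ * _) = (1 : G)
    rw [e1]
    calc _ = h * (g * ((z : G) * z) * (g : G)⁻¹) * h⁻¹ := by group
      _ = 1 := by rw [hzz]; group)) with e | e
  · have e2 : h * (g * z * (g : G)⁻¹) * h⁻¹ = 1 := e1 ▸ congrArg Subtype.val e
    refine hz1 (Subtype.ext ?_)
    calc (z : G) = (g : G)⁻¹ * (h⁻¹ * (h * (g * z * (g : G)⁻¹) * h⁻¹) * h) * g := by group
      _ = 1 := by rw [e2]; group
  · have e2 : h * (g * z * (g : G)⁻¹) * h⁻¹ = z := e1 ▸ congrArg Subtype.val e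
    refine hbX (Subtype.ext (?_ : (z : G) = b) ▸ hzX)
    have e3 : (g : G) * z * (g : G)⁻¹ = g * b * (g : G)⁻¹ := by
      rw [← hce', hcz]
      calc _ = h⁻¹ * (h * (g * z * (g : G)⁻¹) * h⁻¹) * h := by group
        _ = _ := by rw [e2, mul_assoc, ← hhz]; group
    simpa using e3

end Cfsg.Agent.S1915
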