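import Cfsg.Statements.S1916
import Cfsg.Agent.H17.Od
import Cfsg.Agent.Lead.GW

set_option autoImplicit false
open Cfsg

namespace Cfsg.Agent.S1916

open H17 Cfsg

open H16 in
theorem nf {G : Type*} [Group G] [Finite G] {L : Subgroup G} {a : G} (h : a ∈ Subgroup.normalizer (L : Set G))
    (hC : ∀ R : Sylow 2 ↥(L ⊓ Subgroup.centralizer ({a} : Set G)), IsCyclic R) (x y : L) (h1 : H4.Four x y)
    (h2 : L.normalizerMonoidHom ⟨a, h⟩ x = x) : L.normalizerMonoidHom ⟨a, h⟩ y ≠ y := fun h3 =>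
  h1.ne (Subtype.ext (H5.eq_of_cyclic_sylow hC (by rw [Subgroup.orderOf_coe, h1.oa])
    (by rw [Subgroup.orderOf_coe, h1.ob]) (congrArg Subtype.val h1.comm)
    ⟨x.2, mem_cent1.2 (mul_inv_eq_iff_eq_mul.1 (congrArg Subtype.val h2)).symm⟩
    ⟨y.2, mem_cent1.2 (mul_inv_eq_iff_eq_mul.1 (congrArg Subtype.val h3)).symm⟩))

/-- Let L be a non-abelian simple subgroup of a finite group with dihedral Sylow 2-subgroups, and a, b two distinct commuting involutions normalizing L such that C_L(a) and C_L(b) have cyclic Sylow 2-subgroups and L is not contained in the subgroup generated by a, b, C_L(a) and C_L(b). Then ab centralizes L. -/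
theorem result {G : Type*} [Group G] [Finite G] (L : Subgroup G) (hL : IsSimpleGroup L) (hLn : ¬ IsMulCommutative L)
    (hD : ∀ P : Sylow 2 L, ∃ n : ℕ, Nonempty (↥(P : Subgroup L) ≃* DihedralGroup n))
    (a b : G) (ha : orderOf a = 2) (hb : orderOf b = 2) (hab : a ≠ b) (hc : a * b = b * a)
    (haL : a ∈ Subgroup.normalizer (L : Set G)) (hbL : b ∈ Subgroup.normalizer (L : Set G))
    (hCa : ∀ R : Sylow 2 ↥(L ⊓ Subgroup.centralizer ({a} : Set G)), IsCyclic R)
    (hCb : ∀ R : Sylow 2 ↥(L ⊓ Subgroup.centralizer ({b} : Set G)), IsCyclic R)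
    (hgen : ¬ L ≤ Subgroup.closure ({a, b} : Set G) ⊔ (L ⊓ Subgroup.centralizer ({a} : Set G)) ⊔ (L ⊓ Subgroup.centralizer ({b} : Set G))) :
    a * b ∈ Subgroup.centralizer (L : Set G) := by
  haveI := Fact.mk Nat.prime_two
  obtain ⟨S⟩ : Nonempty (Sylow 2 L) := inferInstance
  obtain ⟨n, ⟨e⟩⟩ := hD S
  set H := Subgroup.closure ({a, b} : Set G) ⊔ (L ⊓ Subgroup.centralizer ({a} : Set G)) ⊔
    (L ⊓ Subgroup.centralizer ({b} : Set G))
  have k : ∀ c (h : c ∈ Subgroup.normalizer (L : Set G)), orderOf c = 2 →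
      L.normalizerMonoidHom ⟨c, h⟩ * L.normalizerMonoidHom ⟨c, h⟩ = 1 := fun c h o => by
    rw [← map_mul, ← map_one L.normalizerMonoidHom]
    exact congrArg _ (Subtype.ext (H4.sq_of_ord2 o))
  have k1 : ∀ c (h : c ∈ Subgroup.normalizer (L : Set G)), c ∈ Subgroup.closure ({a, b} : Set G) →
      ∀ x ∈ H.subgroupOf L, L.normalizerMonoidHom ⟨c, h⟩ x ∈ H.subgroupOf L := fun c h o x hx =>
    H.mul_mem (H.mul_mem (Subgroup.mem_sup_left (Subgroup.mem_sup_left o)) hx)
      (H.inv_mem (Subgroup.mem_sup_left (Subgroup.mem_sup_left o)))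
  have h := H17.Od.aut_eq hL hLn (GW.known hL hLn (GW.dih_of_sylow S e)) (k a haL ha) (k b hbL hb) (nf haL hCa)
    (nf hbL hCb) (K := H.subgroupOf L) (fun e => hgen (Subgroup.subgroupOf_eq_top.1 e))
    (fun x hx => Subgroup.mem_sup_left (Subgroup.mem_sup_right
      ⟨x.2, H16.mem_cent1.2 (mul_inv_eq_iff_eq_mul.1 (congrArg Subtype.val hx)).symm⟩))
    (fun x hx => Subgroup.mem_sup_right
      ⟨x.2, H16.mem_cent1.2 (mul_inv_eq_iff_eq_mul.1 (congrArg Subtype.val hx)).symm⟩)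
    (k1 a haL (Subgroup.subset_closure (by simp))) (k1 b hbL (Subgroup.subset_closure (by simp)))
  intro x hx
  have h2 : L.normalizerMonoidHom (⟨a, haL⟩ * ⟨b, hbL⟩) = 1 := by rw [map_mul, h, k b hbL hb]
  exact (mul_inv_eq_iff_eq_mul.1 (congrArg Subtype.val (DFunLike.congr_fun h2 ⟨x, hx⟩))).symm

end Cfsg.Agent.S1916
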