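import Cfsg.Statements.S1921
import Cfsg.Agent.H5.Std

set_option autoImplicit false
open Cfsg

namespace Cfsg.Agent.S1921

/-- Let a be an involution of a finite group H and L a component of H with a L a⁻¹ ≠ L; put M = ⟨L, aLa⁻¹⟩ and let J be the subgroup generated by the elements x · a x a⁻¹ with x ∈ L (the diagonal). Then every element of M outside J·Z(M) generates M together with J. -/
theorem result {H : Type*} [Group H] [Finite H] (a : H) (ha : orderOf a = 2) (L : Subgroup H) (hL : Cfsg.IsComponent L)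
    (hLa : L.map (MulAut.conj a).toMonoidHom ≠ L) (x : H) (hxM : x ∈ L ⊔ L.map (MulAut.conj a).toMonoidHom)
    (hxJ : x ∉ Subgroup.closure {y : H | ∃ l ∈ L, y = l * (a * l * a⁻¹)} ⊔
      ((L ⊔ L.map (MulAut.conj a).toMonoidHom) ⊓ Subgroup.centralizer ((L ⊔ L.map (MulAut.conj a).toMonoidHom : Subgroup H) : Set H))) :
    Subgroup.closure {y : H | ∃ l ∈ L, y = l * (a * l * a⁻¹)} ⊔ Subgroup.zpowers x = L ⊔ L.map (MulAut.conj a).toMonoidHom := by
  have hc := H5.compOf_top_iff.2 hL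
  have hc' := hc.cj_of_mem (Subgroup.le_normalizer (Subgroup.mem_top a))
  have h0 : ⁅L, H5.cj a L⁆ = ⊥ := hc.commutator_eq_bot hc' (Ne.symm hLa)
  have hC : H5.cj a L ≤ Subgroup.centralizer (L : Set H) := H5.commutator_eq_bot_iff'.1 h0
  set J := Subgroup.closure {y : H | ∃ l ∈ L, y = l * (a * l * a⁻¹)} with hJ
  have hJm : ∀ l ∈ L, l * (a * l * a⁻¹) ∈ J := fun l hl => Subgroup.subset_closure ⟨l, hl, rfl⟩
  have hJle : J ≤ L ⊔ H5.cj a L := (Subgroup.closure_le _).2 (by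
    rintro _ ⟨l, hl, rfl⟩
    exact mul_mem (Subgroup.mem_sup_left hl) (Subgroup.mem_sup_right (H5.conj_mem_cj hl)))
  refine le_antisymm (sup_le hJle ((Subgroup.zpowers_le).2 hxM)) ?_
  obtain ⟨l, hl, m', hm', rfl⟩ := (H5.mem_sup_of_le_normalizer' (H5.le_normalizer_of_le_centralizer hC)).1 hxM
  obtain ⟨m, hm, rfl⟩ : ∃ m ∈ L, m' = a * m * a⁻¹ := ⟨a⁻¹ * m' * a, H5.mem_cj.1 hm', by group⟩
  set Y := J ⊔ Subgroup.zpowers (l * (a * m * a⁻¹)) with hY
  have hy : l * m⁻¹ ∈ Y := by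
    have : l * m⁻¹ = l * (a * m * a⁻¹) * (m * (a * m * a⁻¹))⁻¹ := by group
    rw [this]
    exact mul_mem (Subgroup.mem_sup_right (Subgroup.mem_zpowers _))
      (inv_mem (Subgroup.mem_sup_left (hJm m hm)))
  have hn : L ≤ Subgroup.normalizer ((Y ⊓ L : Subgroup H) : Set H) := by
    refine H5.le_normalizer_iff_cj.2 fun g hg z hz => ?_
    obtain ⟨w, hw, rfl⟩ : ∃ w ∈ Y ⊓ L, z = g * w * g⁻¹ := ⟨g⁻¹ * z * g, H5.mem_cj.1 hz, by group⟩
    refine ⟨?_, L.mul_mem (L.mul_mem hg hw.2) (L.inv_mem hg)⟩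
    have h1 := hC (H5.conj_mem_cj (g := a) hg) w hw.2
    have : g * w * g⁻¹ = g * (a * g * a⁻¹) * w * (g * (a * g * a⁻¹))⁻¹ := by
      rw [mul_assoc g (a * g * a⁻¹) w, ← h1]; group
    rw [this]
    have h2 : g * (a * g * a⁻¹) ∈ Y := Subgroup.mem_sup_left (hJm g hg)
    exact Y.mul_mem (Y.mul_mem h2 hw.1) (Y.inv_mem h2)
  rcases H5.qs_normal hc.qs inf_le_right hn with e | e
  · have hLY : L ≤ Y := e.ge.trans inf_le_left
    refine sup_le hLY fun z hz => ?_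
    obtain ⟨w, hw, rfl⟩ : ∃ w ∈ L, z = a * w * a⁻¹ := ⟨a⁻¹ * z * a, H5.mem_cj.1 hz, by group⟩
    have : a * w * a⁻¹ = w⁻¹ * (w * (a * w * a⁻¹)) := by group
    rw [this]
    exact Y.mul_mem (Y.inv_mem (hLY hw)) (Subgroup.mem_sup_left (hJm w hw))
  · exfalso
    have hlm : l * m⁻¹ ∈ L := mul_mem hl (inv_mem hm)
    have : l * (a * m * a⁻¹) = (l * m⁻¹) * (m * (a * m * a⁻¹)) := by group
    refine hxJ ?_
    rw [this]
    refine mul_mem (Subgroup.mem_sup_right ⟨Subgroup.mem_sup_left hlm, ?_⟩)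
      (Subgroup.mem_sup_left (hJm m hm))
    change l * m⁻¹ ∈ Subgroup.centralizer ((L ⊔ H5.cj a L : Subgroup H) : Set H)
    rw [H5.centralizer_sup]
    exact ⟨e ⟨hy, hlm⟩, Subgroup.le_centralizer_iff.1 hC hlm⟩

end Cfsg.Agent.S1921
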