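import Cfsg.Statements.S1922
import Cfsg.Agent.H10.Act
import Cfsg.Agent.H6.Count

set_option autoImplicit false
open Cfsg

namespace Cfsg.Agent.S1922

theorem parity {G : Type*} [Group G] [Finite G] {c : G} (hc : c * c = 1) (A : Set G)
    (h : ∀ a ∈ A, c * a * c⁻¹ ∈ A) : A.ncard ≡ {a | a ∈ A ∧ Commute c a}.ncard [MOD 2] := by
  classical
  letI := Fintype.ofFinite G
  let f : Function.End A := fun a => ⟨_, h a a.2⟩
  have := Equiv.Perm.card_fixedPoints_modEq (f := f) (p := 2) (n := 1) (funext fun a => Subtype.ext (by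
    show c * (c * a * c⁻¹) * c⁻¹ = a
    calc _ = (c * c) * a * (c * c)⁻¹ := by group
      _ = a := by rw [hc]; simp))
  rw [← Nat.card_eq_fintype_card, ← Nat.card_eq_fintype_card, Nat.card_coe_set_eq] at this
  rw [← Nat.card_coe_set_eq {a | a ∈ A ∧ Commute c a}]
  refine this.trans (by
    rw [Nat.card_congr (β := {a | a ∈ A ∧ Commute c a})
      ⟨fun a => ⟨a.1.1, a.1.2, mul_inv_eq_iff_eq_mul.1 (congrArg Subtype.val a.2)⟩,
        fun a => ⟨⟨a.1, a.2.1⟩, Subtype.ext (mul_inv_eq_iff_eq_mul.2 a.2.2)⟩, fun _ => rfl, fun _ => rfl⟩])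

theorem dih {G : Type*} [Group G] {z d e : G} (hd2 : d * d = 1) (he2 : e * e = 1) (hd : IsConj z d)
    (he : IsConj z e) (m : ℕ) : (d * e) ^ m * d = d * ((d * e) ^ m)⁻¹ ∧ IsConj z ((d * e) ^ m * d) := by
  have h1 : ∀ m : ℕ, (d * e) ^ m * d = d * ((d * e) ^ m)⁻¹ := fun m => by
    have : d⁻¹ * (d * e) * d⁻¹⁻¹ = (d * e)⁻¹ := by
      rw [inv_mul_cancel_left, mul_inv_rev, inv_inv, inv_eq_of_mul_eq_one_right he2,
        inv_eq_of_mul_eq_one_right hd2]
    rw [← inv_pow, ← this, conj_pow]; group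
  refine ⟨h1 m, ?_⟩
  have h2 : ∀ j : ℕ, d * ((d * e) ^ j)⁻¹ = (d * e) ^ j * d := fun j => (h1 j).symm
  rcases Nat.even_or_odd' m with ⟨j, rfl | rfl⟩
  · exact hd.trans (isConj_iff.2 ⟨(d * e) ^ j, by rw [mul_assoc, h2, two_mul, pow_add, mul_assoc]⟩)
  · refine he.trans (isConj_iff.2 ⟨(d * e) ^ j * d, ?_⟩)
    rw [mul_inv_rev, inv_eq_of_mul_eq_one_right hd2, h2, two_mul, add_assoc, pow_add, pow_succ']
    simp only [mul_assoc]

/-- Let z be an involution of a finite group G and H a proper subgroup such that z lies in gHg⁻¹ exactly when g ∈ H. Then the following are equivalent: (1) for every conjugate t ≠ z of z commuting with z, the product zt lies in gHg⁻¹ exactly when g ∈ H; (2) z lies in the centre of some Sylow 2-subgroup of G, and for every conjugate t ≠ z of z commuting with z, the centralizer of zt is contained in H. -/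
theorem result {G : Type*} [Group G] [Finite G] (z : G) (hz : orderOf z = 2) (H : Subgroup G) (hH : H ≠ ⊤)
    (h0 : ∀ g : G, z ∈ H.map (MulAut.conj g).toMonoidHom ↔ g ∈ H) :
    (∀ t : G, IsConj z t → t ≠ z → t * z = z * t → ∀ g : G, z * t ∈ H.map (MulAut.conj g).toMonoidHom ↔ g ∈ H) ↔
      ((∃ P : Sylow 2 G, z ∈ (Subgroup.center ↥(P : Subgroup G)).map (P : Subgroup G).subtype) ∧
        ∀ t : G, IsConj z t → t ≠ z → t * z = z * t → Subgroup.centralizer ({z * t} : Set G) ≤ H) := by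
  have tr : ∀ x g : G, x ∈ H.map (MulAut.conj g).toMonoidHom ↔ x • (g : G ⧸ H) = g := fun x g => by
    rw [H10.cj_def, H10.mem_cj, MulAction.Quotient.smul_mk, eq_comm, QuotientGroup.eq, smul_eq_mul,
      mul_assoc]
  have tr' : ∀ g : G, g ∈ H ↔ (g : G ⧸ H) = (1 : G) := fun g => by
    rw [eq_comm, QuotientGroup.eq, inv_one, one_mul]
  have hzH : z ∈ H := by simpa using (h0 1).2 H.one_mem
  have hCH : ∀ x c : G, x ∈ H → (∀ g : G, x ∈ H.map (MulAut.conj g).toMonoidHom → g ∈ H) →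
      Commute x c → c ∈ H := fun x c hx h hc => h c ⟨x, hx, mul_inv_eq_iff_eq_mul.2 hc.symm⟩
  have hz2 : ∀ {d}, IsConj z d → d * d = 1 := fun h => by
    obtain ⟨g, rfl⟩ := isConj_iff.1 h
    rw [conj_mul, ← sq, ← hz, pow_orderOf_eq_one]; simp
  let U : G → Prop := fun x => ∀ a b : G ⧸ H, x • a = a → x • b = b → a = b
  have Uc : ∀ x g, U x → U (g * x * g⁻¹) := fun x g h a b ha hb => by
    rw [mul_smul, mul_smul, smul_eq_iff_eq_inv_smul] at ha hb
    exact smul_left_cancel _ (h _ _ ha hb)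
  have U0 : ∀ x, (∀ g : G, x ∈ H.map (MulAut.conj g).toMonoidHom → g ∈ H) → U x := fun x h a b ha hb => by
    obtain ⟨a, rfl⟩ := QuotientGroup.mk_surjective a
    obtain ⟨b, rfl⟩ := QuotientGroup.mk_surjective b
    rw [(tr' a).1 (h a ((tr x a).2 ha)), (tr' b).1 (h b ((tr x b).2 hb))]
  have UD : ∀ {d}, IsConj z d → U d := fun h => by
    obtain ⟨g, rfl⟩ := isConj_iff.1 h
    exact Uc _ _ (U0 z fun g => (h0 g).1)
  have Ucomm : ∀ {x c : G} {a : G ⧸ H}, U x → Commute x c → x • a = a → c • a = a :=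
    fun h hc ha => h _ _ (by rw [← mul_smul, hc.eq, mul_smul, ha]) ha
  have hzα : z • ((1 : G) : G ⧸ H) = (1 : G) := (tr z 1).1 ((h0 1).2 H.one_mem)
  refine ⟨fun h1 => ⟨?_, fun t ht hne hc c hc' => hCH (z * t) c (by simpa using (h1 t ht hne hc 1).2 H.one_mem)
    (fun g => (h1 t ht hne hc g).1) (Subgroup.mem_centralizer_singleton_iff.1 hc').symm⟩, ?_⟩
  · have UP : ∀ {d e}, IsConj z d → IsConj z e → e ≠ d → Commute d e → U (d * e) := by
      intro d e hd he hne hc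
      obtain ⟨g, rfl⟩ := isConj_iff.1 hd
      obtain ⟨t, rfl⟩ := (MulAut.conj g).surjective e
      rw [MulAut.conj_apply, conj_mul]
      exact Uc _ _ (U0 _ fun x => (h1 t (he.trans (isConj_iff.2 ⟨g, rfl⟩).symm) (fun e => hne (e ▸ rfl))
        ((MulAut.conj g).injective (by rw [map_mul, map_mul]; exact hc.symm)) x).1)
    have LA : ∀ {d e}, IsConj z d → IsConj z e → ¬ Odd (orderOf (d * e)) →
        ∃ m : ℕ, U ((d * e) ^ m) ∧ Commute d ((d * e) ^ m) ∧ Commute e ((d * e) ^ m) := by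
      intro d e hd he h
      obtain ⟨m, hm⟩ := Nat.not_odd_iff_even.1 h
      have hpos := orderOf_pos (d * e)
      have h2 : ((d * e) ^ m)⁻¹ = (d * e) ^ m :=
        inv_eq_of_mul_eq_one_right (by rw [← pow_add, ← hm, pow_orderOf_eq_one])
      obtain ⟨h3, h4⟩ := dih (hz2 hd) (hz2 he) hd he m
      rw [h2] at h3
      have h5 : Commute d ((d * e) ^ m) := h3.symm
      refine ⟨m, ?_, h5, ?_⟩
      · have := UP h4 hd (fun e => pow_ne_one_of_lt_orderOf (by omega) (by omega) (right_eq_mul.1 e))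
          (h5.symm.mul_left (Commute.refl d))
        rwa [mul_assoc, hz2 hd, mul_one] at this
      · simpa using h5.inv_left.mul_left ((Commute.refl (d * e)).pow_right m)
    obtain ⟨g, -, hg⟩ := SetLike.exists_of_lt (lt_top_iff_ne_top.2 hH)
    have hαβ : ((1 : G) : G ⧸ H) ≠ g := fun e => hg ((tr' g).2 e.symm)
    have he0 : IsConj z (g * z * g⁻¹) := isConj_iff.2 ⟨g, rfl⟩
    have he0' : (g * z * g⁻¹) • (g : G ⧸ H) = g := (tr _ g).1 ⟨z, hzH, rfl⟩
    generalize (g : G ⧸ H) = β at *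
    generalize ((1 : G) : G ⧸ H) = α at *
    generalize g * z * g⁻¹ = e0 at *
    let X := {s | IsConj z s ∧ s • α = β}
    let Y := {e | IsConj z e ∧ e • β = β}
    have hsw : ∀ s ∈ X, s • β = α := fun s hs => by rw [← hs.2, ← mul_smul, hz2 hs.1, one_smul]
    have LC : ∀ s ∈ X, ∀ s' ∈ X, Commute s' (s * s') → s = s' := fun s hs s' hs' hc => by
      have hodd : Odd (orderOf (s * s')) := by
        by_contra h
        obtain ⟨m, h2, -⟩ := LA hs.1 hs'.1 h
        refine hαβ (h2 _ _ ?_ ?_) <;> refine MulAction.mem_stabilizer_iff.1 (pow_mem ?_ m)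
        · rw [MulAction.mem_stabilizer_iff, mul_smul, hs'.2, hsw s hs]
        · rw [MulAction.mem_stabilizer_iff, mul_smul, hsw s' hs', hs.2]
      have h2 : (s * s') ^ 2 = 1 := by
        rw [sq, mul_assoc, hc.eq, mul_assoc s s' s', hz2 hs'.1, mul_one, hz2 hs.1]
      have h3 : orderOf (s * s') = 1 := by
        have := Nat.le_of_dvd two_pos (orderOf_dvd_of_pow_eq_one h2)
        obtain ⟨k, hk⟩ := hodd
        omega
      rw [eq_inv_of_mul_eq_one_left (orderOf_eq_one_iff.1 h3), inv_eq_of_mul_eq_one_right (hz2 hs'.1)]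
    have LS : ∀ e ∈ Y, ∃ s ∈ X, s * z * s⁻¹ = e ∧ ∀ y, Commute z y → Commute e y → Commute s y := by
      intro e he
      obtain ⟨j, hj⟩ : Odd (orderOf (z * e)) := by
        by_contra h
        obtain ⟨m, h2, h3, h4⟩ := LA (IsConj.refl z) he.1 h
        exact hαβ (h2 _ _ (Ucomm (UD (IsConj.refl z)) h3 hzα) (Ucomm (UD he.1) h4 he.2))
      obtain ⟨h3, h4⟩ := dih (hz2 (IsConj.refl z)) (hz2 he.1) (IsConj.refl z) he.1 j
      have h5 : (z * e) ^ j * z * z * ((z * e) ^ j * z)⁻¹ = e := by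
        have h6 : (z * e) ^ j * (z * e) ^ j * (z * e) = 1 := by
          rw [← pow_add, ← pow_succ, ← two_mul, ← hj, pow_orderOf_eq_one]
        rw [mul_inv_rev, ← mul_assoc, mul_inv_cancel_right, mul_assoc, ← h3, ← mul_assoc,
          eq_inv_of_mul_eq_one_left h6, mul_inv_rev, inv_mul_cancel_right,
          inv_eq_of_mul_eq_one_right (hz2 he.1)]
      refine ⟨_, ⟨h4, UD he.1 _ _ ?_ he.2⟩, h5, fun y h h' => ((h.mul_left h').pow_left j).mul_left h⟩
      generalize (z * e) ^ j * z = s at *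
      rw [← h5, mul_smul, mul_smul, inv_smul_smul, hzα]
    have hXY : X.ncard = Y.ncard := Set.ncard_congr (fun s _ => s * z * s⁻¹)
      (fun s hs => ⟨isConj_iff.2 ⟨s, rfl⟩, by
        rw [← hs.2, mul_smul, mul_smul, inv_smul_smul, hzα]⟩)
      (fun s s' hs hs' e => by
        have key : ∀ s ∈ X, ∀ s' ∈ X, s * z * s⁻¹ = s' * z * s'⁻¹ →
            (∀ y, Commute z y → Commute (s' * z * s'⁻¹) y → Commute s' y) → s = s' := by
          intro s hs s' hs' e h
          have i1 := inv_eq_of_mul_eq_one_right (hz2 hs.1)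
          have i2 := inv_eq_of_mul_eq_one_right (hz2 hs'.1)
          refine LC s hs s' hs' (h _ ?_ ?_)
          · calc z * (s * s') = s⁻¹ * (s * z * s⁻¹) * s * s * s' := by group
              _ = s⁻¹ * (s' * z) * (s'⁻¹ * (s * s) * s') := by rw [e]; group
              _ = _ := by rw [hz2 hs.1, i1, mul_one, inv_mul_cancel, mul_one, mul_assoc]
          · calc s' * z * s'⁻¹ * (s * s') = s * z * s' := by rw [← e]; group
              _ = s * (s' * s') * z * s' := by rw [hz2 hs'.1, mul_one]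
              _ = _ := by rw [i2]; group
        obtain ⟨s0, hs0, e0, h0⟩ := LS (s * z * s⁻¹) ⟨isConj_iff.2 ⟨s, rfl⟩, by
          rw [← hs.2, mul_smul, mul_smul, inv_smul_smul, hzα]⟩
        rw [key s hs s0 hs0 e0.symm (e0 ▸ h0), key s' hs' s0 hs0 (e.symm.trans e0.symm) (e0 ▸ h0)])
      fun e he => let ⟨s, hs, h, _⟩ := LS e he; ⟨s, hs, h⟩
    obtain ⟨s0, hs0, -⟩ := LS e0 ⟨he0, he0'⟩
    have p1 := parity (hz2 hs0.1) X fun a ha => ⟨ha.1.trans (isConj_iff.2 ⟨s0, rfl⟩), by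
      rw [mul_smul, mul_smul, inv_eq_of_mul_eq_one_right (hz2 hs0.1), hs0.2, hsw a ha, hs0.2]⟩
    rw [show {a | a ∈ X ∧ Commute s0 a} = {s0} from Set.ext fun a => ⟨fun h => LC a h.1 s0 hs0
      (h.2.mul_right (Commute.refl _)), by rintro rfl; exact ⟨hs0, Commute.refl _⟩⟩, Set.ncard_singleton,
      hXY] at p1
    have p2 := parity (hz2 he0) Y fun a ha => ⟨ha.1.trans (isConj_iff.2 ⟨e0, rfl⟩), by
      rw [mul_smul, mul_smul, inv_eq_of_mul_eq_one_right (hz2 he0), he0', ha.2, he0']⟩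
    have p3 := parity (hz2 he0) {d | IsConj z d} fun a ha => ha.trans (isConj_iff.2 ⟨e0, rfl⟩)
    rw [show {a | a ∈ {d | IsConj z d} ∧ Commute e0 a} = {a | a ∈ Y ∧ Commute e0 a} from
      Set.ext fun a => ⟨fun h => ⟨⟨h.1, Ucomm (UD he0) h.2 he0'⟩, h.2⟩, fun h => ⟨h.1.1, h.2⟩⟩,
      ← Nat.card_coe_set_eq] at p3
    have p4 : (Subgroup.centralizer {z}).index ≡ 1 [MOD 2] := by
      rw [H6.index_centralizer]; exact p3.trans (p2.symm.trans p1)
    obtain ⟨T, hT⟩ := H10.exists_isSylowIn 2 (Subgroup.centralizer {z})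
    obtain ⟨P, rfl⟩ := (H10.isSylowIn_of_not_dvd le_top hT.isPGroup (by
      rw [Subgroup.relIndex_top_right, ← Subgroup.relIndex_mul_index hT.le]
      exact Nat.prime_two.not_dvd_mul hT.not_dvd_relIndex (by unfold Nat.ModEq at p4; omega))).exists_sylow_top
    have hzP : z ∈ (P : Subgroup G) := hT.le_of_NN (H10.isPGroup_zpowers_of_orderOf_eq hz)
      (Subgroup.zpowers_le.2 (Subgroup.mem_centralizer_singleton_iff.2 rfl))
      ((H10.CC_zpowers z ▸ hT.le).trans (H10.CC_le_NN _)) (Subgroup.mem_zpowers z)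
    exact ⟨P, ⟨z, hzP⟩, Subgroup.mem_center_iff.2 fun x => Subtype.ext
      (Subgroup.mem_centralizer_singleton_iff.1 (hT.le x.2)), rfl⟩
  · rintro ⟨⟨P, ⟨z', hzP⟩, hzc, hz'⟩, h2⟩ t ht hne hc g
    obtain rfl : z' = z := hz'
    have htH := hCH _ t hzH (fun g => (h0 g).1) hc.symm
    refine ⟨fun h => ?_, fun h => by
      rw [H10.cj_def, H10.cj_eq_of_mem h]; exact mul_mem hzH htH⟩
    have hP : ∀ x ∈ (P : Subgroup G), Commute z' x := fun x hx =>
      congrArg Subtype.val (Subgroup.mem_center_iff.1 hzc ⟨x, hx⟩).symm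
    have h3 := ((H10.isSylowIn_top P).of_le (fun x hx => hCH _ x hzH (fun g => (h0 g).1) (hP x hx))
      le_top).cj g
    obtain ⟨x, hx, h4⟩ := h3.exists_le_cj (H10.isPGroup_zpowers (k := 1) (by
      rw [pow_one, (show Commute _ t from hc.symm).mul_pow, sq, sq, hz2 ht, hz2 (IsConj.refl _), mul_one]))
      (Subgroup.zpowers_le.2 h)
    rw [← H10.cj_mul] at h4
    obtain ⟨y, hy, h5⟩ := H10.mem_cj'.1 (h4 (Subgroup.mem_zpowers _))
    have h6 : x * g * z' * (x * g)⁻¹ ∈ H := h2 t ht hne hc (Subgroup.mem_centralizer_singleton_iff.2 (by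
      rw [← h5]; exact ((hP y hy).map (MulAut.conj (x * g))).eq))
    have h8 := H10.mem_cj.1 hx
    refine (tr' g).2 (UD (isConj_iff.2 ⟨x * g, rfl⟩) ((1 : G) : G ⧸ H) g
      ((tr _ 1).1 (by simpa using h6)) ((tr _ g).1 (H10.mem_cj.2 ?_))).symm
    have := mul_mem (mul_mem h8 hzH) (inv_mem h8)
    convert this using 1
    group

end Cfsg.Agent.S1922
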