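import Cfsg.Statements.S1946
import Cfsg.Agent.H1.SmallCrit
import Cfsg.Agent.H3.Alperin

set_option autoImplicit false
open Cfsg

namespace Cfsg.Agent.S1946

open H10
open scoped commutatorElement

/-- Let P be a Sylow p-subgroup of the finite group G. Then G has a normal p-complement if and only if P controls the fusion of its elements of order dividing p (dividing 4 when p = 2): whenever such an element a of P has a G-conjugate g a g⁻¹ in P, that conjugate is already x a x⁻¹ for some x in P. -/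
theorem result {G : Type*} [Group G] [Finite G] {p : ℕ} [Fact p.Prime] (P : Sylow p G) :
    Cfsg.HasNormalPComplement p G ↔
      ∀ a ∈ (P : Subgroup G), (a ^ p = 1 ∨ (p = 2 ∧ a ^ 4 = 1)) → ∀ g : G, g * a * g⁻¹ ∈ (P : Subgroup G) →
        ∃ x ∈ (P : Subgroup G), g * a * g⁻¹ = x * a * x⁻¹ := by
  refine ⟨fun h a ha _ g hg => ?_, fun h => H3.frobenius P fun Q hQ g hg hc => ?_⟩
  · obtain ⟨u, hu, h1⟩ := H3.fusion_of_hasNormalPComplement h P g
    exact ⟨u, hu, h1 a ha hg⟩
  obtain ⟨D, h0, h1, h2, -, h3⟩ := H1.exists_small_critical (P.isPGroup'.to_le hQ)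
  refine h3 g hg hc ?_
  have key : ∀ (i : ℕ) (x : (P : Subgroup G)), x ∈ Subgroup.upperCentralSeries P i → (x : G) ∈ D →
      Commute g x := by
    intro i
    induction i with
    | zero => intro x hx _; rw [Subgroup.upperCentralSeries_zero, Subgroup.mem_bot] at hx; simp [hx]
    | succ i ih =>
      intro x hx hxD
      have h4 := conj_mem_of_mem_NN (h1 hg) hxD
      obtain ⟨u, hu, e⟩ := h x x.2 (h2 x hxD) g (hQ (h0 h4))
      have h5 := (Subgroup.upperCentralSeries _ i).inv_mem
        (Subgroup.mem_upperCentralSeries_succ_iff.1 hx ⟨u, hu⟩)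
      have h6 : ((x * ⟨u, hu⟩ * x⁻¹ * (⟨u, hu⟩ : (P : Subgroup G))⁻¹)⁻¹ : (P : Subgroup G)) =
          ⁅g, (x : G)⁆ := by
        rw [commutatorElement_def, e]; push_cast; group
      have h7 : ⁅g, (x : G)⁆ ∈ D := D.mul_mem h4 (D.inv_mem hxD)
      obtain ⟨k, hk⟩ := isPGroup_iff_mem.1 P.isPGroup' _ (hQ (h0 h7))
      exact commutatorElement_eq_one_iff_commute.1
        (commutator_eq_one_of_coprime (h6 ▸ ih _ h5 (h6 ▸ h7)) hk hc)
  have := P.isPGroup'.isNilpotent
  obtain ⟨n, hn⟩ := Group.IsNilpotent.nilpotent (P : Subgroup G)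
  intro x hx
  exact (key n ⟨x, hQ (h0 hx)⟩ (hn ▸ Subgroup.mem_top _) hx).symm

end Cfsg.Agent.S1946
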