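import Cfsg.Statements.S1999
import Cfsg.Agent.H10.Tri4
import Cfsg.Agent.H10.GSF

set_option autoImplicit false
open Cfsg H10

namespace Cfsg.Agent.S1999

/-- Let G be a finite group. The symmetric group of degree 4 is not involved in G if and only if, in every section K/R of G, the pair of conjugacy functors {Z, J_e} controls strong fusion (for the prime 2): here Z(P) is the centre and J_e(P) the subgroup generated by the elementary abelian subgroups of P of largest order, and control by the pair means that 2-fusion of tuples inside a Sylow 2-subgroup T of the section is generated, staying inside T, by conjugation inside N(Z(T)) and N(J_e(T)). -/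
theorem result {G : Type*} [Group G] [Finite G] : ¬ Cfsg.Involves (Equiv.Perm (Fin 4)) G ↔ ∀ (K R : Subgroup G) [hR : (R.subgroupOf K).Normal], Cfsg.FamilyControlsStrongFusionIn 2 ({fun P : Subgroup (↥K ⧸ R.subgroupOf K) => P ⊓ Subgroup.centralizer ((P : Subgroup (↥K ⧸ R.subgroupOf K)) : Set (↥K ⧸ R.subgroupOf K)), fun P : Subgroup (↥K ⧸ R.subgroupOf K) => Cfsg.thompsonSubgroupOf 2 P} : Set (Subgroup (↥K ⧸ R.subgroupOf K) → Subgroup (↥K ⧸ R.subgroupOf K))) ⊤ := by
  have h𝓦 : ∀ W ∈ ({WZ, WJ} : Set H12.GF), IsCharPFunctor 2 W := by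
    rintro _ (rfl | rfl); exacts [charP_WZ, charP_WJ]
  have key : ∀ (K R : Subgroup G) [hR : (R.subgroupOf K).Normal], FamilyControlsStrongFusionIn 2
      ({fun P : Subgroup (↥K ⧸ R.subgroupOf K) => P ⊓ CC(P), fun P => thompsonSubgroupOf 2 P} :
        Set (Subgroup (↥K ⧸ R.subgroupOf K) → Subgroup (↥K ⧸ R.subgroupOf K))) ⊤ ↔
      H12.FC 2 {WZ, WJ} (K ⧸ R.subgroupOf K) := fun K R _ => by
    rw [← H12.fc_iff h𝓦, Set.image_pair, show inducedFunctor (G := K ⧸ R.subgroupOf K) WZ =
      fun P => P ⊓ CC(P) from funext induced_WZ]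
    rfl
  rw [involves_iff']
  exact ⟨fun h K R _ => (key K R).2 (gs.gfs fun e => h ((isSec_sec K R).trans e)).fc_ZJ,
    fun h => mt isSec_qd_iff.2 (not_isSec_qd_of_fc h𝓦 fun K R _ => (key K R).1 (h K R))⟩

end Cfsg.Agent.S1999
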