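import Cfsg.Statements.S2000
import Cfsg.Agent.H10.Tri4
import Cfsg.Agent.H10.GSF

set_option autoImplicit false
universe u
open Cfsg H10

namespace Cfsg.Agent.S2000

/-- Let p be a prime and G a finite group. Then Qd(p) (the natural semidirect product of an elementary abelian group of order p² by SL₂(p)) is not involved in G if and only if there is a set 𝓦 of isomorphism-invariant p-group functors (each nontrivial on nontrivial finite p-groups and carried onto W(R) by every isomorphism from a finite p-group Q onto R, hence with characteristic values on finite p-groups) whose induced conjugacy functors control strong fusion in every section of G. -/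
theorem result {G : Type u} [Group G] [Finite G] {p : ℕ} [Fact p.Prime] : ¬ Cfsg.Involves ↥(Cfsg.qd p) G ↔ ∃ 𝓦 : Set (∀ (Q : Type u) [Group Q], Subgroup Q), (∀ W ∈ 𝓦, Cfsg.IsCharPFunctor.{u} p W) ∧ ∀ (K R : Subgroup G) [hR : (R.subgroupOf K).Normal], Cfsg.FamilyControlsStrongFusionIn p ((fun W => Cfsg.inducedFunctor (G := (↥K ⧸ R.subgroupOf K)) W) '' 𝓦) ⊤ := by
  rw [involves_iff']
  refine ⟨fun h => ?_, fun ⟨𝓦, h𝓦, h⟩ => not_isSec_qd_of_fc h𝓦 fun K R _ => (H12.fc_iff h𝓦).1 (h K R)⟩
  by_cases hp : p = 2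
  · subst hp
    have h𝓦 : ∀ W ∈ ({WZ, WJ} : Set H12.GF.{u}), IsCharPFunctor.{u} 2 W := by
      rintro _ (rfl | rfl); exacts [charP_WZ, charP_WJ]
    exact ⟨_, h𝓦, fun K R _ => (H12.fc_iff h𝓦).2
      (gs.gfs fun e => h ((isSec_sec K R).trans (isSec_qd_iff.2 e))).fc_ZJ⟩
  · have h𝓦 := H12.single_char (charP_WZJ.{u} (p := p))
    exact ⟨_, h𝓦, fun K R _ => (H12.fc_iff h𝓦).2
      (fc_ZJ_odd hp fun e => h ((isSec_sec K R).trans e))⟩

end Cfsg.Agent.S2000
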