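import Cfsg.Statements.S2069
import Cfsg.Agent.H27.LOut

set_option autoImplicit false
open Cfsg

namespace Cfsg.Agent.S2069
open H27 MulAction

/-- The outer automorphism group of the Conway group Co₁ (the automorphism group of the rank-24 lattice modulo its centre) is trivial: every automorphism is inner. -/
theorem result : Nat.card (Cfsg.Out Cfsg.Spor.Co1) = 1 := by
  exact out_co ((QuotientGroup.mk' _).comp (⊤ : Subgroup CC).subtype)
    ((QuotientGroup.mk'_surjective _).comp fun g => ⟨⟨g, trivial⟩, rfl⟩)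
    (fun z => (QuotientGroup.eq_one_iff _).trans mem_center_iff) (y := ⟨_, trivial⟩) (g := ⟨_, trivial⟩) rfl rfl
    (by rw [card_Co1]; norm_num) (t := ⟨cO 1, trivial⟩) (ts := [⟨cO 0, trivial⟩]) gen_top
    (List.forall_mem_cons.2 ⟨⟨_, _, tChk2⟩, List.forall_mem_singleton.2 ⟨_, _, tChk3⟩⟩)

end Cfsg.Agent.S2069
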