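import Cfsg.Statements.S2070
import Cfsg.Agent.H27.LOut

set_option autoImplicit false
open Cfsg

namespace Cfsg.Agent.S2070
open H27 MulAction

/-- The outer automorphism group of the Conway group Co₂ (the stabiliser of a minimal vector of the rank-24 lattice) is trivial: every automorphism is inner. -/
theorem result : Nat.card (Cfsg.Out ↥Cfsg.Spor.Co2) = 1 := by
  have R := CjRel.stab' cO2_lZ
  exact out_co' (by decide +kernel) ((conjEquiv _ R).trans co2Equiv) (mem_C3_lZ yb_mem.1).2 (mem_C3_lZ yb_mem.2).2
    (by rw [← R.card, card_C2]; norm_num) cO1_mem gen_lZ tChk2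

end Cfsg.Agent.S2070
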