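import Cfsg.Statements.S2174
import Cfsg.Agent.H24.InvChk
import Cfsg.Agent.H24.DataF4

set_option autoImplicit false
set_option maxHeartbeats 400000
open Cfsg

namespace Cfsg.Agent.S2174

section
open H24 Cfsg.Lie

def ol : List ℕ := [0, 1, 2, 3]

def W0 : List ℕ := [0, 1, 0, 2, 1, 0, 2, 1, 2, 3, 2, 1, 0, 2, 1, 2, 3, 2, 1, 0, 2, 1, 2, 3]

def cls : List (List (List ℕ × ℕ)) := [[], [([3, 2, 1, 0, 2, 1, 2], 3)], [([0, 1, 2, 1, 0, 3, 2], 1)], [([1, 0, 2], 1), ([3, 2, 1, 0, 2, 1, 2], 3)],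
    [([3, 2, 1, 0, 2, 1, 2], 3), ([0, 1], 2)], [([3, 2, 1, 0, 2, 1, 2], 3), ([1, 0, 2], 1), ([], 2)], [([3, 2, 1,
    0, 2, 1, 2], 3), ([0, 1], 2), ([1], 2)], [([3, 2, 1, 0, 2, 1, 2], 3), ([0, 1], 2), ([1], 2), ([], 2)]]

def EE : List (ℕ × ℕ) := [(9,0), (7,0), (7,0x21), (1,0x121), (8,0), (5,0), (6,0), (3,0), (8,0x43), (5,0x43), (5,0x4321), (1,0x1214),
    (1,0x343), (1,0x1343), (4,0), (2,0)]

theorem k0 : band (decide (cls.map tabF4.rootc = [] :: [[47], [44], [37, 47], [47, 41], [47, 37, 25], [47, 41, 30], [47, 41, 30, 25]]))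
    (band (allL cls fun c => tabF4.okW (Tab.wordc c)) (tabF4.chkJs id ol W0 cls EE 0)) = true := by decide +kernel

theorem r0 : tabF4.chkRk [47] 16 = true := by decide +kernel
theorem r1 : tabF4.chkRk [44] 16 = true := by decide +kernel
theorem r2 : tabF4.chkRk [47, 44] 21 = true := by decide +kernel
theorem r3 : tabF4.chkRk [39, 45] 24 = true := by decide +kernel

variable {F : Type*} [Field F] [Fintype F] [CharP F 2]

theorem x1 (c : tabF4_chk.Cx (⊤ : Subgroup (chevF4.group F)) id ol) :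
    Cj (⊤ : Subgroup (chevF4.group F)) (tabF4_chk.yw F [0]) (tabF4_chk.yw F [47]) :=
  c.cjW [3, 2, 1, 2, 0, 1, 2, 3, 2, 1, 2, 0, 1, 2, 3] (by decide +kernel)

theorem x2 (c : tabF4_chk.Cx (⊤ : Subgroup (chevF4.group F)) id ol) :
    Cj (⊤ : Subgroup (chevF4.group F)) (tabF4_chk.yw F [3]) (tabF4_chk.yw F [44]) :=
  c.cjW [0, 1, 2, 3, 1, 2, 0, 1, 2, 3, 0, 1, 2, 1, 0] (by decide +kernel)

theorem x3 (c : tabF4_chk.Cx (⊤ : Subgroup (chevF4.group F)) id ol) :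
    Cj (⊤ : Subgroup (chevF4.group F)) (tabF4_chk.yw F [10, 0]) (tabF4_chk.yw F [39, 45]) :=
  c.cjW [1, 2, 0, 1, 2, 3, 2, 1, 2, 0, 1, 2, 3, 1, 2, 0, 1, 2, 0, 1] (by decide +kernel)

theorem x4 (c : tabF4_chk.Cx (⊤ : Subgroup (chevF4.group F)) id ol) :
    Cj (⊤ : Subgroup (chevF4.group F)) (tabF4_chk.yw F [0, 6]) (tabF4_chk.yw F [47, 44]) :=
  (c.cjF [[18]] (b := [6, 3]) (by decide +kernel)).trans
    (c.cjW [0, 1, 2, 3, 1, 2, 0, 1, 2, 3, 0, 1, 2, 1, 0] (by decide +kernel))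

theorem x5 (c : tabF4_chk.Cx (⊤ : Subgroup (chevF4.group F)) id ol) :
    Cj (⊤ : Subgroup (chevF4.group F)) (tabF4_chk.yw F [0, 10, 22]) (tabF4_chk.yw F [39, 45]) :=
  ((c.cjF [[21], [9], [2]] (b := [10, 22]) (by decide +kernel)).trans
    (c.cjW [3, 1, 2, 0, 1, 2, 3, 0, 1] (by decide +kernel))).trans (x3 c)

theorem x6 (c : tabF4_chk.Cx (⊤ : Subgroup (chevF4.group F)) id ol) :
    Cj (⊤ : Subgroup (chevF4.group F)) (tabF4_chk.yw F [0, 6, 17]) (tabF4_chk.yw F [39, 45]) :=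
  ((c.cjF [[33], [29], [11]] (b := [7, 6]) (by decide +kernel)).trans
    (c.cjW [3, 2, 1, 2, 3] (by decide +kernel))).trans (x3 c)

theorem x7 (c : tabF4_chk.Cx (⊤ : Subgroup (chevF4.group F)) id ol) :
    Cj (⊤ : Subgroup (chevF4.group F)) (tabF4_chk.yw F [0, 6, 17, 22]) (tabF4_chk.yw F [39, 45]) :=
  ((c.cjF [[21], [31], [42], [24]] (b := [0, 6, 17]) (by decide +kernel)).trans
    (c.cjW [] (by decide +kernel))).trans (x6 c)

theorem cover (c : tabF4_chk.Cx (⊤ : Subgroup (chevF4.group F)) id ol) :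
    ∀ t ∈ (⊤ : Subgroup (chevF4.group F)), orderOf t = 2 → ∃ y ∈ [[47], [44], [47, 44], [39, 45]], Cj (⊤ : Subgroup (chevF4.group F)) t (tabF4_chk.yw F y) :=
  c.classes' W0 cls EE k0 (by
    simp only [List.forall_mem_cons]
    exact ⟨⟨[47], by simp, (c.cjN (by decide +kernel)).trans (x1 c)⟩,
      ⟨[44], by simp, (c.cjN (by decide +kernel)).trans (x2 c)⟩,
      ⟨[39, 45], by simp, (c.cjN (by decide +kernel)).trans (x3 c)⟩,
      ⟨[47, 44], by simp, (c.cjN (by decide +kernel)).trans (x4 c)⟩,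
      ⟨[39, 45], by simp, (c.cjN (by decide +kernel)).trans (x5 c)⟩,
      ⟨[39, 45], by simp, (c.cjN (by decide +kernel)).trans (x6 c)⟩,
      ⟨[39, 45], by simp, (c.cjN (by decide +kernel)).trans (x7 c)⟩, by simp⟩)

theorem ords : ∀ l ∈ [[47], [44], [47, 44], [39, 45]], orderOf (tabF4_chk.yw F l) = 2 := by
  simp only [List.forall_mem_cons]
  exact ⟨tabF4_chk.ord_yw (by decide +kernel) r0, tabF4_chk.ord_yw (by decide +kernel) r1, tabF4_chk.ord_yw (by decide +kernel) r2, tabF4_chk.ord_yw (by decide +kernel) r3, by simp⟩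

theorem ncj (M : Subgroup (chevF4.group F)) : [[47], [44], [47, 44], [39, 45]].Pairwise fun a b => ¬ Cj M (tabF4_chk.yw F a) (tabF4_chk.yw F b) := by
  simp only [List.pairwise_cons, List.forall_mem_cons]
  exact ⟨⟨tabF4_chk.ncj_len (by decide +kernel) M, tabF4_chk.ncj_rk r0 r2 (by decide) M, tabF4_chk.ncj_rk r0 r3 (by decide) M, by simp⟩,
    ⟨tabF4_chk.ncj_rk r1 r2 (by decide) M, tabF4_chk.ncj_rk r1 r3 (by decide) M, by simp⟩,
    ⟨tabF4_chk.ncj_rk r2 r3 (by decide) M, by simp⟩,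
    by simp, List.Pairwise.nil⟩

theorem cx : tabF4_chk.Cx (⊤ : Subgroup (chevF4.group F)) id ol := tabF4_chk.cx_top (by decide +kernel)

end

/-- Conjugacy classes of involutions in the Chevalley group of type F₄ over a finite field F of characteristic two (the matrix group generated by the root elements x_r(t)). In this problem's root numbering for type F₄ (the Chevalley data module; fundamental roots p₁, p₂ short and p₃, p₄ long; roots indexed by their coefficient vectors in increasing order) let r = 47 be the highest root (2,4,3,2), s = 44 the highest short root (2,3,2,1), and α = 39 = (1,2,2,1), β = 45 = (2,4,2,1), an orthogonal short/long pair; consider the four elements x_r(1), x_s(1), x_r(1)x_s(1), x_α(1)x_β(1). Then: each invertible matrix equal to one of these four products lies in the group and has order 2; every element of order 2 of the group is conjugate in the group to one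 of them; and no two of them are conjugate in the group (so, the four matrices being distinct, the group has exactly four conjugacy classes of involutions). -/
theorem result {F : Type*} [Field F] [Fintype F] [CharP F 2] :
    (∀ y : GL Cfsg.Lie.chevF4.Idx F, ((y : GL Cfsg.Lie.chevF4.Idx F) : Matrix Cfsg.Lie.chevF4.Idx Cfsg.Lie.chevF4.Idx F) ∈ [Cfsg.Lie.chevF4.x F 47 1, Cfsg.Lie.chevF4.x F 44 1, Cfsg.Lie.chevF4.x F 47 1 * Cfsg.Lie.chevF4.x F 44 1, Cfsg.Lie.chevF4.x F 39 1 * Cfsg.Lie.chevF4.x F 45 1] → y ∈ Cfsg.Lie.chevF4.group F ∧ orderOf y = 2) ∧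
    (∀ g ∈ Cfsg.Lie.chevF4.group F, orderOf g = 2 → ∃ y ∈ Cfsg.Lie.chevF4.group F, ((y : GL Cfsg.Lie.chevF4.Idx F) : Matrix Cfsg.Lie.chevF4.Idx Cfsg.Lie.chevF4.Idx F) ∈ [Cfsg.Lie.chevF4.x F 47 1, Cfsg.Lie.chevF4.x F 44 1, Cfsg.Lie.chevF4.x F 47 1 * Cfsg.Lie.chevF4.x F 44 1, Cfsg.Lie.chevF4.x F 39 1 * Cfsg.Lie.chevF4.x F 45 1] ∧ ∃ h ∈ Cfsg.Lie.chevF4.group F, h * g * h⁻¹ = y) ∧
    (∀ y₁ ∈ Cfsg.Lie.chevF4.group F, ∀ y₂ ∈ Cfsg.Lie.chevF4.group F, ((y₁ : GL Cfsg.Lie.chevF4.Idx F) : Matrix Cfsg.Lie.chevF4.Idx Cfsg.Lie.chevF4.Idx F) ∈ [Cfsg.Lie.chevF4.x F 47 1, Cfsg.Lie.chevF4.x F 44 1, Cfsg.Lie.chevF4.x F 47 1 * Cfsg.Lie.chevF4.x F 44 1, Cfsg.Lie.chevF4.x F 39 1 * Cfsg.Lie.chevF4.x F 45 1] → ((y₂ : GL Cfsg.Lie.chevF4.Idx F) : Matrix Cfsg.Lie.chevF4.Idx Cfsg.Lie.chevF4.Idx F) ∈ [Cfsg.Lie.chevF4.x F 47 1, Cfsg.Lie.chevF4.x F 44 1, Cfsg.Lie.chevF4.x F 47 1 * Cfsg.Lie.chevF4.x F 44 1, Cfsg.Lie.chevF4.x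 F 39 1 * Cfsg.Lie.chevF4.x F 45 1] →
      (∃ h ∈ Cfsg.Lie.chevF4.group F, h * y₁ * h⁻¹ = y₂) → ((y₁ : GL Cfsg.Lie.chevF4.Idx F) : Matrix Cfsg.Lie.chevF4.Idx Cfsg.Lie.chevF4.Idx F) = ((y₂ : GL Cfsg.Lie.chevF4.Idx F) : Matrix Cfsg.Lie.chevF4.Idx Cfsg.Lie.chevF4.Idx F)) := by
  exact H24.tabF4_chk.classes_reps _ (by decide +kernel) ords (fun t => cover cx t trivial) (ncj _) (by simp [mul_assoc])

end Cfsg.Agent.S2174
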