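import Cfsg.Statements.S2175
import Cfsg.Agent.H24.InvChk
import Cfsg.Agent.H24.DataE6

set_option autoImplicit false
set_option maxHeartbeats 400000
open Cfsg

namespace Cfsg.Agent.S2175

section
open H24 Cfsg.Lie

def ol : List ℕ := [0, 1, 2, 3, 4, 5]

def W0 : List ℕ := [0, 1, 2, 0, 3, 1, 2, 0, 3, 2, 4, 3, 1, 2, 0, 3, 2, 4, 3, 1, 5, 4, 3, 1, 2, 0, 3, 2, 4, 3, 1, 5, 4, 3, 2, 0]

def cls : List (List (List ℕ × ℕ)) := [[], [([1, 3, 2, 0, 4, 3, 1, 2, 3, 4], 5)], [([1, 3, 2, 0, 4, 3, 1, 2, 3, 4], 5), ([0, 2, 3, 4], 5)], [([2, 0,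
    4, 3, 1, 2, 3, 4], 5), ([0, 3, 1, 2, 3, 4], 5), ([3, 1, 2, 3], 4)], [([1, 3, 2, 0, 4, 3, 1, 2, 3, 4], 5), ([0,
    2, 3, 4], 5), ([2, 3], 4), ([], 3)]]

def EE : List (ℕ × ℕ) := [(6,0), (1,0x6), (5,0), (1,0x26), (1,0x5), (1,0x565), (1,0x25), (1,0x2565), (5,0x42), (1,0x46), (1,0x242),
    (1,0x2426), (1,0x454), (1,0x454654), (1,0x242542), (1,0x2425426542), (1,0x3), (1,0x36), (1,0x23), (1,0x236),
    (1,0x35), (1,0x3565), (1,0x235), (1,0x23565), (1,0x343), (1,0x3436), (1,0x234234), (1,0x2342346), (4,0),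
    (1,0x3435436543), (1,0x234234542345), (1,0x23423454234565423456), (1,0x1), (1,0x16), (1,0x12), (1,0x126),
    (1,0x15), (1,0x1565), (1,0x125), (1,0x12565), (1,0x14), (1,0x146), (1,0x1242), (1,0x12426), (1,0x1454),
    (1,0x1454654), (1,0x1242542), (1,0x12425426542), (1,0x131), (1,0x1316), (1,0x1231), (1,0x12316), (1,0x1315),
    (1,0x131565), (1,0x12315), (1,0x1231565), (1,0x131431), (1,0x1314316), (1,0x1231423143), (1,0x12314231436),
    (1,0x1314315431), (3,0), (1,0x12314231435423143542), (2,0)]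

theorem k0 : band (decide (cls.map tabE6.rootc = [] :: [[71], [71, 60], [69, 65, 53], [71, 60, 44, 39]]))
    (band (allL cls fun c => tabE6.okW (Tab.wordc c)) (tabE6.chkJs id ol W0 cls EE 0)) = true := by decide +kernel

theorem r0 : tabE6.chkRk [71] 22 = true := by decide +kernel
theorem r1 : tabE6.chkRk [68, 66] 32 = true := by decide +kernel
theorem r2 : tabE6.chkRk [55, 65, 67] 38 = true := by decide +kernel

variable {F : Type*} [Field F] [Fintype F] [CharP F 2]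

theorem x1 (c : tabE6_chk.Cx (⊤ : Subgroup (chevE6.group F)) id ol) :
    Cj (⊤ : Subgroup (chevE6.group F)) (tabE6_chk.yw F [0]) (tabE6_chk.yw F [71]) :=
  c.cjW [1, 3, 4, 2, 3, 0, 2, 1, 3, 4, 5, 4, 3, 2, 1, 3, 4, 0, 2, 3, 1] (by decide +kernel)

theorem x2 (c : tabE6_chk.Cx (⊤ : Subgroup (chevE6.group F)) id ol) :
    Cj (⊤ : Subgroup (chevE6.group F)) (tabE6_chk.yw F [0, 11]) (tabE6_chk.yw F [68, 66]) :=
  c.cjW [0, 2, 3, 4, 5, 1, 3, 4, 2, 3, 0, 2, 1, 3, 4, 5, 0, 2, 1, 3, 4, 2, 1, 3, 2, 1, 0] (by decide +kernel)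

theorem x3 (c : tabE6_chk.Cx (⊤ : Subgroup (chevE6.group F)) id ol) :
    Cj (⊤ : Subgroup (chevE6.group F)) (tabE6_chk.yw F [2, 6, 18]) (tabE6_chk.yw F [55, 65, 67]) :=
  c.cjW [3, 4, 5, 1, 3, 4, 2, 3, 0, 2, 1, 3, 4, 5, 3, 4, 2, 3, 0, 2, 1, 3, 4, 2, 3, 0, 2, 1, 3, 0, 2, 0] (by decide +kernel)

theorem x4 (c : tabE6_chk.Cx (⊤ : Subgroup (chevE6.group F)) id ol) :
    Cj (⊤ : Subgroup (chevE6.group F)) (tabE6_chk.yw F [0, 11, 27, 32]) (tabE6_chk.yw F [55, 65, 67]) :=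
  (c.cjF [[24], [51], [63], [46]] (b := [0, 11, 27]) (by decide +kernel)).trans
    (c.cjW [3, 4, 5, 1, 3, 4, 2, 3, 0, 2, 1, 3, 4, 5, 3, 4, 2, 3, 0, 2, 1, 3, 4, 3, 2, 1, 3, 0, 2, 0] (by decide +kernel))

theorem cover (c : tabE6_chk.Cx (⊤ : Subgroup (chevE6.group F)) id ol) :
    ∀ t ∈ (⊤ : Subgroup (chevE6.group F)), orderOf t = 2 → ∃ y ∈ [[71], [68, 66], [55, 65, 67]], Cj (⊤ : Subgroup (chevE6.group F)) t (tabE6_chk.yw F y) :=
  c.classes' W0 cls EE k0 (by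
    simp only [List.forall_mem_cons]
    exact ⟨⟨[71], by simp, (c.cjN (by decide +kernel)).trans (x1 c)⟩,
      ⟨[68, 66], by simp, (c.cjN (by decide +kernel)).trans (x2 c)⟩,
      ⟨[55, 65, 67], by simp, (c.cjN (by decide +kernel)).trans (x3 c)⟩,
      ⟨[55, 65, 67], by simp, (c.cjN (by decide +kernel)).trans (x4 c)⟩, by simp⟩)

theorem ords : ∀ l ∈ [[71], [68, 66], [55, 65, 67]], orderOf (tabE6_chk.yw F l) = 2 := by
  simp only [List.forall_mem_cons]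
  exact ⟨tabE6_chk.ord_yw (by decide +kernel) r0, tabE6_chk.ord_yw (by decide +kernel) r1, tabE6_chk.ord_yw (by decide +kernel) r2, by simp⟩

theorem ncj (M : Subgroup (chevE6.group F)) : [[71], [68, 66], [55, 65, 67]].Pairwise fun a b => ¬ Cj M (tabE6_chk.yw F a) (tabE6_chk.yw F b) := by
  simp only [List.pairwise_cons, List.forall_mem_cons]
  exact ⟨⟨tabE6_chk.ncj_rk r0 r1 (by decide) M, tabE6_chk.ncj_rk r0 r2 (by decide) M, by simp⟩,
    ⟨tabE6_chk.ncj_rk r1 r2 (by decide) M, by simp⟩,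
    by simp, List.Pairwise.nil⟩

theorem cx : tabE6_chk.Cx (⊤ : Subgroup (chevE6.group F)) id ol := tabE6_chk.cx_top (by decide +kernel)

end

/-- Conjugacy classes of involutions in the Chevalley group of type E₆ over a finite field F of characteristic two (the matrix group generated by the root elements x_r(t)). In this problem's root numbering for type E₆ (the Chevalley data module; fundamental roots numbered so that p₁–p₃–p₄–p₅–p₆ is the long chain of the diagram and p₂ is joined to p₄; roots indexed by their coefficient vectors in increasing order) let r = 71 be the highest root (1,2,2,3,2,1), α = 68 = (1,1,2,2,1,1), β = 66 = (1,1,1,2,2,1), γ = 55 = (0,1,1,2,2,1), δ = 65 = (1,1,1,2,1,1), ε = 67 = (1,1,2,2,1,0) (α ⊥ β and γ, δ, ε pairwise orthogonal); consider x_r(1), x_α(1)x_β(1) and x_γ(1)x_δ(1)x_ε(1). Then: each invertible matrix equal to one of these three products lies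 in the group and has order 2; every element of order 2 of the group is conjugate in the group to one of them; and no two of them are conjugate in the group (so, the three matrices being distinct, the group has exactly three conjugacy classes of involutions). -/
theorem result {F : Type*} [Field F] [Fintype F] [CharP F 2] :
    (∀ y : GL Cfsg.Lie.chevE6.Idx F, ((y : GL Cfsg.Lie.chevE6.Idx F) : Matrix Cfsg.Lie.chevE6.Idx Cfsg.Lie.chevE6.Idx F) ∈ [Cfsg.Lie.chevE6.x F 71 1, Cfsg.Lie.chevE6.x F 68 1 * Cfsg.Lie.chevE6.x F 66 1, Cfsg.Lie.chevE6.x F 55 1 * Cfsg.Lie.chevE6.x F 65 1 * Cfsg.Lie.chevE6.x F 67 1] → y ∈ Cfsg.Lie.chevE6.group F ∧ orderOf y = 2) ∧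
    (∀ g ∈ Cfsg.Lie.chevE6.group F, orderOf g = 2 → ∃ y ∈ Cfsg.Lie.chevE6.group F, ((y : GL Cfsg.Lie.chevE6.Idx F) : Matrix Cfsg.Lie.chevE6.Idx Cfsg.Lie.chevE6.Idx F) ∈ [Cfsg.Lie.chevE6.x F 71 1, Cfsg.Lie.chevE6.x F 68 1 * Cfsg.Lie.chevE6.x F 66 1, Cfsg.Lie.chevE6.x F 55 1 * Cfsg.Lie.chevE6.x F 65 1 * Cfsg.Lie.chevE6.x F 67 1] ∧ ∃ h ∈ Cfsg.Lie.chevE6.group F, h * g * h⁻¹ = y) ∧
    (∀ y₁ ∈ Cfsg.Lie.chevE6.group F, ∀ y₂ ∈ Cfsg.Lie.chevE6.group F, ((y₁ : GL Cfsg.Lie.chevE6.Idx F) : Matrix Cfsg.Lie.chevE6.Idx Cfsg.Lie.chevE6.Idx F) ∈ [Cfsg.Lie.chevE6.x F 71 1, Cfsg.Lie.chevE6.x F 68 1 * Cfsg.Lie.chevE6.x F 66 1, Cfsg.Lie.chevE6.x F 55 1 * Cfsg.Lie.chevE6.x F 65 1 * Cfsg.Lie.chevE6.x F 67 1] → ((y₂ : GL Cfsg.Lie.chevE6.Idx F) : Matrix Cfsg.Lie.chevE6.Idx Cfsg.Lie.chevE6.Idx F) ∈ [Cfsg.Lie.chevE6.x F 71 1, Cfsg.Lie.chevE6.x F 68 1 * Cfsg.Lie.chevE6.x F 66 1, Cfsg.Lie.chevE6.x F 55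 1 * Cfsg.Lie.chevE6.x F 65 1 * Cfsg.Lie.chevE6.x F 67 1] →
      (∃ h ∈ Cfsg.Lie.chevE6.group F, h * y₁ * h⁻¹ = y₂) → ((y₁ : GL Cfsg.Lie.chevE6.Idx F) : Matrix Cfsg.Lie.chevE6.Idx Cfsg.Lie.chevE6.Idx F) = ((y₂ : GL Cfsg.Lie.chevE6.Idx F) : Matrix Cfsg.Lie.chevE6.Idx Cfsg.Lie.chevE6.Idx F)) := by
  exact H24.tabE6_chk.classes_reps _ (by decide +kernel) ords (fun t => cover cx t trivial) (ncj _) (by simp [mul_assoc])

end Cfsg.Agent.S2175
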