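import Cfsg.Statements.S2176
import Cfsg.Agent.H24.InvChk
import Cfsg.Agent.H24.DataE8

set_option autoImplicit false
set_option maxHeartbeats 400000
open Cfsg

namespace Cfsg.Agent.S2176

section
open H24 Cfsg.Lie

def ol : List ℕ := [0, 1, 2, 3, 4, 5, 6, 7]

def W0 : List ℕ := [0, 1, 2, 0, 3, 1, 2, 0, 3, 2, 4, 3, 1, 2, 0, 3, 2, 4, 3, 1, 5, 4, 3, 1, 2, 0, 3, 2, 4, 3, 1, 5, 4, 3, 2, 0,
    6, 5, 4, 3, 1, 2, 0, 3, 2, 4, 3, 1, 5, 4, 3, 2, 0, 6, 5, 4, 3, 1, 2, 3, 4, 5, 6, 7, 6, 5, 4, 3, 1, 2, 0, 3, 2,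
    4, 3, 1, 5, 4, 3, 2, 0, 6, 5, 4, 3, 1, 2, 3, 4, 5, 6, 7, 6, 5, 4, 3, 1, 2, 0, 3, 2, 4, 3, 1, 5, 4, 3, 2, 0, 6,
    5, 4, 3, 1, 2, 3, 4, 5, 6, 7]

def cls : List (List (List ℕ × ℕ)) := [[], [([7, 6, 5, 4, 3, 1, 2, 0, 3, 2, 4, 3, 1, 5, 4, 3, 2, 0, 6, 5, 4, 3, 1, 2, 3, 4, 5, 6], 7)], [([7, 6, 5,
    4, 3, 1, 2, 0, 3, 2, 4, 3, 1, 5, 4, 3, 2, 0, 6, 5, 4, 3, 1, 2, 3, 4, 5, 6], 7), ([0, 2, 3, 1, 4, 3, 2, 0, 5,
    4, 3, 1, 2, 3, 4, 5], 6)], [([7, 6, 5, 4, 3, 1, 2, 0, 3, 2, 4, 3, 1, 5, 4, 3, 2, 0, 6, 5, 4, 3, 1, 2, 3, 4, 5,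
    6], 7), ([0, 2, 3, 1, 4, 3, 2, 0, 5, 4, 3, 1, 2, 3, 4, 5], 6), ([5, 4, 3, 1, 2, 3, 4, 5], 6)], [([7, 6, 5, 4,
    3, 1, 2, 0, 3, 2, 4, 3, 1, 5, 4, 3, 2, 0, 6, 5, 4, 3, 1, 2, 3, 4, 5, 6], 7), ([0, 2, 3, 1, 4, 3, 2, 0, 5, 4,
    3, 1, 2, 3, 4, 5], 6), ([5, 4, 3, 1, 2, 3, 4, 5], 6), ([], 6)], [([7, 6, 5, 4, 3, 1, 2, 0, 3, 2, 4, 3, 1, 5,
    4, 3, 2, 0, 6, 5, 4, 3, 1, 2, 3, 4, 5, 6], 7), ([3, 1, 4, 3, 2, 0, 5, 4, 3, 1, 2, 3, 4, 5], 6), ([2, 0, 5, 4,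
    3, 1, 2, 3, 4, 5], 6), ([2, 0, 3, 1, 2, 3], 4)], [([7, 6, 5, 4, 3, 1, 2, 0, 3, 2, 4, 3, 1, 5, 4, 3, 2, 0, 6,
    5, 4, 3, 1, 2, 3, 4, 5, 6], 7), ([3, 1, 4, 3, 2, 0, 5, 4, 3, 1, 2, 3, 4, 5], 6), ([2, 0, 5, 4, 3, 1, 2, 3, 4,
    5], 6), ([2, 0, 3, 1, 2, 3], 4), ([], 6)], [([7, 6, 5, 4, 3, 1, 2, 0, 3, 2, 4, 3, 1, 5, 4, 3, 2, 0, 6, 5, 4,
    3, 1, 2, 3, 4, 5, 6], 7), ([3, 1, 4, 3, 2, 0, 5, 4, 3, 1, 2, 3, 4, 5], 6), ([2, 0, 5, 4, 3, 1, 2, 3, 4, 5],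
    6), ([2, 0, 3, 1, 2, 3], 4), ([], 4), ([], 6)], [([7, 6, 5, 4, 3, 1, 2, 0, 3, 2, 4, 3, 1, 5, 4, 3, 2, 0, 6, 5,
    4, 3, 1, 2, 3, 4, 5, 6], 7), ([3, 1, 4, 3, 2, 0, 5, 4, 3, 1, 2, 3, 4, 5], 6), ([2, 0, 5, 4, 3, 1, 2, 3, 4, 5],
    6), ([2, 0, 3, 1, 2, 3], 4), ([], 1), ([], 4), ([], 6)], [([7, 6, 5, 4, 3, 1, 2, 0, 3, 2, 4, 3, 1, 5, 4, 3, 2,
    0, 6, 5, 4, 3, 1, 2, 3, 4, 5, 6], 7), ([0, 2, 3, 1, 4, 3, 2, 0, 5, 4, 3, 1, 2, 3, 4, 5], 6), ([5, 4, 3, 1, 2,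
    3, 4, 5], 6), ([3, 1, 2, 3], 4), ([], 1), ([], 2), ([], 4), ([], 6)]]

def EE : List (ℕ × ℕ) := [(11,0), (10,0), (10,0x314234), (9,0), (10,0x31), (1,0x131), (9,0x31), (1,0x1231), (10,0x3143), (9,0x42),
    (1,0x242), (1,0x1242), (1,0x343), (1,0x131431), (1,0x234234), (1,0x1231423143), (10,0x314354), (9,0x4254),
    (9,0x42543165423456), (8,0), (9,0x425431), (1,0x1315), (8,0x31), (1,0x12315), (1,0x454), (1,0x1454),
    (1,0x242542), (1,0x1242542), (1,0x343543), (1,0x1314315431), (6,0), (1,0x12314231435423143542),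
    (10,0x31435465), (9,0x425465), (9,0x425431654234), (8,0x65), (9,0x42543165), (1,0x1316), (8,0x3165),
    (1,0x12316), (9,0x4254316543), (8,0x6542), (1,0x2426), (1,0x12426), (1,0x3436), (1,0x1314316), (1,0x2342346),
    (1,0x12314231436), (1,0x565), (1,0x1565), (1,0x2565), (1,0x12565), (1,0x3565), (1,0x131565), (1,0x23565),
    (1,0x1231565), (1,0x454654), (1,0x1454654), (1,0x2425426542), (1,0x12425426542), (1,0x3435436543),
    (1,0x131431543165431), (1,0x23423454234565423456), (1,0x123142314354231435426542314354265431),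
    (10,0x3143546576), (9,0x42546576), (9,0x42543165423476), (8,0x6576), (9,0x4254316576), (1,0x1317),
    (8,0x316576), (1,0x12317), (9,0x425431654376), (8,0x654276), (1,0x2427), (1,0x12427), (1,0x3437),
    (1,0x1314317), (1,0x2342347), (1,0x12314231437), (9,0x42543165437654), (8,0x65427654),
    (8,0x6542765431876542345678), (7,0), (8,0x6542765431), (1,0x13157), (7,0x31), (1,0x123157), (1,0x4547),
    (1,0x14547), (1,0x2425427), (1,0x12425427), (1,0x3435437), (1,0x13143154317), (5,0),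
    (1,0x123142314354231435427), (1,0x676), (1,0x1676), (1,0x2676), (1,0x12676), (1,0x3676), (1,0x131676),
    (1,0x23676), (1,0x1231676), (1,0x4676), (1,0x14676), (1,0x242676), (1,0x1242676), (1,0x343676),
    (1,0x131431676), (1,0x234234676), (1,0x1231423143676), (1,0x565765), (1,0x1565765), (1,0x2565765),
    (1,0x12565765), (1,0x3565765), (1,0x131565765), (1,0x23565765), (1,0x1231565765), (1,0x4546547654),
    (1,0x14546547654), (1,0x242542654276542), (1,0x1242542654276542), (1,0x343543654376543),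
    (1,0x131431543165431765431), (4,0), (3,0), (10,0x314354657687), (9,0x4254657687), (9,0x4254316542347687),
    (8,0x657687), (9,0x425431657687), (1,0x1318), (8,0x31657687), (1,0x12318), (9,0x42543165437687),
    (8,0x65427687), (1,0x2428), (1,0x12428), (1,0x3438), (1,0x1314318), (1,0x2342348), (1,0x12314231438),
    (9,0x4254316543765487), (8,0x6542765487), (8,0x65427654318765423456), (7,0x87), (8,0x654276543187),
    (1,0x13158), (7,0x3187), (1,0x123158), (1,0x4548), (1,0x14548), (1,0x2425428), (1,0x12425428), (1,0x3435438),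
    (1,0x13143154318), (5,0x87), (1,0x123142314354231435428), (9,0x425431654376548765), (8,0x654276548765),
    (8,0x654276543187654234), (7,0x8765), (8,0x65427654318765), (1,0x13168), (7,0x318765), (1,0x123168),
    (8,0x6542765431876543), (7,0x876542), (1,0x24268), (1,0x124268), (1,0x34368), (1,0x13143168), (1,0x23423468),
    (1,0x123142314368), (1,0x5658), (1,0x15658), (1,0x25658), (1,0x125658), (1,0x35658), (1,0x1315658),
    (1,0x235658), (1,0x12315658), (1,0x4546548), (1,0x14546548), (1,0x24254265428), (1,0x124254265428),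
    (1,0x34354365438), (1,0x1314315431654318), (1,0x234234542345654234568),
    (1,0x1231423143542314354265423143542654318), (1,0x787), (1,0x1787), (1,0x2787), (1,0x12787), (1,0x3787),
    (1,0x131787), (1,0x23787), (1,0x1231787), (1,0x4787), (1,0x14787), (1,0x242787), (1,0x1242787), (1,0x343787),
    (1,0x131431787), (1,0x234234787), (1,0x1231423143787), (1,0x5787), (1,0x15787), (1,0x25787), (1,0x125787),
    (1,0x35787), (1,0x1315787), (1,0x235787), (1,0x12315787), (1,0x454787), (1,0x1454787), (1,0x242542787),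
    (1,0x1242542787), (1,0x343543787), (1,0x1314315431787), (1,0x234234542345787), (1,0x12314231435423143542787),
    (1,0x676876), (1,0x1676876), (1,0x2676876), (1,0x12676876), (1,0x3676876), (1,0x131676876), (1,0x23676876),
    (1,0x1231676876), (1,0x4676876), (1,0x14676876), (1,0x242676876), (1,0x1242676876), (1,0x343676876),
    (1,0x131431676876), (1,0x234234676876), (1,0x1231423143676876), (1,0x5657658765), (1,0x15657658765),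
    (1,0x25657658765), (1,0x125657658765), (1,0x35657658765), (1,0x1315657658765), (1,0x235657658765),
    (1,0x12315657658765), (1,0x454654765487654), (1,0x1454654765487654), (1,0x242542654276542876542),
    (1,0x1242542654276542876542), (1,0x343543654376543876543), (1,0x1314315431654317654318765431),
    (1,0x234234542345654234567654234567876542345678), (2,0)]

theorem k0 : band (decide (cls.map tabE8.rootc = [] :: [[239], [239, 226], [239, 226, 159], [239, 226, 159, 121], [239, 214, 191, 184], [239, 214, 191, 184, 121],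
    [239, 214, 191, 184, 126, 121], [239, 214, 191, 184, 141, 126, 121], [239, 226, 159, 152, 141, 135, 126, 121]]))
    (band (allL cls fun c => tabE8.okW (Tab.wordc c)) (tabE8.chkJs id ol W0 cls EE 0)) = true := by decide +kernel

theorem r0 : tabE8.chkRk [239] 58 = true := by decide +kernel
theorem r1 : tabE8.chkRk [232, 233] 92 = true := by decide +kernel
theorem r2 : tabE8.chkRk [228, 222, 218] 110 = true := by decide +kernel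
theorem r3 : tabE8.chkRk [226, 220, 213, 216] 120 = true := by decide +kernel

variable {F : Type*} [Field F] [Fintype F] [CharP F 2]

theorem x1 (c : tabE8_chk.Cx (⊤ : Subgroup (chevE8.group F)) id ol) :
    Cj (⊤ : Subgroup (chevE8.group F)) (tabE8_chk.yw F [0]) (tabE8_chk.yw F [239]) :=
  c.cjW [7, 6, 5, 4, 3, 2, 1, 3, 4, 5, 6, 0, 2, 3, 4, 5, 1, 3, 4, 2, 3, 0, 2, 1, 3, 4, 5, 6, 7, 6, 5, 4, 3, 2, 1, 3, 4, 5, 6, 0, 2, 3, 4, 5, 1, 3, 4, 2, 3, 0, 2, 1, 3, 4, 5, 6, 7] (by decide +kernel)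

theorem x2 (c : tabE8_chk.Cx (⊤ : Subgroup (chevE8.group F)) id ol) :
    Cj (⊤ : Subgroup (chevE8.group F)) (tabE8_chk.yw F [0, 13]) (tabE8_chk.yw F [232, 233]) :=
  c.cjW [2, 3, 4, 5, 6, 0, 2, 3, 4, 5, 1, 3, 4, 2, 3, 0, 2, 1, 3, 4, 5, 6, 7, 6, 5, 4, 3, 2, 1, 3, 4, 5, 6, 0, 2, 3, 4, 5, 1, 3, 4, 2, 3, 0, 2, 1, 3, 4, 5, 6, 7, 0, 2, 3, 4, 5, 1, 3, 4, 2, 3, 0, 2, 1, 3, 4, 5, 6, 5, 4, 3, 2, 1, 3, 4, 5, 0, 2, 3, 4, 1, 3, 2, 0] (by decide +kernel)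

theorem x3 (c : tabE8_chk.Cx (⊤ : Subgroup (chevE8.group F)) id ol) :
    Cj (⊤ : Subgroup (chevE8.group F)) (tabE8_chk.yw F [0, 13, 80]) (tabE8_chk.yw F [228, 222, 218]) :=
  c.cjW [6, 0, 2, 3, 4, 5, 1, 3, 4, 2, 3, 0, 2, 1, 3, 4, 5, 6, 7, 6, 5, 4, 3, 2, 1, 3, 4, 5, 6, 0, 2, 3, 4, 5, 1, 3, 4, 2, 3, 0, 2, 1, 3, 4, 5, 6, 7, 5, 4, 3, 2, 1, 3, 4, 5, 6, 0, 2, 3, 4, 5, 1, 3, 4, 2, 3, 0, 2, 1, 3, 4, 5, 6, 0, 2, 3, 4, 5, 1, 3, 4, 2, 3, 0, 2, 1, 3, 4, 5, 4, 3, 2, 0] (by decide +kernel)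

theorem x4 (c : tabE8_chk.Cx (⊤ : Subgroup (chevE8.group F)) id ol) :
    Cj (⊤ : Subgroup (chevE8.group F)) (tabE8_chk.yw F [0, 13, 80, 118]) (tabE8_chk.yw F [228, 222, 218]) :=
  (c.cjF [[117], [160], [227], [120]] (b := [0, 13, 80]) (by decide +kernel)).trans
    (c.cjW [6, 0, 2, 3, 4, 5, 1, 3, 4, 2, 3, 0, 2, 1, 3, 4, 5, 6, 7, 6, 5, 4, 3, 2, 1, 3, 4, 5, 6, 0, 2, 3, 4, 5, 1, 3, 4, 2, 3, 0, 2, 1, 3, 4, 5, 6, 7, 5, 4, 3, 2, 1, 3, 4, 5, 6, 0, 2, 3, 4, 5, 1, 3, 4, 2, 3, 0, 2, 1, 3, 4, 5, 6, 0, 2, 3, 4, 5, 1, 3, 4, 2, 3, 0, 2, 1, 3, 4, 5, 4, 3, 2, 0] (by decide +kernel))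

theorem x5 (c : tabE8_chk.Cx (⊤ : Subgroup (chevE8.group F)) id ol) :
    Cj (⊤ : Subgroup (chevE8.group F)) (tabE8_chk.yw F [0, 25, 48, 55]) (tabE8_chk.yw F [226, 220, 213, 216]) :=
  c.cjW [0, 2, 3, 4, 5, 1, 3, 4, 2, 3, 0, 2, 1, 3, 4, 5, 6, 7, 5, 4, 3, 2, 1, 3, 4, 5, 6, 0, 2, 3, 4, 5, 1, 3, 4, 2, 3, 0, 2, 1, 3, 4, 5, 6, 7, 2, 1, 3, 4, 5, 6, 0, 2, 3, 4, 5, 1, 3, 4, 2, 3, 0, 2, 1, 3, 4, 5, 6, 2, 3, 4, 5, 1, 3, 4, 2, 3, 0, 2, 1, 3, 4, 5, 4, 2, 3, 0, 2, 1, 3, 4, 3, 0, 2, 1, 3, 0, 2] (by decide +kernel)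

theorem x6 (c : tabE8_chk.Cx (⊤ : Subgroup (chevE8.group F)) id ol) :
    Cj (⊤ : Subgroup (chevE8.group F)) (tabE8_chk.yw F [0, 25, 48, 55, 118]) (tabE8_chk.yw F [226, 220, 213, 216]) :=
  (c.cjF [[117], [192], [215], [120]] (b := [0, 25, 48, 55]) (by decide +kernel)).trans
    (c.cjW [0, 2, 3, 4, 5, 1, 3, 4, 2, 3, 0, 2, 1, 3, 4, 5, 6, 7, 5, 4, 3, 2, 1, 3, 4, 5, 6, 0, 2, 3, 4, 5, 1, 3, 4, 2, 3, 0, 2, 1, 3, 4, 5, 6, 7, 2, 1, 3, 4, 5, 6, 0, 2, 3, 4, 5, 1, 3, 4, 2, 3, 0, 2, 1, 3, 4, 5, 6, 2, 3, 4, 5, 1, 3, 4, 2, 3, 0, 2, 1, 3, 4, 5, 4, 2, 3, 0, 2, 1, 3, 4, 3, 0, 2, 1, 3, 0, 2] (by decide +kernel))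

theorem x7 (c : tabE8_chk.Cx (⊤ : Subgroup (chevE8.group F)) id ol) :
    Cj (⊤ : Subgroup (chevE8.group F)) (tabE8_chk.yw F [0, 25, 48, 55, 113, 118]) (tabE8_chk.yw F [226, 220, 213, 216]) :=
  ((c.cjF [[117], [192], [215], [120]] (b := [0, 25, 55, 48, 113]) (by decide +kernel)).trans
    (c.cjW [5, 6, 4, 5] (by decide +kernel))).trans (x6 c)

theorem x8 (c : tabE8_chk.Cx (⊤ : Subgroup (chevE8.group F)) id ol) :
    Cj (⊤ : Subgroup (chevE8.group F)) (tabE8_chk.yw F [0, 25, 48, 55, 98, 113, 118]) (tabE8_chk.yw F [226, 220, 213, 216]) :=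
  ((c.cjF [[117], [192], [215], [120]] (b := [0, 55, 25, 48, 98, 113]) (by decide +kernel)).trans
    (c.cjW [3, 4, 5, 6, 1, 3, 4, 5] (by decide +kernel))).trans (x7 c)

theorem x9 (c : tabE8_chk.Cx (⊤ : Subgroup (chevE8.group F)) id ol) :
    Cj (⊤ : Subgroup (chevE8.group F)) (tabE8_chk.yw F [0, 13, 80, 87, 98, 104, 113, 118]) (tabE8_chk.yw F [226, 220, 213, 216]) :=
  ((c.cjF [[117], [160], [227], [120]] (b := [0, 13, 87, 98, 80, 104, 113]) (by decide +kernel)).trans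
    (c.cjW [2, 3, 4, 5, 6, 0, 2, 3, 4, 5] (by decide +kernel))).trans (x8 c)

theorem cover (c : tabE8_chk.Cx (⊤ : Subgroup (chevE8.group F)) id ol) :
    ∀ t ∈ (⊤ : Subgroup (chevE8.group F)), orderOf t = 2 → ∃ y ∈ [[239], [232, 233], [228, 222, 218], [226, 220, 213, 216]], Cj (⊤ : Subgroup (chevE8.group F)) t (tabE8_chk.yw F y) :=
  c.classes' W0 cls EE k0 (by
    simp only [List.forall_mem_cons]
    exact ⟨⟨[239], by simp, (c.cjN (by decide +kernel)).trans (x1 c)⟩,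
      ⟨[232, 233], by simp, (c.cjN (by decide +kernel)).trans (x2 c)⟩,
      ⟨[228, 222, 218], by simp, (c.cjN (by decide +kernel)).trans (x3 c)⟩,
      ⟨[228, 222, 218], by simp, (c.cjN (by decide +kernel)).trans (x4 c)⟩,
      ⟨[226, 220, 213, 216], by simp, (c.cjN (by decide +kernel)).trans (x5 c)⟩,
      ⟨[226, 220, 213, 216], by simp, (c.cjN (by decide +kernel)).trans (x6 c)⟩,
      ⟨[226, 220, 213, 216], by simp, (c.cjN (by decide +kernel)).trans (x7 c)⟩,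
      ⟨[226, 220, 213, 216], by simp, (c.cjN (by decide +kernel)).trans (x8 c)⟩,
      ⟨[226, 220, 213, 216], by simp, (c.cjN (by decide +kernel)).trans (x9 c)⟩, by simp⟩)

theorem ords : ∀ l ∈ [[239], [232, 233], [228, 222, 218], [226, 220, 213, 216]], orderOf (tabE8_chk.yw F l) = 2 := by
  simp only [List.forall_mem_cons]
  exact ⟨tabE8_chk.ord_yw (by decide +kernel) r0, tabE8_chk.ord_yw (by decide +kernel) r1, tabE8_chk.ord_yw (by decide +kernel) r2, tabE8_chk.ord_yw (by decide +kernel) r3, by simp⟩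

theorem ncj (M : Subgroup (chevE8.group F)) : [[239], [232, 233], [228, 222, 218], [226, 220, 213, 216]].Pairwise fun a b => ¬ Cj M (tabE8_chk.yw F a) (tabE8_chk.yw F b) := by
  simp only [List.pairwise_cons, List.forall_mem_cons]
  exact ⟨⟨tabE8_chk.ncj_rk r0 r1 (by decide) M, tabE8_chk.ncj_rk r0 r2 (by decide) M, tabE8_chk.ncj_rk r0 r3 (by decide) M, by simp⟩,
    ⟨tabE8_chk.ncj_rk r1 r2 (by decide) M, tabE8_chk.ncj_rk r1 r3 (by decide) M, by simp⟩,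
    ⟨tabE8_chk.ncj_rk r2 r3 (by decide) M, by simp⟩,
    by simp, List.Pairwise.nil⟩

theorem cx : tabE8_chk.Cx (⊤ : Subgroup (chevE8.group F)) id ol := tabE8_chk.cx_top (by decide +kernel)

end

/-- Conjugacy classes of involutions in the Chevalley group of type E₈ over a finite field F of characteristic two (the matrix group generated by the root elements x_r(t)). In this problem's root numbering for type E₈ (the Chevalley data module; fundamental roots numbered so that p₁–p₃–p₄–p₅–p₆–p₇–p₈ is the long chain of the diagram and p₂ is joined to p₄; roots indexed by their coefficient vectors in increasing order) let r = 239 be the highest root (2,3,4,6,5,4,3,2), α = 232 = (2,2,4,5,4,3,2,1), β = 233 = (2,3,3,5,4,3,2,1), γ = 228 = (2,2,3,4,3,2,2,1), δ = 222 = (1,2,3,4,3,3,2,1), ε = 218 = (1,2,2,4,4,3,2,1), φ = 226 = (2,2,3,4,3,2,1,0), ψ = 220 = (1,2,3,4,3,2,1,1),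 θ = 213 = (1,2,2,3,3,3,2,1), ω = 216 = (1,2,2,4,3,2,2,1) (the roots within each of {α, β}, {γ, δ, ε}, {φ, ψ, θ, ω} pairwise orthogonal); consider x_r(1), x_α(1)x_β(1), x_γ(1)x_δ(1)x_ε(1) and x_φ(1)x_ψ(1)x_θ(1)x_ω(1). Then: each invertible matrix equal to one of these four products lies in the group and has order 2; every element of order 2 of the group is conjugate in the group to one of them; and no two of them are conjugate in the group (so, the four matrices being distinct, the group has exactly four conjugacy classes of involutions). -/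
theorem result {F : Type*} [Field F] [Fintype F] [CharP F 2] :
    (∀ y : GL Cfsg.Lie.chevE8.Idx F, ((y : GL Cfsg.Lie.chevE8.Idx F) : Matrix Cfsg.Lie.chevE8.Idx Cfsg.Lie.chevE8.Idx F) ∈ [Cfsg.Lie.chevE8.x F 239 1, Cfsg.Lie.chevE8.x F 232 1 * Cfsg.Lie.chevE8.x F 233 1, Cfsg.Lie.chevE8.x F 228 1 * Cfsg.Lie.chevE8.x F 222 1 * Cfsg.Lie.chevE8.x F 218 1, Cfsg.Lie.chevE8.x F 226 1 * Cfsg.Lie.chevE8.x F 220 1 * Cfsg.Lie.chevE8.x F 213 1 * Cfsg.Lie.chevE8.x F 216 1] → y ∈ Cfsg.Lie.chevE8.group F ∧ orderOf y = 2) ∧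
    (∀ g ∈ Cfsg.Lie.chevE8.group F, orderOf g = 2 → ∃ y ∈ Cfsg.Lie.chevE8.group F, ((y : GL Cfsg.Lie.chevE8.Idx F) : Matrix Cfsg.Lie.chevE8.Idx Cfsg.Lie.chevE8.Idx F) ∈ [Cfsg.Lie.chevE8.x F 239 1, Cfsg.Lie.chevE8.x F 232 1 * Cfsg.Lie.chevE8.x F 233 1, Cfsg.Lie.chevE8.x F 228 1 * Cfsg.Lie.chevE8.x F 222 1 * Cfsg.Lie.chevE8.x F 218 1, Cfsg.Lie.chevE8.x F 226 1 * Cfsg.Lie.chevE8.x F 220 1 * Cfsg.Lie.chevE8.x F 213 1 * Cfsg.Lie.chevE8.x F 216 1] ∧ ∃ h ∈ Cfsg.Lie.chevE8.group F, h * g * h⁻¹ = y) ∧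
    (∀ y₁ ∈ Cfsg.Lie.chevE8.group F, ∀ y₂ ∈ Cfsg.Lie.chevE8.group F, ((y₁ : GL Cfsg.Lie.chevE8.Idx F) : Matrix Cfsg.Lie.chevE8.Idx Cfsg.Lie.chevE8.Idx F) ∈ [Cfsg.Lie.chevE8.x F 239 1, Cfsg.Lie.chevE8.x F 232 1 * Cfsg.Lie.chevE8.x F 233 1, Cfsg.Lie.chevE8.x F 228 1 * Cfsg.Lie.chevE8.x F 222 1 * Cfsg.Lie.chevE8.x F 218 1, Cfsg.Lie.chevE8.x F 226 1 * Cfsg.Lie.chevE8.x F 220 1 * Cfsg.Lie.chevE8.x F 213 1 * Cfsg.Lie.chevE8.x F 216 1] → ((y₂ : GL Cfsg.Lie.chevE8.Idx F) : Matrix Cfsg.Lie.chevE8.Idx Cfsg.Lie.chevE8.Idx F) ∈ [Cfsg.Lie.chevE8.x F 239 1, Cfsg.Lie.chevE8.x F 232 1 * Cfsg.Lie.chevE8.x F 233 1, Cfsg.Lie.chevE8.x F 228 1 * Cfsg.Lie.chevE8.x F 222 1 * Cfsg.Lie.chevE8.x F 218 1, Cfsg.Lie.chevE8.x F 226 1 * Cfsg.Lie.chevE8.x F 220 1 * Cfsg.Lie.chevE8.x F 213 1 * Cfsg.Lie.chevE8.x F 216 1] →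
      (∃ h ∈ Cfsg.Lie.chevE8.group F, h * y₁ * h⁻¹ = y₂) → ((y₁ : GL Cfsg.Lie.chevE8.Idx F) : Matrix Cfsg.Lie.chevE8.Idx Cfsg.Lie.chevE8.Idx F) = ((y₂ : GL Cfsg.Lie.chevE8.Idx F) : Matrix Cfsg.Lie.chevE8.Idx Cfsg.Lie.chevE8.Idx F)) := by
  exact H24.tabE8_chk.classes_reps _ (by decide +kernel) ords (fun t => cover cx t trivial) (ncj _) (by simp [mul_assoc])

end Cfsg.Agent.S2176
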