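import Cfsg.Statements.S2177
import Cfsg.Agent.H24.InvChk
import Cfsg.Agent.H24.DataG2

set_option autoImplicit false
set_option maxHeartbeats 400000
open Cfsg

namespace Cfsg.Agent.S2177

section
open H24 Cfsg.Lie

def ol : List ℕ := [0, 1]

def W0 : List ℕ := [0, 1, 0, 1, 0, 1]

def cls : List (List (List ℕ × ℕ)) := [[], [([1, 0], 1)], [([0, 1], 0)], [([1, 0], 1), ([], 0)]]

def EE : List (ℕ × ℕ) := [(5,0), (3,0), (4,0), (2,0)]

theorem k0 : band (decide (cls.map tabG2.rootc = [] :: [[11], [9], [11, 7]]))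
    (band (allL cls fun c => tabG2.okW (Tab.wordc c)) (tabG2.chkJs id ol W0 cls EE 0)) = true := by decide +kernel

theorem r0 : tabG2.chkRk [11] 6 = true := by decide +kernel
theorem r1 : tabG2.chkRk [9] 6 = true := by decide +kernel

variable {F : Type*} [Field F] [Fintype F] [CharP F 2]

theorem x1 (c : tabG2_chk.Cx (⊤ : Subgroup (chevG2.group F)) id ol) :
    Cj (⊤ : Subgroup (chevG2.group F)) (tabG2_chk.yw F [0]) (tabG2_chk.yw F [11]) :=
  c.cjW [1, 0, 1, 0, 1] (by decide +kernel)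

theorem x2 (c : tabG2_chk.Cx (⊤ : Subgroup (chevG2.group F)) id ol) :
    Cj (⊤ : Subgroup (chevG2.group F)) (tabG2_chk.yw F [2]) (tabG2_chk.yw F [9]) :=
  c.cjW [0, 1, 0, 1, 0] (by decide +kernel)

theorem x3 (c : tabG2_chk.Cx (⊤ : Subgroup (chevG2.group F)) id ol) :
    Cj (⊤ : Subgroup (chevG2.group F)) (tabG2_chk.yw F [0, 4]) (tabG2_chk.yw F [9]) :=
  ((c.cjF [[3], [2]] (b := [4]) (by decide +kernel)).trans
    (c.cjW [0, 1] (by decide +kernel))).trans (x2 c)

theorem cover (c : tabG2_chk.Cx (⊤ : Subgroup (chevG2.group F)) id ol) :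
    ∀ t ∈ (⊤ : Subgroup (chevG2.group F)), orderOf t = 2 → ∃ y ∈ [[11], [9]], Cj (⊤ : Subgroup (chevG2.group F)) t (tabG2_chk.yw F y) :=
  c.classes' W0 cls EE k0 (by
    simp only [List.forall_mem_cons]
    exact ⟨⟨[11], by simp, (c.cjN (by decide +kernel)).trans (x1 c)⟩,
      ⟨[9], by simp, (c.cjN (by decide +kernel)).trans (x2 c)⟩,
      ⟨[9], by simp, (c.cjN (by decide +kernel)).trans (x3 c)⟩, by simp⟩)

theorem ords : ∀ l ∈ [[11], [9]], orderOf (tabG2_chk.yw F l) = 2 := by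
  simp only [List.forall_mem_cons]
  exact ⟨tabG2_chk.ord_yw (by decide +kernel) r0, tabG2_chk.ord_yw (by decide +kernel) r1, by simp⟩

theorem ncj (M : Subgroup (chevG2.group F)) : [[11], [9]].Pairwise fun a b => ¬ Cj M (tabG2_chk.yw F a) (tabG2_chk.yw F b) := by
  simp only [List.pairwise_cons, List.forall_mem_cons]
  exact ⟨⟨tabG2_chk.ncj_len (by decide +kernel) M, by simp⟩,
    by simp, List.Pairwise.nil⟩

theorem cx : tabG2_chk.Cx (⊤ : Subgroup (chevG2.group F)) id ol := tabG2_chk.cx_top (by decide +kernel)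

end

/-- Conjugacy classes of involutions in the Chevalley group of type G₂ over a finite field F of characteristic two with at least four elements (the matrix group generated by the root elements x_r(t)). In this problem's root numbering for type G₂ (the Chevalley data module; p₁ = a short, p₂ = b long; roots indexed by coefficient vectors in increasing order) let 11 be the highest root 3a + 2b (long) and 9 the short root 2a + b; consider x_{3a+2b}(1) and x_{2a+b}(1). Then: each invertible matrix equal to one of these two products lies in the group and has order 2; every element of order 2 of the group is conjugate in the group to one of them; and no two of them are conjugate in the group (so, the two matrices being distinct, the group has exactly two conjugacy classes of involutions). -/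
theorem result {F : Type*} [Field F] [Fintype F] [CharP F 2] (hF : 4 ≤ Fintype.card F) :
    (∀ y : GL Cfsg.Lie.chevG2.Idx F, ((y : GL Cfsg.Lie.chevG2.Idx F) : Matrix Cfsg.Lie.chevG2.Idx Cfsg.Lie.chevG2.Idx F) ∈ [Cfsg.Lie.chevG2.x F 11 1, Cfsg.Lie.chevG2.x F 9 1] → y ∈ Cfsg.Lie.chevG2.group F ∧ orderOf y = 2) ∧
    (∀ g ∈ Cfsg.Lie.chevG2.group F, orderOf g = 2 → ∃ y ∈ Cfsg.Lie.chevG2.group F, ((y : GL Cfsg.Lie.chevG2.Idx F) : Matrix Cfsg.Lie.chevG2.Idx Cfsg.Lie.chevG2.Idx F) ∈ [Cfsg.Lie.chevG2.x F 11 1, Cfsg.Lie.chevG2.x F 9 1] ∧ ∃ h ∈ Cfsg.Lie.chevG2.group F, h * g * h⁻¹ = y) ∧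
    (∀ y₁ ∈ Cfsg.Lie.chevG2.group F, ∀ y₂ ∈ Cfsg.Lie.chevG2.group F, ((y₁ : GL Cfsg.Lie.chevG2.Idx F) : Matrix Cfsg.Lie.chevG2.Idx Cfsg.Lie.chevG2.Idx F) ∈ [Cfsg.Lie.chevG2.x F 11 1, Cfsg.Lie.chevG2.x F 9 1] → ((y₂ : GL Cfsg.Lie.chevG2.Idx F) : Matrix Cfsg.Lie.chevG2.Idx Cfsg.Lie.chevG2.Idx F) ∈ [Cfsg.Lie.chevG2.x F 11 1, Cfsg.Lie.chevG2.x F 9 1] →
      (∃ h ∈ Cfsg.Lie.chevG2.group F, h * y₁ * h⁻¹ = y₂) → ((y₁ : GL Cfsg.Lie.chevG2.Idx F) : Matrix Cfsg.Lie.chevG2.Idx Cfsg.Lie.chevG2.Idx F) = ((y₂ : GL Cfsg.Lie.chevG2.Idx F) : Matrix Cfsg.Lie.chevG2.Idx Cfsg.Lie.chevG2.Idx F)) := by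
  exact H24.tabG2_chk.classes_reps _ (by decide +kernel) ords (fun t => cover cx t trivial) (ncj _) (by simp [mul_assoc])

end Cfsg.Agent.S2177
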