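import Cfsg.Statements.S2181
import Cfsg.Agent.H24.InvChk
import Cfsg.Agent.H24.DataE7

set_option autoImplicit false
set_option maxHeartbeats 400000
open Cfsg

namespace Cfsg.Agent.S2181

section
open H24 Cfsg.Lie

def ol : List ℕ := [0, 1, 2, 3, 4, 5, 6]

def W0 : List ℕ := [0, 1, 2, 0, 3, 1, 2, 0, 3, 2, 4, 3, 1, 2, 0, 3, 2, 4, 3, 1, 5, 4, 3, 1, 2, 0, 3, 2, 4, 3, 1, 5, 4, 3, 2, 0,
    6, 5, 4, 3, 1, 2, 0, 3, 2, 4, 3, 1, 5, 4, 3, 2, 0, 6, 5, 4, 3, 1, 2, 3, 4, 5, 6]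

def cls : List (List (List ℕ × ℕ)) := [[], [([0, 2, 3, 1, 4, 3, 2, 0, 5, 4, 3, 1, 2, 3, 4, 5], 6)], [([0, 2, 3, 1, 4, 3, 2, 0, 5, 4, 3, 1, 2, 3, 4,
    5], 6), ([5, 4, 3, 1, 2, 3, 4, 5], 6)], [([0, 2, 3, 1, 4, 3, 2, 0, 5, 4, 3, 1, 2, 3, 4, 5], 6), ([5, 4, 3, 1,
    2, 3, 4, 5], 6), ([], 6)], [([3, 1, 4, 3, 2, 0, 5, 4, 3, 1, 2, 3, 4, 5], 6), ([2, 0, 5, 4, 3, 1, 2, 3, 4, 5],
    6), ([2, 0, 3, 1, 2, 3], 4)], [([3, 1, 4, 3, 2, 0, 5, 4, 3, 1, 2, 3, 4, 5], 6), ([2, 0, 5, 4, 3, 1, 2, 3, 4,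
    5], 6), ([2, 0, 3, 1, 2, 3], 4), ([], 6)], [([0, 2, 3, 1, 4, 3, 2, 0, 5, 4, 3, 1, 2, 3, 4, 5], 6), ([5, 4, 3,
    1, 2, 3, 4, 5], 6), ([3, 1, 2, 3], 4), ([], 2)], [([3, 1, 4, 3, 2, 0, 5, 4, 3, 1, 2, 3, 4, 5], 6), ([2, 0, 5,
    4, 3, 1, 2, 3, 4, 5], 6), ([2, 0, 3, 1, 2, 3], 4), ([], 4), ([], 6)], [([3, 1, 4, 3, 2, 0, 5, 4, 3, 1, 2, 3,
    4, 5], 6), ([2, 0, 5, 4, 3, 1, 2, 3, 4, 5], 6), ([2, 0, 3, 1, 2, 3], 4), ([], 1), ([], 4), ([], 6)], [([0, 2,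
    3, 1, 4, 3, 2, 0, 5, 4, 3, 1, 2, 3, 4, 5], 6), ([5, 4, 3, 1, 2, 3, 4, 5], 6), ([3, 1, 2, 3], 4), ([], 1), ([],
    2), ([], 4), ([], 6)]]

def EE : List (ℕ × ℕ) := [(11,0), (10,0), (10,0x314234), (9,0), (10,0x31), (1,0x131), (9,0x31), (1,0x1231), (10,0x3143), (9,0x42),
    (1,0x242), (1,0x1242), (1,0x343), (1,0x131431), (1,0x234234), (1,0x1231423143), (10,0x314354), (9,0x4254),
    (9,0x42543165423456), (7,0), (9,0x425431), (1,0x1315), (7,0x31), (1,0x12315), (1,0x454), (1,0x1454),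
    (1,0x242542), (1,0x1242542), (1,0x343543), (1,0x1314315431), (5,0), (1,0x12314231435423143542),
    (10,0x31435465), (9,0x425465), (9,0x425431654234), (7,0x65), (9,0x42543165), (1,0x1316), (7,0x3165),
    (1,0x12316), (9,0x4254316543), (7,0x6542), (1,0x2426), (1,0x12426), (1,0x3436), (1,0x1314316), (1,0x2342346),
    (1,0x12314231436), (1,0x565), (1,0x1565), (1,0x2565), (1,0x12565), (1,0x3565), (1,0x131565), (1,0x23565),
    (1,0x1231565), (1,0x454654), (1,0x1454654), (1,0x2425426542), (1,0x12425426542), (1,0x3435436543),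
    (1,0x131431543165431), (1,0x23423454234565423456), (1,0x123142314354231435426542314354265431),
    (10,0x3143546576), (9,0x42546576), (9,0x42543165423476), (7,0x6576), (9,0x4254316576), (1,0x1317),
    (7,0x316576), (1,0x12317), (9,0x425431654376), (7,0x654276), (1,0x2427), (1,0x12427), (1,0x3437),
    (1,0x1314317), (1,0x2342347), (1,0x12314231437), (9,0x42543165437654), (7,0x65427654), (8,0), (6,0),
    (7,0x6542765431), (1,0x13157), (6,0x31), (1,0x123157), (1,0x4547), (1,0x14547), (1,0x2425427), (1,0x12425427),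
    (1,0x3435437), (1,0x13143154317), (4,0), (1,0x123142314354231435427), (1,0x676), (1,0x1676), (1,0x2676),
    (1,0x12676), (1,0x3676), (1,0x131676), (1,0x23676), (1,0x1231676), (1,0x4676), (1,0x14676), (1,0x242676),
    (1,0x1242676), (1,0x343676), (1,0x131431676), (1,0x234234676), (1,0x1231423143676), (1,0x565765),
    (1,0x1565765), (1,0x2565765), (1,0x12565765), (1,0x3565765), (1,0x131565765), (1,0x23565765),
    (1,0x1231565765), (1,0x4546547654), (1,0x14546547654), (1,0x242542654276542), (1,0x1242542654276542),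
    (1,0x343543654376543), (1,0x131431543165431765431), (3,0), (2,0)]

theorem k0 : band (decide (cls.map tabE7.rootc = [] :: [[125], [125, 92], [125, 92, 63], [123, 114, 109], [123, 114, 109, 63], [125, 92, 87, 73], [123, 114, 109, 66,
    63], [123, 114, 109, 78, 66, 63], [125, 92, 87, 78, 73, 66, 63]]))
    (band (allL cls fun c => tabE7.okW (Tab.wordc c)) (tabE7.chkJs id ol W0 cls EE 0)) = true := by decide +kernel

theorem r0 : tabE7.chkRk [125] 34 = true := by decide +kernel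
theorem r1 : tabE7.chkRk [125, 92] 52 = true := by decide +kernel
theorem r2 : tabE7.chkRk [125, 92, 63] 53 = true := by decide +kernel
theorem r3 : tabE7.chkRk [123, 114, 109] 62 = true := by decide +kernel
theorem r4 : tabE7.chkRk [123, 114, 109, 63] 63 = true := by decide +kernel

variable {F : Type*} [Field F] [Fintype F] [CharP F 2]

theorem x1 (c : tabE7_chk.Cx (⊤ : Subgroup (chevE7.group F)) id ol) :
    Cj (⊤ : Subgroup (chevE7.group F)) (tabE7_chk.yw F [0]) (tabE7_chk.yw F [125]) :=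
  c.cjW [0, 2, 3, 4, 5, 1, 3, 4, 2, 3, 0, 2, 1, 3, 4, 5, 6, 5, 4, 3, 2, 1, 3, 4, 5, 0, 2, 3, 4, 1, 3, 2, 0] (by decide +kernel)

theorem x2 (c : tabE7_chk.Cx (⊤ : Subgroup (chevE7.group F)) id ol) :
    Cj (⊤ : Subgroup (chevE7.group F)) (tabE7_chk.yw F [0, 33]) (tabE7_chk.yw F [125, 92]) :=
  c.cjW [5, 4, 3, 2, 1, 3, 4, 5, 6, 0, 2, 3, 4, 5, 1, 3, 4, 2, 3, 0, 2, 1, 3, 4, 5, 6, 0, 2, 3, 4, 5, 1, 3, 4, 2, 3, 0, 2, 1, 3, 4, 5, 0, 2, 3, 4, 1, 3, 2, 0] (by decide +kernel)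

theorem x3 (c : tabE7_chk.Cx (⊤ : Subgroup (chevE7.group F)) id ol) :
    Cj (⊤ : Subgroup (chevE7.group F)) (tabE7_chk.yw F [0, 33, 62]) (tabE7_chk.yw F [125, 92, 63]) :=
  c.cjW [6, 5, 4, 3, 2, 1, 3, 4, 5, 6, 0, 2, 3, 4, 5, 1, 3, 4, 2, 3, 0, 2, 1, 3, 4, 5, 6, 0, 2, 3, 4, 5, 1, 3, 4, 2, 3, 0, 2, 1, 3, 4, 5, 0, 2, 3, 4, 1, 3, 2, 0] (by decide +kernel)

theorem x4 (c : tabE7_chk.Cx (⊤ : Subgroup (chevE7.group F)) id ol) :
    Cj (⊤ : Subgroup (chevE7.group F)) (tabE7_chk.yw F [2, 11, 16]) (tabE7_chk.yw F [123, 114, 109]) :=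
  c.cjW [5, 4, 3, 2, 1, 3, 4, 5, 6, 0, 2, 3, 4, 5, 1, 3, 4, 2, 3, 0, 2, 1, 3, 4, 5, 6, 0, 2, 3, 4, 5, 1, 3, 4, 2, 3, 0, 2, 1, 3, 4, 5, 3, 4, 2, 3, 0, 2, 1, 3, 4, 2, 3, 0, 2, 1, 3, 0, 2] (by decide +kernel)

theorem x5 (c : tabE7_chk.Cx (⊤ : Subgroup (chevE7.group F)) id ol) :
    Cj (⊤ : Subgroup (chevE7.group F)) (tabE7_chk.yw F [2, 11, 16, 62]) (tabE7_chk.yw F [123, 114, 109, 63]) :=
  c.cjW [6, 5, 4, 3, 2, 1, 3, 4, 5, 6, 0, 2, 3, 4, 5, 1, 3, 4, 2, 3, 0, 2, 1, 3, 4, 5, 6, 0, 2, 3, 4, 5, 1, 3, 4, 2, 3, 0, 2, 1, 3, 4, 5, 3, 4, 2, 3, 0, 2, 1, 3, 4, 2, 3, 0, 2, 1, 3, 0, 2] (by decide +kernel)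

theorem x6 (c : tabE7_chk.Cx (⊤ : Subgroup (chevE7.group F)) id ol) :
    Cj (⊤ : Subgroup (chevE7.group F)) (tabE7_chk.yw F [0, 33, 38, 52]) (tabE7_chk.yw F [123, 114, 109]) :=
  (c.cjF [[31], [103], [108], [93]] (b := [0, 33, 38]) (by decide +kernel)).trans
    (c.cjW [5, 4, 3, 2, 1, 3, 4, 5, 6, 0, 2, 3, 4, 5, 1, 3, 4, 2, 3, 0, 2, 1, 3, 4, 5, 6, 0, 2, 3, 4, 5, 1, 3, 4, 2, 3, 0, 2, 1, 3, 4, 5, 3, 4, 2, 3, 0, 2, 1, 3, 4, 2, 3, 0, 2, 1, 3] (by decide +kernel))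

theorem x7 (c : tabE7_chk.Cx (⊤ : Subgroup (chevE7.group F)) id ol) :
    Cj (⊤ : Subgroup (chevE7.group F)) (tabE7_chk.yw F [2, 11, 16, 59, 62]) (tabE7_chk.yw F [123, 114, 109, 63]) :=
  (c.cjF [[60], [67], [110], [64]] (b := [2, 16, 11, 59]) (by decide +kernel)).trans
    (c.cjW [3, 2, 1, 3, 4, 5, 6, 0, 2, 3, 4, 5, 1, 3, 4, 2, 3, 0, 2, 1, 3, 4, 5, 6, 3, 4, 5, 1, 3, 4, 2, 3, 0, 2, 1, 3, 4, 5, 1, 3, 4, 2, 3, 0, 2, 1, 3, 4, 2, 3, 0, 2, 1, 3, 0, 2] (by decide +kernel))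

theorem x8 (c : tabE7_chk.Cx (⊤ : Subgroup (chevE7.group F)) id ol) :
    Cj (⊤ : Subgroup (chevE7.group F)) (tabE7_chk.yw F [2, 11, 16, 47, 59, 62]) (tabE7_chk.yw F [123, 114, 109, 63]) :=
  ((c.cjF [[55], [79], [117], [69]] (b := [11, 2, 16, 47, 62]) (by decide +kernel)).trans
    (c.cjW [3, 4, 1, 3] (by decide +kernel))).trans (x7 c)

theorem x9 (c : tabE7_chk.Cx (⊤ : Subgroup (chevE7.group F)) id ol) :
    Cj (⊤ : Subgroup (chevE7.group F)) (tabE7_chk.yw F [0, 33, 38, 47, 52, 59, 62]) (tabE7_chk.yw F [123, 114, 109, 63]) :=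
  ((c.cjF [[31], [103], [108], [93]] (b := [0, 33, 38, 47, 59, 62]) (by decide +kernel)).trans
    (c.cjW [2, 0] (by decide +kernel))).trans (x8 c)

theorem cover (c : tabE7_chk.Cx (⊤ : Subgroup (chevE7.group F)) id ol) :
    ∀ t ∈ (⊤ : Subgroup (chevE7.group F)), orderOf t = 2 → ∃ y ∈ [[125], [125, 92], [125, 92, 63], [123, 114, 109], [123, 114, 109, 63]], Cj (⊤ : Subgroup (chevE7.group F)) t (tabE7_chk.yw F y) :=
  c.classes' W0 cls EE k0 (by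
    simp only [List.forall_mem_cons]
    exact ⟨⟨[125], by simp, (c.cjN (by decide +kernel)).trans (x1 c)⟩,
      ⟨[125, 92], by simp, (c.cjN (by decide +kernel)).trans (x2 c)⟩,
      ⟨[125, 92, 63], by simp, (c.cjN (by decide +kernel)).trans (x3 c)⟩,
      ⟨[123, 114, 109], by simp, (c.cjN (by decide +kernel)).trans (x4 c)⟩,
      ⟨[123, 114, 109, 63], by simp, (c.cjN (by decide +kernel)).trans (x5 c)⟩,
      ⟨[123, 114, 109], by simp, (c.cjN (by decide +kernel)).trans (x6 c)⟩,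
      ⟨[123, 114, 109, 63], by simp, (c.cjN (by decide +kernel)).trans (x7 c)⟩,
      ⟨[123, 114, 109, 63], by simp, (c.cjN (by decide +kernel)).trans (x8 c)⟩,
      ⟨[123, 114, 109, 63], by simp, (c.cjN (by decide +kernel)).trans (x9 c)⟩, by simp⟩)

theorem ords : ∀ l ∈ [[125], [125, 92], [125, 92, 63], [123, 114, 109], [123, 114, 109, 63]], orderOf (tabE7_chk.yw F l) = 2 := by
  simp only [List.forall_mem_cons]
  exact ⟨tabE7_chk.ord_yw (by decide +kernel) r0, tabE7_chk.ord_yw (by decide +kernel) r1, tabE7_chk.ord_yw (by decide +kernel) r2, tabE7_chk.ord_yw (by decide +kernel) r3, tabE7_chk.ord_yw (by decide +kernel) r4, by simp⟩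

theorem ncj (M : Subgroup (chevE7.group F)) : [[125], [125, 92], [125, 92, 63], [123, 114, 109], [123, 114, 109, 63]].Pairwise fun a b => ¬ Cj M (tabE7_chk.yw F a) (tabE7_chk.yw F b) := by
  simp only [List.pairwise_cons, List.forall_mem_cons]
  exact ⟨⟨tabE7_chk.ncj_rk r0 r1 (by decide) M, tabE7_chk.ncj_rk r0 r2 (by decide) M, tabE7_chk.ncj_rk r0 r3 (by decide) M, tabE7_chk.ncj_rk r0 r4 (by decide) M, by simp⟩,
    ⟨tabE7_chk.ncj_rk r1 r2 (by decide) M, tabE7_chk.ncj_rk r1 r3 (by decide) M, tabE7_chk.ncj_rk r1 r4 (by decide) M, by simp⟩,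
    ⟨tabE7_chk.ncj_rk r2 r3 (by decide) M, tabE7_chk.ncj_rk r2 r4 (by decide) M, by simp⟩,
    ⟨tabE7_chk.ncj_rk r3 r4 (by decide) M, by simp⟩,
    by simp, List.Pairwise.nil⟩

theorem cx : tabE7_chk.Cx (⊤ : Subgroup (chevE7.group F)) id ol := tabE7_chk.cx_top (by decide +kernel)

end

/-- The Chevalley group of type E₇ over a finite field of characteristic two (the matrix group generated by the root elements) has exactly five conjugacy classes of elements of order 2. -/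
theorem result {F : Type*} [Field F] [Fintype F] [CharP F 2] :
    (ConjClasses.mk '' {g : ↥(Cfsg.Lie.chevE7.group F) | orderOf g = 2}).ncard = 5 := by
  exact cx.ncard Subgroup.topEquiv _ (by decide +kernel) ords (cover cx) (ncj _)

end Cfsg.Agent.S2181
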