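import Cfsg.Statements.S2183
import Cfsg.Agent.H24.InvChk
import Cfsg.Agent.H24.TwD4

set_option autoImplicit false
set_option maxHeartbeats 400000
open Cfsg

namespace Cfsg.Agent.S2183

section
open H24 Cfsg.Lie

def ol : List ℕ := [1, 0, 1, 1]

def W0 : List ℕ := [0, 1, 0, 2, 1, 0, 3, 1, 0, 2, 1, 3]

def cls : List (List (List ℕ × ℕ)) := [[], [([1, 0, 2, 1], 3)], [([0, 1], 2), ([0, 1], 3), ([2, 1], 3)], [([1, 0, 2, 1], 3), ([], 0), ([], 2), ([],
    3)]]

def EE : List (ℕ × ℕ) := [(5,0), (0,0), (4,0), (0,0), (0,0), (0,0), (0,0), (0,0), (0,0), (0,0), (0,0), (0,0), (0,0), (3,0), (0,0),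
    (2,0)]

theorem k0 : band (decide (cls.map tabD4.rootc = [] :: [[23], [21, 20, 17], [23, 18, 13, 12]]))
    (band (allL cls fun c => tabD4.okW (Tab.wordc c)) (tabD4.chkJs morD4a.ph ol W0 cls EE 0)) = true := by decide +kernel

theorem r0 : tabD4.chkRk [23] 10 = true := by decide +kernel
theorem r1 : tabD4.chkRk [21, 20, 17] 12 = true := by decide +kernel

variable {F : Type*} [Field F] [Fintype F] [CharP F 2] {M : Subgroup (chevD4.group F)}

theorem x1 (c : tabD4_chk.Cx M morD4a.ph ol) :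
    Cj M (tabD4_chk.yw F [0]) (tabD4_chk.yw F [23]) :=
  c.cjW [1, 2, 0, 1, 3, 1, 2, 0, 1] (by decide +kernel)

theorem x2 (c : tabD4_chk.Cx M morD4a.ph ol) :
    Cj M (tabD4_chk.yw F [2, 3, 6]) (tabD4_chk.yw F [21, 20, 17]) :=
  c.cjW [3, 1, 2, 0, 1, 3, 0, 1, 2, 1, 0] (by decide +kernel)

theorem x3 (c : tabD4_chk.Cx M morD4a.ph ol) :
    Cj M (tabD4_chk.yw F [0, 5, 10, 11]) (tabD4_chk.yw F [21, 20, 17]) :=
  ((c.cjF [[4, 7, 8], [2, 3, 6]] (b := [11, 10, 5]) (by decide +kernel)).trans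
    (c.cjW [3, 2, 0, 1] (by decide +kernel))).trans (x2 c)

theorem cover (c : tabD4_chk.Cx M morD4a.ph ol) :
    ∀ t ∈ M, orderOf t = 2 → ∃ y ∈ [[23], [21, 20, 17]], Cj M t (tabD4_chk.yw F y) :=
  c.classes' W0 cls EE k0 (by
    simp only [List.forall_mem_cons]
    exact ⟨⟨[23], by simp, (c.cjN (by decide +kernel)).trans (x1 c)⟩,
      ⟨[21, 20, 17], by simp, (c.cjN (by decide +kernel)).trans (x2 c)⟩,
      ⟨[21, 20, 17], by simp, (c.cjN (by decide +kernel)).trans (x3 c)⟩, by simp⟩)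

theorem ords : ∀ l ∈ [[23], [21, 20, 17]], orderOf (tabD4_chk.yw F l) = 2 := by
  simp only [List.forall_mem_cons]
  exact ⟨tabD4_chk.ord_yw (by decide +kernel) r0, tabD4_chk.ord_yw (by decide +kernel) r1, by simp⟩

theorem ncj (M : Subgroup (chevD4.group F)) : [[23], [21, 20, 17]].Pairwise fun a b => ¬ Cj M (tabD4_chk.yw F a) (tabD4_chk.yw F b) := by
  simp only [List.pairwise_cons, List.forall_mem_cons]
  exact ⟨⟨tabD4_chk.ncj_rk r0 r1 (by decide) M, by simp⟩,
    by simp, List.Pairwise.nil⟩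

end

/-- The twisted group ³D₄(q), q even, realised inside the Chevalley group of type D₄ over the field K with q³ elements, has exactly two conjugacy classes of elements of order 2. -/
theorem result {K : Type*} [Field K] [Fintype K] [CharP K 2] (q : ℕ) (hK : Fintype.card K = q ^ 3) :
    (ConjClasses.mk '' {g : ↥(Cfsg.Lie.twistedD4 K q) | orderOf g = 2}).ncard = 2 := by
  have hq : IsPrimePow q := (isPrimePow_pow_iff three_ne_zero).1 (hK ▸ FiniteField.isPrimePow_card K)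
  obtain ⟨f, hf, hfq⟩ := H24.D4.exists_f hq hK
  have c := H24.tabD4_chk.cx_tw _ _ _ _ _ _ _ (H24.D4.sub f hf) (H24.D4.hJ f hf)
  exact c.ncard (((H24.D4.z f hf).G1 (H24.D4.O f hf)).equivMapOfInjective _ (Subgroup.subtype_injective _) |>.trans
    (MulEquiv.subgroupCongr (H24.D4.gen_eq f hf hfq).symm)) _ (by decide +kernel) ords (cover c) (ncj _)

end Cfsg.Agent.S2183
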