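import Cfsg.Statements.S2272
import Cfsg.Agent.H23.Lin

set_option autoImplicit false
open Cfsg

namespace Cfsg.Agent.S2272

open Matrix

section
variable {F : Type*} [Field F] {d : ℕ}

theorem exists_fun {W : Submodule F (Fin d → F)} {x : Fin d → F} (hx : x ∉ W) :
    ∃ f : Fin d → F, (∀ y ∈ W, f ⬝ᵥ y = 0) ∧ f ⬝ᵥ x = 1 := by
  obtain ⟨φ, h1, h2⟩ := H23.exists_dual_eq_one hx
  have key : ∀ y, (fun i => φ (Pi.single i 1)) ⬝ᵥ y = φ y := by
    intro y
    rw [LinearMap.pi_apply_eq_sum_univ φ y]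
    simp only [dotProduct, smul_eq_mul]
    refine Finset.sum_congr rfl fun i _ => ?_
    rw [mul_comm]
    congr 2
    ext j
    simp [Pi.single_apply, eq_comm]
  exact ⟨_, fun y hy => by rw [key, h1 y hy], by rw [key, h2]⟩

/-- the transvection `1 + s x f^T` -/
def tv (s : F) (x f : Fin d → F) (h : f ⬝ᵥ x = 0) : SpecialLinearGroup (Fin d) F :=
  ⟨1 + vecMulVec (s • x) f, by
    rw [vecMulVec_eq Unit, det_one_add_replicateCol_mul_replicateRow]
    simp [h]⟩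

theorem cm (A B : SpecialLinearGroup (Fin d) F) : (A * B).1 = A.1 * B.1 := rfl
theorem c1 : (1 : SpecialLinearGroup (Fin d) F).1 = 1 := rfl
theorem tv_val (s : F) (x f : Fin d → F) (h : f ⬝ᵥ x = 0) :
    (tv s x f h).1 = 1 + vecMulVec (s • x) f := rfl

theorem tv_inv (s : F) (x f : Fin d → F) (h : f ⬝ᵥ x = 0) :
    (tv s x f h)⁻¹ = tv (-s) x f h := by
  rw [inv_eq_iff_mul_eq_one]
  apply Subtype.ext
  simp only [tv_val, cm, c1, add_mul, mul_add, one_mul,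
    mul_one, vecMulVec_mul_vecMulVec]
  ext i j
  simp [h, vecMulVec_apply]

theorem trace_tv (t : F) (u f : Fin d → F) (h : f ⬝ᵥ u = 0) (A B : SpecialLinearGroup (Fin d) F)
    (hA : f ⬝ᵥ (A.1 *ᵥ u) = 0) :
    trace ((tv t u f h * A * (tv t u f h)⁻¹ * B).1) =
      trace (A.1 * B.1) + t * (f ⬝ᵥ (A.1 *ᵥ (B.1 *ᵥ u)) - f ⬝ᵥ (B.1 *ᵥ (A.1 *ᵥ u))) := by
  rw [tv_inv]
  simp only [tv_val, cm, add_mul, mul_add, one_mul, mul_one, trace_add,
    vecMulVec_mul, mul_vecMulVec, trace_vecMulVec, vecMulVec_mulVec]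
  have e1 : (s : F) → ∀ v : Fin d → F, A.1 *ᵥ (s • v) = s • (A.1 *ᵥ v) := fun s v => by
    rw [mulVec_smul]
  have e2 : f ᵥ* A.1 ⬝ᵥ u = 0 := by rw [← dotProduct_mulVec, hA]
  have e3 : u ⬝ᵥ (f ᵥ* A.1 ᵥ* B.1) = f ⬝ᵥ (A.1 *ᵥ (B.1 *ᵥ u)) := by
    rw [dotProduct_comm, ← dotProduct_mulVec, ← dotProduct_mulVec]
  have e4 : (A.1 *ᵥ u) ⬝ᵥ (f ᵥ* B.1) = f ⬝ᵥ (B.1 *ᵥ (A.1 *ᵥ u)) := by
    rw [dotProduct_comm, ← dotProduct_mulVec]
  simp only [e1, smul_dotProduct, dotProduct_smul, e2, e3, e4, smul_eq_mul, mul_zero,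
    MulOpposite.op_zero, zero_smul, zero_dotProduct]
  ring

theorem exists_li {A : SpecialLinearGroup (Fin d) F} (hA : A ∉ Subgroup.center _) :
    ∃ u, LinearIndependent F ![u, A.1 *ᵥ u] := by
  by_contra hc
  push Not at hc
  apply hA
  rcases Nat.eq_zero_or_pos d with rfl | hd
  · rw [Subsingleton.elim A 1]; exact one_mem _
  have hc' : ∀ v, ¬ LinearIndependent F ![v, Matrix.toLin' A.1 v] := by simpa using hc
  obtain ⟨c, hc2⟩ := LinearMap.exists_eq_smul_id_of_forall_notLinearIndependent hc'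
  rw [Subgroup.mem_center_iff]
  intro g
  apply Subtype.ext
  have : A.1 = c • (1 : Matrix (Fin d) (Fin d) F) := by
    apply Matrix.toLin'.injective
    rw [hc2]; simp; rfl
  simp [this]

theorem exists_sl (hd : 3 ≤ d) {v w : Fin 2 → Fin d → F} (hv : LinearIndependent F v)
    (hw : LinearIndependent F w) : ∃ g : SpecialLinearGroup (Fin d) F, ∀ i, g.1 *ᵥ v i = w i := by
  obtain ⟨g, hg, h⟩ := H23.exists_SLv_map_family hv hw (by simp; omega)
  refine ⟨⟨LinearMap.toMatrix' g.toLinearMap, by rw [LinearMap.det_toMatrix']; exact H23.mem_SLv.1 hg⟩,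
    fun i => ?_⟩
  rw [← h i, ← Matrix.toLin'_apply]; simp

theorem exists_good (hd : 3 ≤ d) {A B : SpecialLinearGroup (Fin d) F}
    (hA : A ∉ Subgroup.center _) (hB : B ∉ Subgroup.center _) :
    ∃ (h : SpecialLinearGroup (Fin d) F) (u f : Fin d → F), f ⬝ᵥ u = 0 ∧ f ⬝ᵥ (A.1 *ᵥ u) = 0 ∧
      f ⬝ᵥ (A.1 *ᵥ ((h * B * h⁻¹).1 *ᵥ u)) - f ⬝ᵥ ((h * B * h⁻¹).1 *ᵥ (A.1 *ᵥ u)) ≠ 0 := by
  obtain ⟨u, hu⟩ := exists_li hA
  obtain ⟨v, hv⟩ := exists_li hB
  set w := A.1 *ᵥ u with hw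
  have hW : Submodule.span F (Set.range ![u, w]) ≠ ⊤ := by
    intro h
    have := finrank_span_eq_card hu
    rw [h] at this
    simp at this
    omega
  obtain ⟨x, hx⟩ : ∃ x, x ∉ Submodule.span F (Set.range ![u, w]) := by
    by_contra hc
    push Not at hc
    exact hW (eq_top_iff.2 fun x _ => hc x)
  have hr : Set.range ![u, w] = {u, w} := by
    ext z; simp [eq_comm, or_comm]
  rw [hr] at hx
  have hu0 : u ≠ 0 := by simpa using hu.ne_zero 0
  have hux : LinearIndependent F ![u, x] := by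
    rw [LinearIndependent.pair_iff' hu0]
    intro a ha
    apply hx
    rw [← ha]
    exact Submodule.smul_mem _ _ (Submodule.subset_span (by simp))
  have hwx : w ∉ Submodule.span F {u, x} := by
    intro h
    rw [Submodule.mem_span_pair] at h
    obtain ⟨a, b, hab⟩ := h
    by_cases hb : b = 0
    · rw [LinearIndependent.pair_iff' hu0] at hu
      exact hu a (by simpa [hb] using hab)
    · apply hx
      rw [Submodule.mem_span_pair]
      refine ⟨-(b⁻¹ * a), b⁻¹, ?_⟩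
      rw [← hab, smul_add, smul_smul, smul_smul, inv_mul_cancel₀ hb]
      simp
  obtain ⟨f, hf, hfx⟩ := exists_fun hx
  obtain ⟨p, hp, hpw⟩ := exists_fun hwx
  have fu : f ⬝ᵥ u = 0 := hf _ (Submodule.subset_span (by simp))
  have fw : f ⬝ᵥ w = 0 := hf _ (Submodule.subset_span (by simp))
  have pu : p ⬝ᵥ u = 0 := hp _ (Submodule.subset_span (by simp))
  have px : p ⬝ᵥ x = 0 := hp _ (Submodule.subset_span (by simp))
  obtain ⟨g, hg⟩ := exists_sl hd hv hux
  have g0 : g.1 *ᵥ v = u := hg 0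
  have g1 : g.1 *ᵥ (B.1 *ᵥ v) = x := hg 1
  have hB' : (g * B * g⁻¹).1 *ᵥ u = x := by
    have : g⁻¹.1 *ᵥ u = v := by
      rw [← g0, mulVec_mulVec, ← cm, inv_mul_cancel, c1]; simp
    rw [cm, cm, ← mulVec_mulVec, ← mulVec_mulVec,
      this, g1]
  by_cases h0 : f ⬝ᵥ (A.1 *ᵥ ((g * B * g⁻¹).1 *ᵥ u)) - f ⬝ᵥ ((g * B * g⁻¹).1 *ᵥ w) = 0
  swap
  · exact ⟨g, u, f, fu, fw, h0⟩
  refine ⟨tv (-1) u p pu * g, u, f, fu, fw, ?_⟩
  set B' := g * B * g⁻¹ with hBd
  have e : tv (-1) u p pu * g * B * (tv (-1) u p pu * g)⁻¹ = tv (-1) u p pu * B' * tv 1 u p pu := by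
    rw [_root_.mul_inv_rev, tv_inv, neg_neg, hBd]; group
  have tvv : ∀ (s : F) y, (tv s u p pu).1 *ᵥ y = y + (s * (p ⬝ᵥ y)) • u := by
    intro s y
    simp only [tv_val, add_mulVec, one_mulVec, vecMulVec_mulVec]
    ext i; simp; ring
  rw [e, ← hw]
  simp only [cm, ← mulVec_mulVec, tvv, pu, mul_zero, zero_smul, add_zero,
    hB', px, hpw, mul_one, one_smul, mulVec_add, dotProduct_add, dotProduct_smul, fu, smul_zero, hfx]
  rw [hB'] at h0
  intro h1
  have : (1 : F) = 0 := by linear_combination h0 - h1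
  exact one_ne_zero this

end

/-- Let F be a finite field and d ≥ 3, and let a, b be non-identity elements of PSL_d(F). Then the product of the conjugacy classes of a and b is not a single conjugacy class: there are conjugates a′ of a and b′ of b such that a′b′ is not conjugate to ab. -/
theorem result {F : Type*} [Field F] [Fintype F] (d : ℕ) (hd : 3 ≤ d)
    (a b : Matrix.ProjectiveSpecialLinearGroup (Fin d) F) (ha : a ≠ 1) (hb : b ≠ 1) :
    ∃ g h : Matrix.ProjectiveSpecialLinearGroup (Fin d) F, ¬ IsConj (a * b) (g * a * g⁻¹ * (h * b * h⁻¹)) := by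
  obtain ⟨A, rfl⟩ := QuotientGroup.mk_surjective a
  obtain ⟨B, rfl⟩ := QuotientGroup.mk_surjective b
  have hA : A ∉ Subgroup.center _ := fun h => ha ((QuotientGroup.eq_one_iff _).2 h)
  have hB : B ∉ Subgroup.center _ := fun h => hb ((QuotientGroup.eq_one_iff _).2 h)
  obtain ⟨h, u, f, fu, fw, hne⟩ := exists_good hd hA hB
  have hall : ∀ c : F, ∃ g : SpecialLinearGroup (Fin d) F,
      trace ((g * A * g⁻¹ * (h * B * h⁻¹)).1) = c := by
    intro c
    refine ⟨tv ((c - trace (A.1 * (h * B * h⁻¹).1)) / (f ⬝ᵥ (A.1 *ᵥ ((h * B * h⁻¹).1 *ᵥ u)) -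
      f ⬝ᵥ ((h * B * h⁻¹).1 *ᵥ (A.1 *ᵥ u)))) u f fu, ?_⟩
    rw [trace_tv _ _ _ _ _ _ fw, div_mul_cancel₀ _ hne]
    ring
  classical
  obtain ⟨g, hg⟩ := hall (if trace (A * B).1 = 0 then 1 else 0)
  refine ⟨(g : ProjectiveSpecialLinearGroup (Fin d) F), (h : ProjectiveSpecialLinearGroup (Fin d) F), ?_⟩
  rw [isConj_iff]
  rintro ⟨c, hc⟩
  obtain ⟨C, rfl⟩ := QuotientGroup.mk_surjective c
  have h1 : ((C * (A * B) * C⁻¹ : SpecialLinearGroup (Fin d) F) : ProjectiveSpecialLinearGroup (Fin d) F) =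
      ((g * A * g⁻¹ * (h * B * h⁻¹) : SpecialLinearGroup (Fin d) F) : ProjectiveSpecialLinearGroup (Fin d) F) := by
    simpa using hc
  rw [QuotientGroup.eq, Matrix.SpecialLinearGroup.mem_center_iff] at h1
  obtain ⟨r, hr, hr2⟩ := h1
  have hr0 : r ≠ 0 := by
    rintro rfl
    rw [zero_pow (by simp; omega)] at hr
    exact zero_ne_one hr
  have h2 : (g * A * g⁻¹ * (h * B * h⁻¹)).1 = (C * (A * B) * C⁻¹).1 * scalar (Fin d) r := by
    rw [hr2, ← cm, mul_inv_cancel_left]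
  have h3 : trace (C * (A * B) * C⁻¹).1 = trace (A * B).1 := by
    rw [cm, cm, trace_mul_cycle,
      ← cm, inv_mul_cancel, c1, one_mul]
  rw [h2, scalar_apply, ← smul_eq_mul_diagonal, trace_smul, h3] at hg
  split_ifs at hg with h4
  · rw [h4] at hg; simp at hg
  · exact h4 (by simpa [hr0] using hg)

end Cfsg.Agent.S2272
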