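import Cfsg.Statements.S2277
import Cfsg.Agent.H16.Misc
import Cfsg.Agent.H16.Hall

set_option autoImplicit false
open Cfsg

namespace Cfsg.Agent.S2277


open Subgroup H16

theorem pick {R : Type*} [Group R] [Finite R] [Nontrivial R] {p : ℕ} [Fact p.Prime] (hR : IsPGroup p R)
    (C : Set R) (hC : closure C = ⊤) :
    ∃ c ∈ C, (c ≠ 1 ∧ c ∈ center R) ∨ ∃ a : R, c⁻¹ * a * c * a⁻¹ ≠ 1 ∧ c⁻¹ * a * c * a⁻¹ ∈ center R := by
  by_cases h : center R = ⊤
  · by_contra hc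
    push Not at hc
    have : closure C ≤ ⊥ := (closure_le _).2 fun c h1 => by
      by_contra h2
      exact (hc c h1).1 h2 (h ▸ mem_top c)
    rw [hC] at this
    exact absurd (top_le_iff.1 this) bot_ne_top
  · have : Nontrivial (R ⧸ center R) := QuotientGroup.nontrivial_iff.2 h
    have h1 := (hR.to_quotient (center R)).center_nontrivial
    obtain ⟨⟨x, hx⟩, hx1⟩ := exists_ne (1 : center (R ⧸ center R))
    obtain ⟨a, rfl⟩ := QuotientGroup.mk_surjective x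
    have ha : a ∉ center R := fun e => hx1 (Subtype.ext ((QuotientGroup.eq_one_iff a).2 e))
    have : ∃ c ∈ C, c⁻¹ * a * c * a⁻¹ ≠ 1 := by
      by_contra hc
      push Not at hc
      have : closure C ≤ C1[a] := (closure_le _).2 fun c h1 => by
        have := hc c h1
        rw [SetLike.mem_coe, H16.mem_cent1]
        calc c * a = c * (c⁻¹ * a * c * a⁻¹) * a := by rw [this]; group
          _ = a * c := by group
      exact ha (mem_center_iff.2 fun g => H16.mem_cent1.1 (this (hC ▸ mem_top g)))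
    obtain ⟨c, hc, h2⟩ := this
    refine ⟨c, hc, Or.inr ⟨a, h2, ?_⟩⟩
    rw [← QuotientGroup.eq_one_iff]
    have := mem_center_iff.1 hx (QuotientGroup.mk c)
    simp only [QuotientGroup.mk_mul, QuotientGroup.mk_inv]
    rw [mul_assoc _ (QuotientGroup.mk a), ← this]; group

variable {G : Type*} [Group G] [Finite G] {p : ℕ} [Fact p.Prime] {M P : Subgroup G}

/-- central modulo the centralizer of `M` -/
def Z (M P : Subgroup G) (z : G) : Prop := z ∉ C[M] ∧ ∀ g ∈ P, z⁻¹ * g * z * g⁻¹ ∈ C[M]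

theorem pick' (hP : IsPGroup p P) (hM : P ≤ N[M]) (hne : ¬ M ≤ C[P]) (C : Set G) (hC : closure C = P) :
    ∃ c ∈ C, Z M P c ∨ ∃ a ∈ P, Z M P (c⁻¹ * a * c * a⁻¹) := by
  let Q : Subgroup P := (C[M]).subgroupOf P
  have hQ : Q.Normal := ⟨fun x hx g => by
    rw [mem_subgroupOf] at hx ⊢
    exact conj_mem (norm_cent hM g.2) hx⟩
  have : Nontrivial (P ⧸ Q) := QuotientGroup.nontrivial_iff.2 fun e => hne (cent_symm fun x hx => by
    have : (⟨x, hx⟩ : P) ∈ Q := e ▸ mem_top _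
    exact this)
  have hC' : closure ((QuotientGroup.mk' Q) '' (P.subtype ⁻¹' C)) = ⊤ := by
    have : closure (P.subtype ⁻¹' C) = ⊤ := by
      apply map_injective P.subtype_injective
      rw [MonoidHom.map_closure, Set.image_preimage_eq_of_subset, hC, ← MonoidHom.range_eq_map, range_subtype]
      intro c hc
      exact ⟨⟨c, hC ▸ subset_closure hc⟩, rfl⟩
    rw [← MonoidHom.map_closure, this, ← MonoidHom.range_eq_map, QuotientGroup.range_mk']
  have key : ∀ z : P, QuotientGroup.mk' Q z ≠ 1 → QuotientGroup.mk' Q z ∈ center _ → Z M P z := by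
    intro z h1 h2
    refine ⟨fun e => h1 ((QuotientGroup.eq_one_iff z).2 e), fun g hg => ?_⟩
    have : z⁻¹ * ⟨g, hg⟩ * z * (⟨g, hg⟩ : P)⁻¹ ∈ Q := by
      rw [← QuotientGroup.eq_one_iff]
      have := mem_center_iff.1 h2 (QuotientGroup.mk (⟨g, hg⟩ : P))
      simp only [QuotientGroup.mk_mul, QuotientGroup.mk_inv, QuotientGroup.mk'_apply] at this ⊢
      rw [mul_assoc (QuotientGroup.mk z : P ⧸ Q)⁻¹, this]; group
    exact this
  obtain ⟨_, ⟨c, hc, rfl⟩, h⟩ := pick (hP.to_quotient Q) _ hC'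
  refine ⟨c, hc, ?_⟩
  rcases h with h | ⟨a, h⟩
  · exact Or.inl (key c h.1 h.2)
  · obtain ⟨a, rfl⟩ := QuotientGroup.mk'_surjective Q a
    refine Or.inr ⟨a, a.2, ?_⟩
    have := key (c⁻¹ * a * c * a⁻¹) (by simpa using h.1) (by simpa using h.2)
    simpa using this

theorem fpf (hM : P ≤ N[M]) (hmin : ∀ U < M, P ≤ N[U] → U ≤ C[P]) {z : G} (hz : Z M P z) :
    M ⊓ C1[z] ≤ C[P] := by
  refine hmin _ (lt_of_le_of_ne inf_le_left fun e => hz.1 (le_cent1.1 (e ▸ inf_le_right))) ?_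
  refine le_norm_iff.2 fun g hg m hm => mem_inf.2 ⟨conj_mem (hM hg) hm.1, ?_⟩
  have h1 := H16.mem_cent.1 (hz.2 g⁻¹ (inv_mem hg)) m hm.1
  have h2 := H16.mem_cent1.1 hm.2
  rw [H16.mem_cent1]
  calc g * m * g⁻¹ * z = g * (m * z) * (z⁻¹ * g⁻¹ * z * g⁻¹⁻¹) * g⁻¹ := by group
    _ = g * z * (m * (z⁻¹ * g⁻¹ * z * g⁻¹⁻¹)) * g⁻¹ := by rw [h2]; group
    _ = _ := by rw [h1]; group

theorem cop (hc : (Nat.card P).Coprime (Nat.card M)) (hM : P ≤ N[M]) {t w : G} (ht : t ∈ P) (hw : w ∈ M)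
    (h : w⁻¹ * (t⁻¹ * w * t) ∈ C[P]) : w ∈ C1[t] := by
  have hk : w⁻¹ * (t⁻¹ * w * t) ∈ M := mul_mem (inv_mem hw) (conj_mem' (hM ht) hw)
  have e : t⁻¹ * w * t = w * (w⁻¹ * (t⁻¹ * w * t)) := by group
  generalize w⁻¹ * (t⁻¹ * w * t) = k at h hk e
  have h1 : Commute t k := H16.mem_cent.1 h t ht
  have h2 : ∀ n : ℕ, (t ^ n)⁻¹ * w * t ^ n = w * k ^ n := by
    intro n
    induction n with
    | zero => simp
    | succ n ih =>
      calc (t ^ (n + 1))⁻¹ * w * t ^ (n + 1) = t⁻¹ * ((t ^ n)⁻¹ * w * t ^ n) * t := by group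
        _ = (t⁻¹ * w * t) * (t⁻¹ * (k ^ n * t)) := by rw [ih]; group
        _ = _ := by rw [e, ← (h1.pow_right n).eq]; group
  have h3 := h2 (orderOf t)
  rw [pow_orderOf_eq_one] at h3
  have h4 : k ^ orderOf t = 1 := by simpa using h3.symm
  have h5 : orderOf k ∣ 1 := by
    rw [← hc]
    exact Nat.dvd_gcd ((orderOf_dvd_of_pow_eq_one h4).trans (H16.orderOf_dvd_card ht)) (H16.orderOf_dvd_card hk)
  rw [Nat.dvd_one, orderOf_eq_one_iff] at h5
  rw [h5, mul_one] at e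
  rw [H16.mem_cent1]
  calc w * t = t * (t⁻¹ * w * t) := by group
    _ = _ := by rw [e]

theorem cent_mul {t q : G} (hq : q ∈ C[M]) : M ⊓ C1[t * q] = M ⊓ C1[t] := by
  ext m
  simp only [mem_inf, H16.mem_cent1]
  refine and_congr_right fun hm => ?_
  have := H16.mem_cent.1 hq m hm
  rw [mul_assoc t, ← this, ← mul_assoc, ← mul_assoc, mul_left_inj]

theorem count (hp3 : 3 ≤ p) (hP : IsPGroup p P) (hc : (Nat.card P).Coprime (Nat.card M)) (hM : P ≤ N[M])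
    (hmin : ∀ U < M, P ≤ N[U] → U ≤ C[P]) (hd : ⁅M, M⁆ ≤ C[P]) {c : G} (hcP : c ∈ P)
    (h : Z M P c ∨ ∃ a ∈ P, Z M P (c⁻¹ * a * c * a⁻¹)) :
    Nat.card (M ⊓ C1[c] :) ^ 3 ≤ Nat.card M * Nat.card (M ⊓ C[P] :) ^ 2 := by
  rcases h with h | ⟨a, ha, h⟩
  · have h1 : Nat.card (M ⊓ C1[c] :) ≤ Nat.card (M ⊓ C[P] :) := card_le (le_inf inf_le_left (fpf hM hmin h))
    have h2 : Nat.card (M ⊓ C1[c] :) ≤ Nat.card M := card_le inf_le_left
    rw [pow_succ']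
    exact Nat.mul_le_mul h2 (Nat.pow_le_pow_left h1 2)
  have hzP : c⁻¹ * a * c * a⁻¹ ∈ P := mul_mem (mul_mem (mul_mem (inv_mem hcP) ha) hcP) (inv_mem ha)
  have e : a * c * a⁻¹ = c * (c⁻¹ * a * c * a⁻¹) := by group
  generalize c⁻¹ * a * c * a⁻¹ = z at h hzP e
  have h2 : Z M P (z * z) := by
    refine ⟨fun h1 => h.1 ?_, fun g hg => ?_⟩
    · obtain ⟨k, hk⟩ := hP ⟨z, hzP⟩
      have hk' : z ^ p ^ k = 1 := congrArg Subtype.val hk
      have ho : Odd (p ^ k) := ((Fact.out : p.Prime).odd_of_ne_two (by omega)).pow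
      obtain ⟨j, hj⟩ := ho
      have : z = ((z * z) ^ j)⁻¹ := by
        rw [eq_inv_iff_mul_eq_one, ← hk', hj, ← pow_two, ← pow_mul, pow_succ']
      rw [this]; exact inv_mem (pow_mem h1 j)
    · have h3 := h.2 g hg
      have : (z * z)⁻¹ * g * (z * z) * g⁻¹ = (z⁻¹ * (z⁻¹ * g * z * g⁻¹) * z) * (z⁻¹ * g * z * g⁻¹) := by group
      rw [this]
      exact mul_mem (conj_mem' (norm_cent hM hzP) h3) h3
  have cjW : ∀ t g, g ∈ P → M ⊓ C1[g * t * g⁻¹] = (M ⊓ C1[t]) :^ g := fun t g hg => by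
    rw [cj_inf, cent1_cj, cj_norm (hM hg)]
  have c1 : Nat.card (M ⊓ C1[c * z] :) = Nat.card (M ⊓ C1[c] :) := by rw [← e, cjW _ _ ha, card_cj]
  have c2 : Nat.card (M ⊓ C1[c * z * z] :) = Nat.card (M ⊓ C1[c] :) := by
    have : a * (c * z) * a⁻¹ = c * z * z * (z⁻¹ * a * z * a⁻¹) := by
      nth_rewrite 2 [← e]; group
    rw [← c1, ← cent_mul (h.2 a ha), ← this, cjW _ _ ha, card_cj]
  have hK : ∀ t ∈ P, M ⊓ C[P] ≤ M ⊓ C1[t] := fun t ht => inf_le_inf_left _ (cent_le_cent1 ht)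
  have hn : ∀ t ∈ P, M ≤ N[M ⊓ C1[t]] := fun t ht =>
    norm_of_der_le ((le_inf (der_le M) hd).trans (hK t ht)) inf_le_left
  have hzn : ∀ t ∈ P, z ∈ N[M ⊓ C1[t]] := fun t ht => by
    rw [← cj_eq_self_iff, ← cjW _ _ hzP]
    have : z * t * z⁻¹ = t * (z * (z⁻¹ * t⁻¹ * z * t⁻¹⁻¹) * z⁻¹) := by group
    rw [this, cent_mul (conj_mem (norm_cent hM hzP) (h.2 _ (inv_mem ht)))]
  have i1 : (M ⊓ C1[c]) ⊓ (M ⊓ C1[c * z]) ≤ M ⊓ C[P] := fun w hw => by
    refine ⟨hw.1.1, fpf hM hmin h (mem_inf.2 ⟨hw.1.1, ?_⟩)⟩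
    have h3 := H16.mem_cent1.1 hw.1.2
    have h4 := H16.mem_cent1.1 hw.2.2
    rw [H16.mem_cent1]
    rw [← mul_assoc, h3, mul_assoc, mul_assoc] at h4
    exact mul_left_cancel h4
  have hcz := mul_mem hcP hzP
  have i2 : ((M ⊓ C1[c]) ⊔ (M ⊓ C1[c * z])) ⊓ (M ⊓ C1[c * z * z]) ≤ M ⊓ C[P] := fun w hw => by
    obtain ⟨u, hu, v, hv, rfl⟩ := (mem_sup_r (inf_le_left.trans (hn _ hcz))).1 hw.1
    have h3 := H16.mem_cent1.1 hu.2
    have h4 := H16.mem_cent1.1 hv.2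
    have h5 := H16.mem_cent1.1 hw.2.2
    have h6 : u⁻¹ * ((z * z)⁻¹ * u * (z * z)) = v * (z⁻¹ * v * z)⁻¹ := by
      have h7 : (z * z)⁻¹ * u * (z * z) * (z⁻¹ * v * z) = u * v := by
        calc _ = (z * z)⁻¹ * (c⁻¹ * (c * u)) * (z * z) * (z⁻¹ * ((c * z)⁻¹ * (c * z * v)) * z) := by group
          _ = (c * z * z)⁻¹ * (u * v * (c * z * z)) := by rw [← h3, ← h4]; group
          _ = _ := by rw [h5]; group
      rw [eq_mul_inv_iff_mul_eq, mul_assoc u⁻¹, h7]; group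
    have h7 : u⁻¹ * ((z * z)⁻¹ * u * (z * z)) ∈ M ⊓ C[P] := by
      refine i1 (mem_inf.2 ⟨mul_mem (inv_mem hu) (conj_mem' (mul_mem (hzn c hcP) (hzn c hcP)) hu), ?_⟩)
      rw [h6]
      exact mul_mem hv (inv_mem (conj_mem' (hzn _ hcz) hv))
    have h8 : u ∈ M ⊓ C[P] := ⟨hu.1, fpf hM hmin h2 ⟨hu.1, cop hc hM (mul_mem hzP hzP) hu.1 h7.2⟩⟩
    have h9 : v ∈ M ⊓ C[P] := by
      have hv' : v⁻¹ ∈ M := inv_mem (mem_inf.1 hv).1
      refine inv_mem_iff.1 (mem_inf.2 ⟨hv', fpf hM hmin h (mem_inf.2 ⟨hv', cop hc hM hzP hv' ?_⟩)⟩)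
      have : v⁻¹⁻¹ * (z⁻¹ * v⁻¹ * z) = v * (z⁻¹ * v * z)⁻¹ := by group
      rw [this, ← h6]; exact h7.2
    exact mul_mem h8 h9
  have s1 := card_sup_mul_inf (Or.inl (inf_le_left.trans (hn _ hcz)) :
    M ⊓ C1[c] ≤ N[M ⊓ C1[c * z]] ∨ _)
  have l1 : (M ⊓ C1[c]) ⊔ (M ⊓ C1[c * z]) ≤ M := sup_le inf_le_left inf_le_left
  have s2 := card_sup_mul_inf (Or.inl (l1.trans (hn _ (mul_mem hcz hzP))) :
    (M ⊓ C1[c]) ⊔ (M ⊓ C1[c * z]) ≤ N[M ⊓ C1[c * z * z]] ∨ _)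
  have b1 := card_le i1
  have b2 := card_le i2
  have b3 := card_le (sup_le l1 (inf_le_left : M ⊓ C1[c * z * z] ≤ M))
  rw [c1] at s1
  rw [c2] at s2
  calc _ = Nat.card (M ⊓ C1[c] :) * Nat.card (M ⊓ C1[c] :) * Nat.card (M ⊓ C1[c] :) := by ring
    _ ≤ Nat.card M * Nat.card (M ⊓ C[P] :) * Nat.card (M ⊓ C[P] :) := by
      rw [← s1, mul_right_comm, ← s2]
      exact Nat.mul_le_mul (Nat.mul_le_mul b3 b2) b1
    _ = _ := by ring


/-- Let p ≥ 3 be prime and G a finite group with a Sylow p-subgroup P and a normal p-complement N (N normal, of order prime to p, with NP = G). Suppose P is generated by a subset C and also by a subset D, and that ⟨x c x⁻¹, d⟩ is a p-group for all x ∈ N, c ∈ C, d ∈ D. Then P centralizes N, so that G = N × P. -/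
theorem result {G : Type*} [Group G] [Finite G] (p : ℕ) [Fact p.Prime] (hp3 : 3 ≤ p) (P : Sylow p G)
    (N : Subgroup G) [N.Normal] (hN : (Nat.card N).Coprime p) (hNP : N ⊔ (P : Subgroup G) = ⊤)
    (C D : Set G) (hC : Subgroup.closure C = (P : Subgroup G)) (hD : Subgroup.closure D = (P : Subgroup G))
    (h : ∀ x ∈ N, ∀ c ∈ C, ∀ d ∈ D, IsPGroup p ↥(Subgroup.closure ({x * c * x⁻¹, d} : Set G))) :
    ⁅(P : Subgroup G), N⁆ = ⊥ := by
  by_contra hne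
  have hP := P.isPGroup'
  have hc : (Nat.card P).Coprime (Nat.card N) := by
    obtain ⟨k, hk⟩ := hP.exists_card_eq
    rw [hk]; exact hN.symm.pow_left k
  have hne' : ¬ N ≤ C[(P : Subgroup G)] := fun e => hne (comm_eq_bot.2 (cent_symm e))
  obtain ⟨M, ⟨h1, hM, h3⟩, hmin'⟩ := (wellFounded_lt (α := Subgroup G)).has_min
    {M | M ≤ N ∧ (P : Subgroup G) ≤ N[M] ∧ ¬ M ≤ C[(P : Subgroup G)]}
    ⟨N, le_rfl, Subgroup.le_normalizer_of_normal, hne'⟩
  have hmin : ∀ U < M, (P : Subgroup G) ≤ N[U] → U ≤ C[(P : Subgroup G)] := fun U hU hn => by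
    by_contra e
    exact hmin' U ⟨hU.le.trans h1, hn, e⟩ hU
  have hc' : (Nat.card P).Coprime (Nat.card M) := hc.coprime_dvd_right (card_dvd h1)
  have hd : ⁅M, M⁆ ≤ C[(P : Subgroup G)] := by
    by_contra e
    apply h3
    refine le_of_sy fun r hr _ => ?_
    have : Fact r.Prime := ⟨hr⟩
    obtain ⟨R, hR, hRn⟩ := sy_inv r hM hc' (Or.inl (sol_of_nil hP.isNilpotent))
    refine ⟨R, hR, hmin R (lt_of_le_of_ne hR.1 ?_) hRn⟩
    rintro rfl
    exact e (hmin _ (der_lt_of_nil (sol_of_nil (sy_nil hR)) fun e' => h3 (e' ▸ bot_le)) (norm_der hM))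
  obtain ⟨c, hcC, hc1⟩ := pick' hP hM h3 C hC
  obtain ⟨d, hdD, hd1⟩ := pick' hP hM h3 D hD
  have hcP : c ∈ (P : Subgroup G) := hC ▸ subset_closure hcC
  have hdP : d ∈ (P : Subgroup G) := hD ▸ subset_closure hdD
  have k1 := count hp3 hP hc' hM hmin hd hcP hc1
  have k2 := count hp3 hP hc' hM hmin hd hdP hd1
  have hK : ∀ t ∈ (P : Subgroup G), M ⊓ C[(P : Subgroup G)] ≤ M ⊓ C1[t] := fun t ht =>
    inf_le_inf_left _ (cent_le_cent1 ht)
  have hn : M ⊓ C1[d] ≤ N[M ⊓ C1[c]] := inf_le_left.trans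
    (norm_of_der_le ((le_inf (der_le M) hd).trans (hK c hcP)) inf_le_left)
  have hs : M ≤ (M ⊓ C1[d]) ⊔ (M ⊓ C1[c]) := fun x hx => by
    have hS : Sy[p] (P : Subgroup G) (M ⊔ P) := hl_of_le (sy_top_of_sylow P) le_sup_right le_top
    obtain ⟨g, hg, hle⟩ := sy_le_conj hS (U := closure {x * c * x⁻¹, d}) ((closure_le _).2 (by
      rintro _ (rfl | rfl)
      · exact mul_mem (mul_mem (mem_sup_left hx) (mem_sup_right hcP)) (inv_mem (mem_sup_left hx))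
      · exact mem_sup_right hdP)) (pg_iff.2 (h x (h1 hx) c hcC d hdD))
    obtain ⟨y, hy, t, ht, rfl⟩ := (mem_sup_l hM).1 hg
    rw [← cj_cj, cj_self ht] at hle
    have hb : (P : Subgroup G) ⊓ M = ⊥ := inf_bot_of_coprime hc'
    have key : ∀ u ∈ M, ∀ s ∈ (P : Subgroup G), u⁻¹ * s * u ∈ (P : Subgroup G) → u ∈ M ⊓ C1[s] := by
      intro u hu s hs e
      have : s⁻¹ * (u⁻¹ * s * u) = 1 := eq_one_of_mem_bot hb (mem_inf.2 ⟨mul_mem (inv_mem hs) e, by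
        have : s⁻¹ * (u⁻¹ * s * u) = (s⁻¹ * u⁻¹ * s) * u := by group
        rw [this]; exact mul_mem (conj_mem' (hM hs) (inv_mem hu)) hu⟩)
      refine ⟨hu, H16.mem_cent1.2 ?_⟩
      calc u * s = u * s * (s⁻¹ * (u⁻¹ * s * u)) := by rw [this, mul_one]
        _ = _ := by group
    have e1 := key y hy d hdP (mem_cj.1 (hle (subset_closure (by simp))))
    have e2 := key (x⁻¹ * y) (mul_mem (inv_mem hx) hy) c hcP (by
      have := mem_cj.1 (hle (Subgroup.subset_closure (a := x * c * x⁻¹) (by simp)))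
      convert this using 1; group)
    have : x = y * (x⁻¹ * y)⁻¹ := by group
    rw [this]
    exact mul_mem (mem_sup_left e1) (mem_sup_right (inv_mem e2))
  have s1 := card_sup_mul_inf (Or.inl hn)
  have b1 := card_le hs
  have b2 := card_le (le_inf (hK d hdP) (hK c hcP))
  have b3 : Nat.card (M ⊓ C[(P : Subgroup G)] :) < Nat.card M :=
    card_lt (lt_of_le_of_ne inf_le_left fun e => h3 (e ▸ inf_le_right))
  have b4 := card_pos' (M ⊓ C[(P : Subgroup G)])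
  have b5 := Nat.mul_le_mul b1 b2
  rw [s1] at b5
  generalize Nat.card (M ⊓ C[(P : Subgroup G)] :) = k at *
  generalize Nat.card (M ⊓ C1[c] :) = u at *
  generalize Nat.card (M ⊓ C1[d] :) = v at *
  generalize Nat.card M = m at *
  have b6 := Nat.pow_le_pow_left b5 3
  have b7 := Nat.mul_le_mul k2 k1
  rw [← mul_pow] at b7
  have b8 : m ^ 2 * k ^ 3 * m ≤ m ^ 2 * k ^ 3 * k := by
    calc _ = (m * k) ^ 3 := by ring
      _ ≤ _ := b6.trans b7
      _ = _ := by ring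
  have := Nat.le_of_mul_le_mul_left b8 (by have : 0 < m := by omega
                                           positivity)
  omega

end Cfsg.Agent.S2277
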