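import Cfsg.Statements.S2470
import Cfsg.Agent.H16.LA10
-- import your own Cfsg.Agent.* helpers here

set_option autoImplicit false
open Cfsg

namespace Cfsg.Agent.S2470

open H16 Polynomial Module in
/-- Adjacency of an odd prime and the characteristic in the prime graph of PSL(n,q): let F be a finite field of characteristic p with q elements, n ≥ 2 with PSL(n,F) simple, and let r ≠ p be an odd prime dividing the order of PSL(n,F), with k the multiplicative order of q modulo r. Then PSL(n,F) has NO element of order r·p if and only if either k > n − 2, or n = 3, r = 3 and 3 divides q − 1 exactly once. -/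
theorem result {F : Type*} [Field F] [Fintype F] (p : ℕ) [Fact p.Prime] [CharP F p] (n : ℕ) (hn : 2 ≤ n) (hsmall : n = 2 → 4 ≤ Fintype.card F)
    (r : ℕ) (hr : r.Prime) (hr2 : r ≠ 2) (hrp : r ≠ p) (hrG : r ∣ Nat.card (Matrix.ProjectiveSpecialLinearGroup (Fin n) F))
    (k : ℕ) (hk : k = orderOf ((Fintype.card F : ℕ) : ZMod r)) :
    (r * p ∉ Set.range (orderOf : Matrix.ProjectiveSpecialLinearGroup (Fin n) F → ℕ)) ↔
      (n - 2 < k ∨ (n = 3 ∧ r = 3 ∧ 3 ∣ Fintype.card F - 1 ∧ ¬ 9 ∣ Fintype.card F - 1)) := by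
  have hp : p.Prime := Fact.out
  have hr0 : (r : F) ≠ 0 := cast_ne_zero_of_ne p hr hrp
  have hq : 1 < Fintype.card F := Fintype.one_lt_card
  have hpos := hk ▸ orderOf_card_pos hr hr0
  have hco := (Nat.coprime_primes hr hp).2 hrp
  have hpq : p.Coprime (Fintype.card F - 1) := hp.coprime_iff_not_dvd.2
    (by simpa using H22.not_dvd_card_pow_sub_one (F := F) p le_rfl)
  have : Nonempty (Fin n) := ⟨⟨0, by omega⟩⟩
  have hp1 : ∀ {a : F} {j : ℕ}, a ^ (j * p) = 1 → a ^ j = 1 := fun h =>
    eq_one_of_pow_eq_one hpq hp.ne_zero (by rwa [pow_mul] at h)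
  have key : ∀ (a : F) (t : Multiset F[X]), a ≠ 0 →
      (∀ q ∈ t, IsPP q ∧ q ∣ X ^ (r * p) - C (a ^ (r * p))) → (∃ q ∈ t, ¬ q ∣ X ^ p - C (a ^ p)) →
      2 + (t.map natDegree).sum = n →
      a ^ 2 * (t.map fun q => (-1) ^ q.natDegree * q.coeff 0).prod = 1 →
      r * p ∈ Set.range (orderOf : Matrix.ProjectiveSpecialLinearGroup (Fin n) F → ℕ) := by
    intro a t ha h1 ⟨b, hb, hb'⟩ h2 h3
    obtain ⟨g, hg⟩ := exists_SL_edM (n := Fin n) (s := (X - C a) ^ 2 ::ₘ t)
      (by simpa using ⟨isPP_X_sub_C_pow a one_le_two, fun q hq => (h1 q hq).1⟩) (by simpa using h2)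
      (by rwa [Multiset.map_cons, Multiset.prod_cons, nm_lin_pow])
    have h4 := PSL_orderOf_dvd_iff g
    simp only [hg, Multiset.mem_cons, forall_eq_or_imp, lin_sq_dvd_iff p ha] at h4
    refine ⟨QuotientGroup.mk g, Nat.dvd_antisymm ((h4 _).2 ⟨_, ⟨rfl, dvd_mul_left _ _⟩,
      fun q hq => (h1 q hq).2⟩) ?_⟩
    obtain ⟨c, ⟨-, h5⟩, -⟩ := (h4 _).1 dvd_rfl
    refine hco.mul_dvd_of_dvd_of_dvd ?_ h5
    by_contra h6
    obtain ⟨c, ⟨rfl, -⟩, h7⟩ := (h4 p).1 ((hr.coprime_iff_not_dvd.2 h6).symm.dvd_of_dvd_mul_left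
      ((h4 _).2 ⟨_, ⟨rfl, dvd_mul_left _ _⟩, fun q hq => (h1 q hq).2⟩))
    exact hb' (h7 b hb)
  constructor
  · intro h
    by_contra! h1
    obtain ⟨h1, h2⟩ := h1
    apply h
    by_cases hk1 : k = 1
    · have h3 := (orderOf_eq_one_iff_dvd (by omega)).1 (hk ▸ hk1)
      by_cases hn3 : n = 3
      · obtain ⟨a, ha, ha1, ha2⟩ : ∃ a : F, a ≠ 0 ∧ a ^ (3 * r) = 1 ∧ a ^ 3 ≠ 1 := by
          by_cases hr3 : r = 3
          · obtain ⟨a, ha, ha'⟩ := exists_orderOf_eq (h2 hn3 hr3 (hr3 ▸ h3))
            exact ⟨a, ha, by rw [← orderOf_dvd_iff_pow_eq_one, ha', hr3],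
              by rw [Ne, ← orderOf_dvd_iff_pow_eq_one, ha']; decide⟩
          · obtain ⟨a, ha, ha'⟩ := exists_orderOf_eq h3
            exact ⟨a, ha, by rw [← orderOf_dvd_iff_pow_eq_one, ha']; simp,
              by rwa [Ne, ← orderOf_dvd_iff_pow_eq_one, ha', Nat.prime_dvd_prime_iff_eq hr
                Nat.prime_three]⟩
        have h4 : ∀ j, (a ^ 2)⁻¹ ^ j = a ^ j ↔ a ^ (3 * j) = 1 := fun j => by
          rw [inv_pow, inv_eq_iff_eq_inv, ← mul_eq_one_iff_eq_inv₀ (pow_ne_zero _ ha), ← pow_mul,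
            ← pow_add, show 2 * j + j = 3 * j by ring]
        refine key a {X - C (a ^ 2)⁻¹} ha ?_ ⟨_, Multiset.mem_singleton_self _, ?_⟩
          (by simp [hn3, -map_pow, -map_inv₀]) ?_
        · simp only [Multiset.mem_singleton, forall_eq, lin_dvd_iff, isPP_lin, h4, ← mul_assoc]
          simp [pow_mul, ← pow_mul a 3 r, ha1]
        · rw [lin_dvd_iff, h4]; exact fun h => ha2 (hp1 h)
        · rw [Multiset.map_singleton, Multiset.prod_singleton, nm_lin]; simp [ha]
      · obtain ⟨a, ha, ha'⟩ := exists_orderOf_eq h3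
        have h4 : a ^ r = 1 := ha' ▸ pow_orderOf_eq_one a
        refine key 1 ((X - C a) ::ₘ (X - C a⁻¹) ::ₘ Multiset.replicate (n - 4) (X - C 1))
          one_ne_zero ?_ ⟨_, Multiset.mem_cons_self _ _, ?_⟩
          (by simp [-map_one, -map_inv₀]; omega) ?_
        · intro q hq
          rcases Multiset.mem_cons.1 hq with rfl | hq
          · simp only [isPP_lin, lin_dvd_iff]; simp [pow_mul, h4]
          rcases Multiset.mem_cons.1 hq with rfl | hq
          · simp only [isPP_lin, lin_dvd_iff]; simp [pow_mul, h4]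
          · rw [Multiset.eq_of_mem_replicate hq]
            simp only [isPP_lin, lin_dvd_iff]; simp
        · rw [lin_dvd_iff, one_pow, ← orderOf_dvd_iff_pow_eq_one, ha',
            Nat.prime_dvd_prime_iff_eq hr hp]
          exact hrp
        · simp only [Multiset.map_cons, Multiset.prod_cons, Multiset.map_replicate, nm_lin]
          simp [ha]
    · obtain ⟨π, a1, a2, a0, a3, a4⟩ := exists_irred_ro_coprime (coprime_card_of_cast hr hr0)
      rw [← hk] at a4
      refine key 1 (π ::ₘ Multiset.replicate (n - 2 - k) (X - C 1))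
        one_ne_zero ?_ ⟨_, Multiset.mem_cons_self _ _, ?_⟩ (by simp [-map_one, a4]; omega) ?_
      · intro q hq
        rcases Multiset.mem_cons.1 hq with rfl | hq
        · exact ⟨isPP_of_irred a1 a2, by simp [dvd_X_pow_sub_one_iff, a3]⟩
        · rw [Multiset.eq_of_mem_replicate hq]
          simp only [isPP_lin, lin_dvd_iff]; simp
      · simpa [dvd_X_pow_sub_one_iff, a3, Nat.prime_dvd_prime_iff_eq hr hp] using hrp
      · simp only [Multiset.map_cons, Multiset.prod_cons, Multiset.map_replicate, nm_lin,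
          Multiset.prod_replicate, one_pow, one_mul, mul_one]
        rw [coeff_zero_eq_iff a1 a2, a3, a4]
        refine (hr.coprime_iff_not_dvd.2 ?_).dvd_of_dvd_mul_right
          (by rw [gs_mul hq.le, ← orderOf_zmod_dvd_iff (by omega), hk])
        rwa [← orderOf_eq_one_iff_dvd (by omega), ← hk]
  · rintro h ⟨x, hx⟩
    obtain ⟨g, rfl⟩ := QuotientGroup.mk_surjective x
    obtain ⟨c, hc⟩ := (PSL_orderOf_dvd_iff g _).1 hx.dvd
    have hc0 := ne_zero_of_pow_eq_smul (by simp) ((pow_eq_smul_iff_edM _ _ _).2 hc)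
    obtain ⟨z, hz, rfl⟩ := exists_pow_eq_of_coprime hpq c hc0
    rw [pow_mul, map_pow, ← sub_pow_char] at hc
    have hs := squarefree_X_pow_sub_C hr0 hz
    obtain ⟨q, hq, h1⟩ : ∃ q ∈ edM g.1, ¬ q ∣ X ^ r - C z := by
      by_contra! h1
      have h2 := (PSL_orderOf_dvd_iff g r).2 ⟨z, h1⟩
      rw [hx, mul_comm] at h2
      exact hp.ne_one (Nat.dvd_one.1 (Nat.dvd_of_mul_dvd_mul_right hr.pos (by rwa [one_mul])))
    obtain ⟨π, e, a1, a2, a3, rfl⟩ := edM_isPP hq
    have h2 := a2.prime.dvd_of_dvd_pow ((dvd_pow_self π (by omega)).trans (hc _ hq))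
    have he : 2 ≤ e := by
      by_contra h3
      rw [show e = 1 by omega, pow_one] at h1
      exact h1 h2
    have h3 := le_card_of_mem_edM hq
    have h4 := a2.natDegree_pos
    rw [natDegree_pow, Fintype.card_fin] at h3
    have hlin : ∀ {π : F[X]}, π.Monic → π.natDegree = 1 → ∃ a, π = X - C a := fun h h' =>
      ⟨_, (h.eq_X_add_C h').trans (by rw [← sub_neg_eq_add, ← C_neg])⟩
    have hsc : ∀ a : F, ¬ ∀ q ∈ edM g.1, ∃ j, q = (X - C a) ^ j := fun a h5 => by
      have h6 := (PSL_orderOf_dvd_iff g p).2 ⟨a ^ p, fun q hq => by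
        obtain ⟨j, rfl⟩ := h5 q hq
        rw [map_pow, ← sub_pow_char]
        exact pow_dvd_pow _ (le_of_pow_dvd_pow (irreducible_X_sub_C a) hs (hc _ hq))⟩
      rw [hx] at h6
      exact hr.ne_one (Nat.dvd_one.1 (Nat.dvd_of_mul_dvd_mul_right hp.pos (by rwa [one_mul])))
    have h5 := Nat.mul_le_mul he h4
    have hn3 : 3 ≤ n := by
      by_contra h6
      obtain ⟨a, rfl⟩ := hlin a1 (by nlinarith)
      refine hsc a ?_
      rw [edM_eq_singleton hq (by simp; omega)]
      simp
    rcases h with h | ⟨rfl, rfl, h6, h7⟩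
    · have hi' : ¬ r ∣ Fintype.card F - 1 := by
        rw [← orderOf_eq_one_iff_dvd (by omega), ← hk]; omega
      obtain ⟨b, hb, rfl⟩ := exists_pow_eq_of_coprime (hr.coprime_iff_not_dvd.2 hi') z hz
      have h6 : ∀ π : F[X], π.Monic → Irreducible π → π ∣ X ^ r - C (b ^ r) →
          π = X - C b ∨ π.natDegree = k := fun π b1 b2 b3 => by
        have h7 := (exists_dvd_X_pow_sub_C_iff b2 (coeff_ne_zero_of_dvd hr.ne_zero hz b3) r).1
          ⟨_, b3⟩
        obtain ⟨A, hA⟩ := exists_edM (n := Fin π.natDegree) (s := {π})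
          (by simpa using isPP_of_irred b1 b2) (by simp)
        have h8 := jt_of_split hr hr0 hb ((pow_eq_smul_iff_edM A _ _).2 (by simpa [hA] using b3))
          π.natDegree (by simp [jt, hA])
        refine (h8.symm.imp_left fun h9 => ?_).imp_right (hk ▸ id)
        obtain ⟨a, rfl⟩ := hlin b1 h9
        rw [lin_dvd_iff, ← div_eq_one_iff_eq hz, ← div_pow] at b3
        rw [(div_eq_one_iff_eq hb).1 (eq_one_of_pow_eq_one (hr.coprime_iff_not_dvd.2 hi')
          hr.ne_zero b3)]
      have h7 := hsc b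
      push Not at h7
      obtain ⟨q', hq', h7⟩ := h7
      obtain ⟨π', e', b1, b2, b3, rfl⟩ := edM_isPP hq'
      have h8 := (h6 π' b1 b2 (b2.prime.dvd_of_dvd_pow ((dvd_pow_self _ (by omega)).trans
        (hc _ hq')))).resolve_left fun h => h7 e' (by rw [h])
      rcases h6 π a1 a2 h2 with rfl | h9
      · have h10 := add_le_card_of_mem_edM hq hq' (h7 e)
        have := Nat.le_mul_of_pos_left k b3
        rw [natDegree_pow, natDegree_pow, h8, natDegree_X_sub_C, Fintype.card_fin] at h10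
        omega
      · have := Nat.mul_le_mul_right k he
        rw [h9] at h3
        omega
    · obtain ⟨a, rfl⟩ := hlin a1 (by nlinarith)
      have h8 := hsc a
      push Not at h8
      obtain ⟨q', hq', h8⟩ := h8
      have h9 := add_le_card_of_mem_edM hq hq' (h8 e)
      have h10 := (edM_isPP hq').natDegree_pos
      rw [natDegree_X_sub_C_pow', Fintype.card_fin] at h9
      obtain ⟨b, rfl⟩ := hlin (edM_isPP hq').monic (by omega)
      obtain rfl : e = 2 := by omega
      obtain ⟨t, ht⟩ := Multiset.exists_cons_of_mem hq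
      have h11 := sum_natDegree_edM g.1
      have h12 := det_eq_prod_edM' g.1
      rw [ht] at hq'
      obtain ⟨t, rfl⟩ := Multiset.exists_cons_of_mem ((Multiset.mem_cons.1 hq').resolve_left (h8 2))
      obtain rfl : t = 0 := by
        by_contra h13
        obtain ⟨u, hu⟩ := Multiset.exists_mem_of_ne_zero h13
        have := (edM_isPP (ht ▸ Multiset.mem_cons_of_mem (Multiset.mem_cons_of_mem hu))).natDegree_pos
        have := Multiset.single_le_sum (fun _ _ => Nat.zero_le _) _
          (Multiset.mem_map_of_mem natDegree hu)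
        rw [ht, Multiset.map_cons, Multiset.sum_cons, Multiset.map_cons, Multiset.sum_cons,
          natDegree_X_sub_C_pow', natDegree_X_sub_C, Fintype.card_fin] at h11
        omega
      have h13 := (irreducible_X_sub_C b).prime.dvd_of_dvd_pow (hc _ (ht ▸ hq'))
      rw [lin_dvd_iff] at h2 h13
      simp only [ht, Multiset.map_cons, Multiset.prod_cons, nm_lin_pow, nm_lin, g.2,
        Multiset.map_zero, Multiset.prod_zero, mul_one] at h12
      have h14 : a ^ 9 = 1 := by
        have : a ^ 9 = (a ^ 2 * b) ^ 3 := by rw [mul_pow, h13, ← h2]; ring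
        rw [this, ← h12, one_pow]
      have ha : a ≠ 0 := by rintro rfl; simp at h14
      have h15 : a ^ 3 = 1 := by
        obtain ⟨j, hj, h15⟩ := (Nat.dvd_prime_pow Nat.prime_three (m := 2)).1
          (orderOf_dvd_of_pow_eq_one h14)
        have h16 := orderOf_dvd_of_pow_eq_one (FiniteField.pow_card_sub_one_eq_one a ha)
        rw [← orderOf_dvd_iff_pow_eq_one, h15]
        rw [h15] at h16
        interval_cases j
        · simp
        · simp
        · exact absurd h16 h7
      refine h8 1 ?_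
      rw [pow_one, mul_left_cancel₀ (pow_ne_zero 2 ha) (h12.symm.trans (h15.symm.trans (pow_succ _ _)))]

end Cfsg.Agent.S2470
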