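import Cfsg.Statements.S2364
import Cfsg.Agent.H16.LA10
import Cfsg.Agent.S2470
-- import your own Cfsg.Agent.* helpers here

set_option autoImplicit false
open Cfsg

namespace Cfsg.Agent.S2364

open H16 Polynomial Module in
/-- Let F be a finite field of characteristic p, n ≥ 4, and let a, b be commuting elements of PSL(n, F) with a of order p. Then every prime divisor of the order of b divides the order of SL(n − 2, F). -/
theorem result {F : Type*} [Field F] [Fintype F] (p : ℕ) [Fact p.Prime] [CharP F p] (n : ℕ) (hn : 4 ≤ n)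
    (a b : Matrix.ProjectiveSpecialLinearGroup (Fin n) F) (ha : orderOf a = p) (hab : Commute a b) :
    (orderOf b).primeFactors ⊆ (Nat.card (Matrix.SpecialLinearGroup (Fin (n - 2)) F)).primeFactors := by
  intro l hl
  have hp : p.Prime := Fact.out
  have hl' := Nat.prime_of_mem_primeFactors hl
  refine Nat.mem_primeFactors.2 ⟨hl', ?_, Nat.card_pos.ne'⟩
  obtain ⟨m, rfl⟩ : ∃ m, n = m + 1 + 1 + 2 := ⟨n - 4, by omega⟩
  rw [Nat.add_sub_cancel, card_SL_eq]
  by_cases hlp : l = p
  · subst hlp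
    obtain ⟨k, hk, h⟩ := H22.exists_card_eq_pow (F := F) l
    refine Dvd.dvd.mul_right ((h ▸ dvd_pow_self l (by omega)).trans (dvd_pow_self _ ?_)) _
    exact (Nat.div_pos (by nlinarith) two_pos).ne'
  have hl0 : (l : F) ≠ 0 := cast_ne_zero_of_ne p hl' hlp
  have hpos := orderOf_card_pos hl' hl0
  refine Dvd.dvd.mul_left ?_ _
  by_cases h1 : orderOf (Fintype.card F : ZMod l) = 1
  · exact ((orderOf_zmod_dvd_iff Fintype.card_pos (0 + 2)).1 (by simp [h1])).trans
      (Finset.dvd_prod_of_mem _ (Finset.mem_range.2 (Nat.succ_pos _)))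
  have hl2 : l ≠ 2 := by
    rintro rfl
    exact h1 (Nat.dvd_one.1 (orderOf_card_dvd hl' hl0))
  have h2 := Nat.dvd_of_mem_primeFactors hl
  have h3 := orderOf_pow_orderOf_div (orderOf_pos b).ne' h2
  have h4 := (hab.symm.pow_left (orderOf b / l)).orderOf_mul_eq_mul_orderOf_of_coprime
    (by rw [h3, ha]; exact (Nat.coprime_primes hl' hp).2 hlp)
  rw [h3, ha] at h4
  have h5 := mt (Cfsg.Agent.S2470.result p (m + 1 + 1 + 2) (by omega) (by omega) l hl' hl2 hlp
    (h2.trans (orderOf_dvd_natCard b)) _ rfl).2 (not_not.2 ⟨_, h4⟩)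
  push Not at h5
  obtain ⟨j, hj⟩ : ∃ j, orderOf (Fintype.card F : ZMod l) = j + 2 :=
    ⟨orderOf (Fintype.card F : ZMod l) - 2, by omega⟩
  exact ((orderOf_zmod_dvd_iff Fintype.card_pos (j + 2)).1 hj.dvd).trans
    (Finset.dvd_prod_of_mem _ (Finset.mem_range.2 (by omega)))

end Cfsg.Agent.S2364
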