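import Cfsg.Statements.S2468
import Cfsg.Agent.H16.LA10
-- import your own Cfsg.Agent.* helpers here

set_option autoImplicit false
open Cfsg

namespace Cfsg.Agent.S2468

open H16 Polynomial Module in
/-- Adjacency of two odd primes in the prime graph of PSL(n,q): let F be a finite field of characteristic p with q elements, n ≥ 2 with PSL(n,F) simple, and let r ≠ s be odd primes different from p dividing the order of PSL(n,F). Let k and l be the multiplicative orders of q modulo r and modulo s, and suppose 2 ≤ k ≤ l. Then PSL(n,F) has NO element of order r·s if and only if k + l > n and k does not divide l. -/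
theorem result {F : Type*} [Field F] [Fintype F] (p : ℕ) [Fact p.Prime] [CharP F p] (n : ℕ) (hn : 2 ≤ n) (hsmall : n = 2 → 4 ≤ Fintype.card F)
    (r s : ℕ) (hr : r.Prime) (hs : s.Prime) (hr2 : r ≠ 2) (hs2 : s ≠ 2) (hrp : r ≠ p) (hsp : s ≠ p) (hrs : r ≠ s)
    (hrG : r ∣ Nat.card (Matrix.ProjectiveSpecialLinearGroup (Fin n) F)) (hsG : s ∣ Nat.card (Matrix.ProjectiveSpecialLinearGroup (Fin n) F))
    (k l : ℕ) (hk : k = orderOf ((Fintype.card F : ℕ) : ZMod r)) (hl : l = orderOf ((Fintype.card F : ℕ) : ZMod s))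
    (h2k : 2 ≤ k) (hkl : k ≤ l) :
    (r * s ∉ Set.range (orderOf : Matrix.ProjectiveSpecialLinearGroup (Fin n) F → ℕ)) ↔ (n < k + l ∧ ¬ k ∣ l) := by
  have hr0 : (r : F) ≠ 0 := cast_ne_zero_of_ne p hr hrp
  have hs0 : (s : F) ≠ 0 := cast_ne_zero_of_ne p hs hsp
  have hq : 0 < Fintype.card F := Fintype.card_pos
  have hln : l ≤ n := hl ▸ orderOf_le_of_dvd_glc hs hs0 (hsG.trans card_PSL_dvd_glc)
  have hco : (r * s).Coprime (Fintype.card F - 1) := Nat.Coprime.mul_left
    (hr.coprime_iff_not_dvd.2 (by rw [← orderOf_eq_one_iff_dvd hq]; omega))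
    (hs.coprime_iff_not_dvd.2 (by rw [← orderOf_eq_one_iff_dvd hq]; omega))
  have hrs' := (Nat.coprime_primes hr hs).2 hrs
  have hrs0 : ((r * s : ℕ) : F) ≠ 0 := by simp [hr0, hs0]
  have hlcm := orderOf_zmod_mul hq hrs'
  rw [← hk, ← hl] at hlcm
  have key : ∀ t : Multiset F[X], (∀ q ∈ t, q.Monic ∧ Irreducible q ∧ ro q ∣ r * s) →
      (t.map natDegree).sum ≤ n → (∃ q ∈ t, r ∣ ro q) → (∃ q ∈ t, s ∣ ro q) →
      r * s ∈ Set.range (orderOf : Matrix.ProjectiveSpecialLinearGroup (Fin n) F → ℕ) := by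
    intro t h1 h2 ⟨a, ha, ha'⟩ ⟨b, hb, hb'⟩
    have h3 : ∀ q ∈ t + Multiset.replicate (n - (t.map natDegree).sum) (X - C 1),
        IsPP q ∧ ro q ∣ r * s := fun q hq => by
      rcases Multiset.mem_add.1 hq with hq | hq
      · exact ⟨isPP_of_irred (h1 q hq).1 (h1 q hq).2.1, (h1 q hq).2.2⟩
      · rw [Multiset.eq_of_mem_replicate hq]
        exact ⟨isPP_lin 1, by rw [ro_X_sub_C]; simp⟩
    obtain ⟨A, hA⟩ := exists_edM (n := Fin n) (fun q hq => (h3 q hq).1) (by simp [-map_one]; omega)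
    have h4 : A ^ (r * s) = 1 := (pow_eq_one_iff_edM _ _).2 fun q hq =>
      (dvd_X_pow_sub_one_iff _ _).2 (h3 q (hA ▸ hq)).2
    let g : Matrix.SpecialLinearGroup (Fin n) F := ⟨A, eq_one_of_pow_eq_one hco
      (mul_ne_zero hr.ne_zero hs.ne_zero) (by rw [← Matrix.det_pow, h4, Matrix.det_one])⟩
    have h5 : orderOf g = r * s := by
      have h6 := (GL_orderOf_dvd_iff (Matrix.SpecialLinearGroup.toGL g) _).1 dvd_rfl
      rw [orderOf_toGL] at h6
      exact Nat.dvd_antisymm (orderOf_dvd_of_pow_eq_one ((SL_pow_eq_one_iff g _).2 h4))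
        (hrs'.mul_dvd_of_dvd_of_dvd
          (ha'.trans (h6 a (hA.symm ▸ Multiset.mem_add.2 (Or.inl ha) : a ∈ edM A)))
          (hb'.trans (h6 b (hA.symm ▸ Multiset.mem_add.2 (Or.inl hb) : b ∈ edM A))))
    exact ⟨_, (PSL_orderOf_eq_of_coprime g (h5 ▸ hco)).trans h5⟩
  constructor
  · intro h
    constructor
    · by_contra h1
      obtain ⟨a, a1, a2, -, a3, a4⟩ := exists_irred_ro_coprime (coprime_card_of_cast hr hr0)
      obtain ⟨b, b1, b2, -, b3, b4⟩ := exists_irred_ro_coprime (coprime_card_of_cast hs hs0)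
      exact h (key {a, b} (by simp [*]) (by simp [a4, b4]; omega) ⟨a, by simp, a3.symm.dvd⟩
        ⟨b, by simp, b3.symm.dvd⟩)
    · intro h1
      obtain ⟨a, a1, a2, -, a3, a4⟩ := exists_irred_ro_coprime (F := F) (k := r * s)
        ((coprime_card_of_cast hr hr0).mul_left (coprime_card_of_cast hs hs0))
      exact h (key {a} (by simp [*]) (by simp [a4, ← Nat.cast_mul, hlcm, Nat.lcm_eq_right h1, hln])
        ⟨a, by simp, by simp [a3]⟩ ⟨a, by simp, by simp [a3]⟩)
  · rintro ⟨h1, h2⟩ ⟨x, hx⟩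
    obtain ⟨g, ⟨rfl, hg⟩, -⟩ := exists_lift_of_coprime x (hx ▸ hco)
    rw [hx, ← orderOf_toGL] at hg
    have h3 := (GL_orderOf_dvd_iff (Matrix.SpecialLinearGroup.toGL g) _).1 hg.dvd
    have h4 : ∀ q ∈ edM g.1, q.natDegree = orderOf (Fintype.card F : ZMod (ro q)) := fun q hq => by
      have h5 : q ∣ X ^ (r * s) - C 1 := by simpa using (dvd_X_pow_sub_one_iff _ _).2 (h3 q hq)
      exact natDegree_eq_orderOf_ro ((edM_isPP hq).irreducible_of_dvd
        (squarefree_X_pow_sub_C hrs0 one_ne_zero) h5)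
        (coeff_ne_zero_of_dvd (mul_ne_zero hr.ne_zero hs.ne_zero) one_ne_zero h5)
    have h5 : ∀ {u v : ℕ}, u.Prime → v.Prime → u * v = r * s → ∃ q ∈ edM g.1, u ∣ ro q := by
      intro u v hu hv h
      by_contra! h6
      have h7 := (GL_orderOf_dvd_iff (Matrix.SpecialLinearGroup.toGL g) v).2 fun q hq =>
        ((hu.coprime_iff_not_dvd.2 (h6 q hq)).symm).dvd_of_dvd_mul_left (h ▸ h3 q hq)
      rw [hg, ← h] at h7
      exact hu.ne_one (Nat.dvd_one.1 (Nat.dvd_of_mul_dvd_mul_right hv.pos (by rwa [one_mul])))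
    have h6 : ∀ {q : F[X]} {u : ℕ}, q ∈ edM g.1 → u ∣ ro q →
        orderOf (Fintype.card F : ZMod u) ∣ q.natDegree := fun {q u} hq' h => by
      rw [orderOf_zmod_dvd_iff hq]
      exact h.trans ((orderOf_zmod_dvd_iff hq _).1 (h4 q hq').symm.dvd)
    obtain ⟨a, ha, ha'⟩ := h5 hr hs rfl
    obtain ⟨b, hb, hb'⟩ := h5 hs hr (mul_comm _ _)
    have a1 := hk ▸ h6 ha ha'
    have b1 := hl ▸ h6 hb hb'
    by_cases hab : b = a
    · subst hab
      obtain ⟨c, hc⟩ := b1
      have h7 := le_card_of_mem_edM hb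
      have h8 := (edM_isPP hb).natDegree_pos
      rw [hc] at a1 h7 h8
      rcases c with _ | _ | c
      · simp at h8
      · exact h2 (by simpa using a1)
      · simp [mul_add] at h7; omega
    · have h7 := add_le_card_of_mem_edM ha hb hab
      have := Nat.le_of_dvd (edM_isPP ha).natDegree_pos a1
      have := Nat.le_of_dvd (edM_isPP hb).natDegree_pos b1
      simp at h7; omega

end Cfsg.Agent.S2468
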