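import Cfsg.Statements.S2469
import Cfsg.Agent.H14.Sp3

set_option autoImplicit false
set_option linter.unusedVariables false
set_option linter.style.haveILetI false
open Cfsg H14.Wall H16 H23 Polynomial
open scoped Matrix

namespace Cfsg.Agent.S2469

/-- Adjacency of two odd primes in the prime graph of PSp(2n,q): let F be a finite field of characteristic p with q elements, n ≥ 2 with PSp(2n,F) simple, and let r ≠ s be odd primes different from p dividing the order of PSp(2n,F). Let k, l be the multiplicative orders of q modulo r and s, put η(m) = m for odd m and η(m) = m/2 for even m, and suppose η(k) ≤ η(l). Then PSp(2n,F) has NO element of order r·s if and only if η(k) + η(l) > n and l/k is not an odd integer. -/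
theorem result {F : Type*} [Field F] [Fintype F] (p : ℕ) [Fact p.Prime] [CharP F p] (n : ℕ) (hn : 2 ≤ n) (hsmall : n = 2 → 3 ≤ Fintype.card F)
    (r s : ℕ) (hr : r.Prime) (hs : s.Prime) (hr2 : r ≠ 2) (hs2 : s ≠ 2) (hrp : r ≠ p) (hsp : s ≠ p) (hrs : r ≠ s)
    (hrG : r ∣ Nat.card (Cfsg.PSp n F)) (hsG : s ∣ Nat.card (Cfsg.PSp n F))
    (k l ηk ηl : ℕ) (hk : k = orderOf ((Fintype.card F : ℕ) : ZMod r)) (hl : l = orderOf ((Fintype.card F : ℕ) : ZMod s))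
    (hηk : (Odd k ∧ ηk = k) ∨ (Even k ∧ 2 * ηk = k)) (hηl : (Odd l ∧ ηl = l) ∨ (Even l ∧ 2 * ηl = l)) (hkl : ηk ≤ ηl) :
    (r * s ∉ Set.range (orderOf : Cfsg.PSp n F → ℕ)) ↔ (n < ηk + ηl ∧ ¬ ∃ t : ℕ, Odd t ∧ l = k * t) := by
  have hq := Fintype.card_pos (α := F)
  have hL := sm_PSp (F := F) (show 1 ≤ n by omega)
  have e1 := fun j => Et.pm_iff (j := j) hq hr (hk ▸ hηk)
  have e2 := fun j => Et.pm_iff (j := j) hq hs (hl ▸ hηl)
  have d1 : ∀ j, k ∣ j ↔ r ∣ Fintype.card F ^ j - 1 := hk ▸ orderOf_zmod_dvd_iff hq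
  have d2 : ∀ j, l ∣ j ↔ s ∣ Fintype.card F ^ j - 1 := hl ▸ orderOf_zmod_dvd_iff hq
  have p1 := Et.pos hηk (hk ▸ orderOf_card_pos hr (cast_ne_zero_of_ne p hr hrp))
  have p2 := Et.pos hηl (hl ▸ orderOf_card_pos hs (cast_ne_zero_of_ne p hs hsp))
  have hc := (Nat.coprime_primes hr hs).2 hrs
  rw [psp_c2 hL p hr hr2 hrp hs hs2 hsp hrs, not_iff_comm, not_and_or, not_not, not_lt]
  refine ⟨?_, ?_⟩
  · rintro (h | ⟨t, h1, h2⟩)
    · exact .inl ⟨ηk, ηl, p1, p2, (e1 _).2 dvd_rfl, (e2 _).2 dvd_rfl, h⟩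
    obtain ⟨j, a1, a2, a3⟩ := psp_card hL p hs hs2 hsp hsG
    refine .inr ⟨ηl, p2, ?_, (Nat.le_of_dvd a1 ((e2 j).1 a2)).trans a3⟩
    rcases hηl with ⟨h3, rfl⟩ | ⟨h3, h4⟩
    · exact .inl (hc.mul_dvd_of_dvd_of_dvd ((d1 _).1 ⟨t, h2⟩) ((d2 _).1 dvd_rfl))
    have h5 : 2 * ηk = k := (hηk.resolve_left fun h =>
      Nat.not_even_iff_odd.2 (h.1.mul h1) (h2 ▸ h3)).2
    have h6 : ηl = ηk * t := by nlinarith
    refine .inr (hc.mul_dvd_of_dvd_of_dvd ?_ (((e2 _).2 dvd_rfl).resolve_left fun h => ?_))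
    · refine (((e1 _).2 dvd_rfl).resolve_left fun h => ?_).trans ?_
      · have := Nat.le_of_dvd p1 ((d1 _).2 h); omega
      · simpa [h6, pow_mul] using h1.nat_add_dvd_pow_add_pow (Fintype.card F ^ ηk) 1
    · have := Nat.le_of_dvd p2 ((d2 _).2 h); omega
  rintro (⟨i, j, a1, a2, a3, a4, a5⟩ | ⟨j, a1, a2, a3⟩)
  · have := Nat.le_of_dvd a1 ((e1 i).1 a3)
    have := Nat.le_of_dvd a2 ((e2 j).1 a4)
    exact .inl (by omega)
  by_cases h : ηk + ηl ≤ n
  · exact .inl h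
  obtain ⟨u, rfl⟩ := (e2 j).1 (a2.of_dvd (dvd_mul_left _ _))
  obtain rfl : u = 1 := by
    rcases u with _ | _ | u
    · simp at a1
    · rfl
    · nlinarith
  rw [mul_one] at *
  right
  rcases a2 with a2 | a2
  · have h1 := Nat.le_of_dvd p2 ((d2 _).2 ((dvd_mul_left _ _).trans a2))
    obtain ⟨h2, rfl⟩ := hηl.resolve_right fun h => by omega
    obtain ⟨t, ht⟩ := (d1 _).2 ((dvd_mul_right _ _).trans a2)
    exact ⟨t, (Nat.odd_mul.1 (ht ▸ h2)).2, ht⟩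
  · obtain ⟨i, u, b1, -, b2, b3⟩ := (half_of_dvd hq ((dvd_mul_right _ _).trans a2) d1).resolve_left
      (not_two hr hr2 dvd_rfl)
    obtain ⟨-, b4⟩ := hηl.resolve_left fun h => not_two hs hs2 dvd_rfl
      (dvd_two_of hq ((d2 _).1 h.2.symm.dvd) ((dvd_mul_left _ _).trans a2))
    exact ⟨u, b2, by rw [← b4, b1, b3, mul_assoc]⟩

end Cfsg.Agent.S2469
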