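import Mathlib
import Cfsg.Statements.S2477

set_option autoImplicit false
open Cfsg

namespace Cfsg.Agent.S2477

def T : List (ℕ × ℕ × ℕ) := [(0, 0, 1), (2, 1, 2), (3, 0, 3), (4, 0, 2), (4, 1, 4), (5, 0, 5), (5, 1, 6), (6, 0, 3), (6, 0, 4), (6, 1, 2), (6, 1, 6), (7, 0, 6), (7, 0, 7), (7, 1, 10), (7, 1, 12), (8, 0, 2), (8, 0, 4), (8, 0, 6), (8, 0, 15), (8, 1, 4), (8, 1, 6), (8, 1, 8), (9, 0, 3), (9, 0, 9), (9, 0, 10), (9, 0, 12), (9, 1, 6), (9, 1, 14), (9, 1, 20), (10, 0, 4), (10, 0, 5), (10, 0, 6), (10, 0, 8), (10, 0, 12), (10, 0, 21), (10, 1, 2), (10, 1, 4), (10, 1, 6), (10, 1, 10), (10, 1, 12), (10, 1, 30)]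

theorem closed : ∀ x ∈ T, ∀ a ∈ List.range 11, 2 ≤ a → a + x.1 ≤ 10 →
    (a + x.1, (x.2.1 + a + 1) % 2, Nat.lcm a x.2.2) ∈ T := by decide +kernel

theorem mem (m : Multiset ℕ) (h : ∀ a ∈ m, 2 ≤ a) (hs : m.sum ≤ 10) :
    (m.sum, (m.sum + Multiset.card m) % 2, m.lcm) ∈ T := by
  induction m using Multiset.induction_on with
  | empty => decide
  | cons a m ih =>
    rw [Multiset.sum_cons] at hs
    have := closed _ (ih (fun b hb => h b (Multiset.mem_cons_of_mem hb)) (by omega)) a
      (List.mem_range.2 (by omega)) (h a (Multiset.mem_cons_self _ _)) hs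
    rw [Multiset.sum_cons, Multiset.card_cons, Multiset.lcm_cons, lcm_eq_nat_lcm]
    convert this using 3
    simp only
    omega

theorem fin : ∀ x ∈ T, x.2.1 = 0 → x.2.2 ∈ [1, 2, 3, 4, 5, 6, 7, 8, 9, 10, 12, 15, 21] := by
  decide +kernel

theorem ex (m : Multiset ℕ) (h : ∀ a ∈ m, 2 ≤ a) (hs : m.sum ≤ 10)
    (he : (m.sum + Multiset.card m) % 2 = 0) :
    m.lcm ∈ Set.range (orderOf : alternatingGroup (Fin 10) → ℕ) := by
  obtain ⟨g, hg⟩ := (Equiv.Perm.exists_with_cycleType_iff (Fin 10) (m := m)).2 ⟨by simpa using hs, h⟩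
  refine ⟨⟨g, Equiv.Perm.mem_alternatingGroup.2 ?_⟩, ?_⟩
  · rw [Equiv.Perm.sign_of_cycleType, hg]
    exact Even.neg_one_pow (Nat.even_iff.2 he)
  · rw [Subgroup.orderOf_mk, ← Equiv.Perm.lcm_cycleType, hg]

theorem result : Set.range (orderOf : alternatingGroup (Fin 10) → ℕ) = {1, 2, 3, 4, 5, 6, 7, 8, 9, 10, 12, 15, 21} := by
  apply Set.Subset.antisymm
  · rintro _ ⟨⟨σ, hσ⟩, rfl⟩
    have e : Even (σ.cycleType.sum + Multiset.card σ.cycleType) := by
      have := Equiv.Perm.mem_alternatingGroup.1 hσ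
      rw [Equiv.Perm.sign_of_cycleType] at this
      exact (neg_one_pow_eq_one_iff_even (by decide)).1 this
    have := fin _ (mem σ.cycleType (fun c => Equiv.Perm.two_le_of_mem_cycleType)
      (by simpa using σ.sum_cycleType_le)) (Nat.even_iff.1 e)
    rw [Subgroup.orderOf_mk, ← Equiv.Perm.lcm_cycleType]
    simpa using this
  · intro d hd
    simp only [Set.mem_insert_iff, Set.mem_singleton_iff] at hd
    rcases hd with rfl | rfl | rfl | rfl | rfl | rfl | rfl | rfl | rfl | rfl | rfl | rfl | rfl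
    · exact ex 0 (by simp) (by simp) (by simp)
    · exact ex {2, 2} (by decide) (by decide) (by decide)
    · exact ex {3} (by decide) (by decide) (by decide)
    · exact ex {4, 2} (by decide) (by decide) (by decide)
    · exact ex {5} (by decide) (by decide) (by decide)
    · exact ex {6, 2} (by decide) (by decide) (by decide)
    · exact ex {7} (by decide) (by decide) (by decide)
    · exact ex {8, 2} (by decide) (by decide) (by decide)
    · exact ex {9} (by decide) (by decide) (by decide)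
    · exact ex {5, 2, 2} (by decide) (by decide) (by decide)
    · exact ex {4, 3, 2} (by decide) (by decide) (by decide)
    · exact ex {5, 3} (by decide) (by decide) (by decide)
    · exact ex {7, 3} (by decide) (by decide) (by decide)

end Cfsg.Agent.S2477
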