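import Cfsg.Statements.S2490
import Cfsg.Agent.H25.O7920

set_option autoImplicit false
open Cfsg

namespace Cfsg.Agent.S2490

open H25 Subgroup

/-- Let G be a finite group of order 7920 = 2⁴·3²·5·11 (the order of the smallest Mathieu group) and suppose its prime graph (vertices the prime divisors of the order, distinct p, q joined when there is an element of order pq) is disconnected: the prime divisors split into two non-empty parts with no element of order pq for p in one part and q in the other. Then G is simple. -/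
theorem result {G : Type*} [Group G] [Finite G] (hord : Nat.card G = 7920)
    (hdisc : (∃ A : Set ℕ, (∃ a ∈ A, a.Prime ∧ a ∣ Nat.card G) ∧ (∃ b ∉ A, b.Prime ∧ b ∣ Nat.card G) ∧
      ∀ a ∈ A, ∀ b ∉ A, a.Prime → b.Prime → a ∣ Nat.card G → b ∣ Nat.card G → ¬ ∃ g : G, orderOf g = a * b)) :
    IsSimpleGroup G := by
  by_contra hs
  obtain ⟨A, ⟨a, ha, pa, da⟩, ⟨b, hb, pb, db⟩, h⟩ := hdisc
  have adj : ∀ p q : ℕ, p.Prime → q.Prime → p ≠ q → ∀ {X Y : Subgroup G},
      X ≤ centralizer (Y : Set G) → p ∣ Nat.card X → q ∣ Nat.card Y → (p ∈ A ↔ q ∈ A) := by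
    intro p q hp hq hpq X Y c h1 h2
    have d1 := h1.trans (card_subgroup_dvd_card X)
    have d2 := h2.trans (card_subgroup_dvd_card Y)
    have e := exists_ord_mul hp hq hpq c h1 h2
    exact ⟨fun k => by_contra fun k' => h p k q k' hp hq d1 d2 e,
      fun k => by_contra fun k' => h q k p k' hq hp d2 d1 (mul_comm p q ▸ e)⟩
  have pr : ∀ p : ℕ, p.Prime → p ∣ Nat.card G → p = 2 ∨ p = 3 ∨ p = 5 ∨ p = 11 := fun p hp d => by
    have := Nat.mem_primeFactors.2 ⟨hp, hord ▸ d, (by norm_num : 7920 ≠ 0)⟩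
    rw [show Nat.primeFactors 7920 = {2, 3, 5, 11} by simp [Nat.primeFactors, Nat.primeFactorsList_ofNat]] at this
    simpa using this
  suffices k : (2 ∈ A ↔ 11 ∈ A) ∧ (3 ∈ A ↔ 11 ∈ A) ∧ (5 ∈ A ↔ 11 ∈ A) by
    rcases pr a pa da with rfl | rfl | rfl | rfl <;> rcases pr b pb db with rfl | rfl | rfl | rfl <;>
      tauto
  obtain ⟨P⟩ : Nonempty (Sylow 11 G) := inferInstance
  have hP : Nat.card (P : Subgroup G) = 11 := card_sylow_eq_prime (by omega) (by omega) P
  obtain ⟨n1, n2⟩ := o7920_n11 hord P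
  have p2 := Nat.prime_two; have p3 := Nat.prime_three; have p5 := Nat.prime_five
  have p11 := Nat.prime_eleven
  by_cases h60 : Nat.card (Sylow 11 G) ∣ 60
  · obtain ⟨d, hd, e⟩ := card_normalizer_of_prime p11 _ hP
    have := Nat.le_of_dvd (by norm_num) hd
    have n3 : Nat.card (normalizer ((P : Subgroup G) : Set G)) = 7920 ∨
        Nat.card (normalizer ((P : Subgroup G) : Set G)) = 660 := by
      rcases n2 with h | h | h | h <;> rw [h] at n1 h60 <;> omega
    have c2 : 2 ∣ Nat.card (centralizer ((P : Subgroup G) : Set G)) := by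
      interval_cases d <;> omega
    have c3 : 3 ∣ Nat.card (centralizer ((P : Subgroup G) : Set G)) := by
      interval_cases d <;> omega
    have a3 := adj 3 11 p3 p11 (by omega) le_rfl c3 hP.symm.dvd
    refine ⟨adj 2 11 p2 p11 (by omega) le_rfl c2 hP.symm.dvd, a3, ?_⟩
    by_cases c5 : 5 ∣ Nat.card (centralizer ((P : Subgroup G) : Set G))
    · exact adj 5 11 p5 p11 (by omega) le_rfl c5 hP.symm.dvd
    obtain ⟨x, hx⟩ := exists_prime_orderOf_dvd_card'
      (G := normalizer ((P : Subgroup G) : Set G)) 5 (by omega)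
    rw [← orderOf_coe, ← Nat.card_zpowers] at hx
    have k := syl_cent (q := 5) (r := 3) (IsPGroup.of_card (n := 1) hx)
      ((zpowers_le.2 x.2).trans (H5.normalizer_le_normalizer_centralizer _))
      (Nat.coprime_comm.1 (p5.coprime_iff_not_dvd.2 c5)) fun a h1 h2 => by
        have h3 : 3 ^ a ∣ 7920 := h1.trans (hord ▸ card_subgroup_dvd_card _)
        have : a ≤ 2 := by_contra fun h => by
          exact absurd ((pow_dvd_pow 3 (not_le.1 h)).trans h3) (by norm_num)
        unfold Nat.ModEq at h2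
        interval_cases a <;> omega
    rw [← index_mul_card (subgroupOf (centralizer (zpowers (x : G) : Set G)) _)] at c3
    refine (adj 3 5 p3 p5 (by omega) le_rfl (((p3.dvd_mul.1 c3).resolve_left k).trans ?_)
      hx.symm.dvd).symm.trans a3
    rw [← inf_subgroupOf_right, Nat.card_congr (subgroupOfEquivOfLe inf_le_right).toEquiv]
    exact card_dvd_of_le inf_le_left
  obtain ⟨K, -, k1, k2, k3, k4⟩ := o7920_normal hord hs P h60
  obtain ⟨r, hr, e⟩ := Nat.exists_prime_and_dvd (mt card_eq_one.1 k1)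
  have d := e.trans (card_dvd_of_le (k3.trans (centralizer_le_normalizer _)))
  have a : ∀ q : ℕ, q.Prime → q ≠ r → q ∣ Nat.card (Sylow 11 G) * 11 → (q ∈ A ↔ r ∈ A) :=
    fun q hq h1 h2 => adj q r hq hr h1 le_rfl (h2.trans k4) e
  have r11 : r ≠ 11 := fun h => k2 (h ▸ e)
  have n3 : Nat.card (Sylow 11 G) = 45 ∧ Nat.card (normalizer ((P : Subgroup G) : Set G)) = 176 ∨
      Nat.card (Sylow 11 G) = 144 ∧ Nat.card (normalizer ((P : Subgroup G) : Set G)) = 55 := by
    rcases n2 with h | h | h | h <;> rw [h] at n1 h60 ⊢ <;> omega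
  rcases pr r hr (e.trans (card_subgroup_dvd_card K)) with rfl | rfl | rfl | rfl
  · have := a 3 p3 (by omega) (by omega); have := a 5 p5 (by omega) (by omega)
    have := a 11 p11 (by omega) (by omega); tauto
  · omega
  · have := a 3 p3 (by omega) (by omega); have := a 2 p2 (by omega) (by omega)
    have := a 11 p11 (by omega) (by omega); tauto
  · omega

end Cfsg.Agent.S2490
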