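import Cfsg.Statements.S2509
import Cfsg.Agent.H9.Pq9

set_option autoImplicit false
open Cfsg

namespace Cfsg.Agent.S2509

/-- Let G be a finite direct product of groups PSp_{2m_i}(F_i) (the symplectic group on a 2m_i-dimensional space modulo its centre), where each m_i is a power of 2 (m_i = 1, giving PSL₂, is allowed), each F_i is a finite field of odd order, and each factor PSp_{2m_i}(F_i) is a simple group. Then every subgroup H of G of odd index is pronormal in G: for every g ∈ G the subgroups H and gHg⁻¹ are conjugate by an element of the subgroup they generate. -/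
theorem result {t : ℕ}
    (m : Fin t → ℕ) (F : Fin t → Type*) [∀ i, Field (F i)] [∀ i, Fintype (F i)]
    (hm : ∀ i, ∃ k : ℕ, m i = 2 ^ k) (hodd : ∀ i, Odd (Fintype.card (F i)))
    (hs : ∀ i, IsSimpleGroup (Cfsg.PSp (m i) (F i)))
    (H : Subgroup (Π i, Cfsg.PSp (m i) (F i))) (hH : Odd H.index) : Cfsg.IsPronormal H := by
  classical
  haveI : Fact (Nat.Prime 2) := ⟨Nat.prime_two⟩
  haveI : ∀ i, Finite (H22.spForm (m i) (F i)).O := fun _ => H9.Pn.finite_O
  refine H9.Pn.PronSyl.pron (H9.Pn.PronSyl.of_surj
    (H9.Pn.pronSyl_pi fun i => H9.Pn.exists_pp (hm i) (hodd i))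
    (Pi.monoidHom fun i => ((QuotientGroup.mk' _).comp (H22.spEquiv (m i) (F i)).symm.toMonoidHom).comp
      (Pi.evalMonoidHom _ i)) fun y => ?_) hH
  choose x hx using fun i => QuotientGroup.mk'_surjective _ (y i)
  exact ⟨fun i => H22.spEquiv _ _ (x i), funext fun i =>
    (congrArg (QuotientGroup.mk' _) ((H22.spEquiv _ _).symm_apply_apply (x i))).trans (hx i)⟩

end Cfsg.Agent.S2509
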