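import Cfsg.Statements.S2530
import Cfsg.Agent.H26.Exch

set_option autoImplicit false
open Cfsg

namespace Cfsg.Agent.S2530

open Equiv

theorem lt_swap {n : ℕ} (t : Fin n) {a b : Fin (n + 1)} (h : a < b)
    (h' : ¬ swap t.castSucc t.succ a < swap t.castSucc t.succ b) : a = t.castSucc ∧ b = t.succ := by
  simp only [swap_apply_def] at h'
  split_ifs at h' <;> simp only [Fin.ext_iff, Fin.lt_def, Fin.val_castSucc, Fin.val_succ] at * <;> omega

/-- the exchange system of the symmetric group -/
def sys (n : ℕ) : H26.ExchSys (Fin n) (Perm (Fin (n + 1))) where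
  σ i := swap i.castSucc i.succ
  sq i := swap_mul_self _ _
  gen w := by
    have hw : w ∈ Submonoid.closure (Set.range fun i : Fin n => swap i.castSucc i.succ) :=
      Perm.mclosure_swap_castSucc_succ n ▸ Submonoid.mem_top w
    induction hw using Submonoid.closure_induction with
    | mem x hx => obtain ⟨i, rfl⟩ := hx; exact ⟨[i], H26.wp_singleton _ i⟩
    | one => exact ⟨[], rfl⟩
    | mul x y _ _ hx hy =>
      obtain ⟨l, rfl⟩ := hx
      obtain ⟨m, rfl⟩ := hy
      exact ⟨l ++ m, H26.wp_append _ l m⟩
  Pos i w := w⁻¹ i.castSucc < w⁻¹ i.succ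
  pos_one i := Fin.castSucc_lt_succ
  not_both s w h := by simpa using h.le
  fold s w t h h' := by
    obtain ⟨h1, h2⟩ := lt_swap t h (by simpa using h')
    rw [mul_swap_eq_swap_mul, ← h1, ← h2]; simp

theorem inj (n : ℕ) : Function.Injective (sys n).σ := fun i j h => by
  have := Equiv.congr_fun h i.castSucc
  simp only [sys, swap_apply_def] at this
  split_ifs at this <;> simp only [Fin.ext_iff, Fin.val_castSucc, Fin.val_succ] at * <;> omega

theorem three {n : ℕ} {i j : Fin n} (h : i.val + 1 = j) :
    orderOf (swap j.castSucc j.succ * swap i.castSucc i.succ) = 3 := by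
  have e : i.succ = j.castSucc := Fin.ext h
  rw [swap_comm i.castSucc, e]
  refine (Perm.isThreeCycle_swap_mul_swap_same ?_ ?_ ?_).orderOf <;>
    simp only [Ne, Fin.ext_iff, Fin.val_castSucc, Fin.val_succ] <;> omega

theorem mat (n : ℕ) : (sys n).coxMatrix (inj n) = CoxeterMatrix.A n := by
  ext i j
  show orderOf (swap i.castSucc i.succ * swap j.castSucc j.succ) = if i = j then 1 else
    if (j : ℕ) + 1 = i ∨ (i : ℕ) + 1 = j then 3 else 2
  split_ifs with h1 h2
  · rw [h1, swap_mul_self, orderOf_one]
  · rcases h2 with h2 | h2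
    · exact three h2
    · rw [← orderOf_inv, mul_inv_rev, swap_inv, swap_inv]; exact three h2
  · have hc : Commute (swap i.castSucc i.succ) (swap j.castSucc j.succ) := by
      show _ * _ = _ * _
      rw [mul_swap_eq_swap_mul, swap_apply_of_ne_of_ne, swap_apply_of_ne_of_ne] <;>
        simp only [Ne, Fin.ext_iff, Fin.val_castSucc, Fin.val_succ] at * <;> omega
    refine orderOf_eq_prime (by rw [hc.mul_pow, sq, sq, swap_mul_self, swap_mul_self, one_mul])
      fun e => h1 (inj n ?_)
    exact (eq_inv_of_mul_eq_one_left e).trans (swap_inv _ _)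

/-- The Coxeter presentation of the symmetric group: for every n, the symmetric group on n+1 letters is the Coxeter group of type A_n with the adjacent transpositions (i, i+1) as simple reflections; that is, it is presented by generators r_1, …, r_n subject to r_i² = 1, (r_i r_j)² = 1 for |i − j| > 1 and (r_i r_{i+1})³ = 1, with r_i mapping to (i, i+1). -/
theorem result (n : ℕ) :
    ∃ cs : CoxeterSystem (CoxeterMatrix.A n) (Equiv.Perm (Fin (n + 1))), ∀ i : Fin n, cs.simple i = Equiv.swap i.castSucc i.succ := by
  rw [← mat]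
  exact (sys n).exists_coxeterSystem (inj n)

end Cfsg.Agent.S2530
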