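import Cfsg.Statements.S2555
import Cfsg.Agent.H5.AI

set_option autoImplicit false
open Cfsg

namespace Cfsg.Agent.S2555

/-- Let G be a non-abelian finite simple group all of whose Sylow subgroups are abelian, r a prime dividing |G|, and α an automorphism of G whose order is a power of r. If α fixes some Sylow r-subgroup of G elementwise, then α is an inner automorphism. -/
theorem result {G : Type*} [Group G] [Finite G]
    [IsSimpleGroup G] (hna : ¬ IsMulCommutative G)
    (hA : ∀ (p : ℕ), p.Prime → ∀ (P : Sylow p G), IsMulCommutative ↥P)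
    (r : ℕ) [Fact r.Prime] (hr : r ∣ Nat.card G) (α : G ≃* G) (k : ℕ) (hα : orderOf α = r ^ k)
    (R : Sylow r G) (hR : ∀ x ∈ (R : Subgroup G), α x = x) :
    ∃ g : G, ∀ x : G, α x = g * x * g⁻¹ := by
-----
  by_cases h2 : r = 2
  · subst h2
    refine Cfsg.Agent.S4593.result ((IsSimpleGroup.eq_bot_or_eq_top_of_normal _ inferInstance).resolve_right fun e =>
      hna ⟨⟨fun a b => Subgroup.mem_center_iff.1 (e.ge (Subgroup.mem_top b)) a⟩⟩) ?_ R (hA 2 Nat.prime_two R) α ⟨k, hα⟩ hR
    refine (IsSimpleGroup.eq_bot_or_eq_top_of_normal _ inferInstance).resolve_right fun e => ?_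
    have k4 := H16.GD.odd_iff.1 (H15.isPi_piCoreOf {2}ᶜ (⊤ : Subgroup G))
    rw [← H15.pPrimeCore_eq_piCoreOf, e, Subgroup.card_top] at k4
    exact Nat.not_even_iff_odd.2 k4 (even_iff_two_dvd.2 hr)
  obtain ⟨g, hg⟩ := H15.CJ.inner_of_comm hna hA h2 hα hr R hR
  exact ⟨g, fun x => hg ▸ rfl⟩

end Cfsg.Agent.S2555
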