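import Cfsg.Statements.S2604
import Cfsg.Agent.H22.OutC
import Cfsg.Agent.S0816

set_option autoImplicit false
open Cfsg

namespace Cfsg.Agent.S2604

/-- Outer automorphism group of the simple orthogonal group Ω_(2m+1)(q), m ≥ 3, q = p^f odd: it is the direct product of a group of order 2 (diagonal automorphisms, from SO) and a cyclic group of order f (field automorphisms). -/
theorem result {F : Type*} [Field F] [Fintype F] {p f m : ℕ} [Fact p.Prime] (hf : 1 ≤ f) (hF : Fintype.card F = p ^ f) (hp : p ≠ 2) (hm : 3 ≤ m) : Nonempty (Cfsg.Out (Cfsg.POmega F (Cfsg.quadFormOdd m F)) ≃* Multiplicative (ZMod 2 × ZMod f)) := by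
  have h2 : (2 : F) ≠ 0 := mt (H22.two_eq_zero_iff hF).mp hp
  have := H22.charP_of_card hF
  have h5 : 5 ≤ Fintype.card (Unit ⊕ (Fin m ⊕ Fin m)) := by simp; omega
  have := H22.finite_POmega (Cfsg.quadFormOdd m F)
  have := H22.finite_out (Cfsg.POmega F (Cfsg.quadFormOdd m F))
  obtain ⟨t, ht⟩ := H22.exists_oData_top (H22.qOdd_nondeg h2 m) h5 (H22.range_ind_odd h2 (by omega))
  have h1 := H22.card_out_of_card_aut (H22.center_POmega (H22.qOdd_nondeg h2 m) h5)
      (S0816.result p f hf hF ((Fact.out : p.Prime).odd_of_ne_two hp) m hm)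
  exact ht.two_prod (H22.card_ringAut hF)
    (φ := ⟨H22.stdSL _ (frobeniusEquiv F p), 1, H22.stdSL_qOdd m (frobeniusEquiv F p)⟩)
    (H22.ringAut_facts hF).2 h1 (Subtype.ext (H22.stdSL_frob_pow hF _))

end Cfsg.Agent.S2604
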