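import Cfsg.Statements.S2652
import Cfsg.Agent.H28.Jt2
-- import your own Cfsg.Agent.* helpers here

set_option autoImplicit false
open Cfsg

namespace Cfsg.Agent.S2652

/-- Let T be a Sylow 2-subgroup of the Fischer group Fi₂₃ (the finitely presented group `Spor.Fi23`; T has order 2¹⁸). Then every elementary abelian subgroup of Fi₂₃ contained in T and normal in T has order at most 2¹¹, and there is exactly one such subgroup of order 2¹¹. -/
theorem result
    (T : Sylow 2 Cfsg.Spor.Fi23) :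
    (∀ A : Subgroup Cfsg.Spor.Fi23, A ≤ T → (A.subgroupOf T).Normal → Cfsg.IsElementaryAbelian 2 A →
        Nat.card A ≤ 2 ^ 11) ∧
    ∃! A : Subgroup Cfsg.Spor.Fi23, A ≤ T ∧ (A.subgroupOf T).Normal ∧ Cfsg.IsElementaryAbelian 2 A ∧
        Nat.card A = 2 ^ 11 := by
  have h := H28.m23
  have := h.fin
  obtain ⟨l, c, hl, j⟩ := h.js T
  have e := c.ea h.tt
  refine ⟨fun A hA _ a => ?_, H27.cl l, ⟨j.2.1, ?_, e, j.1⟩, fun A hA =>
    Subgroup.eq_of_le_of_card_ge (j.2.2 A hA.1 hA.2.2.1 hA.2.2.2.ge) (by rw [j.1, hA.2.2.2])⟩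
  · by_contra! q
    exact absurd (Subgroup.card_le_of_le (j.2.2 A hA a q.le)) (by rw [j.1]; omega)
  · refine (Subgroup.normal_subgroupOf_iff j.2.1).2 fun x g hx hg => ?_
    refine (H27.cl_le (H := (H27.cl l).comap (MulAut.conj g).toMonoidHom) fun y hy => H27.mem_cl ?_) hx
    exact j.mem h.tt T.2 (hl ▸ h.wd) c (h.lv.tg.2.1 g y (c.1 y hy)) (mul_mem (mul_mem hg (j.2.1 (H27.mem_cl hy))) (inv_mem hg))

end Cfsg.Agent.S2652
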