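import Cfsg.Statements.S2752
import Cfsg.Agent.H10.RO5

set_option autoImplicit false
universe u
open Cfsg H10

namespace Cfsg.Agent.S2752

/-- Let M be an elementary abelian 2-subgroup of a finite group L and G a subgroup of L acting faithfully on M by conjugation (G normalizes M and meets C(M) trivially). Assume O₂(G) = 1, the symmetric group of degree 3 is not involved in G, and every non-abelian composition factor of G is a Suzuki group Sz(2^(2n+1)) or a group PSL₂(3^(2n+1)). Then every elementary abelian 2-subgroup A of G satisfies |M / C_M(A)| ≥ |A|² and |[M, A]| ≥ |A|². -/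
theorem result {L : Type u} [Group L] [Finite L] (M G : Subgroup L) (hM : Cfsg.IsElementaryAbelian 2 M) (hGM : G ≤ Subgroup.normalizer (M : Set L)) (hf : G ⊓ Subgroup.centralizer (M : Set L) = ⊥) (ha : Cfsg.pCore 2 ↥G = ⊥) (hb : ¬ Cfsg.Involves (Equiv.Perm (Fin 3)) ↥G) (hc : Cfsg.IsCompositionKGroupWith Cfsg.IsSuzukiOrPSL2OddPowerThree ↥G) (A : Subgroup L) (hA : A ≤ G) (hAe : Cfsg.IsElementaryAbelian 2 A) : Nat.card A ^ 2 * Nat.card ↥(M ⊓ Subgroup.centralizer (A : Set L)) ≤ Nat.card M ∧ Nat.card A ^ 2 ≤ Nat.card ↥⁅M, A⁆ := by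
  have hk := kro_of_free (L := G) (Or.inl fun e => hb (involves_iff_sub.2 e)) (ks_of_comp hc).of_top
  have hr : RedOn 2 CC(M) G := fun N h1 h2 h3 => by
    rw [eq_bot_of_pCoreOf (pCoreOf_eq_bot_iff.2 ha) (isPGroup_of_resOf_eq_bot
      (eq_bot_iff.2 (hf.le.trans' (le_inf ((resOf_le N).trans h1) h3)))) h1 h2]
    exact bot_le
  obtain ⟨h1, h2⟩ := hk.bound' hM hGM hr hA (elab_isPGroup hAe) (elMod_of_elab hAe _)
  have h3 := card_inf_mul_relIndex CC(M) A
  rw [show CC(M) ⊓ A = ⊥ from eq_bot_iff.2 (hf.le.trans' (le_inf (inf_le_right.trans hA) inf_le_left)),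
    Subgroup.card_bot, one_mul] at h3
  rw [h3] at h1 h2
  refine ⟨?_, h2⟩
  rw [← card_inf_mul_relIndex CC(A) M, inf_comm M, mul_comm]
  exact Nat.mul_le_mul_left _ h1

end Cfsg.Agent.S2752
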