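import Cfsg.Statements.S2755
import Cfsg.Agent.H10.GG2

set_option autoImplicit false
open Cfsg H10

namespace Cfsg.Agent.S2755

/-- Every finite Goldschmidt group is S₄-free (the symmetric group of degree 4 is not involved in it); and for a finite Goldschmidt group G, the symmetric group of degree 3 is not involved in G exactly when G is a Suzuki group or PSL₂ over a field with 3^(2n+1) elements. -/
theorem result {G : Type*} [Group G] [Finite G] (hG : Cfsg.IsGoldschmidtGroup G) : ¬ Cfsg.Involves (Equiv.Perm (Fin 4)) G ∧ (¬ Cfsg.Involves (Equiv.Perm (Fin 3)) G ↔ Cfsg.IsSuzukiOrPSL2OddPowerThree G) := by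
  rw [involves_iff', involves_iff']
  refine ⟨not_isSec_s4_of_gold hG, fun h3 => ?_, not_isSec_s3_of_sz⟩
  rcases hG with h | ⟨F, _, _, n, -, h, ⟨e⟩⟩ | h | ⟨F, _, _, n, h1, h, ⟨e⟩⟩ | ⟨F, _, _, q, rfl, -, h, ⟨e⟩⟩ | h
  · exact sz_of_not_isSec_s3 h.1 h.2.1 h3
  · haveI := charP_of_card_eq_prime_pow h
    exact absurd (IsSec.of_equiv e (isSec_s3_psl2 F)) h3
  · exact Or.inl h
  · haveI := charP_of_card_eq_prime_pow (p := 2) (h.trans (pow_mul 2 2 n).symm)
    exact absurd (IsSec.of_equiv e (isSec_s3_psu3 F _)) h3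
  · exact (s3_or_of_psl2 h e).resolve_left h3
  · exact absurd (isSec_s3_j1 h) h3

end Cfsg.Agent.S2755
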