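import Cfsg.Statements.S2756
import Cfsg.Agent.H3.FSec
import Cfsg.Agent.H8.FTc

set_option autoImplicit false
open Cfsg

namespace Cfsg.Agent.S2756

theorem sub_normal {G : Type*} [Group G] [Finite G] (h : ∀ P : Sylow 2 G, (P : Subgroup G).Normal)
    (H : Subgroup G) (Q : Sylow 2 H) : (Q : Subgroup H).Normal := by
  obtain ⟨P, hP⟩ := (Q.isPGroup'.map H.subtype).exists_le_sylow
  have h1 : (P : Subgroup G).comap H.subtype = Q :=
    Q.is_maximal' (P.isPGroup'.comap_subtype) (Subgroup.map_le_iff_le_comap.1 hP)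
  rw [← h1]
  exact (h P).comap _

theorem no_inv {G : Type*} [Group G] [Finite G] (P : Sylow 2 G) (hP : (P : Subgroup G).Normal)
    {x g : G} (hx : Odd (orderOf x)) (h : g * x * g⁻¹ = x⁻¹) : x = 1 := by
  have h1 : ∀ n : ℕ, g ^ (2 * n + 1) * x * (g ^ (2 * n + 1))⁻¹ = x⁻¹ := by
    intro n
    induction n with
    | zero => simpa using h
    | succ n ih =>
      have e : g * x⁻¹ * g⁻¹ = x := by rw [← conj_inv, h, inv_inv]
      calc g ^ (2 * (n + 1) + 1) * x * (g ^ (2 * (n + 1) + 1))⁻¹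
          = g * (g * (g ^ (2 * n + 1) * x * (g ^ (2 * n + 1))⁻¹) * g⁻¹) * g⁻¹ := by
            rw [show 2 * (n + 1) + 1 = 1 + (1 + (2 * n + 1)) by ring, pow_add, pow_add g 1, pow_one]
            group
        _ = x⁻¹ := by rw [ih, e, h]
  obtain ⟨n, hn⟩ : Odd (P : Subgroup G).index := by
    rw [← Nat.not_even_iff_odd, even_iff_two_dvd]; exact P.not_dvd_index
  have h2 : g ^ (2 * n + 1) ∈ (P : Subgroup G) := hn ▸ (P : Subgroup G).pow_index_mem g
  have h3 : x ^ 2 ∈ (P : Subgroup G) := by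
    have := (P : Subgroup G).mul_mem (hP.conj_mem _ h2 x) ((P : Subgroup G).inv_mem h2)
    have e : x * g ^ (2 * n + 1) * x⁻¹ * (g ^ (2 * n + 1))⁻¹
        = x * (g ^ (2 * n + 1) * x * (g ^ (2 * n + 1))⁻¹)⁻¹ := by group
    rwa [e, h1, inv_inv, ← pow_two] at this
  obtain ⟨k, hk⟩ := P.isPGroup' ⟨_, h3⟩
  have h4 : x ^ 2 ^ (k + 1) = 1 := by
    rw [pow_succ', pow_mul]; exact congrArg Subtype.val hk
  rw [← orderOf_eq_one_iff]
  exact Nat.eq_one_of_dvd_coprimes ((Nat.coprime_two_right.2 hx).pow_right (k + 1)) dvd_rfl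
    (orderOf_dvd_of_pow_eq_one h4)

theorem c_of_b {G : Type*} [Group G] [Finite G] {q : ℕ} [Fact q.Prime] (hq : q ≠ 2) (T : Sylow q G)
    (H : Subgroup G) (hT : (T : Subgroup G) ≤ H) (h : q ∣ Nat.card G → ∀ P : Sylow 2 H, (P : Subgroup H).Normal) :
    ∀ x ∈ (T : Subgroup G), x ≠ 1 → ∀ g ∈ H, g * x * g⁻¹ ≠ x⁻¹ := by
  intro x hx h1 g hg e
  obtain ⟨k, hk⟩ := (IsPGroup.iff_orderOf.1 T.isPGroup') ⟨x, hx⟩
  rw [Subgroup.orderOf_mk] at hk
  have hk0 : k ≠ 0 := fun e => h1 (by rw [e, pow_zero, orderOf_eq_one_iff] at hk; exact hk)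
  have hd : q ∣ Nat.card G := (dvd_pow_self q hk0).trans (hk ▸ orderOf_dvd_natCard x)
  obtain ⟨P⟩ : Nonempty (Sylow 2 H) := inferInstance
  refine h1 (congrArg Subtype.val (no_inv P (h hd P) (x := ⟨x, hT hx⟩) (g := ⟨g, hg⟩) ?_ (Subtype.ext e)))
  rw [Subgroup.orderOf_mk, hk]
  exact ((Fact.out : q.Prime).odd_of_ne_two hq).pow

theorem le_N {G : Type*} [Group G] [Finite G] (T : Subgroup G) :
    T ≤ Subgroup.normalizer (centerThompsonAOf T : Set G) := by
  rw [H4.centerThompsonAOf_eq]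
  exact Subgroup.le_normalizer.trans (H4.normalizer_le_normalizer_centerThompsonOf _)

theorem a_of_c {G : Type*} [Group G] [Finite G] (h : ∀ (q : ℕ) [Fact q.Prime], q ≠ 2 → ∀ T : Sylow q G, ∀ x ∈ (T : Subgroup G), x ≠ 1 → ∀ g ∈ Subgroup.normalizer (Cfsg.centerThompsonAOf (T : Subgroup G) : Set G), g * x * g⁻¹ ≠ x⁻¹) (P : Sylow 2 G) : (P : Subgroup G).Normal := by
  by_contra hP
  obtain ⟨x, g, h1, h2, h3⟩ := H8.exists_real_prime_of_not_normal P hP
  have : Fact (orderOf x).Prime := ⟨h1⟩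
  obtain ⟨T, hT⟩ := (IsPGroup.of_card (n := 1) (by rw [Nat.card_zpowers, pow_one]) :
    IsPGroup (orderOf x) (Subgroup.zpowers x)).exists_le_sylow
  have hx : x ∈ (T : Subgroup G) := hT (Subgroup.mem_zpowers x)
  have h4 := h _ h2 T
  rw [H4.centerThompsonAOf_eq] at h4
  rcases H3.zj_controls_or h2 T with h5 | ⟨-, h5⟩
  · obtain ⟨y, hy, h6⟩ := h5 {x} g (Set.singleton_subset_iff.2 hx) (by
      rintro a rfl; rw [h3]; exact (T : Subgroup G).inv_mem hx)
    exact h4 x hx (fun e => h1.one_lt.ne' (orderOf_eq_one_iff.2 e)) y hy (by rw [← h6 x rfl, h3])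
  · obtain ⟨z, h6, h7, h8, y, hy, h9⟩ := h5 (orderOf x - 1) (fun e => by
      have := Nat.le_of_dvd (by have := h1.two_le; omega) e
      have := h1.two_le; omega)
    refine h4 z (H4.centerThompsonOf_le _ h6) h7 y hy ?_
    rw [h9, eq_inv_iff_mul_eq_one, ← pow_succ, Nat.sub_add_cancel h1.one_lt.le, h8]

/-- For a finite group G the following are equivalent: (a) G has a normal Sylow 2-subgroup; (b) for every odd prime q dividing the order of G and every Sylow q-subgroup T, the normalizer of Z(J(T)) has a normal Sylow 2-subgroup; (c) for every odd prime q and every Sylow q-subgroup T, no nonidentity element of T is inverted by an element of the normalizer of Z(J(T)). Here J(T) is the Thompson subgroup generated by the abelian subgroups of T of largest order. Stated as the two equivalences (a) ⇔ (b) and (a) ⇔ (c). -/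
theorem result {G : Type*} [Group G] [Finite G] : ((∀ P : Sylow 2 G, (P : Subgroup G).Normal) ↔ ∀ (q : ℕ) [Fact q.Prime], q ≠ 2 → q ∣ Nat.card G → ∀ T : Sylow q G, ∀ P : Sylow 2 ↥(Subgroup.normalizer (Cfsg.centerThompsonAOf (T : Subgroup G) : Set G)), (P : Subgroup ↥(Subgroup.normalizer (Cfsg.centerThompsonAOf (T : Subgroup G) : Set G))).Normal) ∧ ((∀ P : Sylow 2 G, (P : Subgroup G).Normal) ↔ ∀ (q : ℕ) [Fact q.Prime], q ≠ 2 → ∀ T : Sylow q G, ∀ x ∈ (T : Subgroup G), x ≠ 1 → ∀ g ∈ Subgroup.normalizer (Cfsg.centerThompsonAOf (T : Subgroup G) : Set G), g * x * g⁻¹ ≠ x⁻¹) := by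
  refine ⟨⟨fun h q _ _ _ T P => sub_normal h _ P, fun h => a_of_c fun q _ hq T =>
    c_of_b hq T _ (le_N _) fun hd => h q hq hd T⟩, ⟨fun h q _ hq T =>
    c_of_b hq T _ (le_N _) fun _ P => sub_normal h _ P, a_of_c⟩⟩

end Cfsg.Agent.S2756
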