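import Cfsg.Statements.S2757
import Cfsg.Agent.H10.GG2
import Cfsg.Agent.H3.FSec

set_option autoImplicit false
universe u
open Cfsg H10

namespace Cfsg.Agent.S2757

/-- Let G be a finite group and T a Sylow 3-subgroup such that no nonidentity element of T is inverted by an element of the normalizer of Z(J(T)) (J(T) the Thompson subgroup generated by the abelian subgroups of largest order). Then the symmetric group of degree 3 is not involved in G, and every non-abelian composition factor of G is a Suzuki group Sz(2^(2n+1)) or PSL₂ over a field with 3^(2n+1) elements. -/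
theorem result {G : Type u} [Group G] [Finite G] (T : Sylow 3 G) (h : ∀ x ∈ (T : Subgroup G), x ≠ 1 → ∀ g ∈ Subgroup.normalizer (Cfsg.centerThompsonAOf (T : Subgroup G) : Set G), g * x * g⁻¹ ≠ x⁻¹) : ¬ Cfsg.Involves (Equiv.Perm (Fin 3)) G ∧ Cfsg.IsCompositionKGroupWith Cfsg.IsSuzukiOrPSL2OddPowerThree G := by
  have h3 : ¬ H4.IsSec (Equiv.Perm (Fin 3)) (⊤ : Subgroup G) := fun k => by
    obtain ⟨e⟩ := d3_equiv
    obtain ⟨n, -, y, -, j, k, -, a2, a3, a4⟩ := exists_inv_of_isSec_dih (p := 3) (by norm_num)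
      (IsSec.equiv k e.symm)
    obtain ⟨g, -, hg⟩ := (isSylowIn_top T).exists_cj_le (P := Subgroup.zpowers y)
      (isPGroup_iff_mem.2 fun x ⟨m, hm⟩ => ⟨k, by
        rw [← hm, ← zpow_natCast, ← zpow_mul, mul_comm, zpow_mul, zpow_natCast, a2, one_zpow]⟩) le_top
    have hx : g * y * g⁻¹ ∈ (T : Subgroup G) := hg (conj_mem_cj (Subgroup.mem_zpowers y))
    have a5 : g * n * g⁻¹ * (g * y * g⁻¹) * (g * n * g⁻¹)⁻¹ = (g * y * g⁻¹)⁻¹ := by
      rw [conj_inv, conj_inv, ← a4]; group
    rw [H4.centerThompsonAOf_eq] at h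
    rcases H3.zj_controls_or (p := 3) (by norm_num) T with h5 | ⟨-, h5⟩
    · obtain ⟨x, hy, h6⟩ := h5 {g * y * g⁻¹} (g * n * g⁻¹) (Set.singleton_subset_iff.2 hx) (by
        rintro a rfl; rw [a5]; exact (T : Subgroup G).inv_mem hx)
      exact h _ hx (by simpa using a3) x hy (by rw [← h6 _ rfl, a5])
    · obtain ⟨z, h6, h7, h8, x, hy, h9⟩ := h5 2 (by norm_num)
      exact h z (H4.centerThompsonOf_le _ h6) h7 x hy (by rw [h9, eq_inv_iff_mul_eq_one, ← pow_succ, h8])
  refine ⟨fun k => h3 (involves_iff'.1 k), fun H _ N _ h1 h2 => sz_of_not_isSec_s3 h1 h2 fun k => h3 ?_⟩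
  exact (k.of_surjective (QuotientGroup.mk'_surjective N)).of_subgroup.mono le_top

end Cfsg.Agent.S2757
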