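import Cfsg.Statements.S2758
import Cfsg.Agent.H10.S34

set_option autoImplicit false
open Cfsg H10

namespace Cfsg.Agent.S2758

/-- For an odd prime p and a finite group G the following are equivalent: the dihedral group of order 2p is involved in G; some element of 2-power order normalizes but does not centralize some p-subgroup of G; some element of 2-power order inverts some nonidentity element of p-power order. -/
theorem result {G : Type*} [Group G] [Finite G] {p : ℕ} [Fact p.Prime] (hp : p ≠ 2) : (Cfsg.Involves (DihedralGroup p) G ↔ ∃ (x : G) (P : Subgroup G), (∃ k : ℕ, orderOf x = 2 ^ k) ∧ IsPGroup p ↥P ∧ x ∈ Subgroup.normalizer (P : Set G) ∧ x ∉ Subgroup.centralizer (P : Set G)) ∧ (Cfsg.Involves (DihedralGroup p) G ↔ ∃ x y : G, (∃ k : ℕ, orderOf x = 2 ^ k) ∧ (∃ k : ℕ, orderOf y = p ^ k) ∧ y ≠ 1 ∧ x * y * x⁻¹ = y⁻¹) := by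
  have ord : ∀ (q : ℕ) (hq : q.Prime) (x : G) (k : ℕ), x ^ q ^ k = 1 → ∃ k, orderOf x = q ^ k :=
    fun q hq x k h => by
      obtain ⟨j, -, e⟩ := (Nat.dvd_prime_pow hq).1 (orderOf_dvd_of_pow_eq_one h)
      exact ⟨j, e⟩
  have h2 : Involves (DihedralGroup p) G ↔ ∃ x y : G, (∃ k : ℕ, orderOf x = 2 ^ k) ∧
      (∃ k : ℕ, orderOf y = p ^ k) ∧ y ≠ 1 ∧ x * y * x⁻¹ = y⁻¹ := by
    rw [involves_iff']
    constructor
    · intro h
      obtain ⟨n, -, y, -, j, k, a1, a2, a3, a4⟩ := exists_inv_of_isSec_dih hp h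
      exact ⟨n, y, ord 2 Nat.prime_two n j a1, ord p Fact.out y k a2, a3, a4⟩
    · rintro ⟨x, y, ⟨j, a1⟩, ⟨k, a2⟩, a3, a4⟩
      exact isSec_dih hp (Subgroup.mem_top x) (Subgroup.mem_top y) (a1 ▸ pow_orderOf_eq_one x)
        (a2 ▸ pow_orderOf_eq_one y) a3 a4
  refine ⟨h2.trans ⟨?_, ?_⟩, h2⟩
  · rintro ⟨x, y, a1, ⟨k, a2⟩, a3, a4⟩
    have a5 : y ^ p ^ k = 1 := a2 ▸ pow_orderOf_eq_one y
    refine ⟨x, Subgroup.zpowers y, a1, isPGroup_zpowers a5, mem_NN_zpowers_of_inv a4, fun e => a3 ?_⟩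
    rw [← mem_CC.1 e y (Subgroup.mem_zpowers y), mul_inv_cancel_right] at a4
    exact eq_one_of_pow_pow hp (j := 1) (by rw [pow_one, pow_two]; exact eq_inv_iff_mul_eq_one.1 a4) a5
  · rintro ⟨x, P, ⟨k, a1⟩, a2, a3, a4⟩
    have a5 : x ^ 2 ^ k = 1 := a1 ▸ pow_orderOf_eq_one x
    obtain ⟨j, b1, b2⟩ := exists_last_pow 2 a4 a5
    have b3 := pow_mem a3 (2 ^ j)
    have b4 : (x ^ 2 ^ j) ^ 2 ^ k = 1 := by rw [← pow_mul, mul_comm, pow_mul, a5, one_pow]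
    generalize x ^ 2 ^ j = z at b1 b2 b3 b4
    rw [mem_CC] at b1
    push Not at b1
    obtain ⟨c, hc, hc'⟩ := b1
    obtain ⟨i, hi⟩ := isPGroup_iff_mem.1 a2 _ (mul_mem (inv_mem hc) (conj_mem_of_mem_NN b3 hc))
    refine ⟨z, _, ord 2 Nat.prime_two z k b4, ord p Fact.out _ i hi, fun e => hc' ?_, ?_⟩
    · rw [inv_mul_eq_one] at e
      exact eq_mul_inv_iff_mul_eq.1 e
    · have := mem_CC.1 b2 c hc
      rw [pow_two] at this
      rw [show z * (c⁻¹ * (z * c * z⁻¹)) * z⁻¹ = z * c⁻¹ * z⁻¹ * (z * z * c) * (z * z)⁻¹ by group, ← this]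
      group

end Cfsg.Agent.S2758
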