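import Cfsg.Statements.S2765
import Cfsg.Agent.H10.PU8

set_option autoImplicit false
open Cfsg H10
open scoped commutatorElement

namespace Cfsg.Agent.S2765

/-- In the same pushing-up situation (G finite, C_G(O_p(G)) ≤ O_p(G), G/K ≅ PSL₂(p^n) with n ≥ 1, a Sylow p-subgroup S in exactly one maximal subgroup, no nontrivial characteristic subgroup of S normal in G), one of the following holds: (I) S has nilpotency class 2, exponent 4 if p = 2 and exponent p otherwise, and G has exactly one noncentral chief factor inside O_p(G); or (II) p = 3, S has class 3 and exponent 9, and G has exactly two noncentral chief factors inside O_p(G). 'Exactly one' is phrased as: some noncentral chief factor U/W inside O_p(G) with G acting hypercentrally on W and on O_p(G)/U; 'exactly two' analogously with a chain. -/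
theorem result {G : Type*} [Group G] [Finite G] {p : ℕ} [Fact p.Prime] (S : Sylow p G) (hE₁ : Subgroup.centralizer (Cfsg.pCore p G : Set G) ≤ Cfsg.pCore p G) (hE₂ : ∃! M : Subgroup G, IsCoatom M ∧ (S : Subgroup G) ≤ M) (K : Subgroup G) [K.Normal] (F : Type) [Field F] [Fintype F] (n : ℕ) (hn : 1 ≤ n) (hF : Fintype.card F = p ^ n) (hE₃ : Nonempty (G ⧸ K ≃* Matrix.ProjectiveSpecialLinearGroup (Fin 2) F)) (hd : ∀ T : Subgroup ↥(S : Subgroup G), T ≠ ⊥ → T.Characteristic → ¬ (T.map (S : Subgroup G).subtype).Normal) : ((S : Subgroup G).lowerCentralSeries 2 = ⊥ ∧ (S : Subgroup G).lowerCentralSeries 1 ≠ ⊥ ∧ (p = 2 → Monoid.exponent ↥(S : Subgroup G) = 4) ∧ (p ≠ 2 → Monoid.exponent ↥(S : Subgroup G) = p) ∧ (∃ U W : Subgroup G, W ≤ U ∧ U ≤ (Cfsg.pCore p G) ∧ Cfsg.IsChiefFactor U W ∧ ¬ ⁅U, (⊤ : Subgroup G)⁆ ≤ W ∧ (∃ k : ℕ, Cfsg.iterCommutator W ⊤ k = ⊥) ∧ (∃ k : ℕ, Cfsg.iterCommutator (Cfsg.pCore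 p G) ⊤ k ≤ U))) ∨ (p = 3 ∧ (S : Subgroup G).lowerCentralSeries 3 = ⊥ ∧ (S : Subgroup G).lowerCentralSeries 2 ≠ ⊥ ∧ Monoid.exponent ↥(S : Subgroup G) = 9 ∧ (∃ U₁ W₁ U₂ W₂ : Subgroup G, W₁ ≤ U₁ ∧ U₁ ≤ W₂ ∧ W₂ ≤ U₂ ∧ U₂ ≤ (Cfsg.pCore p G) ∧ Cfsg.IsChiefFactor U₁ W₁ ∧ Cfsg.IsChiefFactor U₂ W₂ ∧ ¬ ⁅U₁, (⊤ : Subgroup G)⁆ ≤ W₁ ∧ ¬ ⁅U₂, (⊤ : Subgroup G)⁆ ≤ W₂ ∧ (∃ k : ℕ, Cfsg.iterCommutator W₁ ⊤ k = ⊥) ∧ (∃ k : ℕ, Cfsg.iterCommutator W₂ ⊤ k ≤ U₁) ∧ (∃ k : ℕ, Cfsg.iterCommutator (Cfsg.pCore p G) ⊤ k ≤ U₂))) := by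
  have h := (rk_of_psl S hE₂ K hF hE₃).2.pr_top (charPIn_top.2 hE₁) (isSylowIn_top S) hd
  have hS := isSylowIn_top S
  have hp : p.Prime := Fact.out
  have z1 : iterCommutator (ZQ p ⊤ ⊓ CC((⊤ : Subgroup G))) ⊤ 1 = ⊥ := comm_eq_bot.2 inf_le_right
  have hQ : ∀ {A : Subgroup G}, ⊤ ≤ NN(A) → ⁅pCoreOf p ⊤, resOf p ⊤⁆ ≤ A →
      ∃ k, iterCommutator (pCore p G) ⊤ k ≤ A := fun h1 h2 =>
    pCoreOf_top (p := p) (G := G) ▸ exists_iter_le hS hS.pCoreOf_le (le_NN_pCoreOf _) h1 h2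
  have zq : ZQ p ⊤ ≤ pCore p G := pCoreOf_top (p := p) (G := G) ▸ ZQ_le _
  have dv : ∀ {m : ℕ}, (∀ s ∈ (S : Subgroup G), s ^ m = 1) ↔ Monoid.exponent (S : Subgroup G) ∣ m :=
    ⟨fun h => Monoid.exponent_dvd_of_forall_pow_eq_one fun s => Subtype.ext (h s s.2),
      fun h s hs => congrArg Subtype.val (Monoid.exponent_dvd_iff_forall_pow_eq_one.1 h ⟨s, hs⟩)⟩
  have pw : ∀ {T : Subgroup G} {g : G} {m : ℕ}, (∀ s ∈ T, s ^ m = 1) → ∀ s ∈ cj g T, s ^ m = 1 := by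
    intro T g m h s hs
    obtain ⟨t, ht, rfl⟩ := mem_cj'.1 hs
    rw [conj_pow, h t ht, mul_one, mul_inv_cancel]
  rcases h.cases with ⟨h1, T, hT, h2, h3⟩ | ⟨h0, A, T, h1, h2, h3, hT, h4, h5, a, ha, t, ht, h6⟩
  · obtain ⟨g, -, e⟩ := hT.exists_cj hS
    have na : ¬ (S : Subgroup G) ≤ CC((S : Subgroup G)) := fun e => h.nv.not_le_CC hS
      (((ZQ_le _).trans hS.pCoreOf_le).trans e)
    have h4 := dv.1 (e ▸ pw h3)
    refine Or.inl ⟨by rw [← e, ← cj_lcs, h2, cj_bot], fun e => na (comm_eq_bot.1 e), ?_, fun h2 => ?_,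
      _, _, inf_le_left, zq, h.nv.chief.1, h.nv.chief.2, ⟨1, z1⟩, hQ (le_NN_ZQ _) h1⟩
    · rintro rfl
      refine ((Nat.dvd_prime_pow Nat.prime_two).1 h4).elim fun k hk => ?_
      have : ¬ k ≤ 1 := fun e => na fun s hs => mem_CC.2 fun t ht => by
        have := dv.2 (hk.2 ▸ pow_dvd_pow 2 e)
        simp only [pow_one] at this
        exact (Commute.of_orderOf_dvd_two (fun g : (S : Subgroup G) => orderOf_dvd_of_pow_eq_one
          (Subtype.ext (this g g.2))) ⟨t, ht⟩ ⟨s, hs⟩).map (S : Subgroup G).subtype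
      rw [hk.2, show k = 2 from le_antisymm hk.1 (not_le.1 this)]; rfl
    · rw [ex, if_neg h2, pow_one] at h4
      exact (hp.eq_one_or_self_of_dvd _ h4).resolve_left fun e => na fun s hs => by
        rw [← pow_one s, dv.2 e.dvd s hs]; exact one_mem _
  · obtain ⟨g, -, e⟩ := hT.exists_cj hS
    subst h0
    have ha' := e ▸ conj_mem_cj (g := g) ha
    have ht' := e ▸ conj_mem_cj (g := g) ht
    have h7 : ⁅g * t * g⁻¹, ⁅g * t * g⁻¹, g * a * g⁻¹⁆⁆ ≠ 1 := fun e => h6 (by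
      rwa [← conjugate_commutatorElement, ← conjugate_commutatorElement, conj_eq_one_iff] at e)
    refine Or.inr ⟨rfl, by rw [← e, ← cj_lcs, h4, cj_bot], fun e => h7 ?_, ?_, _, _, _, _, inf_le_left,
      le_inf h2 (le_stabMod.2 ⟨le_NN_self _, comm_le_left (le_NN_ZQ _)⟩), inf_le_left,
      pCoreOf_top (p := 3) (G := G) ▸ h1.le, h.nv.chief.1, (h1.chief h2).1, h.nv.chief.2,
      (h1.chief h2).2, ⟨1, z1⟩, ⟨1, (le_stabMod.1 inf_le_right).2⟩, hQ h1.nU h3⟩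
    · rw [← commutatorElement_inv, inv_eq_one]
      exact Subgroup.mem_bot.1 (e ▸ Subgroup.commutator_mem_commutator
        (Subgroup.commutator_mem_commutator ht' ha') ht')
    · refine ((Nat.dvd_prime_pow hp).1 (dv.1 (e ▸ pw h5))).elim fun k hk => ?_
      have : ¬ k ≤ 1 := fun e => by
        have := dv.2 (hk.2 ▸ pow_dvd_pow 3 e)
        simp only [pow_one] at this
        exact h7 (comm_comm_eq_one_of_cube (this _ (mul_mem ht' ha'))
          (this _ (mul_mem ht' (inv_mem ha'))) (this _ ha'))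
      rw [hk.2, show k = 2 from le_antisymm hk.1 (not_le.1 this)]; rfl

end Cfsg.Agent.S2765
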