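import Cfsg.Statements.S2766
import Cfsg.Agent.H10.PU9

set_option autoImplicit false
open Cfsg H10

namespace Cfsg.Agent.S2766

/-- Let p ≥ 5 be prime and G a maximal p-local subgroup of a finite group H (G is the normalizer of a nontrivial p-subgroup and lies in no other such normalizer). Suppose C_G(O_p(G)) ≤ O_p(G), G/K ≅ PSL₂(p^n) for some normal K and n ≥ 1, a Sylow p-subgroup S of G lies in exactly one maximal subgroup of G, and N_H(S) is not contained in G. Then G = G₀ × E for subgroups G₀ ≅ Qd(p^n) (the natural semidirect product of the plane over the field with p^n elements by SL₂) and E an elementary abelian p-group. -/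
theorem result {H : Type*} [Group H] [Finite H] {p : ℕ} [Fact p.Prime] (hp : 5 ≤ p) (G : Subgroup H) (hloc : ∃ R : Subgroup H, IsPGroup p ↥R ∧ R ≠ ⊥ ∧ G = Subgroup.normalizer (R : Set H)) (hmax : ∀ R : Subgroup H, IsPGroup p ↥R → R ≠ ⊥ → G ≤ Subgroup.normalizer (R : Set H) → Subgroup.normalizer (R : Set H) = G) (S : Sylow p ↥G) (hE₁ : Subgroup.centralizer (Cfsg.pCore p ↥G : Set ↥G) ≤ Cfsg.pCore p ↥G) (hE₂ : ∃! M : Subgroup ↥G, IsCoatom M ∧ (S : Subgroup ↥G) ≤ M) (K : Subgroup ↥G) [K.Normal] (F : Type) [Field F] [Fintype F] (n : ℕ) (hn : 1 ≤ n) (hF : Fintype.card F = p ^ n) (hE₃ : Nonempty (↥G ⧸ K ≃* Matrix.ProjectiveSpecialLinearGroup (Fin 2) F)) (hN : ¬ Subgroup.normalizer (((S : Subgroup ↥G).map G.subtype : Subgroup H) : Set H) ≤ G) : ∃ G₀ E : Subgroup H, Cfsg.IsInternalDirectProduct G₀ E G ∧ Cfsg.IsElementaryAbelian p E ∧ Nonempty (↥G₀ ≃* ↥(Cfsg.qdOver F)) := by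
  have rk : RK p (Fintype.card F) G := by
    have := (rk_of_psl S hE₂ K hF hE₃).2.map G.subtype
      (isPGroup_inf_ker_of_injective _ G.subtype_injective)
    rwa [map_top_subtype] at this
  have hc : CharPIn p G := charPIn_iff.2 hE₁
  have hS := isSylowIn_map_subtype S
  have b : BT G ((S : Subgroup G).map G.subtype) := fun X h1 h2 h3 => by_contra fun h0 =>
    hN (h3.trans (hmax X (hS.isPGroup.to_le h1) h0 h2).le)
  rcases (b.pu rk hc hS).cases ⟨1, cj_one G⟩ with ⟨_, ⟨g, rfl⟩, _, ⟨k, rfl⟩, T, c⟩ |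
    ⟨_, -, Pm, P0, P2, P3, P4, S0, S1, S2, S3, S4, c⟩
  · have c' := c.cj g⁻¹
    rw [cj_inv_cj, ← cj_mul] at c'
    refine c'.qd (b.nvZ rk hc hS) (by omega) (by_contra fun h0 => c'.nle ?_) F rfl
    have hp' := (isPGroup_pCoreOf (p := p) G).to_le (frOf_le _)
    have e1 := hmax _ hp' h0 (le_NN_frOf (le_NN_pCoreOf G))
    have e2 : cj (g⁻¹ * k) G ≤ G := by
      refine le_trans ?_ e1.le
      rw [c'.frOf_eq, inf_comm, ← c'.symm.frOf_eq]
      exact le_NN_frOf (le_NN_pCoreOf _)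
    rw [Subgroup.eq_of_le_of_card_ge e2 (card_cj _ _).ge]
    exact ZQ_le G
  · have := c.three.2
    omega

end Cfsg.Agent.S2766
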