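import Cfsg.Statements.S2773
import Cfsg.Agent.H3.TP2

set_option autoImplicit false
universe u
open Cfsg

namespace Cfsg.Agent.S2773

/-- For every nontrivial finite 3-group S there is a nontrivial characteristic subgroup K of S such that, in every finite group G containing S as a Sylow 3-subgroup, S ∩ G' is the product of S ∩ (C_G(Z(S)))' and S ∩ (N_G(K))' (derived subgroups; product taken elementwise). -/
theorem result {S : Type u} [Group S] [Finite S] [Nontrivial S] (hS : IsPGroup 3 S) : ∃ K : Subgroup S, K ≠ ⊥ ∧ K.Characteristic ∧ ∀ (G : Type u) [Group G] [Finite G] (τ : S →* G), Function.Injective τ → (∃ P : Sylow 3 G, (P : Subgroup G) = τ.range) → ∀ g : G, g ∈ τ.range ⊓ commutator G ↔ ∃ a ∈ τ.range ⊓ ⁅Subgroup.centralizer ((τ.range ⊓ Subgroup.centralizer (τ.range : Set G) : Subgroup G) : Set G), Subgroup.centralizer ((τ.range ⊓ Subgroup.centralizer (τ.range : Set G) : Subgroup G) : Set G)⁆, ∃ b ∈ τ.range ⊓ ⁅Subgroup.normalizer ((K.map τ : Subgroup G) : Set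 G), Subgroup.normalizer ((K.map τ : Subgroup G) : Set G)⁆, g = a * b := by
  have : Fact (Nat.Prime 3) := ⟨Nat.prime_three⟩
  refine ⟨H3.WT 3 S, H3.isCharPFunctor_WT.1 S hS inferInstance, H3.char_WT hS,
    fun G _ _ τ hτ ⟨P, hP⟩ g => ⟨fun hg => ?_, ?_⟩⟩
  · have h1 := H3.foc_le_pair_group (by decide) P
    have h2 := H3.iF_le_normalizer (H3.isCharPFunctor_WT (p := 3)) P.2
    rw [inducedFunctor, H3.map_WT (Subgroup.subtype_injective _), Subgroup.range_subtype, hP,
      ← H3.map_WT hτ] at h1 h2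
    obtain ⟨a, ha, b, hb, e⟩ := (H10.mem_sup_of_NN (inf_le_left.trans (H10.le_NN_inf
      (H10.le_NN_self _) (h2.trans (H10.left_le_NN_comm _ _))))).1 (h1 hg)
    exact ⟨a, ha, b, hb, e.symm⟩
  · rintro ⟨a, ha, b, hb, rfl⟩
    exact ⟨mul_mem ha.1 hb.1, mul_mem (Subgroup.commutator_mono le_top le_top ha.2)
      (Subgroup.commutator_mono le_top le_top hb.2)⟩

end Cfsg.Agent.S2773
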