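import Cfsg.Statements.S2779
import Cfsg.Agent.H10.Nat2

set_option autoImplicit false
open Cfsg H10

namespace Cfsg.Agent.S2779

open scoped commutatorElement

/-- Let L act on the elementary abelian p-group V (inside a finite group, by conjugation, faithfully) as SL₂(F) on its natural module, F a field with p^n elements, and let S be a Sylow p-subgroup of L. Then [V, S, S] = 1; |V| = p^(2n) and |C_V(S)| = p^n; and for every nonidentity s ∈ S and every v ∈ V outside C_V(S): C_V(s) = C_V(S) = [V, S] = [V, s] = the subgroup generated by the commutators [v, t], t ∈ S. -/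
theorem result {G : Type*} [Group G] [Finite G] {p : ℕ} [Fact p.Prime] {F : Type*} [Field F] [Fintype F] (n : ℕ) (hF : Fintype.card F = p ^ n) (V L : Subgroup G) (hnat : Cfsg.IsNaturalSL2Module F V L) (hf : L ⊓ Subgroup.centralizer (V : Set G) = ⊥) (S : Sylow p ↥L) (T : Subgroup G) (hT : T = ((S : Subgroup ↥L).map L.subtype)) : ⁅⁅V, T⁆, T⁆ = ⊥ ∧ Nat.card V = p ^ (2 * n) ∧ Nat.card ↥(V ⊓ Subgroup.centralizer ((T : Subgroup G) : Set G)) = p ^ n ∧ ∀ s ∈ T, s ≠ 1 → (V ⊓ Subgroup.centralizer ({s} : Set G)) = (V ⊓ Subgroup.centralizer ((T : Subgroup G) : Set G)) ∧ ⁅V, T⁆ = (V ⊓ Subgroup.centralizer ((T : Subgroup G) : Set G)) ∧ ⁅V, Subgroup.zpowers s⁆ = (V ⊓ Subgroup.centralizer ((T : Subgroup G) : Set G)) ∧ ∀ v ∈ V, v ∉ Subgroup.centralizer (T : Set G) → Subgroup.closure {x : G | ∃ t ∈ T, x = v * t * v⁻¹ * t⁻¹} = (V ⊓ Subgroup.centralizer ((T : Subgroup G) : Set G)) := by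
  haveI := charP_of_card hF
  obtain ⟨E, R, h⟩ := exists_NP hnat hf (hT ▸ isSylowIn_map_subtype S : IsSylowIn p T L)
  refine ⟨comm_eq_bot.2 (h.comm_le.trans inf_le_right), by rw [h.cardV, hF, ← pow_mul, mul_comm],
    h.cardZ.trans hF, fun s hs h1 => ?_⟩
  have hz := Subgroup.zpowers_le.2 hs
  obtain ⟨t, rfl⟩ := h.memT.1 hs
  have ht : t ≠ 0 := by rintro rfl; exact h1 (by rw [H4.upT_zero, map_one])
  have h2 : V ⊓ CC(T) ≤ ⁅V, Subgroup.zpowers (R (H4.upT t))⁆ := fun v hv => by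
    obtain ⟨a, rfl⟩ := h.memZ.1 hv
    have := Subgroup.commutator_mem_commutator (h.memV ![0, -(t⁻¹ * a)]) (Subgroup.mem_zpowers (R (H4.upT t)))
    rw [h.comm_up] at this
    simpa [ht] using this
  have h3 := Subgroup.commutator_mono (le_refl V) hz
  refine ⟨le_antisymm (fun v hv => Subgroup.mem_inf.2 ⟨hv.1, ?x1⟩) (inf_le_inf_left _ ((CC_anti hz).trans (CC_zpowers _).le)),
    le_antisymm h.comm_le (h2.trans h3), le_antisymm (h3.trans h.comm_le) h2, fun v hv hn =>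
    le_antisymm ((Subgroup.closure_le _).2 ?x2) fun z hz => ?x3⟩
  case x1 =>
    obtain ⟨x, rfl⟩ := (h.mem v).1 hv.1
    exact h.memC.2 ((mul_eq_zero.1 (h.fix_up.1 (hv.2 _ rfl))).resolve_left ht)
  case x2 =>
    rintro _ ⟨t, ht, rfl⟩
    exact h.comm_le (Subgroup.commutator_mem_commutator hv ht)
  case x3 =>
    obtain ⟨x, rfl⟩ := (h.mem v).1 hv
    obtain ⟨a, rfl⟩ := h.memZ.1 hz
    have hx : x 1 ≠ 0 := fun e => hn (h.memC.2 e)
    refine Subgroup.subset_closure ⟨_, h.memT.2 ⟨-(a * (x 1)⁻¹), rfl⟩, ?_⟩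
    rw [← commutatorElement_def, h.comm_up]
    simp [hx]

end Cfsg.Agent.S2779
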