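import Cfsg.Statements.S2780
import Cfsg.Agent.H10.Nat2

set_option autoImplicit false
open Cfsg H10

namespace Cfsg.Agent.S2780

open scoped commutatorElement

/-- Let L act on the elementary abelian p-group V (inside a finite group, faithfully) as SL₂(F) on its natural module, F a field with p^n elements, S a Sylow p-subgroup of L. Then: for every g ∈ L not normalizing S, V is the internal direct product of C_V(S) and C_V(gSg⁻¹); every nonidentity element of L of order prime to p acts on V without nonidentity fixed points; and C_V(S) and V/C_V(S) are irreducible for N_L(S): the only N_L(S)-invariant subgroups of C_V(S) are 1 and C_V(S), and the only N_L(S)-invariant subgroups between C_V(S) and V are those two. -/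
theorem result {G : Type*} [Group G] [Finite G] {p : ℕ} [Fact p.Prime] {F : Type*} [Field F] [Fintype F] (n : ℕ) (hF : Fintype.card F = p ^ n) (V L : Subgroup G) (hnat : Cfsg.IsNaturalSL2Module F V L) (hf : L ⊓ Subgroup.centralizer (V : Set G) = ⊥) (S : Sylow p ↥L) (T : Subgroup G) (hT : T = ((S : Subgroup ↥L).map L.subtype)) : (∀ g ∈ L, g ∉ Subgroup.normalizer (T : Set G) → Cfsg.IsInternalDirectProduct (V ⊓ Subgroup.centralizer ((T : Subgroup G) : Set G)) (V ⊓ Subgroup.centralizer ((T.map (MulAut.conj g).toMonoidHom : Subgroup G) : Set G)) V) ∧ (∀ x ∈ L, x ≠ 1 → (orderOf x).Coprime p → (V ⊓ Subgroup.centralizer ({x} : Set G)) = ⊥) ∧ (∀ U : Subgroup G, U ≤ (V ⊓ Subgroup.centralizer ((T : Subgroup G) : Set G)) → L ⊓ Subgroup.normalizer (T : Set G) ≤ Subgroup.normalizer (U : Set G) → U = ⊥ ∨ U = (V ⊓ Subgroup.centralizer ((T : Subgroup G) : Set G))) ∧ (∀ U : Subgroup G, (V ⊓ Subgroup.centralizer ((T : Subgroup G) : Set G)) ≤ U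 → U ≤ V → L ⊓ Subgroup.normalizer (T : Set G) ≤ Subgroup.normalizer (U : Set G) → U = (V ⊓ Subgroup.centralizer ((T : Subgroup G) : Set G)) ∨ U = V) := by
  haveI := charP_of_card hF
  obtain ⟨E, R, h⟩ := exists_NP hnat hf (hT ▸ isSylowIn_map_subtype S : IsSylowIn p T L)
  refine ⟨fun g hg hn => ?_, fun x hx h1 hc => eq_bot_iff.2 fun v hv => ?_, fun U h1 h2 => ?_,
    fun U h1 h2 h3 => ?_⟩
  · obtain ⟨M, rfl⟩ := h.range.ge hg
    have hM : M.1 1 0 ≠ 0 := fun e => hn (h.mem_NN e).2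
    have e : ∀ a, E ![M.1 0 0 * a, M.1 1 0 * a] = R M * E ![a, 0] * (R M)⁻¹ := fun a => by
      rw [h.act, sl2_smul]; simp
    rw [cj_def, ← cj_centralizer]
    refine ⟨inf_le_left, inf_le_left, fun a ha b hb => ?_, eq_bot_iff.2 fun v hv => ?_,
      le_antisymm (sup_le inf_le_left inf_le_left) fun v hv => ?_⟩
    · obtain ⟨x, rfl⟩ := (h.mem a).1 ha.1
      obtain ⟨y, rfl⟩ := (h.mem b).1 hb.1
      rw [← h.add, ← h.add, add_comm]
    · obtain ⟨w, hw, rfl⟩ := mem_cj'.1 hv.2.2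
      obtain ⟨a, rfl⟩ := h.memZ.1 ⟨(conj_mem_cj_iff (g := R M)).1
        ((cj_eq_of_mem_NN (hnat.1 hg)).ge hv.1.1), hw⟩
      have := h.memC.1 (e a ▸ hv.1.2)
      rw [show a = 0 by simpa [hM] using this, show (![0, 0] : Fin 2 → F) = 0 by simp, h.zero]
      simp
    · obtain ⟨x, rfl⟩ := (h.mem v).1 hv
      rw [show x = ![x 0 - M.1 0 0 * ((M.1 1 0)⁻¹ * x 1), 0] + ![M.1 0 0 * ((M.1 1 0)⁻¹ * x 1),
        M.1 1 0 * ((M.1 1 0)⁻¹ * x 1)] by ext i; fin_cases i <;> simp [hM], h.add]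
      exact mul_mem (Subgroup.mem_sup_left (h.memZ.2 ⟨_, rfl⟩)) (Subgroup.mem_sup_right
        ⟨h.memV _, e _ ▸ conj_mem_cj (h.memC.2 rfl)⟩)
  · obtain ⟨M, rfl⟩ := h.range.ge hx
    obtain ⟨y, rfl⟩ := (h.mem v).1 hv.1
    refine h.eq_one.2 (by_contra fun hy => h1 ?_)
    obtain ⟨N, rfl⟩ := H12.exists_smul_e1 hy
    have h2 : (N⁻¹ * M * N) • (![1, 0] : Fin 2 → F) = ![1, 0] := by
      rw [mul_smul, mul_smul, h.fix.1 (hv.2 _ rfl), inv_smul_smul]
    rw [sl2_smul] at h2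
    have h3 : N⁻¹ * M * N = H4.upT ((N⁻¹ * M * N).1 0 1) := by
      have a := congrFun h2 0
      have b := congrFun h2 1
      have c := H4.sl2_det (N⁻¹ * M * N)
      simp only [Matrix.cons_val_zero, Matrix.cons_val_one, mul_one, mul_zero, add_zero] at a b
      rw [a, b, one_mul, mul_zero, sub_zero] at c
      exact H4.sl2_ext a rfl b c
    have h4 : M ^ p = 1 := by
      have := congrArg (· ^ p) h3
      simp only [H4.upT_pow, CharP.cast_eq_zero, zero_mul, H4.upT_zero] at this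
      rwa [← inv_inv N, inv_inv N⁻¹, conj_pow, conj_eq_one_iff] at this
    exact orderOf_eq_one_iff.1 (hc.eq_one_of_dvd (orderOf_dvd_of_pow_eq_one (by
      rw [← map_pow, h4, map_one])))
  · refine or_iff_not_imp_left.2 fun e => le_antisymm h1 fun z hz => ?_
    obtain ⟨u, hu, h0⟩ := (U.bot_or_exists_ne_one).resolve_left e
    obtain ⟨a, rfl⟩ := h.memZ.1 (h1 hu)
    obtain ⟨b, rfl⟩ := h.memZ.1 hz
    have ha : a ≠ 0 := by rintro rfl; exact h0 (h.eq_one.2 (by simp))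
    by_cases hb : b = 0
    · rw [hb, h.eq_one.2 (by simp)]; exact one_mem _
    · simpa [ha] using h.dg_mem h2 hu (c := b * a⁻¹) (by simp [ha, hb])
  · refine or_iff_not_imp_left.2 fun e => le_antisymm h2 fun z hz => ?_
    obtain ⟨u, hu, h0⟩ := SetLike.not_le_iff_exists.1 fun l => e (le_antisymm l h1)
    obtain ⟨x, rfl⟩ := (h.mem u).1 (h2 hu)
    obtain ⟨y, rfl⟩ := (h.mem z).1 hz
    have hx : x 1 ≠ 0 := fun e => h0 ⟨h.memV _, h.memC.2 e⟩
    by_cases hy : y 1 = 0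
    · exact h1 ⟨hz, h.memC.2 hy⟩
    · rw [show y = ![y 0 - x 1 * (y 1)⁻¹ * x 0, 0] + ![x 1 * (y 1)⁻¹ * x 0, (x 1 * (y 1)⁻¹)⁻¹ * x 1] by
        ext i; fin_cases i <;> simp [hx], h.add]
      exact mul_mem (h1 (h.memZ.2 ⟨_, rfl⟩)) (h.dg_mem h3 hu (by simp [hx, hy]))

end Cfsg.Agent.S2780
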