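import Cfsg.Statements.S2793
import Cfsg.Agent.H3.FSec

set_option autoImplicit false
open Cfsg

namespace Cfsg.Agent.S2793

/-- Let p be an odd prime, S a Sylow p-subgroup of the finite group G, J(S) the subgroup generated by the abelian subgroups of S of largest order, and suppose Z(J(S)) does not control strong fusion in G. Put H = N_G(Z(J(S))). Then the group F(p) of upper triangular 3 × 3 matrices (a b c; 0 a⁻¹ d; 0 0 1) over the field with p elements is involved in H, and Z(J(S)) contains a subgroup C of order p with |N_H(C) : C_H(C)| = p − 1. -/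
theorem result {G : Type*} [Group G] [Finite G] {p : ℕ} [Fact p.Prime] (hp : p ≠ 2) (S : Sylow p G) (h : ¬ Cfsg.ControlsStrongFusion p (Cfsg.centerThompsonAOf (S : Subgroup G))) (H : Subgroup G) (hH : H = Subgroup.normalizer ((Cfsg.centerThompsonAOf (S : Subgroup G)) : Set G)) : Cfsg.Involves ↥(Cfsg.fOver (ZMod p)) ↥H ∧ ∃ C : Subgroup G, C ≤ (Cfsg.centerThompsonAOf (S : Subgroup G)) ∧ Nat.card C = p ∧ (H ⊓ Subgroup.centralizer (C : Set G)).relIndex (H ⊓ Subgroup.normalizer (C : Set G)) = p - 1 := by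
  subst hH
  rw [H4.centerThompsonAOf_eq] at h ⊢
  rcases H3.zj_controls_or hp S with h1 | ⟨h1, h2⟩
  · exact absurd ⟨S, H4.centerThompsonOf_le _, fun A hA => ⟨hA, fun g hg =>
      h1 A g hA fun a ha => hg ⟨a, ha, rfl⟩⟩⟩ h
  refine ⟨H3.involves_iff_isSec.2 h1.top_subgroup, ?_⟩
  generalize Subgroup.normalizer ((Cfsg.centerThompsonOf 0 (S : Subgroup G) : Subgroup G) : Set G) = H at h2 ⊢
  have hp' := (Fact.out : p.Prime)
  obtain ⟨u, hu⟩ := IsCyclic.exists_monoid_generator (α := (ZMod p)ˣ)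
  obtain ⟨z, h3, h4, h5, g, hg, h6⟩ := h2 (u : ZMod p).val (fun h => u.ne_zero (by
    rw [← ZMod.natCast_zmod_val (u : ZMod p)]; exact (ZMod.natCast_eq_zero_iff _ _).2 h))
  have ho : orderOf z = p := orderOf_eq_prime h5 h4
  have hc : Nat.card (Subgroup.zpowers z) = p := by rw [Nat.card_zpowers, ho]
  refine ⟨Subgroup.zpowers z, Subgroup.zpowers_le.2 h3, hc, ?_⟩
  let f := (Subgroup.zpowers z).normalizerMonoidHom.comp (Subgroup.inclusion (inf_le_right (a := H)))
  have hk : f.ker = (H ⊓ Subgroup.centralizer (Subgroup.zpowers z : Set G)).subgroupOf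
      (H ⊓ Subgroup.normalizer (Subgroup.zpowers z : Set G)) := by
    ext x
    rw [← MonoidHom.comap_ker, Subgroup.normalizerMonoidHom_ker]
    exact ⟨fun h => ⟨x.2.1, h⟩, fun h => h.2⟩
  have hN : g ∈ Subgroup.normalizer (Subgroup.zpowers z : Set G) := H10.mem_NN_of_cj_le (by
    rw [H10.cj_zpowers, h6]; exact Subgroup.zpowers_le.2 (Subgroup.pow_mem _ (Subgroup.mem_zpowers z) _))
  have h7 : ∀ k : ℕ, g ^ k * z * (g ^ k)⁻¹ = z ^ (u : ZMod p).val ^ k := by
    intro k
    induction k with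
    | zero => simp
    | succ k ih => rw [pow_succ' g, mul_inv_rev, ← mul_assoc, mul_assoc g, mul_assoc g, ih,
        ← conj_pow, h6, ← pow_mul, pow_succ']
  have hs : f.range = ⊤ := by
    refine eq_top_iff.2 fun α _ => ?_
    obtain ⟨m, hm⟩ : ∃ m : ℕ, z ^ m = (α ⟨z, Subgroup.mem_zpowers z⟩ : G) :=
      mem_powers_iff_mem_zpowers.2 (α ⟨z, Subgroup.mem_zpowers z⟩).2
    have h8 : (m : ZMod p) ≠ 0 := fun e => h4 (by
      obtain ⟨c, rfl⟩ := (ZMod.natCast_eq_zero_iff _ _).1 e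
      rw [pow_mul, h5, one_pow] at hm
      exact congrArg Subtype.val (α.injective ((Subtype.ext hm.symm).trans (map_one α).symm)))
    obtain ⟨k, hk⟩ := hu (Units.mk0 _ h8)
    have h9 : g ^ k * z * (g ^ k)⁻¹ = z ^ m := by
      rw [h7, pow_eq_pow_iff_modEq, ho, ← ZMod.natCast_eq_natCast_iff, Nat.cast_pow,
        ZMod.natCast_zmod_val]
      exact congrArg Units.val hk
    refine ⟨⟨g, hg, hN⟩ ^ k, MulEquiv.ext fun y => Subtype.ext ?_⟩
    obtain ⟨i, hi⟩ : ∃ i : ℕ, z ^ i = (y : G) := mem_powers_iff_mem_zpowers.2 y.2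
    have hy : y = ⟨z, Subgroup.mem_zpowers z⟩ ^ i := Subtype.ext hi.symm
    rw [hy, map_pow α, map_pow (f _), Subgroup.coe_pow, Subgroup.coe_pow, ← hm, ← h9]
    rfl
  rw [Subgroup.relIndex, ← hk, Subgroup.index_ker, hs, Subgroup.card_top, IsCyclic.card_mulAut, hc,
    Nat.totient_prime hp']

end Cfsg.Agent.S2793
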