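import Cfsg.Statements.S2806
import Cfsg.Agent.H10.Kieler
import Cfsg.Agent.H11.Join

set_option autoImplicit false
open Cfsg H10

namespace Cfsg.Agent.S2806

variable {G : Type*} [Group G] [Finite G] {p : ℕ} [Fact p.Prime]

theorem kieler_loc (hG : IsOfLocalCharacteristic p G) {T E : Subgroup G} (hT : IsSylowIn p T ⊤)
    (hE : SubnIn E ⊤) (h0 : T ⊓ E ≠ ⊥) : E ⊓ CC(ZO p T) = E ⊓ CC(ZO p (T ⊓ E)) := by
  have hloc : ∀ S : Subgroup G, IsPGroup p S → S ≠ ⊥ → CharPIn p NN(ZO p S) := fun S hS h =>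
    charPIn_iff.2 (hG.2 _ (isPGroup_ZO S) (ZO_ne_bot hS h))
  apply le_antisymm
  · have hTN : T ≤ NN(ZO p T) := le_NN_ZO (le_NN_self T)
    have h1 := kieler (hloc T hT.isPGroup fun e => h0 (by simp [e])) (hT.of_le hTN le_top)
      (hE.inf_of_le le_top)
    rw [← inf_assoc, inf_eq_left.2 (inf_le_left.trans hTN : T ⊓ E ≤ _)] at h1
    exact (le_inf (inf_le_inf_left E (CC_le_NN _)) inf_le_right).trans
      (h1.le.trans (inf_le_inf_right _ inf_le_left))
  · revert h0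
    refine hE.induction (motive := fun K => T ⊓ K ≠ ⊥ → K ⊓ CC(ZO p (T ⊓ K)) ≤ K ⊓ CC(ZO p T))
      (fun _ => by rw [inf_top_eq]) fun L K hle hK hn ih h0 => ?_
    have hN := hloc _ (hT.isPGroup.to_le (inf_le_left : T ⊓ L ≤ T)) h0
    have h2 : T ⊓ K ≤ K ⊓ NN(ZO p (T ⊓ L)) := le_inf inf_le_right
      (le_NN_ZO (le_NN_inf (inf_le_left.trans (le_NN_self T)) (inf_le_right.trans hn)))
    have h1 := kieler_normal (E := L ⊓ NN(ZO p (T ⊓ L))) (hN.subn (hK.inf_of_le le_top))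
      ((hT.inf_subn hK).of_le h2 inf_le_left) (inf_le_inf_right _ hle)
      (le_NN_inf (inf_le_left.trans hn) (inf_le_right.trans (le_NN_self _)))
    have e : T ⊓ K ⊓ (L ⊓ NN(ZO p (T ⊓ L))) = T ⊓ L := le_antisymm (inf_le_inf inf_le_left inf_le_left)
      (le_inf (inf_le_inf_left T hle) (le_inf inf_le_right (le_NN_ZO (le_NN_self _))))
    rw [e] at h1
    refine le_inf inf_le_left (le_trans ?_ ((ih fun e => h0 (eq_bot_iff.2
      (e ▸ inf_le_inf_left T hle))).trans inf_le_right))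
    exact (le_inf (inf_le_inf_left L (CC_le_NN _)) inf_le_right).trans
      (h1.ge.trans (inf_le_inf_right _ (inf_le_left.trans hle)))

theorem ps_eq (hG : IsOfLocalCharacteristic p G) {T E : Subgroup G} (hT : IsSylowIn p T ⊤)
    (hE : SubnIn E ⊤) : pointStabilizer p E (T ⊓ E) = pElementClosure p (E ⊓ CC(ZO p T)) := by
  change pElementClosure p (E ⊓ CC(ZO p (T ⊓ E))) = _
  by_cases h0 : T ⊓ E = ⊥
  · have h1 : pElementClosure p E ≤ ⊥ := (hT.inf_subn hE).pElementClosure_le h0.le (le_NN_of_normal _ _)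
    exact le_antisymm (((pElementClosure_mono inf_le_left).trans h1).trans bot_le)
      (((pElementClosure_mono inf_le_left).trans h1).trans bot_le)
  · rw [kieler_loc hG hT hE h0]

/-- Let H be a finite group of local characteristic p, T a Sylow p-subgroup, and L₁, L₂ subnormal subgroups of H generating the subgroup L. Then the point stabilizer of L with respect to T ∩ L is generated by the point stabilizers of L₁ and L₂ with respect to T ∩ L₁ and T ∩ L₂ (point stabilizer of X w.r.t. R: the subgroup generated by the p-elements of X centralizing Ω₁(Z(R))). -/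
theorem result {H : Type*} [Group H] [Finite H] {p : ℕ} [Fact p.Prime] (hH : Cfsg.IsOfLocalCharacteristic p H) (T : Sylow p H) (L₁ L₂ : Subgroup H) (h₁ : L₁.IsSubnormal) (h₂ : L₂.IsSubnormal) : Cfsg.pointStabilizer p (L₁ ⊔ L₂) ((T : Subgroup H) ⊓ (L₁ ⊔ L₂)) = Cfsg.pointStabilizer p L₁ ((T : Subgroup H) ⊓ L₁) ⊔ Cfsg.pointStabilizer p L₂ ((T : Subgroup H) ⊓ L₂) := by
  have hT := isSylowIn_top T
  have h1 := subnIn_top.2 h₁
  have h2 := subnIn_top.2 h₂
  have h3 := H11.subnIn_sup h1 h2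
  rw [ps_eq hH hT h1, ps_eq hH hT h2, ps_eq hH hT h3]
  refine le_antisymm ?_ (sup_le (pElementClosure_mono (inf_le_inf_right _ le_sup_left))
    (pElementClosure_mono (inf_le_inf_right _ le_sup_right)))
  set C := CC(ZO p (T : Subgroup H))
  have hTC : (T : Subgroup H) ≤ C := le_CC_ZO _
  have h4 : ∀ L : Subgroup H, SubnIn L ⊤ → L ≤ L₁ ⊔ L₂ →
      SubnIn (pElementClosure p (L ⊓ C)) ((L₁ ⊔ L₂) ⊓ C) := fun L h hle =>
    (((h.inf_of_le (le_top : C ≤ ⊤)).of_le (inf_le_inf_right C hle) inf_le_right)).step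
      (pElementClosure_le _) (le_NN_pElementClosure _)
  have h5 := H11.subnIn_sup (h4 _ h1 le_sup_left) (h4 _ h2 le_sup_right)
  have h6 : IsSylowIn p ((T : Subgroup H) ⊓ (L₁ ⊔ L₂)) ((L₁ ⊔ L₂) ⊓ C) :=
    (hT.inf_subn h3).of_le (le_inf inf_le_right (inf_le_left.trans hTC)) inf_le_left
  have h7 : (T : Subgroup H) ⊓ (L₁ ⊔ L₂) ≤ pElementClosure p (L₁ ⊓ C) ⊔ pElementClosure p (L₂ ⊓ C) := by
    rw [H11.sylowIn_inf_sup_of_subnIn hT h1 h2]
    exact sup_le_sup (le_pElementClosure (hT.isPGroup.to_le inf_le_left)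
      (le_inf inf_le_right (inf_le_left.trans hTC))) (le_pElementClosure
        (hT.isPGroup.to_le inf_le_left) (le_inf inf_le_right (inf_le_left.trans hTC)))
  refine pElementClosure_le_iff.2 fun x hx ⟨k, hk⟩ => ?_
  have h8 : ∀ N, SubnIn N ((L₁ ⊔ L₂) ⊓ C) → (T : Subgroup H) ⊓ (L₁ ⊔ L₂) ≤ N → x ∈ N := by
    intro N hN
    refine hN.induction (motive := fun N => (T : Subgroup H) ⊓ (L₁ ⊔ L₂) ≤ N → x ∈ N) (fun _ => hx)
      fun A B hle hB hn ih hA => ?_
    exact (h6.of_le (hA.trans hle) hB.le).le_of_normal hA hn (isPGroup_zpowers_of_orderOf hk)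
      (Subgroup.zpowers_le_of_mem (ih (hA.trans hle))) (Subgroup.mem_zpowers x)
  exact h8 _ h5 h7

end Cfsg.Agent.S2806
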