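import Cfsg.Statements.S2810
import Cfsg.Agent.H10.Misc

set_option autoImplicit false
open Cfsg H10

namespace Cfsg.Agent.S2810

/-- Let H be a finite group of characteristic p and L a subgroup of H centralizing every factor of some H-invariant chain 1 = A₀ ≤ A₁ ≤ … ≤ Aₙ = O_p(H) of normal subgroups (that is, [A_{i+1}, L] ≤ Aᵢ for each i). Then L ≤ O_p(H). -/
theorem result {H : Type*} [Group H] [Finite H] {p : ℕ} [Fact p.Prime] (hchar : Subgroup.centralizer (Cfsg.pCore p H : Set H) ≤ Cfsg.pCore p H) (L : Subgroup H) (n : ℕ) (A : Fin (n + 1) → Subgroup H) (h0 : A 0 = ⊥) (hn : A (Fin.last n) = Cfsg.pCore p H) (hmono : Monotone A) (hnorm : ∀ i, (A i).Normal) (hcent : ∀ i : Fin n, ⁅A i.succ, L⁆ ≤ A i.castSucc) : L ≤ Cfsg.pCore p H := by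
  have hN : (ncl L ⊤).Normal := normal_of_top_le_NN (le_NN_ncl L ⊤)
  refine (le_ncl L ⊤).trans (le_pCore' (isPGroup_of_resOf_isPGroup (isPGroup_pCore'.to_le
    (le_trans ?_ hchar))))
  have key : ∀ i : Fin (n + 1), resOf p (ncl L ⊤) ≤ CC(A i) := by
    intro i
    induction i using Fin.induction with
    | zero => rw [h0, CC_bot]; exact le_top
    | succ i ih =>
      have := hnorm i.castSucc
      have := hnorm i.succ
      refine resOf_le_CC_of_step (isPGroup_pCore'.to_le (hn ▸ hmono (Fin.le_last _))) ?_ ih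
      refine (Subgroup.commutator_mono le_rfl (resOf_le _)).trans ?_
      rw [Subgroup.commutator_comm]
      refine comm_ncl_le ?_ (le_NN_of_normal _ _) (le_NN_of_normal _ _) (le_NN_of_normal _ _)
      rw [Subgroup.commutator_comm]; exact hcent i
  exact hn ▸ key (Fin.last n)

end Cfsg.Agent.S2810
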