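import Cfsg.Statements.S2813
import Cfsg.Agent.H10.Misc

set_option autoImplicit false
open Cfsg H10

namespace Cfsg.Agent.S2813

/-- Let K be a subgroup of the finite group H with O_p(K) = 1 and Y a p-subgroup of N_H(K) with [K, Y, Y] = 1. Then [K, Y] = 1. -/
theorem result {H : Type*} [Group H] [Finite H] {p : ℕ} [Fact p.Prime] (K : Subgroup H) (hO : Cfsg.pCore p ↥K = ⊥) (Y : Subgroup H) (hY : IsPGroup p ↥Y) (hYK : Y ≤ Subgroup.normalizer (K : Set H)) (hq : ⁅⁅K, Y⁆, Y⁆ = ⊥) : ⁅K, Y⁆ = ⊥ := by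
  have h1 : SubnIn Y (K ⊔ Y) := by
    have h2 : SubnIn (ncl Y K) (K ⊔ Y) := subnIn_of_normal
      (ncl_le le_sup_right (le_sup_left.trans (le_NN_self _)))
      (sup_le (le_NN_ncl _ _) (le_NN_ncl' (le_NN_self _) hYK))
    refine h2.step (le_ncl _ _) ?_
    rw [ncl_eq_comm_sup]
    exact sup_le ((comm_eq_bot.1 hq).trans (CC_le_NN _)) (le_NN_self _)
  have h3 := le_pCoreOf_of_subn hY h1
  have h4 : pCoreOf p K = ⊥ := pCoreOf_eq_bot_iff.2 hO
  rw [eq_bot_iff, ← h4, pCoreOf_eq_of_normal (le_sup_left : K ≤ K ⊔ Y) (sup_le (le_NN_self _) hYK)]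
  exact le_inf ((Subgroup.commutator_mono le_rfl h3).trans
    (comm_le_right (le_sup_left.trans (le_NN_pCoreOf _)))) (comm_le_left hYK)

end Cfsg.Agent.S2813
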