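import Cfsg.Statements.S2814
import Cfsg.Agent.H10.Misc

set_option autoImplicit false
open Cfsg H10

namespace Cfsg.Agent.S2814

/-- Let A be a subgroup of the finite group H and K the subnormal closure of A (intersection of the subnormal subgroups containing A). Then K is the normal closure of A inside K and N_H(A) ≤ N_H(K); K = A·O^p(K), O^p(K) being generated by the elements of K of order prime to p; and if A is a p-group, O^p(K) = [O^p(K), A]. -/
theorem result {H : Type*} [Group H] [Finite H] {p : ℕ} [Fact p.Prime] (A : Subgroup H) (K : Subgroup H) (hK : K = Cfsg.subnormalClosure A) : (Subgroup.normalClosure ((A.subgroupOf K : Subgroup ↥K) : Set ↥K)).map K.subtype = K ∧ Subgroup.normalizer (A : Set H) ≤ Subgroup.normalizer (K : Set H) ∧ A ⊔ (Cfsg.pResidual p ↥K).map K.subtype = K ∧ (IsPGroup p ↥A → ⁅(Cfsg.pResidual p ↥K).map K.subtype, A⁆ = (Cfsg.pResidual p ↥K).map K.subtype) := by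
  simp only [resOf_def]
  have hle : ∀ X : Subgroup H, A ≤ X → X.IsSubnormal → K ≤ X := fun X h1 h2 =>
    hK ▸ sInf_le (s := {K : Subgroup H | A ≤ K ∧ K.IsSubnormal}) ⟨h1, h2⟩
  have hAK : A ≤ K := hK ▸ le_sInf fun X hX => hX.1
  have hsn : K.IsSubnormal := by
    obtain ⟨X, hX, hmin⟩ := (wellFounded_lt (α := Subgroup H)).has_min
      {K : Subgroup H | A ≤ K ∧ K.IsSubnormal} ⟨⊤, le_top, Subgroup.IsSubnormal.top⟩
    have : K = X := le_antisymm (hle X hX.1 hX.2) (hK ▸ le_sInf fun Y hY => by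
      by_contra hn
      exact hmin (X ⊓ Y) ⟨le_inf hX.1 hY.1, hX.2.inf hY.2⟩ (inf_lt_left.2 hn))
    exact this ▸ hX.2
  have hsn' := subnIn_top.2 hsn
  have h1 : ncl A K = K := le_antisymm (ncl_le_of_le hAK) (hle _ (le_ncl _ _)
    (subnIn_top.1 (hsn'.step (ncl_le_of_le hAK) (le_NN_ncl _ _))))
  have h3 : A ⊔ resOf p K = K := le_antisymm (sup_le hAK (resOf_le _)) (hle _ le_sup_left
    (subnIn_top.1 ((subnIn_of_resOf_le le_sup_right (sup_le hAK (resOf_le _))).trans hsn')))
  refine ⟨by rw [ncl_eq_map hAK, h1], fun g hg => ?_, h3, fun hA => ?_⟩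
  · refine mem_NN_of_cj_le ?_
    rw [cj_le_iff]
    refine hle _ ?_ (subnIn_top.1 (by simpa [cj_top] using hsn'.cj g⁻¹))
    rw [← cj_le_iff, cj_eq_of_mem_NN hg]; exact hAK
  · refine le_antisymm (comm_le_left (hAK.trans (le_NN_resOf _))) ?_
    have h4 : K ≤ ⁅resOf p K, A⁆ ⊔ A := by
      rw [← ncl_eq_comm_sup]
      refine h1.ge.trans (ncl_le (le_ncl _ _) (h3.ge.trans (sup_le ?_ (le_NN_ncl _ _))))
      exact (le_ncl _ _).trans (le_NN_self _)
    exact (resOf_mono h4).trans (resOf_sup_le hA (right_le_NN_comm _ _))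

end Cfsg.Agent.S2814
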