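import Cfsg.Statements.S2815
import Cfsg.Agent.H10.Misc

set_option autoImplicit false
open Cfsg H10

namespace Cfsg.Agent.S2815

/-- Let H be a finite group and p a prime dividing its order with O_p(H) = 1, and suppose K = O^p(H) (generated by the elements of order prime to p) is quasisimple. Then K = F*(H); for every nontrivial p-subgroup Y of H, K = [K, Y] and K lies in the subgroup generated by the K-conjugates of Y; every normal subgroup of H not containing K has order prime to p; and H is p-irreducible. -/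
theorem result {H : Type*} [Group H] [Finite H] {p : ℕ} [Fact p.Prime] (hp : p ∣ Nat.card H) (hO : Cfsg.pCore p H = ⊥) (hq : Cfsg.IsQuasisimple ↥(Cfsg.pResidual p H)) : Cfsg.pResidual p H = Cfsg.generalizedFittingSubgroup H ∧ (∀ Y : Subgroup H, IsPGroup p ↥Y → Y ≠ ⊥ → ⁅Cfsg.pResidual p H, Y⁆ = Cfsg.pResidual p H ∧ Cfsg.pResidual p H ≤ ⨆ k : ↥(Cfsg.pResidual p H), Y.map (MulAut.conj (k : H)).toMonoidHom) ∧ (∀ C : Subgroup H, C.Normal → ¬ Cfsg.pResidual p H ≤ C → (Nat.card ↥C).Coprime p) ∧ Cfsg.IsPIrreducible p H := by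
  simp only [cj_def]
  have hO' : pCoreOf p (⊤ : Subgroup H) = ⊥ := by rw [pCoreOf_top, hO]
  have := pResidual_normal' (p := p) (G := H)
  have hc : H5.CompOf (pResidual p H) ⊤ := ⟨subnIn_of_normal le_top (le_NN_of_normal _ _), hq⟩
  have h1 : pResidual p H = H5.fstarOf ⊤ := by
    refine le_antisymm hc.le_fstarOf ?_
    rw [H5.fstarOf_eq, ← resOf_top]
    exact sup_le ((resOf_eq_of_perfect (H5.layerOf_perfect ⊤)).ge.trans (resOf_mono le_top))
      (le_resOf_of_coprime (coprime_fitOf hO') le_top)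
  have h3 : ∀ C : Subgroup H, C.Normal → ¬ pResidual p H ≤ C → (Nat.card ↥C).Coprime p := by
    intro C hC hn
    rcases hc.le_or_commutator_eq_bot (subnIn_of_normal le_top (le_NN_of_normal _ C)) with h | h
    · exact absurd h hn
    · exact H5.coprime_of_le (coprime_fitOf hO')
        (H5.le_fitOf_of_le_centralizer_fstarOf le_top (h1 ▸ comm_eq_bot'.1 h))
  refine ⟨by rw [h1, H5.fstarOf_top], fun Y hY h0 => ?_, h3, fun hcl => ?_, fun N hN hn => ?_⟩
  · have h2 : ⁅pResidual p H, Y⁆ = pResidual p H := H5.qs_commutator_eq hq (le_NN_of_normal _ _)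
      fun e => h0 (eq_bot_of_le_CC_fstar hO' hY le_top (h1 ▸ comm_eq_bot'.1 e))
    exact ⟨h2, h2.ge.trans (comm_le_ncl Y _)⟩
  · have := isSylowIn_pCoreOf (isPClosed_top_iff.2 hcl)
    exact this.ne_bot (by simpa using hp) hO'
  · by_contra h
    apply hn
    rw [isPClosed_iff]
    intro T hT
    rw [eq_bot_of_isPGroup_of_not_dvd hT.isPGroup hT.le (not_dvd_of_coprime (h3 N hN h)), NN_bot]
    exact le_top

end Cfsg.Agent.S2815
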