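import Cfsg.Statements.S2816
import Cfsg.Agent.H10.Misc

set_option autoImplicit false
open Cfsg H10

namespace Cfsg.Agent.S2816

/-- Let H be a finite group and p a prime with O_p(H) = 1, and Y a p-subgroup of H. Then for every subnormal subgroup K of H containing Y, [F*(H), Y] = [F*(K), Y] = [F*(K), Y, Y]; and if Y₀ ≤ Y with [F*(H), Y, Y₀] = 1 then Y₀ = 1 (in particular [F*(H), Y] = 1 forces Y = 1). -/
theorem result {H : Type*} [Group H] [Finite H] {p : ℕ} [Fact p.Prime] (hO : Cfsg.pCore p H = ⊥) (Y : Subgroup H) (hY : IsPGroup p ↥Y) : (∀ K : Subgroup H, K.IsSubnormal → Y ≤ K → ⁅Cfsg.generalizedFittingSubgroup H, Y⁆ = ⁅(Cfsg.generalizedFittingSubgroup ↥K).map K.subtype, Y⁆ ∧ ⁅(Cfsg.generalizedFittingSubgroup ↥K).map K.subtype, Y⁆ = ⁅⁅(Cfsg.generalizedFittingSubgroup ↥K).map K.subtype, Y⁆, Y⁆) ∧ (∀ Y₀ : Subgroup H, Y₀ ≤ Y → ⁅⁅Cfsg.generalizedFittingSubgroup H, Y⁆, Y₀⁆ = ⊥ → Y₀ =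 ⊥) := by
  have hO' : pCoreOf p (⊤ : Subgroup H) = ⊥ := by rw [pCoreOf_top, hO]
  rw [← H5.fstarOf_top]
  have key : ∀ K : Subgroup H, SubnIn K ⊤ → Y ≤ K →
      ⁅⁅H5.fstarOf K, Y⁆, Y⁆ = ⁅H5.fstarOf K, Y⁆ := fun K hK hYK =>
    fstar_comm_comm (H5.fstarOf_fstarOf K)
      (SubnIn.pCoreOf_eq_bot (SubnIn.trans (H5.sn_fstarOf K) hK) hO') hY
      (hYK.trans (H5.self_le_normalizer_fstarOf K))
  refine ⟨fun K hK hYK => ⟨?_, (key K (subnIn_top.2 hK) hYK).symm⟩, fun Y₀ h0 h => ?_⟩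
  · have hK' := subnIn_top.2 hK
    have h1 := key ⊤ (SubnIn.refl _) le_top
    refine le_antisymm ?_ (Subgroup.commutator_mono (H5.SN.fstarOf_le hK') le_rfl)
    rw [← h1]
    refine Subgroup.commutator_mono ?_ le_rfl
    refine le_trans (le_inf ?_ (hK'.le_of_comm_eq le_top hYK h1)) (H5.SN.fstarOf_inf hK').le
    exact comm_le_left (le_top.trans (H5.self_le_normalizer_fstarOf ⊤))
  · refine eq_bot_of_comm_comm_fstar hO' (hY.to_le h0) le_top (eq_bot_iff.2 (h ▸ ?_))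
    exact Subgroup.commutator_mono (Subgroup.commutator_mono le_rfl h0) le_rfl

end Cfsg.Agent.S2816
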