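import Cfsg.Statements.S2818
import Cfsg.Agent.H10.Misc

set_option autoImplicit false
open Cfsg H10

namespace Cfsg.Agent.S2818

open scoped commutatorElement

/-- Let P be a finite p-subgroup of a group G and H a subgroup of N_G(P) with [P, H] ≤ Ω₁(Z(P)) (the elements of order dividing p in the centre of P). Then H centralizes the Frattini subgroup of P. -/
theorem result {G : Type*} [Group G] [Finite G] {p : ℕ} [Fact p.Prime] (P : Subgroup G) (hP : IsPGroup p ↥P) (H : Subgroup G) (hH : H ≤ Subgroup.normalizer (P : Set G)) (h : ⁅P, H⁆ ≤ Cfsg.omegaOne p (P ⊓ Subgroup.centralizer (P : Set G))) : ⁅(frattini ↥P).map P.subtype, H⁆ = ⊥ := by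
  rw [ZO_def] at h
  rw [frOf_def, comm_eq_bot]
  have h1 : ⁅⁅P, H⁆, P⁆ = ⊥ := comm_eq_bot.2 (h.trans (ZO_le_CC _))
  refine frOf_le_of (p := p) ?_ fun x hx => ?_
  · rw [← comm_eq_bot, eq_bot_iff]
    exact three_subgroups (le_NN_of_normal _ _) (le_NN_of_normal _ _) (le_NN_of_normal _ _) h1.le
      (by rw [Subgroup.commutator_comm H P]; exact h1.le)
  · rw [mem_CC]
    intro y hy
    have h2 := mem_ZO.1 (h (Subgroup.commutator_mem_commutator hx hy))
    have h3 := commutator_pow_of_commute (x := x) (v := y) (mem_CC.1 h2.2.1 x hx) p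
    rw [h2.2.2, commutatorElement_eq_one_iff_mul_comm] at h3
    exact h3.symm

end Cfsg.Agent.S2818
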