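import Cfsg.Statements.S2819
import Cfsg.Agent.H10.Misc

set_option autoImplicit false
open Cfsg H10

namespace Cfsg.Agent.S2819

open scoped commutatorElement

/-- Let P be a finite p-subgroup of a group G, H a subgroup of N_G(P), and Y a subgroup of H centralizing the derived subgroup P' such that [P, Y] is elementary abelian. Then O^p(⟨Y^H⟩), the subgroup of the normal closure of Y in H generated by its elements of order prime to p, centralizes the Frattini subgroup of P. -/
theorem result {G : Type*} [Group G] [Finite G] {p : ℕ} [Fact p.Prime] (P : Subgroup G) (hP : IsPGroup p ↥P) (H : Subgroup G) (hH : H ≤ Subgroup.normalizer (P : Set G)) (Y : Subgroup G) (hYH : Y ≤ H) (hYc : Y ≤ Subgroup.centralizer ((⁅P, P⁆ : Subgroup G) : Set G)) (hel : Cfsg.IsElementaryAbelian p ⁅P, Y⁆) (NY : Subgroup G) (hNY : NY = (Subgroup.normalClosure ((Y.subgroupOf H : Subgroup ↥H) : Set ↥H)).map H.subtype) : (Cfsg.pResidual p ↥NY).map NY.subtype ≤ Subgroup.centralizer (((frattini ↥P).map P.subtype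 : Subgroup G) : Set G) := by
  rw [resOf_def, frOf_def]
  rw [ncl_eq_map hYH] at hNY
  subst hNY
  have hP' : H ≤ NN(⁅P, P⁆) := le_NN_commutator hH hH
  have h1 : ⁅Y, frOf P⁆ ≤ ⁅P, P⁆ := by
    rw [Subgroup.commutator_comm]
    refine (le_stabMod.1 (frOf_le_of (p := p) (le_stabMod.2 ⟨le_NN_self _, ?_⟩) fun x hx => ?_)).2
    · rw [comm_eq_bot'.2 hYc]; exact bot_le
    · refine Subgroup.zpowers_le.1 (le_stabMod.2 ⟨Subgroup.zpowers_le_of_mem
        (left_le_NN_comm P P (P.pow_mem hx p)), ?_⟩)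
      rw [Subgroup.commutator_le]
      rintro _ ⟨k, rfl⟩ y hy
      have hx' : x ^ k ∈ P := P.zpow_mem hx k
      have hu : y * (x ^ k)⁻¹ * y⁻¹ ∈ P := conj_mem_of_mem_NN (hH (hYH hy)) (P.inv_mem hx')
      have h2 : ⁅x ^ k, y⁆ ^ p = 1 := hel.2 _ (Subgroup.commutator_mem_commutator hx' hy)
      have h3 : (⟨x ^ k, hx'⟩ * ⟨_, hu⟩ : P) ^ p = 1 := Subtype.ext (by
        simpa [commutatorElement_def, mul_assoc] using h2)
      have h4 : (⟨x ^ k, hx'⟩ ^ p * ⟨_, hu⟩ ^ p : P) ∈ commutator P := by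
        rw [← Abelianization.ker_of, MonoidHom.mem_ker, map_mul, map_pow, map_pow, ← mul_pow,
          ← map_mul, ← map_pow, h3, map_one]
      have h5 := Subgroup.mem_map_of_mem P.subtype h4
      rw [commutator_def, Subgroup.map_commutator, map_top_subtype] at h5
      convert h5 using 1
      simp only [Subgroup.coe_subtype, Subgroup.coe_mul, SubmonoidClass.coe_pow, conj_pow,
        commutatorElement_def]
      rw [← zpow_natCast, ← zpow_mul, mul_comm, zpow_mul, zpow_natCast, inv_pow]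
      group
  have h2 : ⁅frOf P, ncl Y H⁆ ≤ ⁅P, P⁆ := by
    rw [Subgroup.commutator_comm]
    exact comm_ncl_le h1 (hYH.trans hP') (le_NN_frOf hH) hP'
  exact resOf_le_CC_of_step (hP.to_le (comm_le_of_le le_rfl le_rfl))
    ((Subgroup.commutator_mono le_rfl (resOf_le _)).trans h2)
    ((resOf_le _).trans (ncl_le_CC hYc hP'))

end Cfsg.Agent.S2819
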