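import Cfsg.Statements.S2820
import Cfsg.Agent.H10.Misc

set_option autoImplicit false
open Cfsg H10

namespace Cfsg.Agent.S2820

/-- Let A and B be subnormal subgroups of the finite group H with A a p-group and B = O^p(B) (B generated by its elements of order prime to p). Then A normalizes B and B = O^p(AB), the subgroup of ⟨A, B⟩ generated by its elements of order prime to p. -/
theorem result {H : Type*} [Group H] [Finite H] {p : ℕ} [Fact p.Prime] (A B : Subgroup H) (hA : A.IsSubnormal) (hB : B.IsSubnormal) (hAp : IsPGroup p ↥A) (hBres : (Cfsg.pResidual p ↥B).map B.subtype = B) : A ≤ Subgroup.normalizer (B : Set H) ∧ (Cfsg.pResidual p ↥(A ⊔ B)).map (A ⊔ B).subtype = B := by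
  rw [resOf_def] at hBres ⊢
  have h1 : A ≤ pCore p H := H1.subnormal_le_pCore hA hAp
  have h2 : resOf p (B ⊔ pCore p H) = B := le_antisymm
    (((subnIn_top.2 hB).of_le le_sup_left le_top).resOf_le isPGroup_pCore' (le_NN_of_normal _ _) le_rfl)
    (hBres.ge.trans (resOf_mono le_sup_left))
  refine ⟨?_, le_antisymm ((resOf_mono (sup_le (h1.trans le_sup_right) le_sup_left)).trans h2.le)
    (hBres.ge.trans (resOf_mono le_sup_right))⟩
  rw [← h2]
  exact (h1.trans le_sup_right).trans (le_NN_resOf _)

end Cfsg.Agent.S2820
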