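import Cfsg.Statements.S2823
import Cfsg.Agent.H10.PRed

set_option autoImplicit false
open Cfsg H10

namespace Cfsg.Agent.S2823

/-- Let H be a finite group, p a prime, T a Sylow p-subgroup and L a subgroup of characteristic p containing T; let Z_L be the subgroup generated by the Ω₁(Z(S)) over the Sylow p-subgroups S of L and O^p(L) the subgroup generated by the elements of L of order prime to p. Then Z_L = Ω₁(Z(L))·[Z_L, O^p(L)] and [Z_L, L] = [Z_L, O^p(L)]. -/
theorem result {H : Type*} [Group H] [Finite H] {p : ℕ} [Fact p.Prime] (T : Sylow p H) (L : Subgroup H) (hTL : (T : Subgroup H) ≤ L) (hL : Subgroup.centralizer (Cfsg.pCore p ↥L : Set ↥L) ≤ Cfsg.pCore p ↥L) : Cfsg.sylowCenterClosure p L = (Cfsg.omegaOne p (L ⊓ Subgroup.centralizer ((L : Subgroup H) : Set H))) ⊔ ⁅Cfsg.sylowCenterClosure p L, (Cfsg.pResidual p ↥L).map L.subtype⁆ ∧ ⁅Cfsg.sylowCenterClosure p L, L⁆ = ⁅Cfsg.sylowCenterClosure p L, (Cfsg.pResidual p ↥L).map L.subtype⁆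 := by
  rw [resOf_def, ZO_def]
  have hT := isSylowIn_of_sylow_le T hTL
  have hV := pRed_scc (charPIn_iff.2 hL)
  set V := sylowCenterClosure p L with hVd
  have hn : L ≤ NN(⁅V, resOf p L⁆) := le_NN_commutator hV.nn (le_NN_resOf L)
  have hle : ⁅V, resOf p L⁆ ≤ V := comm_le_left ((resOf_le L).trans hV.nn)
  have h1 : V = ZO p L ⊔ ⁅V, resOf p L⁆ := by
    refine le_antisymm ?_ (sup_le ((ZO_le_of_le hT.le ?_).trans (ZO_le_scc hT)) hle)
    · conv_lhs => rw [hVd, hT.scc_eq]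
      refine ncl_le ?_ (le_NN_sup (le_NN_ZO (le_NN_self L)) hn)
      refine (hT.le_CC_sup_comm hV.isPGroup (elab_le_CC hV.ea) hV.nn (ZO_le_scc hT)
        (ZO_le_CC _)).trans (sup_le_sup ?_ (Subgroup.commutator_mono (ZO_le_scc hT) le_rfl))
      exact le_ZO (inf_le_left.trans hV.le) inf_le_right fun a ha => hV.ea.2 a ha.1
    · exact hT.le_of_NN (isPGroup_ZO L) (ZO_le L) (le_NN_ZO (hT.le.trans (le_NN_self L)))
  refine ⟨h1, le_antisymm ?_ (Subgroup.commutator_mono le_rfl (resOf_le L))⟩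
  conv_lhs => rw [h1]
  refine comm_sup_le ((ZO_le L).trans hn) (le_NN_self _) ?_ (comm_le_left hn)
  rw [comm_eq_bot.2 (ZO_le_CC L)]; exact bot_le

end Cfsg.Agent.S2823
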