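import Cfsg.Statements.S2824
import Cfsg.Agent.H10.PRed

set_option autoImplicit false
open Cfsg H10

namespace Cfsg.Agent.S2824

/-- Let H be a finite group, p a prime, T a Sylow p-subgroup, L and M subgroups of characteristic p containing T, Y_L the largest p-reduced normal subgroup of L and T₀ = C_T(Y_L). If M·C_H(Y_L) = L·C_H(Y_L), then L* := N_M(T₀) has Y_{L*} = Y_L and L·C_H(Y_L) = L*·C_H(Y_L). -/
theorem result {H : Type*} [Group H] [Finite H] {p : ℕ} [Fact p.Prime] (T : Sylow p H) (L M : Subgroup H) (hTL : (T : Subgroup H) ≤ L) (hTM : (T : Subgroup H) ≤ M) (hL : Subgroup.centralizer (Cfsg.pCore p ↥L : Set ↥L) ≤ Cfsg.pCore p ↥L) (hM : Subgroup.centralizer (Cfsg.pCore p ↥M : Set ↥M) ≤ Cfsg.pCore p ↥M) (T₀ : Subgroup H) (hT₀ : T₀ = (T : Subgroup H) ⊓ Subgroup.centralizer (((Cfsg.largestPReducedOf p L) : Subgroup H) : Set H)) (hfac : M ⊔ Subgroup.centralizer (((Cfsg.largestPReducedOf p L) : Subgroup H) : Set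 H) = L ⊔ Subgroup.centralizer (((Cfsg.largestPReducedOf p L) : Subgroup H) : Set H)) (Ls : Subgroup H) (hLs : Ls = M ⊓ Subgroup.normalizer ((T₀ : Subgroup H) : Set H)) : (Cfsg.largestPReducedOf p Ls) = (Cfsg.largestPReducedOf p L) ∧ L ⊔ Subgroup.centralizer (((Cfsg.largestPReducedOf p L) : Subgroup H) : Set H) = Ls ⊔ Subgroup.centralizer (((Cfsg.largestPReducedOf p L) : Subgroup H) : Set H) := by
  have hTL' := isSylowIn_of_sylow_le T hTL
  have hTM' := isSylowIn_of_sylow_le T hTM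
  have hY := pRed_YOf (p := p) L
  have hMY : M ≤ NN(YOf p L) := le_sup_left.trans (hfac.le.trans (sup_le hY.nn (CC_le_NN _)))
  subst hT₀ hLs
  have h1 := hfac.symm.trans (hTM'.frattini_CC' hMY)
  have hTn : (T : Subgroup H) ≤ M ⊓ NN((T : Subgroup H) ⊓ CC(YOf p L)) :=
    le_inf hTM (le_NN_inf (le_NN_self _) (le_NN_CC (hTL.trans hY.nn)))
  have h2 := (hY.congr (hY.le_pCoreOf.trans (hTL'.pCoreOf_le.trans hTn)) h1).le_YOf
  refine ⟨le_antisymm ?_ h2, h1⟩
  have hY' := pRed_YOf (p := p) (M ⊓ NN((T : Subgroup H) ⊓ CC(YOf p L)))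
  refine le_trans ?_ (YOf_eq_ZO (charPIn_iff.2 hL) hTL').ge
  refine le_ZO (le_inf (hY'.le_pCoreOf.trans (isSylowIn_of_sylow_le T hTn).pCoreOf_le)
    ((elab_le_CC hY'.ea).trans (CC_anti h2))) (le_CC_symm (le_trans ?_ hY'.pCoreOf_le_CC)) hY'.ea.2
  exact le_pCoreOf (T.isPGroup'.to_le inf_le_left) (inf_le_left.trans hTn) inf_le_right

end Cfsg.Agent.S2824
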