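import Cfsg.Statements.S2825
import Cfsg.Agent.H10.PRed

set_option autoImplicit false
open Cfsg H10

namespace Cfsg.Agent.S2825

/-- Let L be a subnormal subgroup of the finite group H, p a prime, Y_H and Y_L the largest p-reduced normal subgroups. Then Y_H ∩ L = Y_H ∩ Y_L and this subgroup is a p-reduced normal subgroup of L; C_L(Y_L) = C_L(Y_H) = C_L(Y_H ∩ L); and if O^p(H) ≤ L, then [Y_L, L] = 1 if and only if [Y_H, H] = 1. -/
theorem result {H : Type*} [Group H] [Finite H] {p : ℕ} [Fact p.Prime] (L : Subgroup H) (hL : L.IsSubnormal) : Cfsg.largestPReduced p H ⊓ L = Cfsg.largestPReduced p H ⊓ (Cfsg.largestPReducedOf p L) ∧ Cfsg.IsPReducedNormal p ((Cfsg.largestPReduced p H ⊓ L).subgroupOf L) ∧ L ⊓ Subgroup.centralizer ((Cfsg.largestPReducedOf p L : Subgroup H) : Set H) = L ⊓ Subgroup.centralizer (Cfsg.largestPReduced p H : Set H) ∧ L ⊓ Subgroup.centralizer (Cfsg.largestPReduced p H : Set H) = L ⊓ Subgroup.centralizer ((Cfsg.largestPReduced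 p H ⊓ L : Subgroup H) : Set H) ∧ (Cfsg.pResidual p H ≤ L → (⁅(Cfsg.largestPReducedOf p L), L⁆ = ⊥ ↔ ⁅Cfsg.largestPReduced p H, (⊤ : Subgroup H)⁆ = ⊥)) := by
  rw [← YOf_top]
  have hV := pRed_YOf (p := p) (⊤ : Subgroup H)
  have hL' := subnIn_top.2 hL
  have hn : L ≤ NN(YOf p (⊤ : Subgroup H) ⊓ L) := le_NN_inf (le_top.trans hV.nn) (le_NN_self L)
  have hc : ⁅YOf p (⊤ : Subgroup H), resOf p L⁆ ≤ YOf p ⊤ ⊓ L :=
    le_inf (comm_le_left (le_top.trans hV.nn)) (hV.comm_resOf_le hL')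
  have h1 := hV.of_subn hL' inf_le_left inf_le_right hn hc
  have h2 := hV.inf_CC_le hL' inf_le_left hn hc
  have h3 : L ⊓ CC(YOf p L) = L ⊓ CC(YOf p (⊤ : Subgroup H)) :=
    le_antisymm (le_inf inf_le_left ((inf_le_inf_left _ (CC_anti h1.le_YOf)).trans h2))
      (le_inf inf_le_left hL'.inf_CC_YOf_le)
  refine ⟨le_antisymm (le_inf inf_le_left h1.le_YOf) (inf_le_inf_left _ (pRed_YOf L).le),
    (pRed_iff inf_le_right).1 h1, h3,
    le_antisymm (inf_le_inf_left _ (CC_anti inf_le_left)) (le_inf inf_le_left h2), fun hr => ?_⟩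
  rw [comm_eq_bot', comm_eq_bot']
  constructor
  · intro h
    exact hV.red ⊤ le_rfl (le_NN_self _) (resOf_top (p := p) (G := H) ▸ hr.trans
      ((le_inf le_rfl h).trans (h3.le.trans inf_le_right)))
  · intro h
    exact (le_inf le_rfl (le_top.trans h)).trans (h3.ge.trans inf_le_right)

end Cfsg.Agent.S2825
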