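import Cfsg.Statements.S2826
import Cfsg.Agent.H10.PRed

set_option autoImplicit false
open Cfsg H10

namespace Cfsg.Agent.S2826

/-- Let H be a finite group of characteristic p, T a Sylow p-subgroup, and V a normal elementary abelian p-subgroup of H containing Ω₁(Z(T)). Then C_H(Ω₁(Z(T))) = C_H([V, O^p(H)] ∩ Ω₁(Z(T))), O^p(H) being generated by the elements of order prime to p. -/
theorem result {H : Type*} [Group H] [Finite H] {p : ℕ} [Fact p.Prime] (hH : Subgroup.centralizer (Cfsg.pCore p H : Set H) ≤ Cfsg.pCore p H) (T : Sylow p H) (V : Subgroup H) [V.Normal] (hV : Cfsg.IsElementaryAbelian p V) (hZV : (Cfsg.omegaOne p ((T : Subgroup H) ⊓ Subgroup.centralizer (((T : Subgroup H) : Subgroup H) : Set H))) ≤ V) : Subgroup.centralizer ((Cfsg.omegaOne p ((T : Subgroup H) ⊓ Subgroup.centralizer (((T : Subgroup H) : Subgroup H) : Set H))) : Set H) = Subgroup.centralizer (((⁅V, Cfsg.pResidual p H⁆ ⊓ (Cfsg.omegaOne p ((T : Subgroup H) ⊓ Subgroup.centralizer (((T : Subgroup H) : Subgroup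 H) : Set H)))) : Subgroup H) : Set H) := by
  rw [ZO_def]
  refine le_antisymm (CC_anti inf_le_right) (le_CC_symm ?_)
  have hT := isSylowIn_top T
  have h1 := hT.le_CC_sup_comm (elab_isPGroup hV) (elab_le_CC hV) (le_NN_of_normal _ _) hZV (ZO_le_CC _)
  rw [resOf_top] at h1
  have h2 : V ⊓ CC(⊤) ≤ ZO p (T : Subgroup H) := le_ZO
    (inf_le_left.trans ((le_pCore' (elab_isPGroup hV)).trans (H1.pCore_le_sylow T)))
    (inf_le_right.trans (CC_anti le_top)) fun a ha => hV.2 a ha.1
  have h3 := dedekind_left (B := ⁅V, pResidual p H⁆) h2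
    ((inf_le_right.trans (CC_anti le_top)).trans (CC_le_NN _))
  refine (le_inf (h1.trans (sup_le_sup_left (Subgroup.commutator_mono hZV le_rfl) _)) le_rfl).trans
    (h3.le.trans (sup_le (inf_le_right.trans (CC_anti le_top)) (le_CC_CC _)))

end Cfsg.Agent.S2826
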