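import Cfsg.Statements.S2827
import Cfsg.Agent.H10.PMin

set_option autoImplicit false
open Cfsg H10

namespace Cfsg.Agent.S2827

/-- Let H be a finite p-irreducible group (not p-closed, and O^p(H) lies in every normal subgroup that is not p-closed) and T a Sylow p-subgroup. Then H is generated by the conjugates of T and H = H'·T; O^p(H) ≤ H'; and for every normal subgroup Y of T not contained in O_p(H), O^p(H) = [O^p(H), Y] and O^p(H) is contained in the normal closure of Y in H. -/
theorem result {H : Type*} [Group H] [Finite H] {p : ℕ} [Fact p.Prime] (hH : Cfsg.IsPIrreducible p H) (T : Sylow p H) : Subgroup.normalClosure ((T : Subgroup H) : Set H) = ⊤ ∧ commutator H ⊔ (T : Subgroup H) = ⊤ ∧ Cfsg.pResidual p H ≤ commutator H ∧ ∀ Y : Subgroup H, Y ≤ (T : Subgroup H) → (T : Subgroup H) ≤ Subgroup.normalizer (Y : Set H) → ¬ Y ≤ Cfsg.pCore p H → ⁅Cfsg.pResidual p H, Y⁆ = Cfsg.pResidual p H ∧ Cfsg.pResidual p H ≤ Subgroup.normalClosure (Y : Set H) := by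
  have h := pIrr_top.2 hH
  have hT := isSylowIn_top T
  have h1 := pIrr_ncl h hT
  have h2 : commutator H ⊔ (T : Subgroup H) = ⊤ := by
    rw [eq_top_iff, ← h1]
    exact ncl_le le_sup_right (le_NN_of_comm_le_left
      ((Subgroup.commutator_mono le_top le_rfl).trans le_sup_left))
  refine ⟨by rw [← ncl_top, h1], h2, ?_, fun Y h1 h2 h3 => ?_⟩
  · rw [← resOf_top, ← h2]
    exact resOf_sup_le T.isPGroup' (le_NN_of_normal _ _)
  · have := pIrr_comm h hT h1 h2 (by rwa [pCoreOf_top])
    rwa [resOf_top, ncl_top] at this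

end Cfsg.Agent.S2827
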