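import Cfsg.Statements.S2828
import Cfsg.Agent.H10.PMin

set_option autoImplicit false
open Cfsg H10

namespace Cfsg.Agent.S2828

/-- Let H be a finite group, p a prime and D a normal p-subgroup of H. Then H is p-irreducible if and only if H/D is p-irreducible, and H is strongly p-irreducible if and only if H/D is strongly p-irreducible. -/
theorem result {H : Type*} [Group H] [Finite H] {p : ℕ} [Fact p.Prime] (D : Subgroup H) [D.Normal] (hD : IsPGroup p ↥D) : (Cfsg.IsPIrreducible p H ↔ Cfsg.IsPIrreducible p (H ⧸ D)) ∧ (Cfsg.IsStronglyPIrreducible p H ↔ Cfsg.IsStronglyPIrreducible p (H ⧸ D)) := by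
  set f := QuotientGroup.mk' D with hf
  have hs : Function.Surjective f := QuotientGroup.mk'_surjective D
  have hk : ∀ L : Subgroup H, IsPGroup p (L ⊓ f.ker : Subgroup H) := fun L => by
    rw [hf, QuotientGroup.ker_mk']; exact hD.to_le inf_le_right
  have hc : ∀ L : Subgroup H, IsPClosed p (L.map f) ↔ IsPClosed p L := fun L =>
    ⟨isPClosed_of_map f (hk L), isPClosed_map f⟩
  have h0 : IsPClosed p H ↔ IsPClosed p (H ⧸ D) := by
    rw [← isPClosed_top_iff, ← hc, Subgroup.map_top_of_surjective _ hs, isPClosed_top_iff]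
  have hr : (pResidual p H).map f = pResidual p (H ⧸ D) := by
    rw [← resOf_top, map_resOf, Subgroup.map_top_of_surjective _ hs, resOf_top]
  have h1 : ∀ N : Subgroup H, N.Normal → pResidual p (H ⧸ D) ≤ N.map f → pResidual p H ≤ N := by
    intro N hN h
    rw [← hr, Subgroup.map_le_map_iff, hf, QuotientGroup.ker_mk', ← resOf_top] at h
    rw [← resOf_top]
    exact (resOf_le_resOf h).trans (resOf_sup_le hD (le_NN_of_normal _ _))
  have h2 : ∀ N : Subgroup H, ⁅N.map f, (⊤ : Subgroup (H ⧸ D))⁆ ≤ pCore p (H ⧸ D) ↔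
      ⁅N, (⊤ : Subgroup H)⁆ ≤ pCore p H := fun N => by
    rw [← Subgroup.map_top_of_surjective _ hs, ← Subgroup.map_commutator, Subgroup.map_le_iff_le_comap,
      hf, H1.comap_pCore_mk' p D hD]
  refine ⟨and_congr h0.not ⟨fun h N hN hn => ?_, fun h N hN hn => ?_⟩,
    and_congr h0.not ⟨fun h N hN hn => ?_, fun h N hN hn => ?_⟩⟩
  · rw [← hr, Subgroup.map_le_iff_le_comap]
    exact h _ inferInstance (by rwa [← hc, Subgroup.map_comap_eq_self_of_surjective hs])
  · exact h1 N hN (h _ (hN.map f hs) (by rwa [hc]))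
  · rw [← hr, Subgroup.map_le_iff_le_comap]
    exact h _ inferInstance (by rwa [← h2, Subgroup.map_comap_eq_self_of_surjective hs])
  · exact h1 N hN (h _ (hN.map f hs) (by rwa [h2]))

end Cfsg.Agent.S2828
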