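import Cfsg.Statements.S2829
import Cfsg.Agent.H10.PMin

set_option autoImplicit false
open Cfsg H10

namespace Cfsg.Agent.S2829

/-- Every strongly p-irreducible finite group is p-irreducible. -/
theorem result {H : Type*} [Group H] [Finite H] {p : ℕ} [Fact p.Prime] (hH : Cfsg.IsStronglyPIrreducible p H) : Cfsg.IsPIrreducible p H := by
  refine ⟨hH.1, fun N hN hn => hH.2 N hN fun h => hn ?_⟩
  rw [isPClosed_iff]
  intro T hT
  refine le_NN_of_comm_le_left (le_trans ?_ hT.pCoreOf_le)
  rw [pCoreOf_eq_of_normal le_top (le_NN_of_normal _ N), pCoreOf_top]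
  exact le_inf ((Subgroup.commutator_mono hT.le le_top).trans h) (comm_le_of_le hT.le le_rfl)

end Cfsg.Agent.S2829
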