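import Cfsg.Statements.S2832
import Cfsg.Agent.H10.PMin

set_option autoImplicit false
open Cfsg H10

namespace Cfsg.Agent.S2832

/-- Let H be a finite group with Sylow p-subgroup T such that H is T-minimal (generated by the conjugates of T, with T in exactly one maximal subgroup), and let N be a normal subgroup of H. Then either H/N is a p-group or H/N is minimal over the image of T in the same sense. -/
theorem result {H : Type*} [Group H] [Finite H] {p : ℕ} [Fact p.Prime] (T : Sylow p H) (hmin : Cfsg.IsMinimalOver (T : Subgroup H)) (N : Subgroup H) [N.Normal] : IsPGroup p (H ⧸ N) ∨ Cfsg.IsMinimalOver ((T : Subgroup H).map (QuotientGroup.mk' N)) := by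
  obtain ⟨M, ⟨hM, hTM⟩, -⟩ := hmin.2
  set f := QuotientGroup.mk' N with hf
  have hs : Function.Surjective f := QuotientGroup.mk'_surjective N
  by_cases h : (T : Subgroup H) ⊔ N = ⊤
  · left
    rw [← isPGroup_top_iff, ← Subgroup.map_top_of_surjective _ hs, ← h, Subgroup.map_sup,
      (Subgroup.map_eq_bot_iff N).2 (by rw [hf, QuotientGroup.ker_mk']), sup_bot_eq]
    exact T.isPGroup'.map f
  · right
    have hN : f.ker ≤ M := by
      rw [hf, QuotientGroup.ker_mk']
      exact le_sup_right.trans (minOver_le hmin hM hTM le_sup_left h)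
    refine ⟨?_, M.map f, ⟨H1.isCoatom_map_of_surjective hs hM hN, Subgroup.map_mono hTM⟩, ?_⟩
    · rw [← ncl_top, ← Subgroup.map_top_of_surjective _ hs, ← map_ncl, minOver_ncl hmin]
    · rintro X ⟨hX, hTX⟩
      rw [← minOver_eq hmin hM hTM (Subgroup.isCoatom_comap_of_surjective hs hX)
        (Subgroup.map_le_iff_le_comap.1 hTX), Subgroup.map_comap_eq_self_of_surjective hs]

end Cfsg.Agent.S2832
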