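import Cfsg.Statements.S2833
import Cfsg.Agent.H10.PMin

set_option autoImplicit false
open Cfsg H10

namespace Cfsg.Agent.S2833

/-- Let V be a subgroup of a finite group G normalized by the subgroup L, let X ≤ L and g ∈ L with [V, X, X] = 1 and L generated by X and gXg⁻¹. Put W = [V, L]. Then W = [V, X]·[V, gXg⁻¹], C_W(X) = [V, X], and C_W(L) = [V, X] ∩ [V, gXg⁻¹]. -/
theorem result {G : Type*} [Group G] [Finite G] (V L : Subgroup G) (hLV : L ≤ Subgroup.normalizer (V : Set G)) (X : Subgroup G) (hX : X ≤ L) (g : G) (hg : g ∈ L) (hq : ⁅⁅V, X⁆, X⁆ = ⊥) (hgen : X ⊔ X.map (MulAut.conj g).toMonoidHom = L) (W : Subgroup G) (hW : W = ⁅V, L⁆) : ⁅V, X⁆ ⊔ ⁅V, X.map (MulAut.conj g).toMonoidHom⁆ = W ∧ W ⊓ Subgroup.centralizer (X : Set G) = ⁅V, X⁆ ∧ W ⊓ Subgroup.centralizer (L : Set G) = ⁅V, X⁆ ⊓ ⁅V, X.map (MulAut.conj g).toMonoidHom⁆ := by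
  simp only [cj_def] at hgen ⊢
  subst hW
  have hX' : cj g X ≤ L := cj_le_of_mem hg hX
  have hB : ⁅V, cj g X⁆ = cj g ⁅V, X⁆ := by rw [cj_commutator, cj_eq_of_mem_NN (hLV hg)]
  have hA1 : ⁅V, X⁆ ≤ CC(X) := comm_eq_bot.1 hq
  have hB1 : ⁅V, cj g X⁆ ≤ CC(cj g X) := by rw [hB, ← cj_centralizer]; exact cj_mono g hA1
  have hAV : ⁅V, X⁆ ≤ V := comm_le_left (hX.trans hLV)
  have hBV : ⁅V, cj g X⁆ ≤ V := comm_le_left (hX'.trans hLV)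
  have hle : ⁅V, X⁆ ⊔ ⁅V, cj g X⁆ ≤ V := sup_le hAV hBV
  have h1 : ⁅V, X⁆ ⊔ ⁅V, cj g X⁆ = ⁅V, L⁆ := by
    refine le_antisymm (sup_le (Subgroup.commutator_mono le_rfl hX)
      (Subgroup.commutator_mono le_rfl hX')) ?_
    conv_lhs => rw [← hgen]
    exact comm_sup_le' (le_NN_of_comm_le_of_le le_sup_left hle)
      (le_NN_of_comm_le_of_le le_sup_right hle) le_sup_left le_sup_right
  have hC : ∀ x ∈ CC(L), g * x * g⁻¹ = x := fun x hx => by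
    rw [mem_CC.1 hx g hg, mul_inv_cancel_right]
  have h2 : ⁅V, L⁆ ⊓ CC(X) = ⁅V, X⁆ := by
    rw [← h1, dedekind_left hA1 (hAV.trans (left_le_NN_comm _ _)), sup_eq_left]
    intro x hx
    have h3 : x ∈ CC(L) := by rw [← hgen, CC_sup]; exact ⟨hx.2, hB1 hx.1⟩
    have h4 : x ∈ ⁅V, cj g X⁆ := hx.1
    rwa [hB, ← hC x h3, conj_mem_cj_iff] at h4
  refine ⟨h1, h2, le_antisymm (fun x hx => ?_) ?_⟩
  · have h3 : x ∈ ⁅V, X⁆ := h2.le ⟨hx.1, CC_anti hX hx.2⟩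
    exact ⟨h3, by rw [hB, ← hC x hx.2]; exact conj_mem_cj h3⟩
  · refine le_inf (inf_le_left.trans (le_sup_left.trans h1.le)) ?_
    rw [← hgen, CC_sup]
    exact inf_le_inf hA1 hB1

end Cfsg.Agent.S2833
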