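import Cfsg.Statements.S2835
import Cfsg.Agent.H10.PMin

set_option autoImplicit false
open Cfsg H10

namespace Cfsg.Agent.S2835

/-- Let L be a finite group, L₀ a maximal subgroup, T a Sylow p-subgroup of L₀ and Y ≤ T, and suppose L is Y-minimal (generated by the conjugates of Y, with Y in exactly one maximal subgroup, necessarily L₀). Then N_L(T) ≤ L₀, O_p(L) ≤ L₀ and T is a Sylow p-subgroup of L; N_L(L₀) = L₀; L = ⟨Y, gYg⁻¹⟩ for each g ∈ L outside L₀; and if Y is abelian then Y ∩ gYg⁻¹ = C_Y(L) for each such g. -/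
theorem result {L : Type*} [Group L] [Finite L] {p : ℕ} [Fact p.Prime] (L₀ : Subgroup L) (hL₀ : IsCoatom L₀) (T : Sylow p ↥L₀) (Y : Subgroup L) (hYT : Y ≤ (T : Subgroup ↥L₀).map L₀.subtype) (hmin : Cfsg.IsMinimalOver Y) : Subgroup.normalizer (((T : Subgroup ↥L₀).map L₀.subtype : Subgroup L) : Set L) ≤ L₀ ∧ Cfsg.pCore p L ≤ L₀ ∧ (∃ P : Sylow p L, (P : Subgroup L) = (T : Subgroup ↥L₀).map L₀.subtype) ∧ Subgroup.normalizer (L₀ : Set L) = L₀ ∧ (∀ g : L, g ∉ L₀ → Y ⊔ Y.map (MulAut.conj g).toMonoidHom = ⊤) ∧ (IsMulCommutative ↥Y → ∀ g : L, g ∉ L₀ → Y ⊓ Y.map (MulAut.conj g).toMonoidHom = Y ⊓ Subgroup.center L) := by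
  have hT := isSylowIn_map_subtype T
  have hY := hYT.trans hT.le
  have hT' := minOver_sylow hmin hL₀ hT hYT
  refine ⟨minOver_NN_le hmin hL₀ hY hYT fun e => hL₀.1 (eq_top_iff.2 (e ▸ hT.le)),
    (pCoreOf_top (p := p) (G := L) ▸ hT'.pCoreOf_le).trans hT.le, hT'.exists_sylow_top,
    le_antisymm (minOver_NN_le hmin hL₀ hY hY hL₀.1) (le_NN_self _),
    fun g hg => minOver_sup_cj hmin hL₀ hY hg,
    fun hc g hg => minOver_inf_cj hmin hL₀ hY (isMulCommutative_iff_le_CC.1 hc) hg⟩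

end Cfsg.Agent.S2835
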