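import Cfsg.Statements.S2836
import Cfsg.Agent.H10.PMin

set_option autoImplicit false
open Cfsg H10

namespace Cfsg.Agent.S2836

/-- Let L be a finite group, L₀ a maximal subgroup, T a Sylow p-subgroup of L₀, Y ≤ T, and suppose L is Y-minimal. Let D be the intersection of the conjugates of L₀ (the core of L₀). Then D contains O_p(L) and D/O_p(L) is the Frattini subgroup of L/O_p(L), so D is p-closed; and every normal subgroup N of L contained in L₀ is p-closed with N/O_p(N) a nilpotent group of order prime to p. -/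
theorem result {L : Type*} [Group L] [Finite L] {p : ℕ} [Fact p.Prime] (L₀ : Subgroup L) (hL₀ : IsCoatom L₀) (T : Sylow p ↥L₀) (Y : Subgroup L) (hYT : Y ≤ (T : Subgroup ↥L₀).map L₀.subtype) (hmin : Cfsg.IsMinimalOver Y) : (Cfsg.pCore p L ≤ L₀.normalCore ∧ (L₀.normalCore).map (QuotientGroup.mk' (Cfsg.pCore p L)) = frattini (L ⧸ Cfsg.pCore p L) ∧ Cfsg.IsPClosed p ↥(L₀.normalCore)) ∧ ∀ (N : Subgroup L) [N.Normal], N ≤ L₀ → Cfsg.IsPClosed p ↥N ∧ Group.IsNilpotent (↥N ⧸ Cfsg.pCore p ↥N) ∧ (Nat.card (↥N ⧸ Cfsg.pCore p ↥N)).Coprime p := by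
  have hT := isSylowIn_map_subtype T
  have hT' := minOver_sylow hmin hL₀ hT hYT
  have hm := minOver_mono hmin hL₀ hYT hT.le
  have hc : ∀ (N : Subgroup L) [N.Normal], N ≤ L₀ → IsPClosed p N := fun N _ hN =>
    minOver_isPClosed hm hT' hL₀ hT.le hN
  have hQ : pCore p L ≤ L₀.normalCore := Subgroup.normal_le_normalCore.2
    ((pCoreOf_top (p := p) (G := L) ▸ hT'.pCoreOf_le).trans hT.le)
  set f := QuotientGroup.mk' (pCore p L) with hf
  have hs : Function.Surjective f := QuotientGroup.mk'_surjective _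
  have hk : f.ker = pCore p L := QuotientGroup.ker_mk' _
  have hO : ∀ (N : Subgroup L) [N.Normal], pCoreOf p N = pCore p L ⊓ N := fun N _ => by
    rw [pCoreOf_eq_of_normal le_top (le_NN_of_normal _ N), pCoreOf_top]
  have h1 : L₀.normalCore.map f = frattini (L ⧸ pCore p L) := by
    apply le_antisymm
    · rw [H3.le_frattini_iff]
      intro M' hM'
      rw [Subgroup.map_le_iff_le_comap]
      have hM := Subgroup.isCoatom_comap_of_surjective hs hM'
      set M := M'.comap f
      have hQM : pCore p L ≤ M := hk ▸ Subgroup.ker_le_comap f M'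
      by_contra hn
      have h2 : M ⊔ L₀.normalCore = ⊤ := hM.2 _ (left_lt_sup.2 hn)
      obtain ⟨S, hS⟩ := exists_isSylowIn p M
      have h3 := hS.sup (isSylowIn_pCoreOf (hc _ L₀.normalCore_le)) (le_NN_of_normal _ _)
        (le_NN_pCoreOf' (le_NN_of_normal _ _))
      rw [h2] at h3
      obtain ⟨g, -, e⟩ := h3.exists_cj hT'
      have h4 := minOver_eq hm hL₀ hT.le (isCoatom_cj hM g)
        (e ▸ cj_mono g (sup_le hS.le (by rw [hO]; exact inf_le_left.trans hQM)))
      apply hn
      rw [← cj_le_cj (g := g), h4, cj_eq_of_normal]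
      exact L₀.normalCore_le
    · have h2 : (frattini (L ⧸ pCore p L)).comap f ≤ L₀.normalCore := by
        refine Subgroup.normal_le_normalCore.2 ?_
        have h3 : f.ker ≤ L₀ := hk.le.trans (hQ.trans L₀.normalCore_le)
        have := Subgroup.comap_mono (f := f)
          (frattini_le_coatom (H1.isCoatom_map_of_surjective hs hL₀ h3))
        rwa [Subgroup.comap_map_eq_self h3] at this
      rw [← Subgroup.map_comap_eq_self_of_surjective hs (frattini _)]
      exact Subgroup.map_mono h2
  refine ⟨⟨hQ, h1, hc _ L₀.normalCore_le⟩, fun N _ hN => ⟨hc N hN, ?_, ?_⟩⟩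
  · have h2 : N.map f ≤ frattini _ := h1 ▸ Subgroup.map_mono (Subgroup.normal_le_normalCore.2 hN)
    have h3 := H5.isNilpotent_of_le H1.isNilpotent_fitting (h2.trans H1.frattini_le_fitting)
    have h4 : pCore p N = (f.subgroupMap N).ker := by
      ext x
      rw [← pCoreOf_subgroupOf, Subgroup.mem_subgroupOf, hO, MonoidHom.mem_ker, Subtype.ext_iff]
      exact ⟨fun h => MonoidHom.mem_ker.1 (hk.ge h.1), fun h => ⟨hk.le (MonoidHom.mem_ker.2 h), x.2⟩⟩
    exact Group.nilpotent_of_mulEquiv ((QuotientGroup.quotientMulEquivOfEq h4).trans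
      (QuotientGroup.quotientKerEquivOfSurjective _ (f.subgroupMap_surjective N))).symm
  · have := (isSylowIn_pCoreOf (hc N hN)).not_dvd_relIndex
    rw [Subgroup.relIndex, pCoreOf_subgroupOf] at this
    exact coprime_of_not_dvd this

end Cfsg.Agent.S2836
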