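import Cfsg.Statements.S2837
import Cfsg.Agent.H10.PMin

set_option autoImplicit false
open Cfsg H10

namespace Cfsg.Agent.S2837

/-- Let L be a finite group of characteristic p, L₀ a maximal subgroup, Y an elementary abelian p-subgroup of L₀ with L Y-minimal and O_p(L) ≤ N_L(Y). Put A = the normal closure of O_p(L) ∩ Y in L. Then for every g ∈ L outside L₀: Φ(A) = A' = [A ∩ Y, A] = [A ∩ Y, A ∩ gYg⁻¹] ≤ C_Y(L), and Y ∩ gYg⁻¹ = (A ∩ Y) ∩ (A ∩ gYg⁻¹) = C_Y(L) = C_A(L). -/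
theorem result {L : Type*} [Group L] [Finite L] {p : ℕ} [Fact p.Prime] (hchar : Subgroup.centralizer (Cfsg.pCore p L : Set L) ≤ Cfsg.pCore p L) (L₀ : Subgroup L) (hL₀ : IsCoatom L₀) (Y : Subgroup L) (hYL₀ : Y ≤ L₀) (hYel : Cfsg.IsElementaryAbelian p Y) (hmin : Cfsg.IsMinimalOver Y) (hOY : Cfsg.pCore p L ≤ Subgroup.normalizer (Y : Set L)) (A : Subgroup L) (hA : A = Subgroup.normalClosure (((Cfsg.pCore p L ⊓ Y : Subgroup L)) : Set L)) (g : L) (hg : g ∉ L₀) : (frattini ↥A).map A.subtype = ⁅A, A⁆ ∧ ⁅A, A⁆ = ⁅A ⊓ Y, A⁆ ∧ ⁅A ⊓ Y, A⁆ = ⁅A ⊓ Y, A ⊓ Y.map (MulAut.conj g).toMonoidHom⁆ ∧ ⁅A ⊓ Y, A⁆ ≤ Y ⊓ Subgroup.center L ∧ Y ⊓ Y.map (MulAut.conj g).toMonoidHom = Y ⊓ Subgroup.center L ∧ (A ⊓ Y) ⊓ (A ⊓ Y.map (MulAut.conj g).toMonoidHom) = Y ⊓ Subgroup.center L ∧ A ⊓ Subgroup.center L = Y ⊓ Subgroup.center L := by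
  simp only [cj_def, frOf_def]
  rw [← ncl_top] at hA
  have hYc := elab_le_CC hYel
  have h5 := minOver_inf_cj hmin hL₀ hYL₀ hYc hg
  have hgen := minOver_sup_cj hmin hL₀ hYL₀ hg
  set Q := pCore p L with hQ
  have hAn : A.Normal := normal_of_top_le_NN (hA ▸ le_NN_ncl _ _)
  have hAQ : A ≤ Q := hA ▸ ncl_le inf_le_left (le_NN_of_normal _ _)
  have hQY : Q ⊓ Y ≤ A := hA ▸ le_ncl _ _
  have hOY' : Q ≤ NN(cj g Y) := by
    rw [← cj_normalizer, ← cj_eq_of_normal g Q]; exact cj_mono g hOY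
  have hY' := elab_cj g hYel
  have hYc' := elab_le_CC hY'
  set U := A ⊓ Y with hU
  set U' := A ⊓ cj g Y with hU'
  have hUn : Q ≤ NN(U) := le_NN_inf (le_NN_of_normal _ _) hOY
  have hUn' : Q ≤ NN(U') := le_NN_inf (le_NN_of_normal _ _) hOY'
  have hc1 : ⁅A, Y⁆ ≤ U := le_inf (comm_le_left (le_NN_of_normal _ _)) (comm_le_right (hAQ.trans hOY))
  have hc2 : ⁅A, cj g Y⁆ ≤ U' :=
    le_inf (comm_le_left (le_NN_of_normal _ _)) (comm_le_right (hAQ.trans hOY'))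
  have hle : U ⊔ U' ≤ A := sup_le inf_le_left inf_le_left
  have hAe : A = U ⊔ U' := by
    refine le_antisymm ?_ hle
    conv_lhs => rw [hA]
    refine ncl_le ((le_inf hQY inf_le_right).trans le_sup_left) (hgen.ge.trans (sup_le ?_ ?_))
    · exact le_NN_of_comm_le_of_le (hc1.trans le_sup_left) hle
    · exact le_NN_of_comm_le_of_le (hc2.trans le_sup_right) hle
  have hUc : U ≤ CC(U) := inf_le_right.trans (hYc.trans (CC_anti inf_le_right))
  have hUc' : U' ≤ CC(U') := inf_le_right.trans (hYc'.trans (CC_anti inf_le_right))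
  have hl : U ≤ NN(⁅U, U'⁆) := left_le_NN_comm _ _
  have hr : U' ≤ NN(⁅U, U'⁆) := right_le_NN_comm _ _
  have h3 : ⁅U, A⁆ = ⁅U, U'⁆ := by
    refine le_antisymm ?_ (Subgroup.commutator_mono le_rfl inf_le_left)
    conv_lhs => rw [hAe]
    exact comm_sup_le' hl hr (by rw [comm_eq_bot.2 hUc]; exact bot_le) le_rfl
  have h3' : ⁅U', A⁆ ≤ ⁅U, U'⁆ := by
    conv_lhs => rw [hAe]
    exact comm_sup_le' hl hr (Subgroup.commutator_comm_le _ _)
      (by rw [comm_eq_bot.2 hUc']; exact bot_le)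
  have h2 : ⁅A, A⁆ = ⁅U, A⁆ := by
    refine le_antisymm ?_ (Subgroup.commutator_mono inf_le_left le_rfl)
    rw [h3]
    nth_rewrite 1 [hAe]
    exact comm_sup_le hl hr h3.le h3'
  have hZA : Y ⊓ Subgroup.center L ≤ A := by
    refine le_trans (le_inf ?_ inf_le_left) hQY
    have : (Y ⊓ Subgroup.center L).Normal := normal_of_top_le_NN
      ((le_CC_symm (inf_le_right.trans CC_top.ge)).trans (CC_le_NN _))
    exact le_pCore' ((elab_isPGroup hYel).to_le inf_le_left)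
  have h6 : U ⊓ U' = Y ⊓ Subgroup.center L := by
    rw [← h5]
    exact le_antisymm (inf_le_inf inf_le_right inf_le_right)
      (le_inf (le_inf (h5.le.trans hZA) inf_le_left) (le_inf (h5.le.trans hZA) inf_le_right))
  have h4 : ⁅U, A⁆ ≤ Y ⊓ Subgroup.center L := by
    rw [h3, ← h6]
    exact le_inf (comm_le_left (inf_le_left.trans (hAQ.trans hUn)))
      (comm_le_right (inf_le_left.trans (hAQ.trans hUn')))
  have hAp : IsPGroup p A := isPGroup_pCore'.to_le hAQ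
  refine ⟨le_antisymm (frOf_le_of (p := p) le_rfl fun x hx => ?_) (comm_le_frOf hAp), h2, h3, h4, h5,
    h6, le_antisymm (fun x hx => ⟨?_, hx.2⟩) (le_inf hZA inf_le_right)⟩
  · obtain ⟨a, ha, b, hb, rfl⟩ := (mem_sup_of_NN (inf_le_left.trans (hAQ.trans hUn'))).1 (hAe.le hx)
    have h7 : ((⟨a, ha.1⟩ * ⟨b, hb.1⟩ : A) ^ p) ∈ commutator A := by
      rw [← Abelianization.ker_of, MonoidHom.mem_ker, map_pow, map_mul, mul_pow, ← map_pow, ← map_pow,
        show (⟨a, ha.1⟩ : A) ^ p = 1 from Subtype.ext (hYel.2 a ha.2),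
        show (⟨b, hb.1⟩ : A) ^ p = 1 from Subtype.ext (hY'.2 b hb.2), map_one, mul_one]
    have h8 := Subgroup.mem_map_of_mem A.subtype h7
    rwa [commutator_def, Subgroup.map_commutator, map_top_subtype] at h8
  · obtain ⟨a, ha, b, hb, rfl⟩ := (mem_sup_of_NN (inf_le_left.trans (hAQ.trans hUn'))).1 (hAe.le hx.1)
    have h7 : b ∈ Subgroup.center L := by
      rw [← CC_top, ← hgen, CC_sup]
      refine ⟨?_, hYc' hb.2⟩
      have := Subgroup.mul_mem _ (Subgroup.inv_mem _ (hYc ha.2))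
        (Subgroup.center_le_centralizer (Y : Set L) hx.2)
      simpa using this
    refine Y.mul_mem ha.2 ?_
    have h8 := mem_cj.1 hb.2
    rwa [mul_assoc, ← Subgroup.mem_center_iff.1 h7 g, inv_mul_cancel_left] at h8

end Cfsg.Agent.S2837
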