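import Cfsg.Statements.S2838
import Cfsg.Agent.H10.WC

set_option autoImplicit false
open Cfsg H10

namespace Cfsg.Agent.S2838

/-- For a nontrivial p-subgroup Q of a finite group H the following are equivalent: Q is a weakly closed subgroup (it is the only H-conjugate of itself inside some Sylow p-subgroup containing it); Q = P for every conjugate P of Q with [Q, P] ≤ Q ∩ P; Q is normal in N_H(R) for every p-subgroup R of H containing Q. -/
theorem result {H : Type*} [Group H] [Finite H] {p : ℕ} [Fact p.Prime] (Q : Subgroup H) (hQp : IsPGroup p ↥Q) (hQ1 : Q ≠ ⊥) : (Cfsg.IsWeaklyClosedSubgroup p Q ↔ ∀ g : H, ⁅Q, ((Q : Subgroup H).map (MulAut.conj (g : H)).toMonoidHom)⁆ ≤ Q ⊓ ((Q : Subgroup H).map (MulAut.conj (g : H)).toMonoidHom) → ((Q : Subgroup H).map (MulAut.conj (g : H)).toMonoidHom) = Q) ∧ (Cfsg.IsWeaklyClosedSubgroup p Q ↔ ∀ R : Subgroup H, IsPGroup p ↥R → Q ≤ R → Subgroup.normalizer ((R : Subgroup H) : Set H) ≤ Subgroup.normalizer ((Q : Subgroup H) : Set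 H)) := by
  simp only [cj_def]
  rw [wc_iff hQp]
  refine ⟨⟨fun h g hg => ?_, fun h => wcIn_of_comm fun g h1 h2 =>
    h g (le_inf (comm_le_left h2) (comm_le_right h1))⟩,
    ⟨fun h R h1 h2 => (le_inf le_top le_rfl).trans (h.NN_le h1 h2 le_top), wcIn_of_NN hQp⟩⟩
  have h1 : Q ≤ NN(cj g Q) := le_NN_of_comm_le_right (hg.trans inf_le_right)
  exact h _ (isPGroup_sup_of_NN hQp (isPGroup_cj g hQp) h1) le_sup_left le_top g trivial le_sup_right

end Cfsg.Agent.S2838
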