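import Cfsg.Statements.S2839
import Cfsg.Agent.H10.WC

set_option autoImplicit false
open Cfsg H10

namespace Cfsg.Agent.S2839

/-- Let Q be a nontrivial p-subgroup of the finite group H that is a weakly closed subgroup, K a subgroup containing Q and N a normal subgroup of H. Then Q is a weakly closed subgroup of K; every H-conjugate of Q contained in K is a K-conjugate of Q; N_K(Q) contains a Sylow p-subgroup of K; N = N_N(Q)·O^p(N); and QN/N is a weakly closed subgroup of H/N. -/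
theorem result {H : Type*} [Group H] [Finite H] {p : ℕ} [Fact p.Prime] (Q : Subgroup H) (hQp : IsPGroup p ↥Q) (hQ1 : Q ≠ ⊥) (hwc : Cfsg.IsWeaklyClosedSubgroup p Q) (K : Subgroup H) (hQK : Q ≤ K) (N' : Subgroup H) [N'.Normal] : Cfsg.IsWeaklyClosedSubgroup p (Q.subgroupOf K) ∧ (∀ g : H, ((Q : Subgroup H).map (MulAut.conj (g : H)).toMonoidHom) ≤ K → ∃ k ∈ K, ((Q : Subgroup H).map (MulAut.conj (g : H)).toMonoidHom) = ((Q : Subgroup H).map (MulAut.conj (k : H)).toMonoidHom)) ∧ Cfsg.IsParabolic p ((Subgroup.normalizer ((Q : Subgroup H) : Set H)).subgroupOf K) ∧ (N' ⊓ Subgroup.normalizer ((Q : Subgroup H) : Set H)) ⊔ (Cfsg.pResidual p ↥N').map N'.subtype = N' ∧ Cfsg.IsWeaklyClosedSubgroup p (Q.map (QuotientGroup.mk' N')) := by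
  simp only [cj_def, resOf_def]
  have h := (wc_iff hQp).1 hwc
  refine ⟨(wc_subgroupOf_iff hQp hQK).2 (h.mono le_top),
    fun g hg => h.exists_cj hQp hQK le_top trivial hg, ?_, ?_, ?_⟩
  · obtain ⟨T, hT, -, h2⟩ := h.exists_sylow hQp hQK le_top
    exact isParabolic_subgroupOf hT h2
  · obtain ⟨T, hT, -, h2⟩ := h.exists_sylow hQp le_top le_top
    have hT' := hT.inf_normal (N := N') le_top (le_NN_of_normal _ _)
    refine le_antisymm (sup_le inf_le_left (resOf_le _)) ?_
    exact hT'.le_of_resOf_le le_sup_right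
      ((le_inf inf_le_right (inf_le_left.trans h2)).trans le_sup_left)
  · rw [wc_iff (hQp.map _)]
    obtain ⟨T, hT, h1, h2⟩ := h.exists_sylow hQp le_top le_top
    refine wcIn_of_sylow (hT.map_top (QuotientGroup.mk'_surjective N')) fun g _ hg => ?_
    obtain ⟨g, rfl⟩ := QuotientGroup.mk'_surjective N' g
    rw [← map_cj] at hg ⊢
    have h3 : cj g Q ≤ T ⊔ N' := by
      have := Subgroup.map_le_iff_le_comap.1 hg
      rwa [Subgroup.comap_map_eq, QuotientGroup.ker_mk'] at this
    obtain ⟨k, hk, e⟩ := h.exists_cj hQp (h1.trans (le_sup_left : T ≤ T ⊔ N')) le_top trivial h3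
    obtain ⟨n, hn, t, ht, rfl⟩ := (mem_sup_of_NN' (le_NN_of_normal T N')).1 (sup_comm T N' ▸ hk)
    rw [e, cj_mul, cj_eq_of_mem_NN (h2 ht), map_cj]
    have : QuotientGroup.mk' N' n = 1 := (QuotientGroup.eq_one_iff n).2 hn
    rw [this, cj_one]

end Cfsg.Agent.S2839
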