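import Cfsg.Statements.S2840
import Cfsg.Agent.H10.WC

set_option autoImplicit false
open Cfsg H10

namespace Cfsg.Agent.S2840

/-- Let Q be a nontrivial p-subgroup of the finite group H that is a weakly closed subgroup and K a subgroup containing Q; let K° be the weak closure of Q in K (generated by the H-conjugates of Q inside K). Then K° is generated by the K-conjugates of Q, and K° is the subnormal closure of Q in K. -/
theorem result {H : Type*} [Group H] [Finite H] {p : ℕ} [Fact p.Prime] (Q : Subgroup H) (hQp : IsPGroup p ↥Q) (hQ1 : Q ≠ ⊥) (hwc : Cfsg.IsWeaklyClosedSubgroup p Q) (K : Subgroup H) (hQK : Q ≤ K) (Kc : Subgroup H) (hKc : Kc = Cfsg.weakClosure Q K) : Kc = ⨆ k : ↥K, ((Q : Subgroup H).map (MulAut.conj ((k : H) : H)).toMonoidHom) ∧ Kc = (Cfsg.subnormalClosure (Q.subgroupOf K)).map K.subtype := by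
  simp only [cj_def]
  have h := (wc_iff hQp).1 hwc
  have e : Kc = ncl Q K := hKc.trans (h.weakClosure_eq hQp hQK)
  refine ⟨e.trans (le_antisymm (ncl_le_iff.2 fun g hg =>
    le_iSup (fun k : K => cj (k : H) Q) ⟨g, hg⟩) (iSup_le fun k => cj_le_ncl Q k.2)), ?_⟩
  rw [e]
  refine le_antisymm (le_map_subtype_iff.2 ⟨ncl_le_of_le hQK, le_sInf fun S hS => ?_⟩) ?_
  · rw [← subgroupOf_map_subtype' S]
    exact Subgroup.comap_mono ((h.mono le_top).ncl_le_of_subn hQp (subnIn_map_subtype hS.2)
      (le_map_subtype_iff.2 ⟨hQK, hS.1⟩))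
  · exact map_subtype_le_iff.2 (sInf_le ⟨Subgroup.comap_mono (le_ncl Q K),
      (normal_subgroupOf (le_NN_ncl Q K)).isSubnormal⟩)

end Cfsg.Agent.S2840
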