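import Cfsg.Statements.S2841
import Cfsg.Agent.H10.WC

set_option autoImplicit false
open Cfsg H10

namespace Cfsg.Agent.S2841

/-- Let Q be a nontrivial p-subgroup of the finite group H that is a weakly closed subgroup and N a normal subgroup of H. Then N = N_N(Q)·[N, Q] and [N, Q] = (Q ∩ [N, Q])·[N, Q, Q]. -/
theorem result {H : Type*} [Group H] [Finite H] {p : ℕ} [Fact p.Prime] (Q : Subgroup H) (hQp : IsPGroup p ↥Q) (hQ1 : Q ≠ ⊥) (hwc : Cfsg.IsWeaklyClosedSubgroup p Q) (N' : Subgroup H) [N'.Normal] : (∀ n : H, n ∈ N' → ∃ a ∈ N' ⊓ Subgroup.normalizer ((Q : Subgroup H) : Set H), ∃ b ∈ ⁅N', Q⁆, n = a * b) ∧ (∀ c : H, c ∈ ⁅N', Q⁆ → ∃ a ∈ Q ⊓ ⁅N', Q⁆, ∃ b ∈ ⁅⁅N', Q⁆, Q⁆, c = a * b) := by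
  have h := (wc_iff hQp).1 hwc
  have h1 : ∀ n : H, n ∈ N' → ∃ a ∈ N' ⊓ NN(Q), ∃ b ∈ ⁅N', Q⁆, n = a * b := by
    intro n hn
    obtain ⟨k, hk, e⟩ := h.exists_cj hQp (le_ncl Q N') le_top (g := n⁻¹) trivial
      (cj_le_ncl Q (N'.inv_mem hn))
    rw [ncl_eq_comm_sup] at hk
    obtain ⟨b, hb, q, hq, rfl⟩ := (mem_sup_of_NN' (right_le_NN_comm N' Q)).1 hk
    rw [cj_mul, cj_eq_of_mem hq, cj_eq_iff, inv_inv, ← cj_mul] at e
    exact ⟨n * b, ⟨N'.mul_mem hn (comm_le_left (le_NN_of_normal _ _) hb), mem_NN.2 e.symm⟩,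
      b⁻¹, inv_mem hb, by simp⟩
  refine ⟨h1, fun c hc => ?_⟩
  set C := ⁅N', Q⁆ with hC
  have hQC : Q ≤ NN(C) := right_le_NN_comm N' Q
  have hN : N' ⊓ NN(Q) ≤ NN(C) := inf_le_left.trans (left_le_NN_comm N' Q)
  have hn : Q ⊓ C ≤ NN(⁅C, Q⁆) := inf_le_right.trans (left_le_NN_comm C Q)
  have hDC : (Q ⊓ C) ⊔ ⁅C, Q⁆ ≤ C := sup_le inf_le_right (comm_le_left hQC)
  have h2 : N' ≤ (N' ⊓ NN(Q)) ⊔ C := fun n hn => by
    obtain ⟨a, ha, b, hb, rfl⟩ := h1 n hn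
    exact Subgroup.mul_mem_sup ha hb
  have h3 : C ≤ (Q ⊓ C) ⊔ ⁅C, Q⁆ := by
    refine (Subgroup.commutator_mono h2 le_rfl).trans (comm_sup_le ?_ ?_ ?_ le_sup_right)
    · exact le_NN_sup (le_NN_inf inf_le_right hN) (le_NN_commutator hN inf_le_right)
    · have e : (Q ⊓ C) ⊔ ⁅C, Q⁆ = ncl (Q ⊓ C) C ⊔ ⁅C, Q⁆ := by
        rw [ncl_eq_comm_sup]
        exact le_antisymm (sup_le_sup_right le_sup_right _) (sup_le (sup_le
          ((Subgroup.commutator_mono le_rfl inf_le_left).trans le_sup_right) le_sup_left) le_sup_right)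
      rw [e]
      exact le_NN_sup (le_NN_ncl _ _) (left_le_NN_comm C Q)
    · exact (le_inf (comm_le_right inf_le_right)
        (Subgroup.commutator_mono inf_le_left le_rfl)).trans le_sup_left
  obtain ⟨a, ha, b, hb, e⟩ := (mem_sup_of_NN hn).1 (h3 hc)
  exact ⟨a, ha, b, hb, e.symm⟩

end Cfsg.Agent.S2841
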