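import Cfsg.Statements.S2842
import Cfsg.Agent.H10.WC

set_option autoImplicit false
open Cfsg H10

namespace Cfsg.Agent.S2842

/-- Let Q be a nontrivial p-subgroup of the finite group H that is a weakly closed subgroup with C_H(Q) ≤ Q, and Q ≤ L ≤ H. Suppose H has characteristic p, or more generally that C_H(y) has characteristic p for some nonidentity y ∈ C_{O_p(L)}(Q). Then [Q, C_H(O_p(L))] ≤ Q ∩ O_p(L), C_H(O_p(L)) is a p-group, and L has characteristic p. -/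
theorem result {H : Type*} [Group H] [Finite H] {p : ℕ} [Fact p.Prime] (Q : Subgroup H) (hQp : IsPGroup p ↥Q) (hQ1 : Q ≠ ⊥) (hwc : Cfsg.IsWeaklyClosedSubgroup p Q) (hCQ : Subgroup.centralizer ((Q : Subgroup H) : Set H) ≤ Q) (L : Subgroup H) (hQL : Q ≤ L) (hyp : Subgroup.centralizer (Cfsg.pCore p H : Set H) ≤ Cfsg.pCore p H ∨ ∃ y : H, y ≠ 1 ∧ y ∈ (Cfsg.pCoreOf p L) ⊓ Subgroup.centralizer ((Q : Subgroup H) : Set H) ∧ Subgroup.centralizer (Cfsg.pCore p ↥(Subgroup.centralizer ({y} : Set H)) : Set ↥(Subgroup.centralizer ({y} : Set H))) ≤ Cfsg.pCore p ↥(Subgroup.centralizer ({y} : Set H))) : ⁅Q, Subgroup.centralizer (((Cfsg.pCoreOf p L) : Subgroup H) : Set H)⁆ ≤ Q ⊓ (Cfsg.pCoreOf p L) ∧ IsPGroup p ↥(Subgroup.centralizer (((Cfsg.pCoreOf p L) : Subgroup H) : Set H)) ∧ Subgroup.centralizer (Cfsg.pCore p ↥L : Set ↥L) ≤ Cfsg.pCore p ↥L := by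
  have h := (wc_iff hQp).1 hwc
  have hn : L ≤ NN(CC(pCoreOf p L)) := le_NN_CC (le_NN_pCoreOf L)
  have hc : CharPIn p CC(pCoreOf p L) := by
    rcases hyp with hyp | ⟨y, -, hy, hyp⟩
    · simpa using (charPIn_top.2 hyp).inf_CC le_top (isPGroup_pCoreOf L)
    · refine CharPIn.CC_of_le (U := Subgroup.zpowers y) ?_ (isPGroup_pCoreOf L)
        (Subgroup.zpowers_le_of_mem hy.1)
      rw [CC_zpowers]; exact charPIn_iff.2 hyp
  have h1 := comm_le_of_le_NN hQp hCQ hQL le_rfl hn (h.le_NN_of_charP hQp hQL le_rfl hn hc)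
  exact ⟨h1.1, h1.2, charPIn_iff.1 (charPIn_of_isPGroup_CC (h1.2.to_le inf_le_right))⟩

end Cfsg.Agent.S2842
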