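import Cfsg.Statements.S2843
import Cfsg.Agent.H10.WC

set_option autoImplicit false
open Cfsg H10

namespace Cfsg.Agent.S2843

/-- Let Q be a nontrivial large p-subgroup of the finite group H, Q ≤ L ≤ H, and Y a nontrivial p-subgroup of H normalized by L. Let L° be the weak closure of Q in L (generated by the conjugates of Q inside L). Then L° equals the weak closure of Q in L·C_H(Y), and [L°, C_H(Y)] ≤ O_p(L°); in particular C_H(Y) normalizes L°. -/
theorem result {H : Type*} [Group H] [Finite H] {p : ℕ} [Fact p.Prime] (Q : Subgroup H) (hQp : IsPGroup p ↥Q) (hQ1 : Q ≠ ⊥) (hL : Cfsg.IsLarge Q) (L : Subgroup H) (hQL : Q ≤ L) (Y : Subgroup H) (hYp : IsPGroup p ↥Y) (hY1 : Y ≠ ⊥) (hLY : L ≤ Subgroup.normalizer ((Y : Subgroup H) : Set H)) : Cfsg.weakClosure Q L = Cfsg.weakClosure Q (L ⊔ Subgroup.centralizer ((Y : Subgroup H) : Set H)) ∧ ⁅Cfsg.weakClosure Q L, Subgroup.centralizer ((Y : Subgroup H) : Set H)⁆ ≤ (Cfsg.pCoreOf p (Cfsg.weakClosure Q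 L)) ∧ Subgroup.centralizer ((Y : Subgroup H) : Set H) ≤ Subgroup.normalizer (((Cfsg.weakClosure Q L) : Subgroup H) : Set H) := by
  have e := large_weakClosure_sup hL hQp hQ1 hQL hYp hY1 hLY
  have h3 : CC(Y) ≤ NN(weakClosure Q L) :=
    e ▸ le_sup_right.trans ((le_NN_self _).trans (NN_le_NN_weakClosure Q _))
  refine ⟨e, ?_, h3⟩
  have hW : weakClosure Q L = ncl Q L := (large_wc hL hQp hQ1).weakClosure_eq hQp hQL
  have hC : CC(Y) ≤ NN(Q) := large_CC_le hL hQp hYp hY1 (hQL.trans hLY)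
  have hLW : L ≤ NN(weakClosure Q L) := (le_NN_self _).trans (NN_le_NN_weakClosure Q _)
  have hWL := weakClosure_le Q L
  have hQW : Q ≤ weakClosure Q L := le_weakClosure hQL
  set W := weakClosure Q L
  have h1 : ⁅Q, CC(Y)⁆ ≤ pCoreOf p W := by
    have h2 : SubnIn (CC(Y) ⊓ W) W :=
      subnIn_of_normal inf_le_right (le_NN_inf (hWL.trans (le_NN_CC hLY)) (le_NN_self W))
    refine le_trans ?_ h2.pCoreOf_le
    refine le_trans (le_inf (comm_le_left hC) (le_inf (comm_le_right (le_NN_CC (hQL.trans hLY)))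
      ((comm_le_left hC).trans hQW))) ?_
    exact le_pCoreOf (hQp.to_le inf_le_left) inf_le_right
      (le_NN_inf (inf_le_left.trans hC) (le_NN_self _))
  conv_lhs => rw [hW]
  exact comm_ncl_le h1 (hQW.trans (le_NN_pCoreOf W)) (le_NN_CC hLY) (le_NN_pCoreOf' hLW)

end Cfsg.Agent.S2843
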