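import Cfsg.Statements.S2844
import Cfsg.Agent.H10.WC

set_option autoImplicit false
open Cfsg H10

namespace Cfsg.Agent.S2844

/-- Let Q be a nontrivial large p-subgroup of the finite group H and Q• = O_p(N_H(Q)). Then for every g ∈ H outside N_H(Q): C_H(Q) ∩ C_H(gQg⁻¹) = 1, C_H(Q•) ∩ C_H(gQ•g⁻¹) = 1, Z(Q) ∩ Z(gQg⁻¹) = 1 and Z(Q•) ∩ Z(gQ•g⁻¹) = 1; moreover N_H(Q) = N_H(Q•) and Q• is large in H. -/
theorem result {H : Type*} [Group H] [Finite H] {p : ℕ} [Fact p.Prime] (Q : Subgroup H) (hQp : IsPGroup p ↥Q) (hQ1 : Q ≠ ⊥) (hL : Cfsg.IsLarge Q) (Qb : Subgroup H) (hQb : Qb = Cfsg.largeBullet p Q) : (∀ g : H, g ∉ Subgroup.normalizer ((Q : Subgroup H) : Set H) → Subgroup.centralizer ((Q : Subgroup H) : Set H) ⊓ Subgroup.centralizer ((((Q : Subgroup H).map (MulAut.conj (g : H)).toMonoidHom) : Subgroup H) : Set H) = ⊥ ∧ Subgroup.centralizer ((Qb : Subgroup H) : Set H) ⊓ Subgroup.centralizer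 ((((Qb : Subgroup H).map (MulAut.conj (g : H)).toMonoidHom) : Subgroup H) : Set H) = ⊥ ∧ (Q ⊓ Subgroup.centralizer ((Q : Subgroup H) : Set H)) ⊓ (((Q : Subgroup H).map (MulAut.conj (g : H)).toMonoidHom) ⊓ Subgroup.centralizer ((((Q : Subgroup H).map (MulAut.conj (g : H)).toMonoidHom) : Subgroup H) : Set H)) = ⊥ ∧ (Qb ⊓ Subgroup.centralizer ((Qb : Subgroup H) : Set H)) ⊓ (((Qb : Subgroup H).map (MulAut.conj (g : H)).toMonoidHom) ⊓ Subgroup.centralizer ((((Qb : Subgroup H).map (MulAut.conj (g : H)).toMonoidHom) : Subgroup H) : Set H)) = ⊥) ∧ Subgroup.normalizer ((Q : Subgroup H) : Set H) = Subgroup.normalizer ((Qb : Subgroup H) : Set H) ∧ Cfsg.IsLarge Qb := by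
  simp only [cj_def]
  have e : Qb = pCoreOf p NN(Q) := hQb
  have hle : Q ≤ Qb := e ▸ le_pCoreOf hQp (le_NN_self Q) le_rfl
  have hp' : IsPGroup p Qb := e ▸ isPGroup_pCoreOf _
  have hN : NN(Q) = NN(Qb) := le_antisymm (e ▸ le_NN_pCoreOf _)
    ((le_inf le_top le_rfl).trans ((large_wc hL hQp hQ1).NN_le hp' hle le_top))
  refine ⟨fun g hg => ?_, hN, (CC_anti hle).trans (hL.1.trans hle),
    fun U hU h0 => hN ▸ hL.2 U (hU.trans (CC_anti hle)) h0⟩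
  have h1 : CC(Q) ⊓ CC(cj g Q) = ⊥ := by
    by_contra h
    exact hg (mem_NN.2 (large_mem_NN hL hQp hQ1 h))
  have h2 : CC(Qb) ⊓ CC(cj g Qb) = ⊥ :=
    eq_bot_iff.2 (h1 ▸ inf_le_inf (CC_anti hle) (CC_anti (cj_mono g hle)))
  exact ⟨h1, h2, eq_bot_iff.2 (h1 ▸ inf_le_inf inf_le_right inf_le_right),
    eq_bot_iff.2 (h2 ▸ inf_le_inf inf_le_right inf_le_right)⟩

end Cfsg.Agent.S2844
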