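import Cfsg.Statements.S2845
import Cfsg.Agent.H10.WC

set_option autoImplicit false
open Cfsg H10

namespace Cfsg.Agent.S2845

/-- Let Q be a nontrivial large p-subgroup of the finite group H. Then for every subgroup L ≥ Q with O_p(L) ≠ 1, C_H(O_p(L)) is a p-group and L has characteristic p, and either the weak closure L° of Q in L equals Q or C_H(L°) = 1; for every subgroup R of H containing a Sylow p-subgroup of H with O_p(R) ≠ 1, C_H(O_p(R)) ≤ O_p(R); and H has parabolic characteristic p. -/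
theorem result {H : Type*} [Group H] [Finite H] {p : ℕ} [Fact p.Prime] (Q : Subgroup H) (hQp : IsPGroup p ↥Q) (hQ1 : Q ≠ ⊥) (hL : Cfsg.IsLarge Q) : (∀ L : Subgroup H, Q ≤ L → Cfsg.pCore p ↥L ≠ ⊥ → IsPGroup p ↥(Subgroup.centralizer (((Cfsg.pCoreOf p L) : Subgroup H) : Set H)) ∧ Subgroup.centralizer (Cfsg.pCore p ↥L : Set ↥L) ≤ Cfsg.pCore p ↥L ∧ (Cfsg.weakClosure Q L = Q ∨ Subgroup.centralizer (((Cfsg.weakClosure Q L) : Subgroup H) : Set H) = ⊥)) ∧ (∀ R : Subgroup H, Cfsg.IsParabolic p R → Cfsg.pCore p ↥R ≠ ⊥ → Subgroup.centralizer (((Cfsg.pCoreOf p R) : Subgroup H) : Set H) ≤ (Cfsg.pCoreOf p R)) ∧ Cfsg.IsOfParabolicCharacteristic p H := by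
  refine ⟨fun L hQL h0 => ?_, fun R ⟨T, hT⟩ h0 => large_parabolic hL hQp (isSylowIn_top T) hT
    (mt pCoreOf_eq_bot_iff.1 h0), fun R hR h0 ⟨T, hT⟩ => ?_⟩
  · have h1 := large_isPGroup_CC hL hQp hQL (mt pCoreOf_eq_bot_iff.1 h0)
    refine ⟨h1, charPIn_iff.1 (charPIn_of_isPGroup_CC (h1.to_le inf_le_right)), ?_⟩
    by_cases h : CC(weakClosure Q L) = ⊥
    · exact Or.inr h
    refine Or.inl (le_antisymm (weakClosure_le_iff.2 fun g hg => le_of_eq ?_) (le_weakClosure hQL))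
    exact large_mem_NN hL hQp hQ1 fun e => h (eq_bot_iff.2 (e ▸ le_inf
      (CC_anti (le_weakClosure hQL)) (CC_anti (cj_le_weakClosure hg))))
  · refine charPIn_iff.1 (inf_le_right.trans (large_parabolic hL hQp (isSylowIn_top T) hT
      fun e => h0 (eq_bot_iff.2 (e ▸ le_pCoreOf hR (le_NN_self R) le_rfl))))

end Cfsg.Agent.S2845
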