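import Cfsg.Statements.S2847
import Cfsg.Agent.H10.FrakM
import Cfsg.Agent.S2824

set_option autoImplicit false
open Cfsg H10

namespace Cfsg.Agent.S2847

/-- Let H be a finite group of parabolic characteristic p, T a Sylow p-subgroup and L a subgroup containing T with O_p(L) ≠ 1 and C_H(O_p(L)) ≤ O_p(L). Then there are M ≥ T with the basic property (M ∈ 𝔐_H) and L* with T ≤ L* ≤ M, O_p(L*) ≠ 1, C_H(O_p(L*)) ≤ O_p(L*), such that Y_L = Y_{L*} ≤ Y_M and L·C_H(Y_L) = L*·C_H(Y_L), Y denoting largest p-reduced normal subgroups. -/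
theorem result {H : Type*} [Group H] [Finite H] {p : ℕ} [Fact p.Prime] (hH : Cfsg.IsOfParabolicCharacteristic p H) (T : Sylow p H) (L : Subgroup H) (hTL : (T : Subgroup H) ≤ L) (hL : L ∈ Cfsg.charPSubgroups p H) : ∃ M Ls : Subgroup H, (T : Subgroup H) ≤ M ∧ Cfsg.IsInFrakM p M ∧ (T : Subgroup H) ≤ Ls ∧ Ls ≤ M ∧ Ls ∈ Cfsg.charPSubgroups p H ∧ (Cfsg.largestPReducedOf p L) = (Cfsg.largestPReducedOf p Ls) ∧ (Cfsg.largestPReducedOf p L) ≤ (Cfsg.largestPReducedOf p M) ∧ L ⊔ Subgroup.centralizer (((Cfsg.largestPReducedOf p L) : Subgroup H) : Set H) = Ls ⊔ Subgroup.centralizer (((Cfsg.largestPReducedOf p L) : Subgroup H) : Set H) := by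
  have hT := isSylowIn_top T
  obtain ⟨M, hTM, hM, h1, h2⟩ := exists_frakM hH hT hTL hL
  have h3 : (T : Subgroup H) ≤ dag p L ⊓ M := le_inf (hTL.trans le_sup_left) hTM
  have hMc := frakM_charP hM
  have hTM' := hT.of_le hTM le_top
  obtain ⟨h4, h5⟩ := S2824.result T L (dag p L ⊓ M) hTL h3 (charPIn_iff.1 (charPIn_of_mem hL))
    (charPIn_iff.1 (hMc.of_sylow_le hTM' h3 inf_le_right)) _ rfl h2 _ rfl
  have h6 : (T : Subgroup H) ≤ (dag p L ⊓ M) ⊓ NN((T : Subgroup H) ⊓ CC(YOf p L)) :=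
    le_inf h3 (le_NN_inf (le_NN_self _) (le_NN_CC (hTL.trans (pRed_YOf L).nn)))
  have h7 : (dag p L ⊓ M) ⊓ NN((T : Subgroup H) ⊓ CC(YOf p L)) ≤ M := inf_le_left.trans inf_le_right
  exact ⟨M, _, hTM, hM, h6, h7, mem_charP_of_parabolic hH hT h6 fun e => (mem_charP_iff.1 hM.1).1
    (eq_bot_iff.2 (e ▸ pCoreOf_le_of_le h7 (hTM'.pCoreOf_le.trans h6))), h4.symm, h1, h5⟩

end Cfsg.Agent.S2847
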