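import Cfsg.Statements.S2846
import Cfsg.Agent.H10.FrakM
import Cfsg.Agent.S2847

set_option autoImplicit false
open Cfsg H10

namespace Cfsg.Agent.S2846

/-- Let Q be a nontrivial large p-subgroup of the finite group H, S a Sylow p-subgroup containing Q, and L a subgroup containing S with O_p(L) ≠ 1 and C_H(O_p(L)) ≤ O_p(L). Then there are a subgroup M containing S having the basic property (M ∈ 𝔐_H, writing Y_X for the largest p-reduced normal subgroup of X and 𝓛_H for the set of subgroups X with O_p(X) ≠ 1 and C_H(O_p(X)) ≤ O_p(X): M ∈ 𝓛_H, M·C_H(Y_M) is the only maximal member of 𝓛_H containing M and its largest p-reduced normal subgroup is again Y_M, C_M(Y_M) is p-closed, and the image of C_M(Y_M) in M/O_p(M) lies in the Frattini subgroup of M/O_p(M)) and a subgroup L* with S ≤ L* ≤ M, O_p(L*) ≠ 1, C_H(O_p(L*)) ≤ O_p(L*), such that L·C_H(Y_L) = L*·C_H(Y_L), the weak closures of Q in L and in L* agree and lie in that of M,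 and Y_L = Y_{L*} ≤ Y_M. If moreover Q is not normal in L, then Q is normal in neither L* nor M. -/
theorem result {H : Type*} [Group H] [Finite H] {p : ℕ} [Fact p.Prime] (Q : Subgroup H) (hQp : IsPGroup p ↥Q) (hQ1 : Q ≠ ⊥) (hLg : Cfsg.IsLarge Q) (S : Sylow p H) (hQS : Q ≤ (S : Subgroup H)) (L : Subgroup H) (hSL : (S : Subgroup H) ≤ L) (hL : L ∈ Cfsg.charPSubgroups p H) : ∃ M Ls : Subgroup H, (S : Subgroup H) ≤ M ∧ Cfsg.IsInFrakM p M ∧ (S : Subgroup H) ≤ Ls ∧ Ls ≤ M ∧ Ls ∈ Cfsg.charPSubgroups p H ∧ L ⊔ Subgroup.centralizer (((Cfsg.largestPReducedOf p L) : Subgroup H) : Set H) = Ls ⊔ Subgroup.centralizer (((Cfsg.largestPReducedOf p L) : Subgroup H) : Set H) ∧ Cfsg.weakClosure Q L = Cfsg.weakClosure Q Ls ∧ Cfsg.weakClosure Q Ls ≤ Cfsg.weakClosure Q M ∧ (Cfsg.largestPReducedOf p L) = (Cfsg.largestPReducedOf p Ls) ∧ (Cfsg.largestPReducedOf p Ls) ≤ (Cfsg.largestPReducedOf p M) ∧ (¬ L ≤ Subgroup.normalizer ((Q : Subgroup H) : Set H)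 → ¬ Ls ≤ Subgroup.normalizer ((Q : Subgroup H) : Set H) ∧ ¬ M ≤ Subgroup.normalizer ((Q : Subgroup H) : Set H)) := by
  obtain ⟨M, Ls, h1, h2, h3, h4, h5, h6, h7, h8⟩ :=
    S2847.result (large_parabolicChar hLg hQp) S L hSL hL
  have hY := pRed_YOf (p := p) L
  have hY0 := YOf_ne_bot (charPIn_of_mem hL) (mem_charP_iff.1 hL).1
  have hn : Ls ≤ NN(YOf p L) := le_sup_left.trans (h8.ge.trans (dag_le_NN L))
  have e1 := large_weakClosure_sup hLg hQp hQ1 (hQS.trans hSL) hY.isPGroup hY0 hY.nn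
  have e2 := large_weakClosure_sup hLg hQp hQ1 (hQS.trans h3) hY.isPGroup hY0 hn
  refine ⟨M, Ls, h1, h2, h3, h4, h5, h8, e1.trans ((congrArg _ h8).trans e2.symm),
    weakClosure_mono Q h4, h6, h6 ▸ h7, fun h => ?_⟩
  have : ¬ Ls ≤ NN(Q) := fun h' => h (le_sup_left.trans (h8.le.trans (sup_le h'
    (large_CC_le hLg hQp hY.isPGroup hY0 ((hQS.trans hSL).trans hY.nn)))))
  exact ⟨this, fun h' => this (h4.trans h')⟩

end Cfsg.Agent.S2846
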