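import Cfsg.Statements.S2849
import Cfsg.Agent.H10.FrakM

set_option autoImplicit false
open Cfsg H10

namespace Cfsg.Agent.S2849

/-- Standing hypotheses: G a finite group, S a Sylow p-subgroup, Q a nontrivial large p-subgroup of G contained in S (C_G(Q) ≤ Q and N_G(U) ≤ N_G(Q) for all nontrivial U ≤ C_G(Q)), and M a subgroup containing S with the basic property (M ∈ 𝔐_G(S)); Y_M denotes the largest p-reduced normal subgroup of M and M† = M·C_G(Y_M). Suppose Y_M is asymmetric in G. Then for every subgroup R with Y_M ≤ R ≤ M†, the normal closure of Y_M in N_G(R) is elementary abelian. -/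
theorem result {G : Type*} [Group G] [Finite G] {p : ℕ} [Fact p.Prime] (S : Sylow p G) (Q : Subgroup G) (hQp : IsPGroup p ↥Q) (hQ1 : Q ≠ ⊥) (hQS : Q ≤ (S : Subgroup G)) (hQ : Cfsg.IsLarge Q) (M : Subgroup G) (hSM : (S : Subgroup G) ≤ M) (hM : Cfsg.IsInFrakM p M) (hasym : ¬ Cfsg.IsSymmetricIn (Cfsg.largestPReducedOf p M)) (R : Subgroup G) (hYR : (Cfsg.largestPReducedOf p M) ≤ R) (hRM : R ≤ (M ⊔ Subgroup.centralizer (((Cfsg.largestPReducedOf p M) : Subgroup G) : Set G))) : Cfsg.IsElementaryAbelian p ((Subgroup.normalClosure ((((Cfsg.largestPReducedOf p M)).subgroupOf (Subgroup.normalizer ((R : Subgroup G) : Set G)) : Subgroup ↥(Subgroup.normalizer ((R : Subgroup G) : Set G))) : Set ↥(Subgroup.normalizer ((R : Subgroup G) : Set G)))).map (Subgroup.normalizer ((R : Subgroup G) : Set G)).subtype) := by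
  have hY := pRed_YOf (p := p) M
  rw [ncl_eq_map (hYR.trans (le_NN_self R))]
  have e : ncl (YOf p M) NN(R) = ⨆ g : NN(R), cj (g : G) (YOf p M) :=
    le_antisymm (ncl_le_iff.2 fun g hg => le_iSup (fun k : NN(R) => cj (k : G) (YOf p M)) ⟨g, hg⟩)
      (iSup_le fun k => cj_le_ncl _ k.2)
  have h1 : ∀ a b : NN(R), cj (a : G) (YOf p M) ≤ NN(cj (b : G) (YOf p M)) := fun a b => by
    refine (cj_le_of_mem_NN a.2 hYR).trans ?_
    rw [← cj_normalizer]
    exact (cj_eq_of_mem_NN b.2).ge.trans (cj_mono _ (hRM.trans (dag_le_NN M)))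
  rw [e]
  exact elab_iSup (fun g => (elab_cj (g : G) hY.ea).2) fun a b =>
    asym_le_CC hasym _ _ (h1 a b) (h1 b a)

end Cfsg.Agent.S2849
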