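import Cfsg.Statements.S2850
import Cfsg.Agent.H10.FrakM

set_option autoImplicit false
open Cfsg H10

namespace Cfsg.Agent.S2850

/-- Standing hypotheses: G a finite group, S a Sylow p-subgroup, Q a nontrivial large p-subgroup of G contained in S (C_G(Q) ≤ Q and N_G(U) ≤ N_G(Q) for all nontrivial U ≤ C_G(Q)), and M a subgroup containing S with the basic property (M ∈ 𝔐_G(S)); Y_M denotes the largest p-reduced normal subgroup of M and M† = M·C_G(Y_M). Suppose Y_M is asymmetric in G. Then N_G(L) ≤ N_G(O_p(M)) ≤ M† for every p-subgroup L containing O_p(M); O_p(M) is a weakly closed subgroup of G; for every subgroup L containing O_p(M), L ∩ M† contains a Sylow p-subgroup of L; and two elements of Y_M conjugate in G are conjugate in M. -/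
theorem result {G : Type*} [Group G] [Finite G] {p : ℕ} [Fact p.Prime] (S : Sylow p G) (Q : Subgroup G) (hQp : IsPGroup p ↥Q) (hQ1 : Q ≠ ⊥) (hQS : Q ≤ (S : Subgroup G)) (hQ : Cfsg.IsLarge Q) (M : Subgroup G) (hSM : (S : Subgroup G) ≤ M) (hM : Cfsg.IsInFrakM p M) (hasym : ¬ Cfsg.IsSymmetricIn (Cfsg.largestPReducedOf p M)) : (∀ L : Subgroup G, IsPGroup p ↥L → (Cfsg.pCoreOf p M) ≤ L → Subgroup.normalizer ((L : Subgroup G) : Set G) ≤ Subgroup.normalizer (((Cfsg.pCoreOf p M) : Subgroup G) : Set G) ∧ Subgroup.normalizer (((Cfsg.pCoreOf p M) : Subgroup G) : Set G) ≤ (M ⊔ Subgroup.centralizer (((Cfsg.largestPReducedOf p M) : Subgroup G) : Set G))) ∧ Cfsg.IsWeaklyClosedSubgroup p (Cfsg.pCoreOf p M) ∧ (∀ L : Subgroup G, (Cfsg.pCoreOf p M) ≤ L → Cfsg.IsParabolic p ((L ⊓ (M ⊔ Subgroup.centralizer (((Cfsg.largestPReducedOf p M) : Subgroup G) : Set G))).subgroupOf L)) ∧ (∀ x ∈ (Cfsg.largestPReducedOf p M), ∀ g : G, g * x * g⁻¹ ∈ (Cfsg.largestPReducedOf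 p M) → ∃ m ∈ M, m * x * m⁻¹ = g * x * g⁻¹) := by
  have hG := large_parabolicChar hQ hQp
  have hS := isSylowIn_top S
  have hwc := frakM_wc hG hM hS hSM hasym
  have hN := frakM_NN_core hG hM hS hSM
  have hY := pRed_YOf (p := p) M
  have hR := isPGroup_pCoreOf (p := p) M
  refine ⟨fun L hL h => ⟨(le_inf le_top le_rfl).trans (hwc.NN_le hL h le_top), hN⟩,
    (wc_iff hR).2 hwc, fun L h => ?_, fun x hx g hg => ?_⟩
  · obtain ⟨T, hT, -, h2⟩ := hwc.exists_sylow hR h le_top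
    exact isParabolic_subgroupOf hT (le_inf hT.le (h2.trans hN))
  · have h1 : ∀ y ∈ YOf p M, CC(YOf p M) ≤ Subgroup.centralizer {y} := fun y hy =>
      Subgroup.centralizer_le (by simpa using hy)
    obtain ⟨k, hk, e⟩ := hwc.exists_cj hR (hY.pCoreOf_le_CC.trans (h1 _ hg)) le_top (g := g) trivial
      (by rw [← cj_centralizer_singleton]; exact cj_mono g (hY.pCoreOf_le_CC.trans (h1 _ hx)))
    rw [eq_comm, cj_eq_iff, ← cj_mul] at e
    obtain ⟨m, hm, c, hc, e'⟩ := (mem_sup_of_NN (le_NN_CC hY.nn)).1 (hN (mem_NN.2 e.symm))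
    refine ⟨m, hm, ?_⟩
    have h2 : x * c = c * x := mem_CC.1 hc x hx
    have h3 : g * x * g⁻¹ * k = k * (g * x * g⁻¹) := by
      simpa using (Subgroup.mem_centralizer_iff.1 hk) _ rfl
    have h4 : m = k⁻¹ * g * c⁻¹ := by rw [← e']; simp
    calc m * x * m⁻¹ = k⁻¹ * g * (c⁻¹ * (x * c)) * g⁻¹ * k := by rw [h4]; group
      _ = k⁻¹ * (g * x * g⁻¹ * k) := by rw [h2]; group
      _ = g * x * g⁻¹ := by rw [h3]; group

end Cfsg.Agent.S2850
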