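import Cfsg.Statements.S2851
import Cfsg.Agent.H10.FrakM

set_option autoImplicit false
open Cfsg H10

namespace Cfsg.Agent.S2851

/-- Standing hypotheses: G a finite group, S a Sylow p-subgroup, Q a nontrivial large p-subgroup of G contained in S, M a subgroup containing S with the basic property (M ∈ 𝔐_G(S)); Y_M the largest p-reduced normal subgroup of M and M† = M·C_G(Y_M). Let F be the preimage in M† of the generalized Fitting subgroup of M†/C_{M†}(Y_M). If Y_M is asymmetric in G and H is a subgroup of characteristic p containing F, then Y_M ≤ Y_H. -/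
theorem result {G : Type*} [Group G] [Finite G] {p : ℕ} [Fact p.Prime] (S : Sylow p G) (Q : Subgroup G) (hQp : IsPGroup p ↥Q) (hQ1 : Q ≠ ⊥) (hQS : Q ≤ (S : Subgroup G)) (hQ : Cfsg.IsLarge Q) (M : Subgroup G) (hSM : (S : Subgroup G) ≤ M) (hM : Cfsg.IsInFrakM p M) (hasym : ¬ Cfsg.IsSymmetricIn (Cfsg.largestPReducedOf p M)) [hn : ((Subgroup.centralizer (((Cfsg.largestPReducedOf p M) : Subgroup G) : Set G)).subgroupOf (M ⊔ Subgroup.centralizer (((Cfsg.largestPReducedOf p M) : Subgroup G) : Set G))).Normal] (F : Subgroup G) (hF : F = ((Cfsg.generalizedFittingSubgroup (↥(M ⊔ Subgroup.centralizer (((Cfsg.largestPReducedOf p M) : Subgroup G) : Set G)) ⧸ (Subgroup.centralizer (((Cfsg.largestPReducedOf p M) : Subgroup G) : Set G)).subgroupOf (M ⊔ Subgroup.centralizer (((Cfsg.largestPReducedOf p M) : Subgroup G) : Set G)))).comap (QuotientGroup.mk' ((Subgroup.centralizer (((Cfsg.largestPReducedOf p M) : Subgroup G) : Set G)).subgroupOf (M ⊔ Subgroup.centralizer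 (((Cfsg.largestPReducedOf p M) : Subgroup G) : Set G))))).map ((M ⊔ Subgroup.centralizer (((Cfsg.largestPReducedOf p M) : Subgroup G) : Set G))).subtype) (H : Subgroup G) (hFH : F ≤ H) (hH : Subgroup.centralizer (Cfsg.pCore p ↥H : Set ↥H) ≤ Cfsg.pCore p ↥H) : (Cfsg.largestPReducedOf p M) ≤ Cfsg.largestPReducedOf p H := by
  have hG := large_parabolicChar hQ hQp
  have hS := isSylowIn_top S
  have hwc := frakM_wc hG hM hS hSM hasym
  have hR := frakM_sylow hM hS hSM
  have hN := frakM_NN_core hG hM hS hSM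
  have hY : PRed p (YOf p M) (dag p M) := (pRed_YOf M).congr ((pRed_YOf M).le.trans le_sup_left)
    (by rw [sup_assoc, sup_idem])
  have hF' : F = unbar (dag p M) CC(YOf p M) (H5.fstarOf ⊤) := by rw [H5.fstarOf_top]; exact hF
  have hCF : CC(YOf p M) ≤ F := hF' ▸ (le_inf le_sup_right le_rfl).trans (inf_le_unbar _)
  obtain ⟨T, hT, h1, h2⟩ := hwc.exists_sylow hR.isPGroup (hR.le.trans (hCF.trans hFH)) le_top
  refine le_trans (PRed.le_YOf ?_)
    (YOf_le_YOf (charPIn_iff.2 hH) hT (le_inf hT.le (h2.trans hN)) inf_le_left)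
  have hFK : F ≤ H ⊓ dag p M := le_inf hFH (hF' ▸ unbar_le _)
  refine ⟨(elab_le_CC hY.ea).trans (hCF.trans hFK), inf_le_right.trans hY.nn, hY.ea, ?_⟩
  intro N h3 h4 h5
  have h6 : N ≤ dag p M := h3.trans inf_le_right
  have h0 : pCoreOf p (⊤ : Subgroup (dag p M ⧸ CC(YOf p M).subgroupOf (dag p M))) = ⊥ := by
    rw [pCoreOf_top]; exact redOn_iff.1 hY.red
  have h7 := (isPGroup_bar_iff_resOf h6).2 h5
  rw [← bar_eq_bot h6]
  refine eq_bot_of_le_CC_fstar h0 h7 le_top ?_
  have h8 := bar_le_NN (W := CC(YOf p M)) h6 (hFK.trans h4)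
  rw [hF', bar_unbar] at h8
  have h9 : SubnIn (H5.fstarOf ⊤) (⊤ : Subgroup (dag p M ⧸ CC(YOf p M).subgroupOf (dag p M))) :=
    H5.sn_fstarOf ⊤
  rw [← comm_eq_bot, eq_bot_iff, ← h9.pCoreOf_eq_bot h0]
  exact (le_inf (comm_le_left h8) (comm_le_right (le_top.trans (H5.self_le_normalizer_fstarOf ⊤)))).trans
    (le_pCoreOf (h7.to_le inf_le_left) inf_le_right (le_NN_inf h8 (le_NN_self _)))

end Cfsg.Agent.S2851
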