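import Cfsg.Statements.S2852
import Cfsg.Agent.H10.FrakM

set_option autoImplicit false
open Cfsg H10

namespace Cfsg.Agent.S2852

/-- Standing hypotheses: G a finite group, S a Sylow p-subgroup, Q a nontrivial large p-subgroup of G contained in S, M a subgroup containing S with the basic property (M ∈ 𝔐_G(S)); Y_M the largest p-reduced normal subgroup of M. If Y_M is char-p-tall and asymmetric in G, then some subgroup H of G lies in ℌ_G(O_p(M)): H has characteristic p, O_p(M) ≤ H, Y_M ≰ O_p(H), and Y_M ≤ O_p(P) for every proper subgroup P of H containing O_p(M). -/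
theorem result {G : Type*} [Group G] [Finite G] {p : ℕ} [Fact p.Prime] (S : Sylow p G) (Q : Subgroup G) (hQp : IsPGroup p ↥Q) (hQ1 : Q ≠ ⊥) (hQS : Q ≤ (S : Subgroup G)) (hQ : Cfsg.IsLarge Q) (M : Subgroup G) (hSM : (S : Subgroup G) ≤ M) (hM : Cfsg.IsInFrakM p M) (htall : Cfsg.IsCharPTall p (Cfsg.largestPReducedOf p M)) (hasym : ¬ Cfsg.IsSymmetricIn (Cfsg.largestPReducedOf p M)) : ∃ H : Subgroup G, Cfsg.IsInFrakH p M H := by
  have hG := large_parabolicChar hQ hQp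
  have hS := isSylowIn_top S
  have hwc := frakM_wc hG hM hS hSM hasym
  have hR := frakM_sylow hM hS hSM
  obtain ⟨T, L, h1, h2, h3⟩ := htall
  obtain ⟨c, hc, e⟩ := (isSylowIn_map_subtype T).exists_cj hR
  have h4 : pCoreOf p M ≤ cj c L := e ▸ cj_mono c h1
  have h5 : ¬ YOf p M ≤ pCoreOf p (cj c L) := fun h => h3 (by
    rw [← cj_pCoreOf] at h
    exact cj_le_cj.1 ((cj_eq_of_mem_NN (CC_le_NN _ hc)).le.trans h))
  obtain ⟨H, ⟨h6, h7, h8⟩, hmin⟩ := exists_minimal_subgroup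
    (P := fun H => pCoreOf p M ≤ H ∧ H ≤ cj c L ∧ ¬ YOf p M ≤ pCoreOf p H) ⟨h4, le_rfl, h5⟩
  refine ⟨H, charPIn_iff.1 (hwc.charP_of_le hR.isPGroup (frakM_CC_le hM) h6 h7
    ((charPIn_iff.2 h2).cj c)), h6, h8, fun P h9 h10 => ?_⟩
  by_contra h
  exact h10.ne (hmin P ⟨h9, h10.le.trans h7, h⟩ h10.le)

end Cfsg.Agent.S2852
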