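import Cfsg.Statements.S2853
import Cfsg.Agent.H10.FrakH

set_option autoImplicit false
open Cfsg H10

namespace Cfsg.Agent.S2853

/-- Standing hypotheses: G a finite group, S a Sylow p-subgroup, Q a nontrivial large p-subgroup of G contained in S, M a subgroup containing S with the basic property (M ∈ 𝔐_G(S)); Y_M the largest p-reduced normal subgroup of M and M† = M·C_G(Y_M). Suppose Y_M is char-p-tall and asymmetric in G and H ∈ ℌ_G(O_p(M)). Then every Sylow p-subgroup of H ∩ M† is a Sylow p-subgroup of H; O_p(H) normalizes O_p(M) and Y_M; O^p(H) = [O^p(H), Y_M] and H = O^p(H)·O_p(M); O^p(H)·Y_M is the normal closure of Y_M in H; and H is the normal closure of O_p(M) in H. Here O^p(H) is the subgroup generated by the elements of H of order prime to p. -/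
theorem result {G : Type*} [Group G] [Finite G] {p : ℕ} [Fact p.Prime] (S : Sylow p G) (Q : Subgroup G) (hQp : IsPGroup p ↥Q) (hQ1 : Q ≠ ⊥) (hQS : Q ≤ (S : Subgroup G)) (hQ : Cfsg.IsLarge Q) (M : Subgroup G) (hSM : (S : Subgroup G) ≤ M) (hM : Cfsg.IsInFrakM p M) (htall : Cfsg.IsCharPTall p (Cfsg.largestPReducedOf p M)) (hasym : ¬ Cfsg.IsSymmetricIn (Cfsg.largestPReducedOf p M)) (H : Subgroup G) (hH : Cfsg.IsInFrakH p M H) (R : Subgroup G) (hR : R = (Cfsg.pResidual p ↥H).map H.subtype) : (∀ T : Sylow p ↥(H ⊓ (M ⊔ Subgroup.centralizer (((Cfsg.largestPReducedOf p M) : Subgroup G) : Set G))), ∃ P : Sylow p ↥H, ((P : Subgroup ↥H).map H.subtype) = (T : Subgroup ↥(H ⊓ (M ⊔ Subgroup.centralizer (((Cfsg.largestPReducedOf p M) : Subgroup G) : Set G)))).map (H ⊓ (M ⊔ Subgroup.centralizer (((Cfsg.largestPReducedOf p M) : Subgroup G) : Set G))).subtype) ∧ Cfsg.pCoreOf p H ≤ Subgroup.normalizer (((Cfsg.pCoreOf p M) : Subgroup G) : Set G) ⊓ Subgroup.normalizer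 (((Cfsg.largestPReducedOf p M) : Subgroup G) : Set G) ∧ ⁅R, (Cfsg.largestPReducedOf p M)⁆ = R ∧ R ⊔ (Cfsg.pCoreOf p M) = H ∧ R ⊔ (Cfsg.largestPReducedOf p M) = (Subgroup.normalClosure ((((Cfsg.largestPReducedOf p M)).subgroupOf H : Subgroup ↥H) : Set ↥H)).map H.subtype ∧ (Subgroup.normalClosure ((((Cfsg.pCoreOf p M)).subgroupOf H : Subgroup ↥H) : Set ↥H)).map H.subtype = H := by
  have hG := large_parabolicChar hQ hQp
  have hS := isSylowIn_top S
  have hwc := frakM_wc hG hM hS hSM hasym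
  have hN := frakM_NN_core hG hM hS hSM
  have hp' := isPGroup_pCoreOf (p := p) M
  have h1 : pCoreOf p H ≤ NN(pCoreOf p M) :=
    hwc.le_NN' hp' le_top (isPGroup_pCoreOf H) (hH.2.1.trans (le_NN_pCoreOf H)) le_top
  rw [hR, resOf_def, ncl_eq_map (frakH_Y_le hH), ncl_eq_map hH.2.1]
  refine ⟨fun T => ?_, le_inf h1 (h1.trans (hN.trans (dag_le_NN M))), frakH_comm hH,
    frakH_resOf_sup hH, (frakH_ncl_Y hH).symm, frakH_ncl hH⟩
  obtain ⟨T', hT', -, h2⟩ := hwc.exists_sylow hp' hH.2.1 le_top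
  have hT := isSylowIn_map_subtype T
  exact (isSylowIn_of_card_ge hT' hT.isPGroup (hT.le.trans inf_le_left)
    (hT.card_le hT'.isPGroup (le_inf hT'.le (h2.trans hN)))).exists_sylow

end Cfsg.Agent.S2853
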