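import Cfsg.Statements.S2854
import Cfsg.Agent.H10.FrakH

set_option autoImplicit false
open Cfsg H10

namespace Cfsg.Agent.S2854

/-- Standing hypotheses: G a finite group, S a Sylow p-subgroup, Q a nontrivial large p-subgroup of G contained in S, M a subgroup containing S with the basic property (M ∈ 𝔐_G(S)); Y_M the largest p-reduced normal subgroup of M and M† = M·C_G(Y_M). Suppose Y_M is asymmetric in G, H ∈ ℌ_G(O_p(M)), and H ≤ N_G(gQg⁻¹) for some g ∈ G. Then gQg⁻¹ ≤ O_p(H·gQg⁻¹) ≤ N_G(O_p(M)) ≤ N_G(Y_M) = M†; H is normal in H·gQg⁻¹ with O^p(H) = O^p(H·gQg⁻¹); and H·gQg⁻¹ is p-irreducible. -/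
theorem result {G : Type*} [Group G] [Finite G] {p : ℕ} [Fact p.Prime] (S : Sylow p G) (Q : Subgroup G) (hQp : IsPGroup p ↥Q) (hQ1 : Q ≠ ⊥) (hQS : Q ≤ (S : Subgroup G)) (hQ : Cfsg.IsLarge Q) (M : Subgroup G) (hSM : (S : Subgroup G) ≤ M) (hM : Cfsg.IsInFrakM p M) (hasym : ¬ Cfsg.IsSymmetricIn (Cfsg.largestPReducedOf p M)) (H : Subgroup G) (hH : Cfsg.IsInFrakH p M H) (g : G) (hHQ : H ≤ Subgroup.normalizer ((((Q : Subgroup G).map (MulAut.conj (g : G)).toMonoidHom) : Subgroup G) : Set G)) : ((Q : Subgroup G).map (MulAut.conj (g : G)).toMonoidHom) ≤ Cfsg.pCoreOf p (H ⊔ ((Q : Subgroup G).map (MulAut.conj (g : G)).toMonoidHom)) ∧ Cfsg.pCoreOf p (H ⊔ ((Q : Subgroup G).map (MulAut.conj (g : G)).toMonoidHom)) ≤ Subgroup.normalizer (((Cfsg.pCoreOf p M) : Subgroup G) : Set G) ∧ Subgroup.normalizer (((Cfsg.pCoreOf p M) : Subgroup G) : Set G) ≤ Subgroup.normalizer (((Cfsg.largestPReducedOf p M) : Subgroup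 G) : Set G) ∧ Subgroup.normalizer (((Cfsg.largestPReducedOf p M) : Subgroup G) : Set G) = (M ⊔ Subgroup.centralizer (((Cfsg.largestPReducedOf p M) : Subgroup G) : Set G)) ∧ (H.subgroupOf (H ⊔ ((Q : Subgroup G).map (MulAut.conj (g : G)).toMonoidHom))).Normal ∧ (Cfsg.pResidual p ↥H).map H.subtype = (Cfsg.pResidual p ↥(H ⊔ ((Q : Subgroup G).map (MulAut.conj (g : G)).toMonoidHom))).map (H ⊔ ((Q : Subgroup G).map (MulAut.conj (g : G)).toMonoidHom)).subtype ∧ Cfsg.IsPIrreducible p ↥(H ⊔ ((Q : Subgroup G).map (MulAut.conj (g : G)).toMonoidHom)) := by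
  simp only [cj_def, resOf_def] at hHQ ⊢
  have hG := large_parabolicChar hQ hQp
  have hS := isSylowIn_top S
  have hwc := frakM_wc hG hM hS hSM hasym
  have hN := frakM_NN_core hG hM hS hSM
  have hp' := isPGroup_pCoreOf (p := p) M
  have hP := isPGroup_cj g hQp
  set P := cj g Q
  have h1 : P ≤ pCoreOf p (H ⊔ P) := le_pCoreOf hP le_sup_right (sup_le hHQ (le_NN_self P))
  have h2 : pCoreOf p (H ⊔ P) ≤ NN(pCoreOf p M) := hwc.le_NN' hp' le_top (isPGroup_pCoreOf _)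
    ((hH.2.1.trans le_sup_left).trans (le_NN_pCoreOf _)) le_top
  have h3 : H ⊔ P ≤ NN(H) := by
    have e : ncl (pCoreOf p M) (H ⊔ P) = H := by
      refine le_antisymm (ncl_le_iff.2 fun x hx => ?_)
        ((frakH_ncl hH).ge.trans (ncl_mono le_rfl le_sup_left))
      obtain ⟨a, ha, b, hb, rfl⟩ := (mem_sup_of_NN hHQ).1 hx
      rw [cj_mul, cj_eq_of_mem_NN (h2 (h1 hb))]
      exact cj_le_of_mem ha hH.2.1
    conv_rhs => rw [← e]
    exact le_NN_ncl _ _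
  have h4 : resOf p (H ⊔ P) = resOf p H := resOf_sup_pgroup hP (le_sup_right.trans h3)
  have h5 : pCoreOf p H ≤ pCoreOf p (H ⊔ P) := pCoreOf_le_of_normal le_sup_left h3
  refine ⟨h1, h2, hN.trans (dag_le_NN M), frakM_NN_Y hG hM hS hSM, normal_subgroupOf h3, h4.symm,
    pIrr_iff.2 ⟨fun hc => hH.2.2.1 (le_pCoreOf_of_isPClosed (isPClosed_of_le hc le_sup_left)
      (pRed_YOf M).isPGroup (frakH_Y_le hH)), fun N hN1 hN2 hc => ?_⟩⟩
  by_contra h0
  refine hc (isPClosed_of_le (L := N ⊔ pCoreOf p (H ⊔ P)) ?_ le_sup_left)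
  set O := pCoreOf p (H ⊔ P) with hO
  have hOn : H ⊔ P ≤ NN(O) := le_NN_pCoreOf _
  have h6 : H ⊔ P ≤ NN(N ⊔ O) := le_NN_sup hN2 hOn
  have h7 : H ≤ NN((N ⊔ O) ⊓ H) := le_NN_inf (le_sup_left.trans h6) (le_NN_self H)
  have h8 := frakH_comm_le hH inf_le_right h7 fun h => h0 (by
    rw [h4, ← resOf_resOf]
    exact (resOf_mono (h.trans inf_le_left)).trans
      (resOf_sup_le (isPGroup_pCoreOf _) ((pCoreOf_le _).trans hN2)))
  obtain ⟨T, hT⟩ := exists_isSylowIn p H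
  have hT' := hT.inf_normal inf_le_right h7
  have h9 : pCoreOf p H ≤ T ⊓ ((N ⊔ O) ⊓ H) :=
    le_inf hT.pCoreOf_le (le_inf (h5.trans le_sup_right) (pCoreOf_le H))
  have h10 : H ≤ NN(T ⊓ ((N ⊔ O) ⊓ H)) := hT.resOf_sup.ge.trans (sup_le
    (le_NN_of_comm_le_right (((Subgroup.commutator_mono le_rfl inf_le_right).trans h8).trans h9))
    (le_NN_inf (le_NN_self T) (hT.le.trans h7)))
  have h11 : T ⊓ ((N ⊔ O) ⊓ H) ≤ O := (le_pCoreOf hT'.isPGroup (inf_le_left.trans hT.le) h10).trans h5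
  have hT'' := hT'.sup_pgroup hP (inf_le_right.trans hHQ)
  have e : (N ⊔ O) ⊓ H ⊔ P = N ⊔ O := by
    rw [sup_comm, inf_comm, ← dedekind_right (h1.trans le_sup_right) hHQ, sup_comm P H,
      inf_eq_right.2 (sup_le hN1 (pCoreOf_le _))]
  rw [e] at hT''
  exact hT''.isPClosed_of_le ((sup_le h11 h1).trans (le_pCoreOf (isPGroup_pCoreOf _) le_sup_right
    ((sup_le hN1 (pCoreOf_le _)).trans hOn)))

end Cfsg.Agent.S2854
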