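import Cfsg.Statements.S2855
import Cfsg.Agent.H10.PMin

set_option autoImplicit false
open Cfsg H10

namespace Cfsg.Agent.S2855

open scoped commutatorElement

variable {G : Type*} [Group G] [Finite G] {p : ℕ} [Fact p.Prime]

def below (S A : Subgroup G) : Subgroup G := sSup {X | S ≤ X ∧ X < A}

omit [Finite G] in
theorem cj_below_le (g : G) (S A : Subgroup G) : cj g (below S A) ≤ below (cj g S) (cj g A) := by
  rw [cj_le_iff]
  refine sSup_le fun X hX => ?_
  rw [← cj_le_iff]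
  exact le_sSup ⟨cj_mono g hX.1, cj_lt_cj.2 hX.2⟩

theorem minOver_sup {E Q S : Subgroup G} (hE : ∀ T : Sylow p E, IsMinimalOver (T : Subgroup E))
    (hQ : IsPGroup p Q) (hn : E ≤ NN(Q)) (hS : IsSylowIn p S (E ⊔ Q)) :
    ncl S (E ⊔ Q) = E ⊔ Q ∧ S ≤ below S (E ⊔ Q) ∧ below S (E ⊔ Q) < E ⊔ Q := by
  obtain ⟨T₀, hT₀⟩ := exists_isSylowIn p E
  obtain ⟨x, hx, e⟩ := (hT₀.sup_pgroup hQ hn).exists_cj hS
  obtain ⟨a, ha, q, hq, rfl⟩ := (mem_sup_of_NN hn).1 hx
  rw [cj_mul, cj_eq_of_mem ((le_sup_right : Q ≤ T₀ ⊔ Q) hq), cj_sup, cj_eq_of_mem_NN (hn ha)] at e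
  have hT := hT₀.cj_of_mem ha
  set T := cj a T₀
  subst e
  have h := hE hT.toSylow
  rw [hT.coe_toSylow] at h
  obtain ⟨M, ⟨hM, hTM⟩, -⟩ := h.2
  have hME : M.map E.subtype ≤ E := Subgroup.map_subtype_le M
  have hTM' : T ≤ M.map E.subtype := le_map_subtype_iff.2 ⟨hT.le, hTM⟩
  have h1 : M.map E.subtype ⊔ Q < E ⊔ Q := by
    refine lt_of_le_of_ne (sup_le_sup_right hME Q) fun e => hM.1 ?_
    have h2 : E ≤ M.map E.subtype := by
      have h3 := dedekind_left hME (hME.trans hn)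
      rw [e, inf_eq_right.2 le_sup_left] at h3
      exact h3.le.trans (sup_le le_rfl ((hT.le_of_NN (hQ.to_le inf_le_left) inf_le_right
        (le_NN_inf (hT.le.trans hn) (hT.le.trans (le_NN_self E)))).trans hTM'))
    rw [← subgroupOf_map_subtype' M]
    exact Subgroup.subgroupOf_eq_top.2 h2
  refine ⟨le_antisymm (ncl_le_of_le hS.le) (sup_le ?_ (le_sup_right.trans (le_ncl _ _))),
    le_sSup ⟨le_rfl, (sup_le_sup_right hTM' Q).trans_lt h1⟩, lt_of_le_of_lt (sSup_le ?_) h1⟩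
  · have := ncl_eq_map hT.le
    rw [h.1, map_top_subtype] at this
    exact this.le.trans (ncl_mono le_sup_left le_sup_left)
  · rintro X ⟨h2, h3⟩
    have h4 := dedekind_right (le_sup_right.trans h2) hn
    rw [sup_comm, inf_eq_right.2 h3.le] at h4
    rw [h4, sup_comm]
    refine sup_le_sup_right (le_map_subtype_iff.2 ⟨inf_le_left, minOver_le h hM hTM
      (Subgroup.comap_mono (le_inf hT.le (le_sup_left.trans h2))) fun e => h3.ne ?_⟩) Q
    exact le_antisymm h3.le (sup_le ((Subgroup.subgroupOf_eq_top.1 e).trans inf_le_right)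
      (le_sup_right.trans h2))

theorem le_CC_of_central {A B P : Subgroup G} (h0 : pCoreOf p A = ⊥) (h : ⁅B, A⁆ ≤ A ⊓ CC(A))
    (hP : IsPGroup p P) (hPA : P ≤ A) : P ≤ CC(B) := by
  rw [← comm_eq_bot, eq_bot_iff, Subgroup.commutator_le]
  intro t ht b hb
  have h1 : ⁅t, b⁆ ∈ A ⊓ CC(A) := h (Subgroup.commutator_comm A B ▸
    Subgroup.commutator_mem_commutator (hPA ht) hb)
  obtain ⟨k, hk⟩ := isPGroup_iff_mem.1 hP t ht
  have h2 := commutator_pow_of_commute (mem_CC.1 h1.2 t (hPA ht)) (p ^ k)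
  rw [hk, commutatorElement_one_left] at h2
  rw [← h0]
  exact le_pCoreOf (isPGroup_zpowers h2.symm) (Subgroup.zpowers_le_of_mem h1.1)
    ((le_CC_symm (Subgroup.zpowers_le_of_mem h1.2)).trans (CC_le_NN _)) (Subgroup.mem_zpowers _)

omit [Finite G] [Fact p.Prime] in
theorem spIrr {E N : Subgroup G} (h : IsStronglyPIrreducible p E) (hN : N ≤ E) (hn : E ≤ NN(N))
    (h0 : ¬ ⁅N, E⁆ ≤ pCoreOf p E) : resOf p E ≤ N := by
  refine map_subtype_le_iff.2 (h.2 _ (normal_subgroupOf hn) fun h1 => h0 ?_)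
  have := Subgroup.map_mono (f := E.subtype) h1
  rwa [Subgroup.map_commutator, map_subgroupOf_of_le hN, map_top_subtype] at this

omit [Finite G] [Fact p.Prime] in
theorem map_le_CC_iff {Q A B : Subgroup G} [Q.Normal] :
    A.map (QuotientGroup.mk' Q) ≤ CC(B.map (QuotientGroup.mk' Q)) ↔ ⁅A, B⁆ ≤ Q := by
  rw [← comm_eq_bot, ← Subgroup.map_commutator, Subgroup.map_eq_bot_iff, QuotientGroup.ker_mk']

theorem comm_le_core {E B : Subgroup G} (h : IsStronglyPIrreducible p E)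
    (hs : SubnIn (E ⊔ pCore p G) ⊤) (hn : E ≤ NN(B)) (h1 : ⁅B, E⁆ ≤ E ⊔ pCore p G)
    (h2 : ⁅⁅B, E⁆, E⁆ ≤ pCore p G) : ⁅B, E⁆ ≤ pCore p G := by
  set f := QuotientGroup.mk' (pCore p G) with hf
  have hk : f.ker = pCore p G := QuotientGroup.ker_mk' _
  have e : (E ⊔ pCore p G).map f = E.map f := by
    rw [Subgroup.map_sup, (Subgroup.map_eq_bot_iff _).2 hk.ge, sup_bot_eq]
  have h0 : pCoreOf p (E.map f) = ⊥ := by
    rw [← e]
    refine (hs.map f).pCoreOf_eq_bot ?_
    rw [← map_pCoreOf f (by rw [hk]; exact isPGroup_pCore'.to_le inf_le_right), pCoreOf_top,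
      Subgroup.map_eq_bot_iff, hk]
  obtain ⟨T, hT⟩ := exists_isSylowIn p E
  have h3 := le_CC_of_central (B := B.map f) h0 (by
    rw [← Subgroup.map_commutator]
    exact le_inf (e ▸ Subgroup.map_mono h1) (map_le_CC_iff.2 h2)) (hT.isPGroup.map f)
    (Subgroup.map_mono hT.le)
  have h4 : T ≤ E ⊓ CC(B.map f).comap f := le_inf hT.le (Subgroup.map_le_iff_le_comap.1 h3)
  rw [Subgroup.commutator_comm, ← map_le_CC_iff, Subgroup.map_le_iff_le_comap]
  refine (hT.le_of_resOf_le (spIrr h inf_le_left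
    (le_NN_inf_comap f (le_NN_CC (map_le_NN_map f hn))) fun h5 => h.1 ?_) h4).trans inf_le_right
  exact hT.isPClosed (le_NN_of_comm_le_left
    (((Subgroup.commutator_mono h4 le_rfl).trans h5).trans hT.pCoreOf_le))

/-- Let H be a finite group, p a prime, and 𝒦 a nonempty set of subgroups of H permuted transitively by conjugation, with R the subgroup generated by the members of 𝒦. Suppose O^p(H) ≤ R, each E ∈ 𝒦 has E·O_p(H) normal in R·O_p(H), and each E ∈ 𝒦 is p-minimal (generated by the conjugates of a Sylow p-subgroup T_E of E, with T_E in exactly one maximal subgroup of E). Then H is p-minimal in the same sense. If instead each E ∈ 𝒦 is strongly p-irreducible, then H is p-irreducible and, for E, K ∈ 𝒦, either O^p(E·O_p(H)) = O^p(K·O_p(H)) or [E, K] ≤ O_p(H). -/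
theorem result {H : Type*} [Group H] [Finite H] {p : ℕ} [Fact p.Prime] (𝒦 : Set (Subgroup H)) (hne : 𝒦.Nonempty) (hinv : ∀ h : H, ∀ E ∈ 𝒦, E.map (MulAut.conj h).toMonoidHom ∈ 𝒦) (htr : ∀ E ∈ 𝒦, ∀ K ∈ 𝒦, ∃ h : H, K = E.map (MulAut.conj h).toMonoidHom) (hres : Cfsg.pResidual p H ≤ sSup 𝒦) (hnorm : ∀ E ∈ 𝒦, sSup 𝒦 ⊔ Cfsg.pCore p H ≤ Subgroup.normalizer ((E ⊔ Cfsg.pCore p H : Subgroup H) : Set H)) : ((∀ E ∈ 𝒦, ∀ T : Sylow p ↥E, Cfsg.IsMinimalOver (T : Subgroup ↥E)) → ∀ T : Sylow p H, Cfsg.IsMinimalOver (T : Subgroup H)) ∧ ((∀ E ∈ 𝒦, Cfsg.IsStronglyPIrreducible p ↥E) → Cfsg.IsPIrreducible p H ∧ ∀ E ∈ 𝒦, ∀ K ∈ 𝒦, (Cfsg.pResidual p ↥(E ⊔ Cfsg.pCore p H)).map (E ⊔ Cfsg.pCore p H).subtype = (Cfsg.pResidual p ↥(K ⊔ Cfsg.pCore p H)).map (K ⊔ Cfsg.pCore p H).subtype ∨ ⁅E, K⁆ ≤ Cfsg.pCore p H) := by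
  simp only [cj_def, resOf_def] at hinv htr ⊢
  rw [← resOf_top] at hres
  set R := sSup 𝒦 with hR
  set Q := pCore p H with hQ
  have hQp : IsPGroup p Q := isPGroup_pCore'
  have hRn : R.Normal := normal_of_top_le_NN (le_NN_of_cj_le fun g _ => by
    rw [cj_le_iff]
    exact sSup_le fun E hE => cj_le_iff.1 (le_sSup (hinv g E hE)))
  have hER : ∀ E ∈ 𝒦, E ≤ R := fun E hE => le_sSup hE
  have hsub : ∀ E ∈ 𝒦, SubnIn (E ⊔ Q) ⊤ := fun E hE =>
    (subnIn_of_normal le_top (le_NN_of_normal _ (R ⊔ Q))).step (sup_le_sup_right (hER E hE) Q)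
      (hnorm E hE)
  constructor
  · intro hmin T
    have hT := isSylowIn_top T
    have hQT : Q ≤ T := pCoreOf_top.ge.trans hT.pCoreOf_le
    have hRT : R ⊔ T = ⊤ := eq_top_iff.2 (hT.le_of_resOf_le (hres.trans le_sup_left) le_sup_right)
    have hF := fun E hE => minOver_sup (hmin E hE) hQp (le_NN_of_normal E Q) (hT.inf_subn (hsub E hE))
    have hcj : ∀ t ∈ (T : Subgroup H), ∀ E : Subgroup H, cj t (E ⊔ Q) = cj t E ⊔ Q := fun t _ E => by
      rw [cj_sup, cj_eq_of_normal t Q]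
    obtain ⟨D, hD⟩ : ∃ D : Subgroup H, ∀ X : Subgroup H, X ≤ D ↔
        X ≤ R ⊔ Q ∧ ∀ E ∈ 𝒦, X ≤ NN(below (T ⊓ (E ⊔ Q)) (E ⊔ Q)) :=
      ⟨(R ⊔ Q) ⊓ ⨅ E ∈ 𝒦, NN(below (T ⊓ (E ⊔ Q)) (E ⊔ Q)), fun X => by
        simp only [le_inf_iff, le_iInf_iff]⟩
    have hD' := (hD D).1 le_rfl
    have hTD : (T : Subgroup H) ≤ NN(D) := by
      refine le_NN_of_cj_le fun t ht => (hD _).2
        ⟨cj_le_of_mem_NN (le_NN_of_normal ⊤ _ trivial) hD'.1, fun E hE => ?_⟩
      rw [cj_le_iff]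
      refine (hD'.2 _ (hinv t⁻¹ E hE)).trans (le_of_eq ?_)
      have hi := (T : Subgroup H).inv_mem ht
      rw [cj_normalizer]
      congr 2
      refine le_antisymm (le_cj_iff.2 ((cj_below_le _ _ _).trans ?_)) ((cj_below_le _ _ _).trans ?_)
      · rw [inv_inv, cj_inf, cj_eq_of_mem ht, ← hcj _ hi, cj_cj_inv]
      · rw [cj_inf, cj_eq_of_mem hi, hcj _ hi]
    have hM : D ⊔ T ≠ ⊤ := by
      intro e
      obtain ⟨E, hE⟩ := hne
      have h1 : resOf p ⊤ ≤ D := e ▸ resOf_sup_le T.isPGroup' hTD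
      have h2 := hF E hE
      refine h2.2.2.ne (le_antisymm h2.2.2.le (h2.1.ge.trans (ncl_le h2.2.1 ?_)))
      exact (hT.inf_subn (hsub E hE)).le_of_resOf_le ((resOf_mono le_top).trans
        (h1.trans (hD'.2 E hE))) (h2.2.1.trans (le_NN_self _))
    have hX : ∀ X, (T : Subgroup H) ≤ X → X ≠ ⊤ → X ≤ D ⊔ T := by
      intro X hTX hX
      have h1 : ∀ E ∈ 𝒦, X ⊓ (E ⊔ Q) < E ⊔ Q := by
        intro E hE
        refine lt_of_le_of_ne inf_le_right fun e => hX (eq_top_iff.2 (hRT.ge.trans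
          (sup_le (sSup_le fun K hK => ?_) hTX)))
        obtain ⟨g, rfl⟩ := htr E hE K hK
        obtain ⟨t, ht, r, hr, rfl⟩ := (mem_sup_of_NN (le_NN_of_normal (T : Subgroup H) R)).1
          (show g ∈ (T : Subgroup H) ⊔ R by rw [sup_comm, hRT]; trivial)
        rw [cj_mul]
        refine cj_le_of_mem (hTX ht) (le_trans ?_ (e.ge.trans inf_le_left))
        exact cj_le_of_mem_NN (hnorm E hE (Subgroup.mem_sup_left hr)) le_sup_left
      have h2 := dedekind_left hTX (le_NN_of_normal (T : Subgroup H) (R ⊔ Q))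
      rw [eq_top_iff.2 (hRT.ge.trans (sup_le (le_sup_left.trans le_sup_right) le_sup_left) :
        ⊤ ≤ (T : Subgroup H) ⊔ (R ⊔ Q)), top_inf_eq] at h2
      rw [h2, sup_comm]
      refine sup_le_sup_right ((hD _).2 ⟨inf_le_left, fun E hE x hx => ?_⟩) _
      have hx' := hnorm E hE hx.1
      have h3 : cj x ((T : Subgroup H) ⊓ (E ⊔ Q)) ≤ below (T ⊓ (E ⊔ Q)) (E ⊔ Q) :=
        le_trans (le_inf (cj_le_of_mem hx.2 (inf_le_left.trans hTX))
          (cj_le_of_mem_NN hx' inf_le_right)) (le_sSup ⟨inf_le_inf_right _ hTX, h1 E hE⟩)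
      rw [← inv_mem_iff]
      refine mem_NN_of_cj_le (le_sSup ⟨cj_le_iff.1 h3, ?_⟩)
      have := cj_lt_cj (g := x⁻¹) |>.2 (hF E hE).2.2
      rwa [cj_eq_of_mem_NN (inv_mem hx')] at this
    obtain ⟨M, hM1, hM2⟩ := exists_coatom_ge hM
    refine ⟨?_, M, ⟨hM1, le_sup_right.trans hM2⟩, fun X hX' =>
      (hX'.1.le_iff_eq hM1.1).1 ((hX X hX'.2 hX'.1.1).trans hM2) |>.symm⟩
    rw [← ncl_top, eq_top_iff, ← hRT]
    refine sup_le (sSup_le fun E hE => ?_) (hRT ▸ le_ncl _ _)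
    exact le_sup_left.trans ((hF E hE).1.ge.trans (ncl_mono inf_le_left (hRT ▸ le_top)))
  · intro hirr
    have hcore : ∀ E ∈ 𝒦, pCoreOf p E ≤ Q := fun E hE => by
      refine le_trans ?_ ((hsub E hE).pCoreOf_le.trans pCoreOf_top.le)
      exact le_sup_left.trans (le_pCoreOf (isPGroup_sup_of_NN (isPGroup_pCoreOf E) hQp
        (le_NN_of_normal _ _)) (sup_le_sup_right (pCoreOf_le E) Q)
        (sup_le (le_NN_sup (le_NN_pCoreOf E) (le_NN_of_normal _ _))
          (le_sup_right.trans (le_NN_self _))))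
    have hC : ∀ E ∈ 𝒦, ∀ B : Subgroup H, E ≤ NN(B) → Q ≤ B → ⁅B, E⁆ ≤ E ⊔ Q →
        ¬ resOf p E ≤ B → ⁅B, E⁆ ≤ Q := by
      intro E hE B h1 h2 h3 h4
      refine comm_le_core (hirr E hE) (hsub E hE) h1 h3 ?_
      have h5 : ⁅B ⊓ E, E⁆ ≤ Q := by
        by_contra h5
        exact h4 ((spIrr (hirr E hE) inf_le_right (le_NN_inf h1 (le_NN_self E))
          fun h6 => h5 (h6.trans (hcore E hE))).trans inf_le_left)
      have h6 := dedekind_right h2 (le_NN_of_normal E Q)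
      refine le_trans (Subgroup.commutator_mono (le_inf (sup_comm E Q ▸ h3) (comm_le_left h1)) le_rfl) ?_
      rw [h6]
      exact comm_sup_le (le_NN_of_normal _ _) (le_NN_of_normal _ _)
        (comm_le_left (le_NN_of_normal _ _)) (inf_comm B E ▸ h5)
    have hB : ∀ N : Subgroup H, N.Normal → (∀ E ∈ 𝒦, resOf p E ≤ N) → resOf p ⊤ ≤ N := by
      intro N hN h
      set f := QuotientGroup.mk' N with hf
      have h1 : ∀ E ∈ 𝒦, E.map f ≤ pCoreOf p ((R ⊔ Q).map f) := fun E hE => by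
        refine (Subgroup.map_mono le_sup_left).trans (le_pCoreOf ?_
          (Subgroup.map_mono (sup_le_sup_right (hER E hE) Q)) (map_le_NN_map f (hnorm E hE)))
        rw [Subgroup.map_sup]
        refine isPGroup_sup_of_NN (isPGroup_of_resOf_eq_bot ?_) (hQp.map f)
          (map_le_NN_map f (le_NN_of_normal _ _))
        rw [← map_resOf, Subgroup.map_eq_bot_iff, QuotientGroup.ker_mk']
        exact h E hE
      have h2 : IsPGroup p (R.map f) := (isPGroup_pCoreOf _).to_le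
        (Subgroup.map_le_iff_le_comap.2 (sSup_le fun E hE => Subgroup.map_le_iff_le_comap.1 (h1 E hE)))
      refine (resOf_le_resOf hres).trans ?_
      rw [← QuotientGroup.ker_mk' N, ← Subgroup.map_eq_bot_iff, map_resOf]
      exact resOf_eq_bot h2
    refine ⟨pIrr_top_iff.2 ⟨fun hc => ?_, fun N hN hc => ?_⟩, fun E hE K hK => ?_⟩
    · obtain ⟨E, hE⟩ := hne
      exact (hirr E hE).1 (isPClosed_of_le hc le_top)
    · refine (resOf_resOf _).ge.trans ((resOf_mono ?_).trans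
        (resOf_sup_le hQp (le_NN_of_normal Q N)))
      have hc' : ¬ IsPClosed p (N ⊔ Q : Subgroup H) := fun h => hc (isPClosed_of_le h le_sup_left)
      generalize hN' : N ⊔ Q = N' at hc'
      have hQN : Q ≤ N' := hN' ▸ le_sup_right
      have hN'n : N'.Normal := hN' ▸ inferInstance
      by_cases h1 : ∃ E ∈ 𝒦, resOf p E ≤ N'
      · obtain ⟨E, hE, h1⟩ := h1
        refine hB N' hN'n fun K hK => ?_
        obtain ⟨g, rfl⟩ := htr E hE K hK
        rw [← cj_resOf]
        exact cj_le_of_mem_NN (le_NN_of_normal ⊤ N' trivial) h1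
      push Not at h1
      exfalso
      have h2 : ⁅R, N' ⊓ (R ⊔ Q)⁆ ≤ Q := by
        rw [← map_le_CC_iff, Subgroup.map_le_iff_le_comap]
        refine sSup_le fun E hE => ?_
        rw [← Subgroup.map_le_iff_le_comap, map_le_CC_iff, Subgroup.commutator_comm]
        exact hC E hE _ (le_NN_of_normal _ _) (le_inf hQN le_sup_right)
          ((Subgroup.commutator_mono le_rfl le_sup_left).trans
            (comm_le_right (inf_le_right.trans (hnorm E hE)))) fun h => h1 E hE (h.trans inf_le_left)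
      have h3 : ⁅⁅R, N'⁆, R⁆ ≤ Q := by
        rw [Subgroup.commutator_comm]
        exact (Subgroup.commutator_mono le_rfl (le_inf (comm_le_right (le_NN_of_normal _ _))
          ((comm_le_left (le_NN_of_normal _ _)).trans le_sup_left))).trans h2
      have h4 : ⁅⁅R, R⁆, N'⁆ ≤ Q := three_subgroups (le_NN_of_normal _ _) (le_NN_of_normal _ _)
        (le_NN_of_normal _ _) h3 (Subgroup.commutator_comm R N' ▸ h3)
      set f := QuotientGroup.mk' Q with hf
      have hCn : (CC(N'.map f).comap f).Normal := normal_of_top_le_NN (by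
        simpa using le_NN_inf_comap f (L := ⊤) (le_NN_CC (map_le_NN_map f (le_NN_of_normal ⊤ N'))))
      have h5 := hB _ hCn fun E hE => by
        have h6 : ⁅E, E⁆ ≤ E ⊓ CC(N'.map f).comap f := le_inf (comm_le_left (le_NN_self E))
          (Subgroup.map_le_iff_le_comap.1 (map_le_CC_iff.2
            ((Subgroup.commutator_mono (Subgroup.commutator_mono (hER E hE) (hER E hE)) le_rfl).trans h4)))
        refine (spIrr (hirr E hE) inf_le_left (le_NN_inf (le_NN_self E) (le_NN_of_normal _ _))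
          fun h7 => (hirr E hE).1 ?_).trans inf_le_right
        have h8 := comm_le_core (hirr E hE) (hsub E hE) (le_NN_self E)
          ((comm_le_left (le_NN_self E)).trans le_sup_left)
          (((Subgroup.commutator_mono h6 le_rfl).trans h7).trans (hcore E hE))
        obtain ⟨T, hT⟩ := exists_isSylowIn p E
        refine hT.isPClosed (le_NN_of_comm_le_left ((Subgroup.commutator_mono hT.le le_rfl).trans ?_))
        exact (le_inf h8 (comm_le_left (le_NN_self E))).trans (hT.le_of_NN (hQp.to_le inf_le_left)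
          inf_le_right (le_NN_inf (le_NN_of_normal _ _) (hT.le.trans (le_NN_self E))))
      rw [← Subgroup.map_le_iff_le_comap, map_le_CC_iff] at h5
      obtain ⟨T, hT⟩ := exists_isSylowIn p (⊤ : Subgroup H)
      refine hc' ((hT.inf_normal le_top (le_NN_of_normal _ _)).isPClosed (le_top.trans ?_))
      exact hT.le_of_resOf_le (le_NN_of_comm_le_right (((Subgroup.commutator_mono le_rfl
        inf_le_right).trans h5).trans (le_inf (pCoreOf_top.ge.trans hT.pCoreOf_le) hQN)))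
        (le_NN_inf (le_NN_self T) (le_NN_of_normal _ _))
    · by_cases h : ⁅E, K⁆ ≤ Q
      · exact Or.inr h
      have key : ∀ E ∈ 𝒦, ∀ K ∈ 𝒦, ¬ ⁅E, K⁆ ≤ Q → resOf p (E ⊔ Q) ≤ resOf p (K ⊔ Q) := by
        intro E hE K hK h
        refine resOf_le_resOf ((resOf_sup_le_sup (le_NN_of_normal E Q)).trans (sup_le ?_ le_sup_right))
        by_contra h1
        refine h ((Subgroup.commutator_comm E K).le.trans ((Subgroup.commutator_mono le_sup_left
          le_rfl).trans (hC E hE _ (((hER E hE).trans le_sup_left).trans (hnorm K hK)) le_sup_right ?_ h1)))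
        exact (Subgroup.commutator_mono le_rfl le_sup_left).trans
          (comm_le_right ((sup_le_sup_right (hER K hK) Q).trans (hnorm E hE)))
      exact Or.inl (le_antisymm (key E hE K hK h) (key K hK E hE (Subgroup.commutator_comm E K ▸ h)))

end Cfsg.Agent.S2855
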