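import Cfsg.Statements.S2859
import Cfsg.Agent.H10.PMin2

set_option autoImplicit false
open Cfsg H10

namespace Cfsg.Agent.S2859

variable {G : Type*} [Group G] [Finite G] {p : ℕ} [Fact p.Prime]

theorem aux {Q Hc H₁ H₂ K : Subgroup G} (hQ : IsPGroup p Q) (h : WCIn p Q ⊤) (hQH : Q ≤ Hc)
    (hc : ncl Q Hc = Hc) (h1 : H₁ ≤ Hc ∧ Hc ≤ NN(H₁)) (h2 : H₂ ≤ Hc ∧ Hc ≤ NN(H₂))
    (hprod : H₁ ⊔ H₂ = Hc) (hcomm : ⁅H₁, H₂⁆ ≤ NN(Q)) (hK : K = resOf p (ncl Q (H₁ ⊔ Q))) :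
    (⁅K, Q⁆ = K ∧ ⁅K, H₁⁆ = K ∧ K ≤ ⁅H₁, H₁⁆ ∧ Hc ≤ NN(K)) ∧ K ≤ H₁ ∧
      ⁅K, H₂⁆ ≤ pCoreOf p Hc ∧ ncl Q (H₁ ⊔ Q) = K ⊔ Q := by
  obtain ⟨e1, e2⟩ := h.resOf_ncl hQ (le_sup_right : Q ≤ H₁ ⊔ Q)
  rw [← hK] at e1 e2
  set O := pCoreOf p Hc
  have hO : Hc ≤ NN(O) := le_NN_pCoreOf Hc
  have hOp : IsPGroup p O := isPGroup_pCoreOf Hc
  have hOH : O ≤ Hc := pCoreOf_le Hc
  have hrK : resOf p K = K := by rw [hK, resOf_resOf]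
  have hKH : K ≤ H₁ := hK.le.trans ((resOf_mono (ncl_le_of_le le_sup_right)).trans
    (resOf_sup_le hQ (hQH.trans h1.2)))
  have hD : Hc ≤ NN(⁅H₁, H₂⁆) := le_NN_commutator h1.2 h2.2
  have hDH : ⁅H₁, H₂⁆ ≤ Hc := comm_le_of_le h1.1 h2.1
  have h3 : ⁅Hc, ⁅H₁, H₂⁆⁆ ≤ O := by
    conv_lhs => rw [← hc]
    refine comm_ncl_le (le_trans (le_inf (comm_le_left hcomm) (comm_le_right (hQH.trans hD)))
      ((le_pCoreOf (hQ.to_le inf_le_left) inf_le_right (le_NN_inf hcomm (le_NN_self _))).trans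
        (pCoreOf_le_of_normal hDH hD))) (hQH.trans hO) hD hO
  have h3' : ∀ X, X ≤ Hc → ⁅⁅H₁, H₂⁆, X⁆ ≤ O := fun X hX =>
    (Subgroup.commutator_comm _ _).le.trans ((Subgroup.commutator_mono hX le_rfl).trans h3)
  have h11 : Hc ≤ NN(⁅H₁, H₁⁆) := le_NN_commutator h1.2 h1.2
  have h4 : K ≤ ⁅H₁, H₁⁆ := by
    have h5 : K ≤ ⁅H₁, H₁⁆ ⊔ ⁅H₁, H₂⁆ := e2.ge.trans ((Subgroup.commutator_mono hKH
      (hQH.trans hprod.ge)).trans (comm_sup_le' (h1.1.trans (le_NN_sup h11 hD))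
        (h2.1.trans (le_NN_sup h11 hD)) le_sup_left le_sup_right))
    refine hrK.ge.trans ((resOf_mono ?_).trans (resOf_sup_le hOp (hOH.trans h11)))
    exact e2.ge.trans ((Subgroup.commutator_mono h5 le_rfl).trans (comm_sup_le
      ((comm_le_of_le h1.1 h1.1).trans (le_NN_sup h11 hO)) (hDH.trans (le_NN_sup h11 hO))
      ((comm_le_left (hQH.trans h11)).trans le_sup_left) ((h3' Q hQH).trans le_sup_right)))
  have h6 : ⁅K, H₂⁆ ≤ O := (Subgroup.commutator_mono h4 le_rfl).trans (three_subgroups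
    (h1.1.trans hO) (h1.1.trans hO) (h2.1.trans hO) (h3' _ h1.1)
    (Subgroup.commutator_comm H₁ H₂ ▸ h3' _ h1.1))
  have hOQ : O ≤ NN(Q) := h.le_NN' hQ le_top hOp (hQH.trans hO) le_top
  have hOK : O ≤ NN(K) := hK ▸ le_NN_resOf' (le_NN_ncl' hOQ (le_NN_sup (hOH.trans h1.2) hOQ))
  have h1K : H₁ ≤ NN(K) := hK ▸ le_NN_resOf' (le_sup_left.trans (le_NN_ncl _ _))
  have h7 : Hc ≤ NN(K) := by
    refine hprod.ge.trans (sup_le h1K ?_)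
    rw [← hrK, ← resOf_sup_pgroup hOp hOK]
    refine le_NN_resOf' (le_NN_of_comm_le_left (comm_sup_le (le_sup_left.trans (le_NN_self _))
      (le_sup_right.trans (le_NN_self _)) (h6.trans le_sup_right)
      ((comm_le_left (h2.1.trans hO)).trans le_sup_right)))
  refine ⟨⟨e2, le_antisymm (comm_le_left h1K) ?_, h4, h7⟩, hKH, h6, e1⟩
  have h8 : Hc ≤ NN(⁅K, H₁⁆) := le_NN_commutator h7 h1.2
  refine hrK.ge.trans ((resOf_mono ?_).trans (resOf_sup_le hOp (hOH.trans h8)))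
  exact e2.ge.trans ((Subgroup.commutator_mono le_rfl (hQH.trans hprod.ge)).trans (comm_sup_le'
    (h1.1.trans (le_NN_sup h8 hO)) (h2.1.trans (le_NN_sup h8 hO)) le_sup_left (h6.trans le_sup_right)))

/-- Let Q be a nontrivial p-subgroup of the finite group H that is a weakly closed subgroup, H° the weak closure of Q in H (generated by the conjugates of Q) and H_∘ = O^p(H°). Suppose H₁, H₂ are normal subgroups of H° with H° = H₁H₂ and [H₁, H₂] ≤ N_H(Q), and put Kᵢ = O^p of the weak closure of Q in HᵢQ. Then for i = 1, 2: Kᵢ = [Kᵢ, Q] = [Kᵢ, Hᵢ] ≤ Hᵢ′ and Kᵢ is normal in H°; H_∘ = K₁K₂; and [K₁, K₂] ≤ O_p(H°). -/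
theorem result {G : Type*} [Group G] [Finite G] {p : ℕ} [Fact p.Prime] (Q : Subgroup G) (hQp : IsPGroup p ↥Q) (hQ1 : Q ≠ ⊥) (hwc : Cfsg.IsWeaklyClosedSubgroup p Q) (Hc : Subgroup G) (hHc : Hc = Cfsg.weakClosure Q ⊤) (H₁ H₂ : Subgroup G) (hn₁ : H₁ ≤ Hc ∧ Hc ≤ Subgroup.normalizer ((H₁ : Subgroup G) : Set G)) (hn₂ : H₂ ≤ Hc ∧ Hc ≤ Subgroup.normalizer ((H₂ : Subgroup G) : Set G)) (hprod : H₁ ⊔ H₂ = Hc) (hcomm : ⁅H₁, H₂⁆ ≤ Subgroup.normalizer ((Q : Subgroup G) : Set G)) (K₁ K₂ : Subgroup G) (hK₁ : K₁ = ((Cfsg.pResidual p ↥(Cfsg.weakClosure Q (H₁ ⊔ Q))).map ((Cfsg.weakClosure Q (H₁ ⊔ Q))).subtype)) (hK₂ : K₂ = ((Cfsg.pResidual p ↥(Cfsg.weakClosure Q (H₂ ⊔ Q))).map ((Cfsg.weakClosure Q (H₂ ⊔ Q))).subtype)) : (⁅K₁, Q⁆ = K₁ ∧ ⁅K₁, H₁⁆ = K₁ ∧ K₁ ≤ ⁅H₁, H₁⁆ ∧ Hc ≤ Subgroup.normalizer ((K₁ : Subgroup G) : Set G)) ∧ (⁅K₂, Q⁆ = K₂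 ∧ ⁅K₂, H₂⁆ = K₂ ∧ K₂ ≤ ⁅H₂, H₂⁆ ∧ Hc ≤ Subgroup.normalizer ((K₂ : Subgroup G) : Set G)) ∧ K₁ ⊔ K₂ = ((Cfsg.pResidual p ↥Hc).map (Hc).subtype) ∧ ⁅K₁, K₂⁆ ≤ (Cfsg.pCoreOf p Hc) := by
  have h := (wc_iff hQp).1 hwc
  have hQH : Q ≤ Hc := hHc ▸ le_weakClosure le_top
  have hc : ncl Q Hc = Hc := by
    rw [← h.weakClosure_eq hQp hQH]
    exact le_antisymm (weakClosure_le _ _) (hHc.le.trans (weakClosure_le_iff.2 fun g hg =>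
      cj_le_weakClosure (hHc ▸ cj_le_weakClosure hg)))
  rw [resOf_def, h.weakClosure_eq hQp le_sup_right] at hK₁ hK₂
  obtain ⟨a1, a2, a3, a4⟩ := aux hQp h hQH hc hn₁ hn₂ hprod hcomm hK₁
  obtain ⟨b1, b2, -, b4⟩ := aux hQp h hQH hc hn₂ hn₁ (sup_comm H₁ H₂ ▸ hprod)
    (Subgroup.commutator_comm H₁ H₂ ▸ hcomm) hK₂
  refine ⟨a1, b1, le_antisymm (sup_le ?_ ?_) ?_, (Subgroup.commutator_mono le_rfl b2).trans a3⟩
  · exact hK₁.le.trans (resOf_mono (ncl_le_of_le le_sup_right |>.trans (sup_le hn₁.1 hQH)))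
  · exact hK₂.le.trans (resOf_mono (ncl_le_of_le le_sup_right |>.trans (sup_le hn₂.1 hQH)))
  have hn : Hc ≤ NN(K₁ ⊔ K₂) := le_NN_sup a1.2.2.2 b1.2.2.2
  refine (resOf_mono (hc.ge.trans (ncl_le le_sup_right (hprod.ge.trans (sup_le ?_ ?_))))).trans
    (resOf_sup_le hQp (hQH.trans hn))
  · rw [sup_right_comm, ← a4]
    exact le_NN_sup (le_sup_left.trans (le_NN_ncl _ _)) (hn₁.1.trans b1.2.2.2)
  · rw [sup_assoc, ← b4]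
    exact le_NN_sup (hn₂.1.trans a1.2.2.2) (le_sup_left.trans (le_NN_ncl _ _))

end Cfsg.Agent.S2859
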