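import Cfsg.Statements.S2860
import Cfsg.Agent.H10.PMin2
import Cfsg.Agent.S2843

set_option autoImplicit false
open Cfsg H10

namespace Cfsg.Agent.S2860

/-- Let Q be a nontrivial large p-subgroup of the finite group H, U a nontrivial elementary abelian p-subgroup of H, and Q ≤ E ≤ N_H(U) with Q not normal in E. Suppose O_p(E/C_E(U)) = 1 and O^p(E)·C_E(U)/C_E(U) is quasisimple. Let E° be the weak closure of Q in E (generated by the conjugates of Q inside E) and E_∘ = O^p(E°). Then O^p(E)·C_E(U) = E_∘·C_E(U); E_∘ is perfect and equals O^p(E_∘); E_∘/C_{E_∘}(U) and E_∘/O_p(E_∘) are quasisimple; and E_∘ = [E_∘, Y] for every p-subgroup Y of E not centralizing U. -/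
theorem result {G : Type*} [Group G] [Finite G] {p : ℕ} [Fact p.Prime] (Q : Subgroup G) (hQp : IsPGroup p ↥Q) (hQ1 : Q ≠ ⊥) (hQ : Cfsg.IsLarge Q) (U : Subgroup G) (hU : Cfsg.IsElementaryAbelian p U) (hU1 : U ≠ ⊥) (E : Subgroup G) (hQE : Q ≤ E) (hEU : E ≤ Subgroup.normalizer ((U : Subgroup G) : Set G)) (hQn : ¬ E ≤ Subgroup.normalizer ((Q : Subgroup G) : Set G)) [hn : ((Subgroup.centralizer ((U : Subgroup G) : Set G)).subgroupOf E).Normal] (hred : Cfsg.pCore p (↥E ⧸ (Subgroup.centralizer ((U : Subgroup G) : Set G)).subgroupOf E) = ⊥) (hqs : Cfsg.IsQuasisimple ↥(((Cfsg.pResidual p ↥E) ⊔ (Subgroup.centralizer ((U : Subgroup G) : Set G)).subgroupOf E).map (QuotientGroup.mk' ((Subgroup.centralizer ((U : Subgroup G) : Set G)).subgroupOf E)))) (Er : Subgroup G) (hEr : Er = ((Cfsg.pResidual p ↥(Cfsg.weakClosure Q E)).map ((Cfsg.weakClosure Q E)).subtype)) [hn2 : ((Subgroup.centralizer ((U : Subgroup G) : Set G)).subgroupOf Er).Normal] : ((Cfsg.pResidual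 p ↥E).map (E).subtype) ⊔ (E ⊓ Subgroup.centralizer ((U : Subgroup G) : Set G)) = Er ⊔ (E ⊓ Subgroup.centralizer ((U : Subgroup G) : Set G)) ∧ ⁅Er, Er⁆ = Er ∧ ((Cfsg.pResidual p ↥Er).map (Er).subtype) = Er ∧ Cfsg.IsQuasisimple (↥Er ⧸ (Subgroup.centralizer ((U : Subgroup G) : Set G)).subgroupOf Er) ∧ Cfsg.IsQuasisimple (↥Er ⧸ Cfsg.pCore p ↥Er) ∧ ∀ Y : Subgroup G, Y ≤ E → IsPGroup p ↥Y → ¬ Y ≤ Subgroup.centralizer ((U : Subgroup G) : Set G) → ⁅Er, Y⁆ = Er := by
  have hwc := large_wc hQ hQp hQ1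
  have hUp := elab_isPGroup hU
  have hW : weakClosure Q E = ncl Q E := hwc.weakClosure_eq hQp hQE
  have h43 := (S2843.result Q hQp hQ1 hQ E hQE U hUp hU1 hEU).2.1
  rw [resOf_def, hW] at hEr
  rw [hW] at h43
  simp only [resOf_def]
  obtain ⟨-, e2⟩ := hwc.resOf_ncl hQp hQE
  rw [← hEr] at e2
  set C := CC(U) with hC
  set W := ncl Q E with hWd
  have hWE : W ≤ E := ncl_le_of_le hQE
  have hrW : Er ≤ W := hEr ▸ resOf_le W
  have hrE : Er ≤ E := hrW.trans hWE
  have hEr' : E ≤ NN(Er) := hEr ▸ le_NN_resOf' (le_NN_ncl Q E)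
  have hrr : resOf p Er = Er := by rw [hEr, resOf_resOf]
  have hEC : E ≤ NN(C) := le_NN_CC hEU
  have hX : IsQuasisimple (bar E C (resOf p E)) := by
    rw [← bar_sup_ker (resOf_le E), ← bar_def, Subgroup.subgroupOf_sup (resOf_le E) inf_le_left,
      resOf_subgroupOf, Subgroup.inf_subgroupOf_left]
    exact hqs
  have h0 : pCoreOf p (⊤ : Subgroup (E ⧸ C.subgroupOf E)) = ⊥ := by rw [pCoreOf_top, hred]
  have hXr : bar E C (resOf p E) = resOf p ⊤ := by rw [bar_resOf le_rfl, bar_self]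
  have key : ∀ Y : Subgroup G, Y ≤ E → IsPGroup p Y → ¬ Y ≤ C →
      resOf p E ≤ ⁅resOf p E, Y⁆ ⊔ (E ⊓ C) := by
    intro Y hY hYp hYC
    rw [← bar_le_bar (resOf_le E) (comm_le_of_le (resOf_le E) hY), bar_commutator (resOf_le E) hY]
    refine (H5.qs_commutator_eq hX (bar_le_NN (resOf_le E) (hY.trans (le_NN_resOf E)))
      fun h => hYC ?_).ge
    rw [← bar_eq_bot hY, eq_bot_iff, ← h0]
    rw [comm_eq_bot', hXr] at h
    set D := CC(resOf p (⊤ : Subgroup (E ⧸ C.subgroupOf E)))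
    have hDn : ⊤ ≤ NN(D) := le_NN_CC (le_NN_resOf ⊤)
    obtain ⟨T, hT, hYT⟩ := exists_isSylowIn_ge (isPGroup_bar hYp) h
    exact hYT.trans ((hT.pCoreOf_eq (hT.le_of_resOf_le (le_trans (le_CC_symm (hT.le.trans
      (CC_anti (resOf_mono le_top)))) (CC_le_NN T)) (le_NN_self T))).ge.trans
      (pCoreOf_le_of_normal le_top hDn))
  have h1 : resOf p E ⊔ (E ⊓ C) = Er ⊔ (E ⊓ C) := by
    refine le_antisymm (sup_le ?_ le_sup_right) (sup_le_sup_right (hEr ▸ resOf_mono hWE) _)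
    have h2 := key Q hQE hQp fun h => hQn (hEU.trans (hQ.2 U (le_CC_symm h) hU1))
    have h3 : resOf p E ≤ W ⊔ (E ⊓ C) := h2.trans (sup_le_sup_right
      ((Subgroup.commutator_mono (resOf_le E) le_rfl).trans (comm_le_ncl Q E)) _)
    exact (resOf_le_resOf h3).trans (hEr ▸ resOf_sup_le_sup
      (hWE.trans (le_NN_inf (le_NN_self E) hEC)))
  have hb : bar E C Er = bar E C (resOf p E) := by
    rw [← bar_sup_ker hrE, ← h1, bar_sup_ker (resOf_le E)]
  have hOE : E ≤ NN(pCoreOf p W) := le_NN_pCoreOf' (le_NN_ncl Q E)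
  have hOW : pCoreOf p W ≤ E := (pCoreOf_le W).trans hWE
  have h4 : ∀ N, N ≤ Er → Er ≤ NN(N) → pCoreOf p W ≤ NN(N) → Er ≤ N ⊔ (E ⊓ C) → ⁅N, W⁆ ≤ N → N = Er := by
    intro N hN hn hn' h hc
    refine le_antisymm hN (hrr.ge.trans ((resOf_mono ?_).trans
      (resOf_sup_le (isPGroup_pCoreOf W) hn')))
    have h5 := dedekind_right hN ((inf_le_left : Er ⊓ (E ⊓ C) ≤ Er).trans hn)
    have h6 : Er ≤ N ⊔ Er ⊓ (E ⊓ C) := by
      have := dedekind_left hN ((hN.trans hrE).trans (le_NN_inf (le_NN_self E) hEC))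
      rw [inf_eq_right.2 h, inf_comm] at this
      exact this.le
    refine e2.ge.trans ((Subgroup.commutator_mono h6 (le_ncl Q E)).trans (comm_sup_le
      (le_sup_left.trans (le_NN_self _)) (le_NN_sup (inf_le_left.trans hn)
        ((inf_le_left.trans hrE).trans hOE)) (hc.trans le_sup_left) ?_))
    rw [Subgroup.commutator_comm]
    exact ((Subgroup.commutator_mono le_rfl (inf_le_right.trans inf_le_right)).trans h43).trans
      le_sup_right
  have h2 : ⁅Er, Er⁆ = Er := by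
    have h5 := le_NN_commutator hEr' hEr'
    refine h4 _ (comm_le_left (le_NN_self _)) (hrE.trans h5) (hOW.trans h5) ?_
      (comm_le_left (hWE.trans h5))
    rw [← bar_le_bar hrE (comm_le_of_le hrE hrE), bar_commutator hrE hrE, hb, H5.qs_perfect hX]
  let f : Er →* E ⧸ C.subgroupOf E := (QuotientGroup.mk' _).comp (Subgroup.inclusion hrE)
  have hfk : f.ker = C.subgroupOf Er := by
    ext x; simp [f, MonoidHom.mem_ker, Subgroup.mem_subgroupOf]
  have hfr : f.range = bar E C Er := by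
    rw [← bar_def, MonoidHom.range_comp, Subgroup.inclusion_range]
  have hq1 : IsQuasisimple (Er ⧸ C.subgroupOf Er) :=
    H5.qs_of_equiv (hfr.symm ▸ hb.symm ▸ hX : IsQuasisimple f.range)
      ((QuotientGroup.quotientKerEquivRange f).symm.trans (QuotientGroup.quotientMulEquivOfEq hfk))
  have hO : pCoreOf p Er ≤ C := (redOn_iff.2 hred).pgroup_le (isPGroup_pCoreOf _)
    ((pCoreOf_le _).trans hrE) (le_NN_pCoreOf' hEr')
  refine ⟨h1, h2, hrr, hq1, ?_, fun Y hY hYp hYC => ?_⟩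
  · have hle : pCore p Er ≤ C.subgroupOf Er := pCoreOf_subgroupOf Er ▸ Subgroup.comap_mono hO
    have : ((pCoreOf p Er).subgroupOf Er).Normal := normal_subgroupOf (le_NN_pCoreOf Er)
    refine H5.qs_of_equiv (X := Er ⧸ (pCoreOf p Er).subgroupOf Er) ?_
      (QuotientGroup.quotientMulEquivOfEq (pCoreOf_subgroupOf Er))
    let g : Er ⧸ (pCoreOf p Er).subgroupOf Er →* Er ⧸ C.subgroupOf Er :=
      QuotientGroup.map _ _ (MonoidHom.id _) (Subgroup.comap_mono hO)
    have hg : Function.Surjective g := fun x => by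
      obtain ⟨x, rfl⟩ := QuotientGroup.mk_surjective x
      exact ⟨x, rfl⟩
    rw [← H5.qs_top_iff]
    refine H5.qs_of_map g ?_ ?_ (by rwa [← MonoidHom.range_eq_map, MonoidHom.range_eq_top.2 hg, H5.qs_top_iff])
    · rw [← bar_self, ← bar_commutator le_rfl le_rfl, h2]
    · have h5 : bar Er (pCoreOf p Er) (Er ⊓ C) ≤ CC(bar Er (pCoreOf p Er) Er) := by
        rw [bar_le_CC_iff inf_le_left le_rfl]
        refine le_trans (le_inf ?_ (comm_le_of_le inf_le_left le_rfl)) (pCoreOf_inf_le hrW)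
        rw [Subgroup.commutator_comm]
        exact (Subgroup.commutator_mono hrW inf_le_right).trans h43
      rw [bar_self] at h5
      rintro x ⟨-, hx⟩
      obtain ⟨x, rfl⟩ := QuotientGroup.mk_surjective x
      exact h5 (mem_bar x.2 ⟨x.2, (QuotientGroup.eq_one_iff x).1 hx⟩)
  · have h5 : Er ≤ ⁅Er, Y⁆ ⊔ (E ⊓ C) := by
      rw [← bar_le_bar hrE (comm_le_of_le hrE hY), bar_commutator hrE hY, hb,
        ← bar_commutator (resOf_le E) hY, bar_le_bar (resOf_le E) (comm_le_of_le (resOf_le E) hY)]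
      exact key Y hY hYp hYC
    have hN : ⁅Er, Y⁆ ≤ Er := comm_le_left (hY.trans hEr')
    refine le_antisymm hN (hrr.ge.trans ((resOf_mono ?_).trans (resOf_sup_le (isPGroup_pCoreOf Er)
      ((pCoreOf_le Er).trans (left_le_NN_comm Er Y)))))
    have h6 : Er ≤ ⁅Er, Y⁆ ⊔ Er ⊓ (E ⊓ C) := by
      have := dedekind_left hN ((hN.trans hrE).trans (le_NN_inf (le_NN_self E) hEC))
      rw [inf_eq_right.2 h5, inf_comm] at this
      exact this.le
    refine h2.ge.trans ((Subgroup.commutator_mono h6 le_rfl).trans (comm_sup_le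
      (le_sup_left.trans (le_NN_self _)) (le_NN_sup (inf_le_left.trans (left_le_NN_comm _ _))
        (inf_le_left.trans (le_NN_pCoreOf _))) ((comm_le_left (left_le_NN_comm _ _)).trans le_sup_left)
        (le_trans ?_ le_sup_right)))
    refine le_trans (le_inf ?_ (comm_le_of_le inf_le_left le_rfl)) (pCoreOf_inf_le hrW)
    rw [Subgroup.commutator_comm]
    exact (Subgroup.commutator_mono hrW (inf_le_right.trans inf_le_right)).trans h43

end Cfsg.Agent.S2860
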