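import Cfsg.Statements.S2861
import Cfsg.Agent.H10.YL3
import Cfsg.Agent.H10.Act

set_option autoImplicit false
open Cfsg H10

namespace Cfsg.Agent.S2861

/-- Standing hypotheses: G a finite group, S a Sylow p-subgroup, Q a nontrivial large p-subgroup of G contained in S, M a subgroup containing S with the basic property (M ∈ 𝔐_G(S)); Y_M the largest p-reduced normal subgroup of M and M† = M·C_G(Y_M). Let L ∈ 𝔏_G(Y_M) (L ∈ 𝔏_G(Y_M): Y_M ≤ L; O_p(L) is the normal closure in L of Y_M ∩ O_p(L) and normalizes Y_M; L is Y_M-minimal of characteristic p with N_L(Y_M) its unique maximal subgroup over Y_M; and L/O_p(L) ≅ SL₂(q) with q = |Y_M : Y_M ∩ O_p(L)|, or p = 2 and L/O_p(L) is a Suzuki group Sz(q) or dihedral of order 2r, r an odd prime) and A = O_p(L). Then Y_M·A/A is the unique nontrivial elementary abelian normal p-subgroup of N_L(Y_M)/A. -/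
theorem result {G : Type*} [Group G] [Finite G] {p : ℕ} [Fact p.Prime] (S : Sylow p G) (Q : Subgroup G) (hQp : IsPGroup p ↥Q) (hQ1 : Q ≠ ⊥) (hQS : Q ≤ (S : Subgroup G)) (hQ : Cfsg.IsLarge Q) (M : Subgroup G) (hSM : (S : Subgroup G) ≤ M) (hM : Cfsg.IsInFrakM p M) (L : Subgroup G) (hL : Cfsg.IsInFrakL p M L) (NL : Subgroup G) (hNL : NL = L ⊓ Subgroup.normalizer (((Cfsg.largestPReducedOf p M) : Subgroup G) : Set G)) [hn : (((Cfsg.pCoreOf p L)).subgroupOf NL).Normal] : let Ybar : Subgroup (↥NL ⧸ ((Cfsg.pCoreOf p L)).subgroupOf NL) := (((Cfsg.largestPReducedOf p M)).subgroupOf NL).map (QuotientGroup.mk' (((Cfsg.pCoreOf p L)).subgroupOf NL)); Ybar ≠ ⊥ ∧ Ybar.Normal ∧ Cfsg.IsElementaryAbelian p Ybar ∧ ∀ (V : Subgroup (↥NL ⧸ ((Cfsg.pCoreOf p L)).subgroupOf NL)), V.Normal → Cfsg.IsElementaryAbelian p V → V ≠ ⊥ → V = Ybar := by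
  haveI : (pCore p L).Normal := pCore_normal'
  have hT := yT_of_frakL hL
  have hYN : YOf p M ≤ NL := hNL ▸ le_inf hL.1 (le_NN_self _)
  have hAN : pCoreOf p L ≤ NL := hNL ▸ le_inf (pCoreOf_le L) hL.2.2.1
  have hNn : NL ≤ NN(YOf p M) := hNL ▸ inf_le_right
  have hNL' : NL ≤ L := hNL ▸ inf_le_left
  intro Ybar
  have hY : Ybar = bar NL (pCoreOf p L) (YOf p M) := rfl
  refine ⟨?_, ?_, elab_map _ (elab_subgroupOf (elab_YOf M) NL), ?_⟩
  · rw [hY, Ne, bar_eq_bot hYN]
    intro e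
    refine hT.not_le ?_
    rw [← pCoreOf_subgroupOf]
    exact Subgroup.subgroupOf_mono L e
  · exact bar_normal hYN hNn
  · intro V hVn hV h0
    set W := unbar NL (pCoreOf p L) V with hW
    have hWN : W ≤ NL := unbar_le V
    have hWL : W ≤ L := hWN.trans hNL'
    have hbW : bar NL (pCoreOf p L) W = V := bar_unbar V
    have h1 : ⁅W, W⁆ ≤ pCoreOf p L := by
      rw [← bar_le_CC_iff hWN hWN, hbW]; exact elab_le_CC hV
    have h2 : ∀ w ∈ W, w ^ p ∈ pCoreOf p L := by
      intro w hw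
      have h3 := hV.2 _ ((mem_unbar (hWN hw)).1 hw)
      rw [← QuotientGroup.mk_pow, QuotientGroup.eq_one_iff] at h3
      exact h3
    have h3 : ¬ W ≤ pCoreOf p L := fun e => h0 (by rw [← hbW, bar_eq_bot hWN]; exact e)
    have h4 := hT.uniq (yCase_of_frakL hL) (W := W.subgroupOf L)
      (by rw [← subgroupOf_commutator hWL hWL, ← pCoreOf_subgroupOf]
          exact Subgroup.subgroupOf_mono L h1)
      (fun w hw => by rw [← pCoreOf_subgroupOf]; exact h2 w hw)
      (fun e => h3 (by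
        rw [← pCoreOf_subgroupOf] at e
        rw [← map_subgroupOf_of_le hWL]
        exact map_subtype_le_iff.2 e))
      (by rw [NN_subgroupOf hL.1]; exact Subgroup.subgroupOf_mono L (hWN.trans hNn))
      (by
        rw [NN_subgroupOf hL.1, NN_subgroupOf hWL]
        intro x hx
        exact le_NN_unbar_of_normal V (hNL ▸ ⟨x.2, hx⟩ : (x : G) ∈ NL))
    have h5 := congrArg (Subgroup.map L.subtype) h4
    rw [Subgroup.map_sup, Subgroup.map_sup, map_subgroupOf_of_le hWL, map_subgroupOf_of_le hL.1,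
      pCoreOf_def] at h5
    rw [hY, ← hbW, ← bar_sup_ker hWN, ← bar_sup_ker hYN, inf_eq_right.2 hAN, h5]

end Cfsg.Agent.S2861
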