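import Cfsg.Statements.S2864
import Cfsg.Agent.H10.PMin2

set_option autoImplicit false
open Cfsg H10

namespace Cfsg.Agent.S2864

/-- Standing hypotheses: G a finite group, S a Sylow p-subgroup, Q a nontrivial large p-subgroup of G contained in S, M a subgroup containing S with the basic property (M ∈ 𝔐_G(S)); Y_M the largest p-reduced normal subgroup of M and M† = M·C_G(Y_M). Let I be a nontrivial normal p-subgroup of M and Y ≤ O_p(M†); let L be a subgroup of G containing Y and A a normal p-subgroup of L with I ≤ A ≤ M. If [Y, A] ≤ [I, A], then Y ≤ O_p(L). -/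
theorem result {G : Type*} [Group G] [Finite G] {p : ℕ} [Fact p.Prime] (S : Sylow p G) (Q : Subgroup G) (hQp : IsPGroup p ↥Q) (hQ1 : Q ≠ ⊥) (hQS : Q ≤ (S : Subgroup G)) (hQ : Cfsg.IsLarge Q) (M : Subgroup G) (hSM : (S : Subgroup G) ≤ M) (hM : Cfsg.IsInFrakM p M) (I : Subgroup G) (hI1 : I ≠ ⊥) (hIp : IsPGroup p ↥I) (hIM : I ≤ M ∧ M ≤ Subgroup.normalizer ((I : Subgroup G) : Set G)) (Y : Subgroup G) (hY : Y ≤ (Cfsg.pCoreOf p (M ⊔ Subgroup.centralizer (((Cfsg.largestPReducedOf p M) : Subgroup G) : Set G)))) (L : Subgroup G) (hYL : Y ≤ L) (A : Subgroup G) (hAp : IsPGroup p ↥A) (hAL : A ≤ L ∧ L ≤ Subgroup.normalizer ((A : Subgroup G) : Set G)) (hIA : I ≤ A) (hAM : A ≤ M) (hc : ⁅Y, A⁆ ≤ ⁅I, A⁆) : Y ≤ (Cfsg.pCoreOf p L) := by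
  have hG := large_parabolicChar hQ hQp
  have h1 : CC(A) ≤ dag p M := (CC_anti hIA).trans ((CC_le_NN I).trans
    (frakM_NN_le hG hM (isSylowIn_top S) hSM hIp hI1 hIM.2))
  set W := ncl Y L with hW
  have hWL : W ≤ L := ncl_le_of_le hYL
  have hLW : L ≤ NN(W) := le_NN_ncl Y L
  have hLF : L ≤ NN(frOf A) := le_NN_frOf hAL.2
  have h2 : resOf p W ≤ dag p M := (resOf_le_CC_of_frOf hAp (hWL.trans hAL.2) (by
    rw [Subgroup.commutator_comm]
    exact comm_ncl_le (hc.trans ((Subgroup.commutator_mono hIA le_rfl).trans (comm_le_frOf hAp)))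
      (hYL.trans hLF) hAL.2 hLF)).trans h1
  have hLR : L ≤ NN(resOf p W) := le_NN_resOf' hLW
  have h3 : ⁅W, resOf p W⁆ ≤ pCoreOf p L := by
    refine comm_ncl_le ?_ (hYL.trans (le_NN_pCoreOf L)) hLR (le_NN_pCoreOf L)
    refine (le_inf ((Subgroup.commutator_mono hY h2).trans (comm_le_left (le_NN_pCoreOf _)))
      (comm_le_right (hYL.trans hLR))).trans ((pCoreOf_inf_le h2).trans
        (pCoreOf_le_of_normal ((resOf_le W).trans hWL) hLR))
  obtain ⟨T, hT, hYT⟩ := exists_isSylowIn_ge ((isPGroup_pCoreOf _).to_le hY) (le_ncl Y L)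
  have h4 : W ≤ NN(T) := hT.le_of_resOf_le (le_NN_of_comm_le_left
    ((le_inf ((Subgroup.commutator_mono hT.le le_rfl).trans h3)
      (comm_le_of_le hT.le (resOf_le W))).trans ((pCoreOf_inf_le hWL).trans hT.pCoreOf_le)))
    (le_NN_self T)
  exact hYT.trans ((hT.pCoreOf_eq h4).ge.trans (pCoreOf_le_of_normal hWL hLW))

end Cfsg.Agent.S2864
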