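import Cfsg.Statements.S2872
import Cfsg.Agent.H10.TT
import Cfsg.Agent.H7.PGrp

set_option autoImplicit false
open Cfsg H10

namespace Cfsg.Agent.S2872

/-- Let S be a Sylow 2-subgroup of the finite group G. Then G has a proper normal subgroup of 2-power index (O²(G) ≠ G), or Ω₁(Z(S)) is contained in the Frattini subgroup of S, or N_G(S) acts nontrivially on Ω₁(Z(S)) by conjugation. -/
theorem result {G : Type*} [Group G] [Finite G] (S : Sylow 2 G) : Cfsg.pResidual 2 G ≠ ⊤ ∨ Cfsg.omegaOne 2 ((S : Subgroup G) ⊓ Subgroup.centralizer ((S : Subgroup G) : Set G)) ≤ (frattini ↥(S : Subgroup G)).map (S : Subgroup G).subtype ∨ ∃ g ∈ Subgroup.normalizer ((S : Subgroup G) : Set G), ∃ z ∈ Cfsg.omegaOne 2 ((S : Subgroup G) ⊓ Subgroup.centralizer ((S : Subgroup G) : Set G)), g * z * g⁻¹ ≠ z := by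
  by_contra h
  push Not at h
  obtain ⟨h1, h2, h3⟩ := h
  have hS := isSylowIn_top S
  obtain ⟨z, hz, hz'⟩ := SetLike.not_le_iff_exists.1 h2
  obtain ⟨hzS, hzC, hz2⟩ := mem_ZO.1 hz
  have h4 : (⟨z, hzS⟩ : (S : Subgroup G)) ∉ frattini (S : Subgroup G) := fun h =>
    hz' (Subgroup.mem_map_of_mem _ h)
  rw [frattini, Order.radical] at h4
  simp only [Subgroup.mem_iInf, not_forall] at h4
  obtain ⟨M, hM, hzM⟩ := h4
  have h5 : (M.map (S : Subgroup G).subtype).relIndex S = 2 := by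
    rw [Subgroup.relIndex, subgroupOf_map_subtype']
    exact H7.index_eq_prime_of_isCoatom S.isPGroup' hM
  obtain ⟨g, hg, h6⟩ := thompson_transfer_two h1 hS h5 hzS (by rw [← pow_two, hz2])
    (fun ⟨x, hx, e⟩ => hzM (by rwa [← show x = ⟨z, hzS⟩ from Subtype.ext e])) S.isPGroup'
    (CC_zpowers z ▸ le_CC_symm (Subgroup.zpowers_le_of_mem hzC))
  have h7 := h3 g (mem_NN_of_cj_le h6) z hz
  rw [h7] at hg
  obtain ⟨x, hx, e⟩ := hg.2
  exact hzM (by rwa [← show x = ⟨z, hzS⟩ from Subtype.ext e])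

end Cfsg.Agent.S2872
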