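import Cfsg.Statements.S2873
import Cfsg.Agent.H10.TT
open Subgroup

set_option autoImplicit false
open Cfsg

namespace Cfsg.Agent.S2873



/-- Let G be a finite group and r an odd prime such that G ⧸ O₂(G) is dihedral of order 2r, and let R be a Sylow r-subgroup of G with C_{O₂(G)}(R) = 1. Then N_G(R) is dihedral of order 2r; for any involution a of N_G(R), every involution of G outside O₂(G) is conjugate to a; and |C_{O₂(G)}(a)|² = |O₂(G)|. -/
theorem result {G : Type*} [Group G] [Finite G] {r : ℕ} [Fact r.Prime] (hr : r ≠ 2) [hN : (Cfsg.pCore 2 G).Normal] (hquot : Nonempty (G ⧸ Cfsg.pCore 2 G ≃* DihedralGroup r)) (R : Sylow r G) (hC : Cfsg.pCore 2 G ⊓ Subgroup.centralizer ((R : Subgroup G) : Set G) = ⊥) : Nonempty (↥(Subgroup.normalizer ((R : Subgroup G) : Set G)) ≃* DihedralGroup r) ∧ ∀ a : G, a ∈ Subgroup.normalizer ((R : Subgroup G) : Set G) → orderOf a = 2 → (∀ b : G, orderOf b = 2 → b ∉ Cfsg.pCore 2 G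 → ∃ g : G, g * a * g⁻¹ = b) ∧ Nat.card ↥(Cfsg.pCore 2 G ⊓ Subgroup.centralizer ({a} : Set G)) ^ 2 = Nat.card ↥(Cfsg.pCore 2 G) := by
  obtain ⟨e⟩ := hquot
  have hp : r.Prime := Fact.out
  set Q := Cfsg.pCore 2 G with hQ
  have hQp : IsPGroup 2 Q := H1.isPGroup_pCore 2
  set N := normalizer ((R : Subgroup G) : Set G)
  let π : G →* DihedralGroup r := e.toMonoidHom.comp (QuotientGroup.mk' Q)
  have πs : Function.Surjective π := e.surjective.comp (QuotientGroup.mk'_surjective Q)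
  have πk : ∀ g, π g = 1 ↔ g ∈ Q := fun g => by
    simp [π]
  have RQ : ∀ x ∈ (R : Subgroup G), x ∈ Q → x = 1 := fun x hx hq =>
    (disjoint_def.1 (IsPGroup.disjoint_of_ne r 2 hr _ _ R.isPGroup' hQp)) hx hq
  have πN : ∀ x ∈ N, ∀ y ∈ N, π x = π y → x = y := fun x hx y hy h => by
    have hq : x⁻¹ * y ∈ Q := (πk _).1 (by rw [map_mul, map_inv, h, inv_mul_cancel])
    have hn : x⁻¹ * y ∈ N := mul_mem (inv_mem hx) hy
    have : x⁻¹ * y ∈ Q ⊓ centralizer ((R : Subgroup G) : Set G) := ⟨hq, fun u hu => by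
      have := RQ (x⁻¹ * y * u * (x⁻¹ * y)⁻¹ * u⁻¹) (mul_mem ((mem_normalizer_iff.1 hn u).1 hu) (inv_mem hu))
        (by rw [mul_assoc, mul_assoc, ← mul_assoc u]; exact mul_mem hq (hN.conj_mem _ (inv_mem hq) u))
      rw [mul_inv_eq_one, mul_inv_eq_iff_eq_mul] at this
      exact this.symm⟩
    rw [hC, mem_bot] at this
    exact inv_mul_eq_one.1 this
  have odd : Odd r := hp.odd_of_ne_two hr
  have two : (2 : ZMod r) ≠ 0 := fun h =>
    hr ((Nat.prime_dvd_prime_iff_eq hp Nat.prime_two).1 ((ZMod.natCast_eq_zero_iff 2 r).1 h))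
  have rot : ∀ x ∈ (R : Subgroup G), ∃ i, π x = DihedralGroup.r i := fun x hx => by
    obtain ⟨k, hk⟩ := R.isPGroup' ⟨x, hx⟩
    have hk' : π x ^ r ^ k = 1 := by rw [← map_pow, show x ^ r ^ k = 1 from congrArg Subtype.val hk, map_one]
    rcases h : π x with i | i
    · exact ⟨i, rfl⟩
    · have := orderOf_dvd_of_pow_eq_one hk'
      rw [h, DihedralGroup.orderOf_sr] at this
      exact absurd (even_iff_two_dvd.2 this) (Nat.not_even_iff_odd.2 odd.pow)
  have refl : ∀ d : DihedralGroup r, d * d = 1 → d ≠ 1 → ∃ i, d = DihedralGroup.sr i := by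
    rintro (i | i) h h1
    · rw [DihedralGroup.r_mul_r, DihedralGroup.one_def, DihedralGroup.r.injEq, ← two_mul] at h
      exact absurd (by rw [(mul_eq_zero.1 h).resolve_left two]; rfl) h1
    · exact ⟨i, rfl⟩
  have RN : (R : Subgroup G) ≤ N := le_normalizer
  have hsurj : N.map π = ⊤ := by
    have hn : ((R : Subgroup G).map π).Normal := ⟨by
      rintro _ ⟨x, hx, rfl⟩ d
      obtain ⟨i, hi⟩ := rot x hx
      rcases d with j | j
      · exact ⟨x, hx, by rw [hi]; simp⟩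
      · exact ⟨x⁻¹, inv_mem hx, by rw [map_inv, hi]; simp⟩⟩
    have := congrArg (map π) (Sylow.normalizer_sup_eq_top' R (N := ((R : Subgroup G).map π).comap π)
      (le_comap_map _ _))
    rw [Subgroup.map_sup, map_comap_eq_self_of_surjective πs, map_top_of_surjective _ πs] at this
    exact (sup_eq_left.2 (map_mono RN)).symm.trans this
  refine ⟨⟨MulEquiv.ofBijective (π.comp N.subtype) ⟨fun x y h => Subtype.ext (πN _ x.2 _ y.2 h),
    fun d => ?_⟩⟩, fun a ha a2 => ?_⟩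
  · obtain ⟨x, hx, rfl⟩ : d ∈ N.map π := hsurj ▸ mem_top d
    exact ⟨⟨x, hx⟩, rfl⟩
  have F1 : ∀ ρ ∈ (R : Subgroup G), ρ ≠ 1 → ∀ q ∈ Q, q * ρ = ρ * q → q = 1 := fun ρ hρ ρ1 q hq h => by
    have : q ∈ Q ⊓ centralizer ((R : Subgroup G) : Set G) := ⟨hq, fun y hy => by
      obtain ⟨i, hi⟩ := rot ρ hρ
      obtain ⟨j, hj⟩ := rot y hy
      have i0 : i ≠ 0 := fun e => ρ1 (RQ ρ hρ ((πk ρ).1 (by rw [hi, e]; rfl)))
      have : y = ρ ^ (j / i).val := πN _ (RN hy) _ (RN (pow_mem hρ _)) (by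
        rw [map_pow, hi, hj, DihedralGroup.r_pow, ZMod.natCast_zmod_val, mul_div_cancel₀ _ i0])
      rw [this]
      exact ((Commute.pow_right h _).eq).symm⟩
    rwa [hC, mem_bot] at this
  have F2 : ∀ ρ ∈ (R : Subgroup G), ρ ≠ 1 → ∀ g, π g = π ρ → ∃ s ∈ Q, g = s * ρ * s⁻¹ :=
    fun ρ hρ ρ1 g hg => by
    let f : Q → Q := fun s => ⟨s * ρ * s⁻¹ * ρ⁻¹, by
      rw [mul_assoc, mul_assoc, ← mul_assoc ρ]; exact mul_mem s.2 (hN.conj_mem _ (inv_mem s.2) ρ)⟩
    have fi : Function.Injective f := fun s t h => by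
      have h' : (s : G) * ρ * (s : G)⁻¹ = t * ρ * (t : G)⁻¹ := mul_right_cancel (congrArg Subtype.val h)
      have := F1 ρ hρ ρ1 ((t : G)⁻¹ * s) (mul_mem (inv_mem t.2) s.2) (by
        calc (t : G)⁻¹ * s * ρ = (t : G)⁻¹ * (s * ρ * (s : G)⁻¹) * s := by group
          _ = _ := by rw [h']; group)
      exact Subtype.ext (inv_mul_eq_one.1 this).symm
    obtain ⟨s, hs⟩ := Finite.surjective_of_injective fi ⟨g * ρ⁻¹, (πk _).1 (by
      rw [map_mul, map_inv, hg, mul_inv_cancel])⟩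
    exact ⟨s, s.2, (mul_right_cancel (congrArg Subtype.val hs)).symm⟩
  have aa : a * a = 1 := by rw [← pow_two, ← a2, pow_orderOf_eq_one]
  have a1 : a ≠ 1 := by rintro rfl; simp at a2
  have ai : a⁻¹ = a := inv_eq_of_mul_eq_one_right aa
  obtain ⟨i, hi⟩ := refl (π a) (by rw [← map_mul, aa, map_one])
    fun h => a1 (πN _ ha _ (one_mem _) (h.trans (map_one π).symm))
  obtain ⟨ρ, hρ, ρ1⟩ : ∃ ρ ∈ (R : Subgroup G), ρ ≠ 1 := by
    have : r ∣ Nat.card G := (Dvd.intro_left 2 (DihedralGroup.nat_card (n := r)).symm).trans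
      (card_dvd_of_surjective π πs)
    obtain ⟨x, hx⟩ := (ne_bot_iff_exists_ne_one).1 (R.ne_bot_of_dvd_card this)
    exact ⟨x, x.2, fun e => hx (Subtype.ext e)⟩
  obtain ⟨j, hj⟩ := rot ρ hρ
  have inv : a * ρ * a⁻¹ = ρ⁻¹ := πN _ (mul_mem (mul_mem ha (RN hρ)) (inv_mem ha)) _ (RN (inv_mem hρ)) (by
    simp [hi, hj])
  obtain ⟨a', ha'⟩ : ∃ a', a' = ρ * a * ρ⁻¹ := ⟨_, rfl⟩
  have aa' : a' * a' = 1 := by
    calc a' * a' = ρ * (a * a) * ρ⁻¹ := by rw [ha']; group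
      _ = 1 := by rw [aa]; group
  have hσ : a * a' = (ρ * ρ)⁻¹ := by
    calc a * a' = a * ρ * a⁻¹ * ρ⁻¹ := by rw [ha', ai]; group
      _ = _ := by rw [inv]; group
  have σR : a * a' ∈ (R : Subgroup G) := hσ ▸ inv_mem (mul_mem hρ hρ)
  have σ1 : a * a' ≠ 1 := fun h => by
    rw [hσ, inv_eq_one] at h
    obtain ⟨k, hk⟩ := refl (π ρ) (by rw [← map_mul, h, map_one]) fun e => ρ1 (RQ ρ hρ ((πk ρ).1 e))
    rw [hj] at hk; cases hk
  have K : ∀ b, b * b = 1 → π b = π a → ∃ s ∈ Q, b = s * a * s⁻¹ ∧ a' = s * a' * s⁻¹ := fun b bb hb => by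
    obtain ⟨s, hs, e⟩ := F2 _ σR σ1 (b * a') (by rw [map_mul, map_mul, hb])
    have bi : b⁻¹ = b := inv_eq_of_mul_eq_one_right bb
    have ai' : a'⁻¹ = a' := inv_eq_of_mul_eq_one_right aa'
    have e' : a' * b = s * (a' * a) * s⁻¹ := by
      have := congrArg Inv.inv e
      simp only [mul_inv_rev, bi, ai, ai', inv_inv] at this
      rw [this]; group
    have := F1 _ σR σ1 (s⁻¹ * b * s * a) ((πk _).1 (by
      simp only [map_mul, map_inv, (πk s).2 hs, hb, inv_one, one_mul, mul_one]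
      rw [← map_mul, aa, map_one])) (by
      calc s⁻¹ * b * s * a * (a * a') = s⁻¹ * b * s * (a * a) * a' := by group
        _ = s⁻¹ * b * (s * (a' * a) * s⁻¹) * s * a⁻¹ := by rw [aa]; group
        _ = s⁻¹ * (b * a') * b * s * a := by rw [← e', ai]; group
        _ = _ := by rw [e]; group)
    have hb' : b = s * a * s⁻¹ := by
      calc b = s * (s⁻¹ * b * s * a) * a⁻¹ * s⁻¹ := by group
        _ = _ := by rw [this, ai]; group
    refine ⟨s, hs, hb', ?_⟩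
    calc a' = b⁻¹ * (b * a') := by group
      _ = _ := by rw [e, hb']; group
  refine ⟨fun b b2 hb => ?_, ?_⟩
  · have bb : b * b = 1 := by rw [← pow_two, ← b2, pow_orderOf_eq_one]
    obtain ⟨k, hk⟩ := refl (π b) (by rw [← map_mul, bb, map_one]) fun h => hb ((πk b).1 h)
    obtain ⟨n, hn⟩ := πs (DihedralGroup.r ((k - i) / 2))
    obtain ⟨s, -, e, -⟩ := K (n * b * n⁻¹) (by
      calc n * b * n⁻¹ * (n * b * n⁻¹) = n * (b * b) * n⁻¹ := by group
        _ = 1 := by rw [bb]; group) (by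
      simp only [map_mul, map_inv, hn, hk, hi, DihedralGroup.inv_r, DihedralGroup.r_mul_sr,
        DihedralGroup.sr_mul_r]
      congr 1
      field_simp
      ring)
    exact ⟨n⁻¹ * s, by
      calc n⁻¹ * s * a * (n⁻¹ * s)⁻¹ = n⁻¹ * (s * a * s⁻¹) * n := by group
        _ = _ := by rw [← e]; group⟩
  have c1 : Nat.card ↥(Q ⊓ centralizer ({a'} : Set G)) = Nat.card ↥(Q ⊓ centralizer ({a} : Set G)) := by
    rw [← H10.card_cj ρ (Q ⊓ centralizer ({a} : Set G)), H10.cj_inf, H10.cj_centralizer_singleton, ← ha']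
    have : H10.cj ρ Q = Q := by
      ext x
      rw [H10.mem_cj]
      exact ⟨fun h => by simpa [mul_assoc] using hN.conj_mem _ h ρ, fun h => by
        simpa using hN.conj_mem _ h ρ⁻¹⟩
    rw [this]
  rw [pow_two]
  nth_rewrite 1 [← c1]
  rw [← Nat.card_prod]
  refine Nat.card_congr (Equiv.ofBijective (fun x => ⟨x.1 * x.2, mul_mem x.1.2.1 x.2.2.1⟩) ⟨?_, fun q => ?_⟩)
  · rintro ⟨⟨x, hx, cx⟩, ⟨y, hy, cy⟩⟩ ⟨⟨u, hu, cu⟩, ⟨v, hv, cv⟩⟩ h
    have h : x * y = u * v := congrArg Subtype.val h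
    have h' : u⁻¹ * x = v * y⁻¹ := by
      calc u⁻¹ * x = u⁻¹ * (x * y) * y⁻¹ := by group
        _ = _ := by rw [h]; group
    have m1 := mem_centralizer_singleton_iff.1 ((centralizer _).mul_mem ((centralizer _).inv_mem cu) cx)
    have m2 := mem_centralizer_singleton_iff.1 (h' ▸ (centralizer _).mul_mem cv ((centralizer _).inv_mem cy))
    have := F1 _ σR σ1 _ (Q.mul_mem (Q.inv_mem hu) hx) (by rw [← mul_assoc, m2, mul_assoc, m1, mul_assoc])
    have e1 : u = x := inv_mul_eq_one.1 this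
    subst e1
    obtain rfl := mul_left_cancel h
    rfl
  · obtain ⟨s, hs, e1, e2⟩ := K (q * a * (q : G)⁻¹) (by
      calc (q : G) * a * (q : G)⁻¹ * (q * a * (q : G)⁻¹) = q * (a * a) * (q : G)⁻¹ := by group
        _ = 1 := by rw [aa]; group) (by simp [(πk q).2 q.2])
    refine ⟨⟨⟨s, hs, mem_centralizer_singleton_iff.2 ?_⟩, ⟨s⁻¹ * q, Q.mul_mem (Q.inv_mem hs) q.2,
      mem_centralizer_singleton_iff.2 ?_⟩⟩, Subtype.ext (by simp)⟩
    · exact (mul_inv_eq_iff_eq_mul.1 e2.symm)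
    · calc s⁻¹ * q * a = s⁻¹ * (q * a * (q : G)⁻¹) * q := by group
        _ = _ := by rw [e1]; group

end Cfsg.Agent.S2873
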