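import Cfsg.Statements.S2874
import Mathlib


set_option autoImplicit false
open Cfsg

namespace Cfsg.Agent.S2874

open Matrix Subgroup

section ring
variable {R : Type*} [CommRing R]

def W : Matrix (Fin 2) (Fin 2) R := !![0, -1; 1, -1]

def T (γ δ : R) : Matrix (Fin 2) (Fin 2) R := !![1 - δ, γ; γ - δ, 1 + δ]

theorem W3 : (W * W * W : Matrix (Fin 2) (Fin 2) R) = 1 := by
  ext i j; fin_cases i <;> fin_cases j <;> simp [W, Matrix.mul_apply, Fin.sum_univ_two]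

def Wu : GL (Fin 2) R := ⟨W, W * W, by rw [← mul_assoc, W3], W3⟩

theorem conjT (γ δ : R) : W * T γ δ * (W * W) = T (δ - γ) (-γ) := by
  ext i j; fin_cases i <;> fin_cases j <;> simp [W, T, Matrix.mul_apply, Fin.sum_univ_two] <;> ring

theorem form {u : R} (hu : u * 3 = 1) (t : Matrix (Fin 2) (Fin 2) R) (h1 : t * t = 1)
    (h2 : t * (W * t * (W * W)) = W * W * t * W) : ∃ γ δ : R, 2 * γ = 0 ∧ 2 * δ = 0 ∧ t = T γ δ := by
  obtain ⟨α, β, γ, δ, rfl⟩ : ∃ α β γ δ : R, t = !![α - δ, γ - β; β + γ - δ, α - β + δ] := by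
    refine ⟨t 0 0 + u * (2 * (t 1 1 - t 0 0) + (t 1 0 - t 0 1)),
      u * (2 * (t 1 0 - t 0 1) + (t 1 1 - t 0 0)),
      t 0 1 + u * (2 * (t 1 0 - t 0 1) + (t 1 1 - t 0 0)),
      u * (2 * (t 1 1 - t 0 0) + (t 1 0 - t 0 1)), ?_⟩
    ext i j; fin_cases i <;> fin_cases j <;> simp
    · linear_combination (t 0 1 - t 1 0) * hu
    · linear_combination (t 0 0 - t 1 1) * hu
  have a00 := congrFun (congrFun h1 0) 0
  have a01 := congrFun (congrFun h1 0) 1
  have a10 := congrFun (congrFun h1 1) 0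
  have a11 := congrFun (congrFun h1 1) 1
  have b00 := congrFun (congrFun h2 0) 0
  have b01 := congrFun (congrFun h2 0) 1
  have b10 := congrFun (congrFun h2 1) 0
  have b11 := congrFun (congrFun h2 1) 1
  simp [W, Matrix.mul_apply, Fin.sum_univ_two] at a00 a01 a10 a11 b00 b01 b10 b11
  have e1 : α ^ 2 - β ^ 2 + (γ ^ 2 - γ * δ + δ ^ 2) = 1 := by
    linear_combination u * (3 * a00 + 2 * (a11 - a00) + (a10 - a01)) -
      (α ^ 2 - β ^ 2 + (γ ^ 2 - γ * δ + δ ^ 2) - 1) * hu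
  have e2 : 2 * α * β - β ^ 2 = 0 := by
    linear_combination u * (2 * (a10 - a01) + (a11 - a00)) - (2 * α * β - β ^ 2) * hu
  have e3 : (2 * α - β) * γ = 0 := by
    linear_combination u * (3 * a01 + 2 * (a10 - a01) + (a11 - a00)) - ((2 * α - β) * γ) * hu
  have e4 : (2 * α - β) * δ = 0 := by
    linear_combination u * (2 * (a11 - a00) + (a10 - a01)) - ((2 * α - β) * δ) * hu
  have f1 : α ^ 2 - β ^ 2 = α := by
    linear_combination u * (3 * b00 + 2 * (b11 - b00) + (b10 - b01)) - (α ^ 2 - β ^ 2 - α) * hu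
  have f2 : 2 * α * β - β ^ 2 + (γ ^ 2 - γ * δ + δ ^ 2) = β := by
    linear_combination u * (2 * (b10 - b01) + (b11 - b00)) -
      (2 * α * β - β ^ 2 + (γ ^ 2 - γ * δ + δ ^ 2) - β) * hu
  have g1 : α = 1 - β := by linear_combination e1 - f1 - f2 + e2
  subst g1
  have g2 : β = 0 := by linear_combination -f1
  subst g2
  refine ⟨γ, δ, by linear_combination e3, by linear_combination e4, ?_⟩
  simp [T]

end ring

theorem isUnit_of_cast {k : ℕ} (hk : 2 ≤ k) {x : ZMod (2 ^ k)}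
    (h : ZMod.castHom (dvd_pow_self 2 (by omega)) (ZMod 2) x = 1) : IsUnit x := by
  obtain ⟨n, rfl⟩ := ZMod.natCast_zmod_surjective x
  rw [map_natCast] at h
  rw [ZMod.isUnit_iff_coprime]
  exact Nat.Coprime.pow_right _ (Nat.coprime_two_right.2 (ZMod.natCast_eq_one_iff_odd.1 h))

theorem two_mul_eq {k : ℕ} (hk : 2 ≤ k) {x : ZMod (2 ^ k)} (h : 2 * x = 0) :
    x = 0 ∨ x = ((2 ^ (k - 1) : ℕ) : ZMod (2 ^ k)) := by
  have h1 : -x = x := by linear_combination -h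
  rcases (ZMod.neg_eq_self_iff x).1 h1 with h2 | h2
  · exact Or.inl h2
  · right
    have h3 : x.val = 2 ^ (k - 1) := by
      have : 2 ^ k = 2 * 2 ^ (k - 1) := by rw [← pow_succ']; congr 1; omega
      omega
    rw [← h3, ZMod.natCast_zmod_val]

theorem f2 : ∀ a b c d : ZMod 2, !![a, b; c, d] * !![a, b; c, d] * !![a, b; c, d] = 1 →
    (a = 1 ∧ b = 0 ∧ c = 0 ∧ d = 1) ∨ (c = 1 ∧ (a - 1) * (d - 1) - b * c = 1) := by
  decide

theorem exists_conj {k : ℕ} (hk : 2 ≤ k) (ρ : GL (Fin 2) (ZMod (2 ^ k))) (h3 : ρ * ρ * ρ = 1)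
    (h1 : ρ ≠ 1) : ∃ g : GL (Fin 2) (ZMod (2 ^ k)), g * ρ * g⁻¹ = Wu := by
  set φ := ZMod.castHom (dvd_pow_self 2 (show k ≠ 0 by omega)) (ZMod 2) with hφ
  obtain ⟨A, hA⟩ : ∃ A : Matrix (Fin 2) (Fin 2) (ZMod (2 ^ k)), A = ρ := ⟨_, rfl⟩
  have hA3 : A * A * A = 1 := by rw [hA, ← Units.val_mul, ← Units.val_mul, h3, Units.val_one]
  have hfac : (A - 1) * (A * A + A + 1) = 0 := by
    rw [← sub_self (1 : Matrix (Fin 2) (Fin 2) (ZMod (2 ^ k)))]
    nth_rewrite 3 [← hA3]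
    noncomm_ring
  have hm : !![φ (A 0 0), φ (A 0 1); φ (A 1 0), φ (A 1 1)] = φ.mapMatrix A := by
    ext i j; fin_cases i <;> fin_cases j <;> rfl
  have h4 := f2 (φ (A 0 0)) (φ (A 0 1)) (φ (A 1 0)) (φ (A 1 1))
    (by rw [hm, ← map_mul, ← map_mul, hA3, map_one])
  rcases h4 with ⟨e1, e2, e3, e4⟩ | ⟨e1, e2⟩
  · exfalso
    have hu : IsUnit (A * A + A + 1) := by
      rw [Matrix.isUnit_iff_isUnit_det]
      apply isUnit_of_cast hk
      rw [← hφ, Matrix.det_fin_two]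
      simp [Matrix.mul_apply, Fin.sum_univ_two, e1, e2, e3, e4]
      decide
    have := hu.mul_left_eq_zero.1 hfac
    apply h1
    ext1
    rw [← hA, sub_eq_zero.1 this]; rfl
  · have hu : IsUnit (A - 1) := by
      rw [Matrix.isUnit_iff_isUnit_det]
      apply isUnit_of_cast hk
      rw [← hφ, Matrix.det_fin_two]
      simpa using e2
    have h5 := hu.mul_right_eq_zero.1 hfac
    have hP : IsUnit (!![1, A 0 0; 0, A 1 0] : Matrix (Fin 2) (Fin 2) (ZMod (2 ^ k))) := by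
      rw [Matrix.isUnit_iff_isUnit_det, Matrix.det_fin_two]
      simpa using isUnit_of_cast hk e1
    obtain ⟨P, hP⟩ := hP
    refine ⟨P⁻¹, ?_⟩
    rw [inv_inv, mul_assoc, inv_mul_eq_iff_eq_mul]
    ext1
    rw [Units.val_mul, Units.val_mul, hP, ← hA]
    have c0 := congrFun (congrFun h5 0) 0
    have c1 := congrFun (congrFun h5 1) 0
    simp [Matrix.mul_apply, Fin.sum_univ_two] at c0 c1
    ext i j; fin_cases i <;> fin_cases j <;> simp [Wu, W, Matrix.mul_apply, Fin.sum_univ_two]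
    · linear_combination c0
    · linear_combination c1

def r0 : alternatingGroup (Fin 4) := ⟨Equiv.swap 0 1 * Equiv.swap 1 2, Equiv.Perm.mem_alternatingGroup.2 (by decide)⟩
def t0 : alternatingGroup (Fin 4) := ⟨Equiv.swap 0 1 * Equiv.swap 2 3, Equiv.Perm.mem_alternatingGroup.2 (by decide)⟩

theorem a4gen : ∀ x : alternatingGroup (Fin 4), ∃ i : Fin 3, ∃ j : Fin 3,
    x = r0 ^ (i : ℕ) ∨ x = r0 ^ (i : ℕ) * t0 * r0 ^ (j : ℕ) := by
  decide +kernel

theorem gens {G : Type*} [Group G] (H : Subgroup G) (e : H ≃* alternatingGroup (Fin 4)) :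
    ∃ ρ t : G, ρ * ρ * ρ = 1 ∧ ρ ≠ 1 ∧ t * t = 1 ∧ t ≠ 1 ∧
      t * (ρ * t * (ρ * ρ)) = ρ * ρ * t * ρ ∧ H = closure {ρ, t} := by
  let f : alternatingGroup (Fin 4) →* G := H.subtype.comp e.symm.toMonoidHom
  have hf : Function.Injective f := H.subtype_injective.comp e.symm.injective
  refine ⟨f r0, f t0, ?_, ?_, ?_, ?_, ?_, le_antisymm ?_ ?_⟩
  · rw [← map_mul, ← map_mul, show r0 * r0 * r0 = 1 by decide, map_one]
  · rw [Ne, map_eq_one_iff f hf]; decide
  · rw [← map_mul, show t0 * t0 = 1 by decide, map_one]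
  · rw [Ne, map_eq_one_iff f hf]; decide
  · have : t0 * (r0 * t0 * (r0 * r0)) = r0 * r0 * t0 * r0 := by decide
    simp only [← map_mul, this]
  · intro x hx
    have h1 : x = f (e ⟨x, hx⟩) := by simp [f]
    have hr : f r0 ∈ closure {f r0, f t0} := subset_closure (by simp)
    have ht : f t0 ∈ closure {f r0, f t0} := subset_closure (by simp)
    obtain ⟨i, j, h | h⟩ := a4gen (e ⟨x, hx⟩)
    · rw [h1, h, map_pow]; exact pow_mem hr _
    · rw [h1, h, map_mul, map_mul, map_pow, map_pow]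
      exact mul_mem (mul_mem (pow_mem hr _) ht) (pow_mem hr _)
  · rw [closure_le]
    rintro x (rfl | rfl) <;> exact (e.symm _).2

theorem clos_conj {G : Type*} [Group G] (w t : G) :
    closure ({w, w * t * w⁻¹} : Set G) = closure {w, t} := by
  apply le_antisymm <;> rw [closure_le] <;> rintro x (rfl | rfl)
  · exact subset_closure (by simp)
  · exact mul_mem (mul_mem (subset_closure (by simp)) (subset_closure (by simp)))
      (inv_mem (subset_closure (by simp)))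
  · exact subset_closure (by simp)
  · have h1 : w ∈ closure ({w, w * x * w⁻¹} : Set G) := subset_closure (by simp)
    have h2 : w * x * w⁻¹ ∈ closure ({w, w * x * w⁻¹} : Set G) := subset_closure (by simp)
    have := mul_mem (mul_mem (inv_mem h1) h2) h1
    simpa [mul_assoc] using this

theorem std {k : ℕ} (hk : 2 ≤ k) (H : Subgroup (GL (Fin 2) (ZMod (2 ^ k))))
    (e : H ≃* alternatingGroup (Fin 4)) : ∃ g t : GL (Fin 2) (ZMod (2 ^ k)),
      (t : Matrix (Fin 2) (Fin 2) (ZMod (2 ^ k))) = T ((2 ^ (k - 1) : ℕ) : ZMod (2 ^ k)) 0 ∧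
      H.map (MulAut.conj g).toMonoidHom = Subgroup.closure {Wu, t} := by
  obtain ⟨ρ, t, h1, h2, h3, h4, h5, rfl⟩ := gens H e
  obtain ⟨g, hg⟩ := exists_conj hk ρ h1 h2
  set s := g * t * g⁻¹ with hs
  have hmap : (Subgroup.closure {ρ, t}).map (MulAut.conj g).toMonoidHom = Subgroup.closure {Wu, s} := by
    rw [MonoidHom.map_closure, Set.image_pair, ← hg]; rfl
  obtain ⟨u, hu⟩ : ∃ u : ZMod (2 ^ k), u * 3 = 1 := by
    have : IsUnit (3 : ZMod (2 ^ k)) := isUnit_of_cast hk (by rw [map_ofNat]; decide)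
    exact this.exists_left_inv
  have s1 : s * s = 1 := by
    rw [hs]; calc _ = g * (t * t) * g⁻¹ := by group
      _ = 1 := by rw [h3]; group
  have s2 : s * (Wu * s * (Wu * Wu)) = Wu * Wu * s * Wu := by
    rw [hs, ← hg]; calc _ = g * (t * (ρ * t * (ρ * ρ))) * g⁻¹ := by group
      _ = _ := by rw [h5]; group
  have s3 : s ≠ 1 := fun h => h4 (by
    have : t = g⁻¹ * s * g := by rw [hs]; group
    rw [this, h]; group)
  obtain ⟨γ, δ, hγ, hδ, hT⟩ := form hu (s : Matrix (Fin 2) (Fin 2) (ZMod (2 ^ k)))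
    (congrArg Units.val s1) (congrArg Units.val s2)
  have hc : ∀ (x : GL (Fin 2) (ZMod (2 ^ k))) (a b : ZMod (2 ^ k)),
      (x : Matrix (Fin 2) (Fin 2) (ZMod (2 ^ k))) = T a b →
      ((Wu * x * Wu⁻¹ : GL (Fin 2) (ZMod (2 ^ k))) : Matrix (Fin 2) (Fin 2) (ZMod (2 ^ k))) =
        T (b - a) (-a) := by
    intro x a b h
    rw [← conjT, ← h]; rfl
  rcases two_mul_eq hk hγ with rfl | rfl <;> rcases two_mul_eq hk hδ with rfl | rfl
  · exfalso; apply s3; ext1; rw [hT]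
    ext i j; fin_cases i <;> fin_cases j <;> simp [T]
  · refine ⟨g, Wu * s * Wu⁻¹, ?_, by rw [hmap, clos_conj]⟩
    rw [hc _ _ _ hT]; simp
  · exact ⟨g, s, hT, hmap⟩
  · refine ⟨g, Wu * (Wu * s * Wu⁻¹) * Wu⁻¹, ?_, by rw [hmap, clos_conj, clos_conj]⟩
    rw [hc _ _ _ (hc _ _ _ hT)]
    congr 1
    · linear_combination -hγ
    · simp

/-- For k ≥ 2, any two subgroups of GL₂(ℤ/2ᵏℤ) (the automorphism group of the homocyclic group ℤ/2ᵏ × ℤ/2ᵏ) that are isomorphic to the alternating group of degree 4 are conjugate. -/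
theorem result (k : ℕ) (hk : 2 ≤ k) (H₁ H₂ : Subgroup (GL (Fin 2) (ZMod (2 ^ k)))) (h₁ : Nonempty (↥H₁ ≃* ↥(alternatingGroup (Fin 4)))) (h₂ : Nonempty (↥H₂ ≃* ↥(alternatingGroup (Fin 4)))) : ∃ g : GL (Fin 2) (ZMod (2 ^ k)), H₂ = H₁.map (MulAut.conj g).toMonoidHom := by
  obtain ⟨e₁⟩ := h₁
  obtain ⟨e₂⟩ := h₂
  obtain ⟨g₁, t₁, a₁, b₁⟩ := std hk H₁ e₁
  obtain ⟨g₂, t₂, a₂, b₂⟩ := std hk H₂ e₂
  have ht : t₁ = t₂ := Units.ext (a₁.trans a₂.symm)
  subst ht
  refine ⟨g₂⁻¹ * g₁, ?_⟩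
  have h := congrArg (Subgroup.map (MulAut.conj g₂⁻¹).toMonoidHom) (b₂.trans b₁.symm)
  rw [Subgroup.map_map, Subgroup.map_map] at h
  convert h using 2
  · have : (MulAut.conj g₂⁻¹).toMonoidHom.comp (MulAut.conj g₂).toMonoidHom = MonoidHom.id _ := by
      ext1 x; simp [mul_assoc]
    rw [this, Subgroup.map_id]
  · ext1 x; simp [mul_assoc]

end Cfsg.Agent.S2874
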