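import Cfsg.Statements.S2879
import Cfsg.Agent.H6.SL23

set_option autoImplicit false
open Cfsg

namespace Cfsg.Agent.S2879

/-- Let G be a finite solvable group with O(G) = 1 whose Sylow 2-subgroup T is dihedral of order at least 8 or semidihedral, with G ≠ T and Z(T) normal in G. Then G has a normal subgroup isomorphic to SL₂(3). -/
theorem result {G : Type*} [Group G] [Finite G] (hsol : IsSolvable G) (hO : Cfsg.oddCore G = ⊥) (T : Sylow 2 G) (hT : (∃ n : ℕ, 4 ≤ n ∧ Nonempty (↥(T : Subgroup G) ≃* DihedralGroup n)) ∨ Cfsg.IsQuasiDihedral ↥(T : Subgroup G)) (hne : (T : Subgroup G) ≠ ⊤) (hZ : ((T : Subgroup G) ⊓ Subgroup.centralizer ((T : Subgroup G) : Set G)).Normal) : ∃ U : Subgroup G, U.Normal ∧ Nonempty (↥U ≃* Matrix.SpecialLinearGroup (Fin 2) (ZMod 3)) := by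
  open Subgroup in
  have hc := H1.IsPSolvable.centralizer_pCore_le (H1.isPSolvable_of_isSolvable 2 hsol) hO
  have hn := H6.not_noOdd_pCore hc fun h => hne (H6.sylow_eq_of_le T (h.to_subgroup ⊤) le_top).symm
  have hQ := H1.pCore_le_sylow T
  have key : ∀ z : G, z ∈ (T : Subgroup G) → orderOf z = 2 → (∀ g ∈ (T : Subgroup G), Commute g z) →
      (∀ g ∈ (T : Subgroup G), (∀ s ∈ (T : Subgroup G), Commute g s) → g = 1 ∨ g = z) →
      ¬ IsKleinFour (pCore 2 G) := by
    intro z h1 h2 h3 h4 h5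
    have hz : z ∈ (T : Subgroup G) ⊓ centralizer ((T : Subgroup G) : Set G) :=
      ⟨h1, H6.mem_centralizer_iff_commute.2 fun g hg => (h3 g hg).symm⟩
    have hcen : ∀ g, Commute g z := fun g => by
      have h6 := hZ.conj_mem _ hz g
      rcases h4 _ h6.1 (H6.mem_centralizer_iff_commute.1 h6.2) with h | h
      · exact (H6.ord2_ne_one h2 (by simpa using h)).elim
      · exact H6.conj_eq_iff_commute.1 h
    exact hn (H6.noOdd_four_of_central h5 (hc fun g _ => hcen g) (H6.ord2_ne_one h2) hcen)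
  rcases hT with ⟨n, h4, ⟨e⟩⟩ | h
  · obtain ⟨k, x, y, h, hk⟩ := H6.dh_sub T.2 (by omega) e
    refine (key _ (h.xS _) h.ord_z (fun g hg => h.z_comm hg) (fun g hg hs => ?_)
      (h.classify hQ hn)).elim
    obtain ⟨k, rfl⟩ : ∃ j, k = j + 1 := by
      refine Nat.exists_eq_succ_of_ne_zero ?_
      rintro rfl
      rw [Nat.card_congr e.toEquiv, DihedralGroup.nat_card] at hk
      omega
    have h0 : ∀ i : ℤ, ¬ Commute (x ^ i * y) x := fun i hc => by
      have := (h.commute_iff (i := 1) (j := i)).1 (by simpa using hc.symm)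
      rw [pow_succ] at this
      have := Int.isUnit_iff.1 (isUnit_of_dvd_one ((dvd_mul_left 2 _).trans this))
      omega
    rcases h.cent_w (j := 0) hg (hs _ (h.xyS 0)) with e | e | e | e
    · exact Or.inl e
    · exact Or.inr e
    · exact (h0 _ (e ▸ hs _ h.xS')).elim
    · rw [← mul_assoc, ← zpow_add] at e
      exact (h0 _ (e ▸ hs _ h.xS')).elim
  · obtain ⟨k, x, y, h⟩ := H6.qd_sub h
    rcases h.classify hQ hn with h4 | ⟨⟨e⟩⟩
    · exact (key _ (h.xS _) h.ord_z (fun g hg => h.z_comm hg)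
        (fun g hg hs => (h.center_iff hg).1 hs) h4).elim
    · obtain ⟨U, h1, -, -, -, h2⟩ := H6.exists_normal_sl23 e hc hn
      exact ⟨U, h1, h2⟩

end Cfsg.Agent.S2879
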