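import Cfsg.Statements.S4416
import Cfsg.Agent.H3.Extraspecial
import Cfsg.Agent.H7.Extra2
import Cfsg.Agent.H7.Heisen

set_option autoImplicit false
open Cfsg

namespace Cfsg.Agent.S4416

open Subgroup H3 in
theorem swap_card {G : Type*} [Group G] [Finite G] {s t : Set G} (g : G) (h1 : ∀ x ∈ s, x * g ∈ t)
    (h2 : ∀ x ∈ t, x * g⁻¹ ∈ s) : s.ncard = t.ncard :=
  le_antisymm (Set.ncard_le_ncard_of_injOn _ h1 (mul_left_injective g).injOn)
    (Set.ncard_le_ncard_of_injOn _ h2 (mul_left_injective g⁻¹).injOn)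

open Subgroup H3 commutatorElement in
theorem count_step {G : Type*} [Group G] [Finite G] {z a b : G} {C : Subgroup G} (h : IsES 2 z C)
    (ha : a ∈ C) (hb : b ∈ C) (hab : ⁅a, b⁆ = z) (ha2 : a ^ 2 = 1) :
    {x | x ∈ C ∧ x ^ 2 = 1}.ncard = 2 * {x | x ∈ C ⊓ centralizer {a, b} ∧ x ^ 2 = 1}.ncard +
      Nat.card (C ⊓ centralizer {a, b} : Subgroup G) := by
  have hz2 : z * z = 1 := by rw [← sq]; exact h.pow_eq_one
  have hzi : z⁻¹ = z := inv_eq_of_mul_eq_one_right hz2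
  have hai : a⁻¹ = a := inv_eq_of_mul_eq_one_right ((sq a).symm.trans ha2)
  have hsq : ∀ w ∈ zpowers z, w = 1 ∨ w = z := by
    rintro _ ⟨k, rfl⟩
    rcases Int.even_or_odd' k with ⟨j, rfl | rfl⟩
    · left; simp [zpow_mul, sq, hz2]
    · right; simp [zpow_add, zpow_mul, sq, hz2]
  have hc : ∀ u ∈ C, ∀ v ∈ C, ¬ Commute u v → ⁅u, v⁆ = z := fun u hu v hv h1 =>
    (hsq _ (h.comm u hu v hv)).resolve_left (mt commutatorElement_eq_one_iff_commute.1 h1)
  have hab' : ¬ Commute a b := fun e => h.ne_one (hab ▸ e.commutator_eq)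
  have flip : ∀ u ∈ C, ∀ v ∈ C, ¬ Commute u v → ∀ x ∈ C, (Commute u (x * v) ↔ ¬ Commute u x) :=
    fun u hu v hv h1 x hx => by
      refine ⟨fun e e' => h1 (by simpa using e'.inv_right.mul_right e), fun e => ?_⟩
      rw [← commutatorElement_eq_one_iff_commute,
        H9.commutator_mul_right_of_commute (h.commute hu hv x), hc u hu v hv h1, hc u hu x hx e, hz2]
  have sqa : ∀ x ∈ C, ¬ Commute a x → (x * a) ^ 2 = x ^ 2 * z := fun x hx e => by
    rw [H9.mul_pow_class_two (h.commute ha hx x) (h.commute ha hx a), ha2, hc a ha x hx e]; simp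
  have e1 : {x | (x ∈ C ∧ x ^ 2 = 1) ∧ Commute a x ∧ ¬ Commute b x}.ncard =
      {x | (x ∈ C ∧ x ^ 2 = 1) ∧ Commute a x ∧ Commute b x}.ncard :=
    swap_card a (fun x hx => ⟨⟨mul_mem hx.1.1 ha, by rw [hx.2.1.symm.mul_pow, hx.1.2, ha2, mul_one]⟩,
      hx.2.1.mul_right (Commute.refl a), (flip b hb a ha (fun e => hab' e.symm) x hx.1.1).2 hx.2.2⟩)
      fun x hx => hai.symm ▸ ⟨⟨mul_mem hx.1.1 ha, by rw [hx.2.1.symm.mul_pow, hx.1.2, ha2, mul_one]⟩,
        hx.2.1.mul_right (Commute.refl a),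
        fun e => (flip b hb a ha (fun e => hab' e.symm) x hx.1.1).1 e hx.2.2⟩
  have na : ∀ x, ¬ Commute a x → ¬ Commute a (x * a) := fun x e e' =>
    e (by simpa using e'.mul_right (Commute.refl a).inv_right)
  have e2 : {x | (x ∈ C ∧ ¬ Commute a x) ∧ x ^ 2 = 1}.ncard =
      {x | (x ∈ C ∧ ¬ Commute a x) ∧ ¬ x ^ 2 = 1}.ncard :=
    swap_card a (fun x hx => ⟨⟨mul_mem hx.1.1 ha, na x hx.1.2⟩, by
      rw [sqa x hx.1.1 hx.1.2, hx.2, one_mul]; exact h.ne_one⟩)
      fun x hx => hai.symm ▸ ⟨⟨mul_mem hx.1.1 ha, na x hx.1.2⟩, by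
        rw [sqa x hx.1.1 hx.1.2, (hsq _ (h.pow x hx.1.1)).resolve_left hx.2, hz2]⟩
  have e3 : {x | x ∈ C ∧ ¬ Commute a x}.ncard = {x | x ∈ C ∧ Commute a x}.ncard :=
    swap_card b (fun x hx => ⟨mul_mem hx.1 hb, (flip a ha b hb hab' x hx.1).2 hx.2⟩)
      fun x hx => ⟨mul_mem hx.1 (inv_mem hb), fun e => (flip a ha b⁻¹ (inv_mem hb)
        (fun e => hab' (by simpa using e.inv_right)) x hx.1).1 e hx.2⟩
  have split : ∀ (s : Set G) (P : G → Prop),
      s.ncard = {x | x ∈ s ∧ P x}.ncard + {x | x ∈ s ∧ ¬ P x}.ncard := fun s P =>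
    (Set.ncard_inter_add_ncard_diff_eq_ncard s {x | P x}).symm
  have e4 := split C (Commute a)
  have e5 := split {x | x ∈ C ∧ ¬ Commute a x} (· ^ 2 = 1)
  have e6 := split {x | x ∈ C ∧ x ^ 2 = 1} (Commute a)
  have e7 := split {x | (x ∈ C ∧ x ^ 2 = 1) ∧ Commute a x} (Commute b)
  have e8 := h.card_step ha hb hab
  have e9 : {x | x ∈ C ⊓ centralizer {a, b} ∧ x ^ 2 = 1} =
      {x | (x ∈ C ∧ x ^ 2 = 1) ∧ Commute a x ∧ Commute b x} := Set.ext fun x =>
    ⟨fun hx => ⟨⟨hx.1.1, hx.2⟩, hx.1.2 a (by simp), hx.1.2 b (by simp)⟩, fun hx => ⟨⟨hx.1.1, by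
      rintro _ (rfl | rfl); exacts [hx.2.1, hx.2.2]⟩, hx.1.2⟩⟩
  have e10 : {x | (x ∈ C ∧ x ^ 2 = 1) ∧ ¬ Commute a x}.ncard =
      {x | (x ∈ C ∧ ¬ Commute a x) ∧ x ^ 2 = 1}.ncard := congrArg _ (Set.ext fun x => and_right_comm)
  rw [← Nat.card_coe_set_eq (C : Set G)] at e4
  rw [e9]
  clear e9
  simp only [Set.mem_setOf_eq, SetLike.mem_coe, SetLike.coe_sort_coe, and_assoc] at *
  omega

open Subgroup H3 commutatorElement in
theorem basis_count {G : Type*} [Group G] [Finite G] {z : G} {C : Subgroup G} (h : IsES 2 z C) :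
    ∃ (n : ℕ) (x y : Fin n → G) (ε : ℕ), ε ≤ 1 ∧ (n = 0 → ε = 0) ∧ IsSympBasis z C x y ∧
      Nat.card C = 2 ^ (2 * n + 1) ∧
      {x | x ∈ C ∧ x ^ 2 = 1}.ncard + ε * (2 * 2 ^ n) = 2 ^ (2 * n) + 2 ^ n ∧
      ∀ i : Fin n, x i ^ 2 = z ^ (if i.val + 1 = n then ε else 0) ∧
        y i ^ 2 = z ^ (if i.val + 1 = n then ε else 0) := by
  have hz2 : z * z = 1 := by rw [← sq]; exact h.pow_eq_one
  have hsq : ∀ w ∈ zpowers z, w = 1 ∨ w = z := by
    rintro _ ⟨k, rfl⟩
    rcases Int.even_or_odd' k with ⟨j, rfl | rfl⟩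
    · left; simp [zpow_mul, sq, hz2]
    · right; simp [zpow_add, zpow_mul, sq, hz2]
  have cnt : ∀ C : Subgroup G, z ∈ C → (∀ a ∈ C, a ∉ zpowers z → a ^ 2 ≠ 1) →
      {x | x ∈ C ∧ x ^ 2 = 1}.ncard = 2 := fun C hz h1 => by
    refine (congrArg _ ?_).trans (Set.ncard_pair h.ne_one.symm)
    refine Set.ext fun x => ⟨fun hx => hsq x (by_contra fun e => h1 x hx.1 e hx.2), ?_⟩
    rintro (rfl | rfl)
    exacts [⟨one_mem _, one_pow _⟩, ⟨hz, h.pow_eq_one⟩]
  induction hn : Nat.card C using Nat.strong_induction_on generalizing C with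
  | _ n ih =>
  by_cases hC : C ≤ zpowers z
  · exact ⟨0, _, _, 0, zero_le_one, fun _ => rfl, isSympBasis_nil hC,
      by rw [← hn, h.eq_zpowers hC, Nat.card_zpowers, h.ord]; simp,
      by rw [cnt C h.mem fun a ha h1 => (h1 (hC ha)).elim]; rfl, fun i => i.elim0⟩
  by_cases hinv : ∃ a ∈ C, a ∉ zpowers z ∧ a ^ 2 = 1
  · obtain ⟨a, ha, haz, ha2⟩ := hinv
    have : ∃ b ∈ C, ⁅a, b⁆ = z ∧ b ^ 2 = 1 := by
      obtain ⟨b, hb, hab⟩ := h.exists_partner ha haz
      rcases hsq _ (h.pow b hb) with h1 | h1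
      · exact ⟨b, hb, hab, h1⟩
      refine ⟨a * b, mul_mem ha hb, ?_, ?_⟩
      · rw [H9.commutator_mul_right_of_commute (h.commute ha hb a), hab]; simp
      · rw [H9.mul_pow_class_two (h.commute hb ha a) (h.commute hb ha b), ha2, h1,
          ← commutatorElement_inv, hab]
        simp
    obtain ⟨b, hb, hab, hb2⟩ := this
    obtain ⟨m, x, y, ε, hε, h0, h1, h2, h4, h3⟩ :=
      ih _ (hn ▸ h.card_step_lt ha hb hab) (h.step ha hb hab) rfl
    refine ⟨m + 1, _, _, ε, hε, by omega, h1.cons h ha hb hab,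
      by rw [← hn, h.card_step ha hb hab, h2]; ring, ?_, Fin.cases ?_ fun i => ?_⟩
    · rw [count_step h ha hb hab ha2, h2]
      linear_combination 2 * h4
    · by_cases hm : m = 0 <;> simp [ha2, hb2, hm, h0]
    · simpa using h3 i
  · push Not at hinv
    obtain ⟨a, ha, haz⟩ := SetLike.not_le_iff_exists.mp hC
    obtain ⟨b, hb, hab⟩ := h.exists_partner ha haz
    have hnc : ∀ u : G, u ∈ zpowers z → ⁅u, b⁆ ≠ z := fun u hu e => h.ne_one (by
      rw [← e]; exact (commute_of_mem_zpowers_central h.central hu b).symm.commutator_eq)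
    have hbz : b ∉ zpowers z := fun hb' => h.ne_one (by
      rw [← hab]; exact (commute_of_mem_zpowers_central h.central hb' a).commutator_eq)
    have hsq' : ∀ u ∈ C, u ∉ zpowers z → u ^ 2 = z := fun u hu hu' =>
      (hsq _ (h.pow u hu)).resolve_left (hinv u hu hu')
    have hC' : C ⊓ centralizer {a, b} ≤ zpowers z := by
      intro u hu
      by_contra hu'
      have c1 : Commute a u := hu.2 a (by simp)
      have c2 : Commute b u := hu.2 b (by simp)
      refine hinv (a * u) (mul_mem ha hu.1) (fun e => hnc _ e ?_) ?_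
      · rw [H9.commutator_mul_left_of_commute (h.commute hu.1 hb a), c2.symm.commutator_eq, hab,
          one_mul]
      · rw [c1.mul_pow, hsq' a ha haz, hsq' u hu.1 hu', hz2]
    refine ⟨1, _, _, 1, le_rfl, by omega, (isSympBasis_nil hC').cons h ha hb hab, ?_,
      by rw [cnt C h.mem hinv]; rfl, fun i => ?_⟩
    · rw [← hn, h.card_step ha hb hab, (h.step ha hb hab).eq_zpowers hC', Nat.card_zpowers, h.ord]
      norm_num
    · have : i = 0 := Subsingleton.elim _ _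
      subst this
      simp [hsq' a ha haz, hsq' b hb hbz]

/-- Classification of extraspecial 2-groups in intrinsic form. An extraspecial 2-group has order 2^(2m+1) for some m ≥ 1, and the number of its elements squaring to the identity is either 2^(2m) + 2^m or 2^(2m) − 2^m; two extraspecial 2-groups of the same order with the same number of such elements are isomorphic. (The two cases are the central products of m dihedral groups of order 8, and of m − 1 dihedral groups with one quaternion group.) -/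
theorem result (E : Type*) [Group E] [Finite E] (hE : Cfsg.IsExtraspecial 2 E) :
    (∃ m : ℕ, 1 ≤ m ∧ Nat.card E = 2 ^ (2 * m + 1) ∧
      (Nat.card {x : E // x ^ 2 = 1} = 2 ^ (2 * m) + 2 ^ m ∨ Nat.card {x : E // x ^ 2 = 1} = 2 ^ (2 * m) - 2 ^ m)) ∧
    ∀ (E' : Type*) [Group E'] [Finite E'], Cfsg.IsExtraspecial 2 E' → Nat.card E' = Nat.card E →
      Nat.card {x : E' // x ^ 2 = 1} = Nat.card {x : E // x ^ 2 = 1} → Nonempty (E ≃* E') := by
  obtain ⟨z, hz, hZ⟩ := H3.isES_of_isExtraspecial hE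
  obtain ⟨n, x, y, ε, hε, -, hb, hc, hN, hs⟩ := basis_count hz
  have key : ∀ (E : Type _) [Group E], {x | x ∈ (⊤ : Subgroup E) ∧ x ^ 2 = 1}.ncard =
      Nat.card {x : E // x ^ 2 = 1} := fun E _ => by
    simp only [Subgroup.mem_top, true_and]; rfl
  rw [Subgroup.card_top] at hc
  refine ⟨⟨n, Nat.one_le_iff_ne_zero.2 ?_, hc, ?_⟩, fun E' _ _ hE' h1 h2 => ?_⟩
  · rintro rfl
    obtain ⟨m, hm, e⟩ := H7.extraspecial_card (Q := (⊤ : Subgroup E))
      (H7.isExtraspecial_of_equiv hE Subgroup.topEquiv.symm)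
    rw [Subgroup.card_top, hc] at e
    have := Nat.pow_right_injective le_rfl e
    omega
  · rw [key] at hN
    interval_cases ε <;> omega
  · obtain ⟨z', hz', -⟩ := H3.isES_of_isExtraspecial hE'
    obtain ⟨n', x', y', ε', hε', -, hb', hc', hN', hs'⟩ := basis_count hz'
    rw [Subgroup.card_top] at hc'
    obtain rfl : n = n' := by
      have := Nat.pow_right_injective le_rfl (hc.symm.trans (h1.symm.trans hc'))
      omega
    have k2 : {x | x ∈ (⊤ : Subgroup E') ∧ x ^ 2 = 1}.ncard = Nat.card {x : E' // x ^ 2 = 1} := by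
      simp only [Subgroup.mem_top, true_and]; rfl
    rw [k2, h2, ← key, ← hN] at hN'
    obtain rfl : ε' = ε := Nat.eq_of_mul_eq_mul_right (by positivity) (Nat.add_left_cancel hN')
    exact H3.nonempty_mulEquiv_of_sympBasis hz hz' hb hb' hc hc'
      (fun i => ⟨_, (hs i).1.trans (zpow_natCast _ _).symm, (hs' i).1.trans (zpow_natCast _ _).symm⟩)
      fun i => ⟨_, (hs i).2.trans (zpow_natCast _ _).symm, (hs' i).2.trans (zpow_natCast _ _).symm⟩

end Cfsg.Agent.S4416
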