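import Cfsg.Statements.S2880
import Cfsg.Agent.S4416
import Cfsg.Agent.H7.ESRank

set_option autoImplicit false
open Cfsg

namespace Cfsg.Agent.S2880

open Subgroup

/-- Let E be an extraspecial 2-group of order 2^(2m+1) of plus type, that is, containing an elementary abelian subgroup of order 2^(m+1) (equivalently, a central product of m dihedral groups of order 8). Then E has exactly 2^(2m) − 2^m elements of order 4. -/
theorem result {E : Type*} [Group E] [Finite E] (m : ℕ) (hm : 1 ≤ m) (hE : Cfsg.IsExtraspecial 2 E) (hcard : Nat.card E = 2 ^ (2 * m + 1)) (hplus : ∃ A : Subgroup E, Cfsg.IsElementaryAbelian 2 A ∧ Nat.card A = 2 ^ (m + 1)) : Nat.card {x : E // orderOf x = 4} = 2 ^ (2 * m) - 2 ^ m := by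
  obtain ⟨z, hz, hZ⟩ := H3.isES_of_isExtraspecial hE
  obtain ⟨n, x, y, ε, hε, -, b, hc, hN, hs⟩ := S4416.basis_count hz
  have hc' := hc
  rw [Subgroup.card_top] at hc'
  obtain rfl : m = n := by
    have := Nat.pow_right_injective le_rfl (hcard.symm.trans hc')
    omega
  have hr := H7.es_rank_of_basis hε m hz b.memx b.memy b.xy b.xx (fun i j _ => b.yy i j) b.xy' hc hs
    (Or.inr hm) m
  obtain ⟨A, hA, hAc⟩ := hplus
  obtain rfl : ε = 0 := by
    by_contra h
    have h1 := H9.prank_iff.1 (hr.2 (by omega)) A le_top hA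
    rw [hAc] at h1
    have := (Nat.pow_le_pow_iff_right (by norm_num : 1 < 2)).1 h1
    omega
  have hz2 : z ^ 2 = 1 := hz.pow_eq_one
  have h4 : ∀ x : E, orderOf x = 4 ↔ ¬ x ^ 2 = 1 := fun x => by
    constructor
    · intro h h2
      have := orderOf_dvd_of_pow_eq_one h2
      rw [h] at this
      omega
    · intro h
      obtain ⟨k, hk⟩ := hz.pow x trivial
      have : x ^ 2 ^ (1 + 1) = 1 := by
        rw [show 2 ^ (1 + 1) = 2 * 2 by rfl, pow_mul, ← hk]
        show (z ^ k) ^ 2 = 1
        rw [← zpow_natCast, ← zpow_mul, mul_comm, zpow_mul, zpow_natCast, hz2, one_zpow]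
      exact orderOf_eq_prime_pow (p := 2) (n := 1) (by simpa using h) this
  have e1 : Nat.card {x : E // orderOf x = 4} = {x : E | x ^ 2 = 1}ᶜ.ncard := by
    rw [← Nat.card_coe_set_eq]
    exact Nat.card_congr (Equiv.subtypeEquivRight fun x => h4 x)
  have e2 := Set.ncard_add_ncard_compl {x : E | x ^ 2 = 1}
  simp only [Subgroup.mem_top, true_and] at hN
  rw [e1]
  have : 2 ^ (2 * m + 1) = 2 * 2 ^ (2 * m) := by ring
  omega

end Cfsg.Agent.S2880
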