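import Cfsg.Statements.S2881
import Cfsg.Agent.S2880

set_option autoImplicit false
open Cfsg

namespace Cfsg.Agent.S2881

open Subgroup

/-- Let E be an extraspecial 2-group of order 2^(2m+1) of plus type (containing an elementary abelian subgroup of order 2^(m+1)), and let ω be an automorphism of E of order 5 whose fixed points are exactly the centre of E. Then m is divisible by 4. -/
theorem result {E : Type*} [Group E] [Finite E] (m : ℕ) (hm : 1 ≤ m) (hE : Cfsg.IsExtraspecial 2 E) (hcard : Nat.card E = 2 ^ (2 * m + 1)) (hplus : ∃ A : Subgroup E, Cfsg.IsElementaryAbelian 2 A ∧ Nat.card A = 2 ^ (m + 1)) (ω : E ≃* E) (hω : orderOf ω = 5) (hfix : ∀ x : E, ω x = x ↔ x ∈ Subgroup.center E) : 4 ∣ m := by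
  classical
  have hc := S2880.result m hm hE hcard hplus
  let σ : Equiv.Perm {x : E // orderOf x = 4} :=
    Equiv.Perm.subtypePerm (ω.toEquiv : Equiv.Perm E) fun x => by
      show orderOf (ω x) = 4 ↔ _
      rw [MulEquiv.orderOf_eq]
  have := Fintype.ofFinite {x : E // orderOf x = 4}
  have : Fact (Nat.Prime 5) := ⟨by norm_num⟩
  have h5 : 5 ∣ Fintype.card {x : E // orderOf x = 4} := by
    by_contra h
    have hσ : σ ^ 5 ^ 1 = 1 := by
      ext x
      have h1 : ω ^ 5 = 1 := hω ▸ pow_orderOf_eq_one ω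
      have h2 := congrArg (fun f : E ≃* E => f x) h1
      simpa [σ, pow_succ] using h2
    obtain ⟨⟨a, ha⟩, h1⟩ := Equiv.Perm.exists_fixed_point_of_prime h hσ
    have h2 : a ∈ center E := (hfix a).1 (congrArg Subtype.val h1)
    have h3 := orderOf_dvd_natCard (⟨a, h2⟩ : center E)
    rw [hE.2, ← Subgroup.orderOf_coe] at h3
    simp only [ha] at h3
    omega
  rw [← Nat.card_eq_fintype_card, hc] at h5
  have e : 2 ^ (2 * m) - 2 ^ m = 2 ^ m * (2 ^ m - 1) := by
    rw [Nat.mul_sub, mul_one, ← pow_add, two_mul]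
  rw [e] at h5
  have h6 : 5 ∣ 2 ^ m - 1 :=
    (Nat.Coprime.dvd_mul_left (Nat.Coprime.pow_right m (by norm_num))).1 h5
  obtain ⟨q, r, hr, rfl⟩ : ∃ q r, r < 4 ∧ m = 4 * q + r := ⟨m / 4, m % 4, by omega, by omega⟩
  have h7 : 2 ^ (4 * q + r) % 5 = 2 ^ r % 5 := by
    rw [pow_add, pow_mul, Nat.mul_mod, Nat.pow_mod]; simp
  have h8 : 0 < 2 ^ (4 * q + r) := by positivity
  interval_cases r <;> omega

end Cfsg.Agent.S2881
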