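import Cfsg.Statements.S2882
import Cfsg.Agent.H27.MCls
import Cfsg.Agent.S5170

set_option autoImplicit false
open Cfsg

namespace Cfsg.Agent.S2882
open H27 MulAction
open scoped Pointwise


/-- In the Mathieu group of degree 24 (realised as the automorphism group of the extended binary Golay code) every Sylow 2-subgroup is self-normalizing. -/
theorem result (S : Sylow 2 ↥Cfsg.M24) : Subgroup.normalizer ((S : Subgroup ↥Cfsg.M24) : Set ↥Cfsg.M24) = (S : Subgroup ↥Cfsg.M24) := by
  have := Fact.mk Nat.prime_two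
  have c : Nat.card (cl (S5170.sN.map mm)) = 2 ^ 10 := card_sy2
  let P : Sylow 2 MM := Sylow.ofCard (cl (S5170.sN.map mm)) (by
    rw [c, card_MM, show 244823040 = 2 ^ 10 * 239085 by norm_num, Nat.factorization_mul (by norm_num) (by norm_num),
      Finsupp.add_apply, Nat.factorization_pow_self Nat.prime_two, Nat.factorization_eq_zero_of_not_dvd (by norm_num)])
  have h : Subgroup.normalizer ((P : Subgroup MM) : Set MM) = P := by
    refine P.is_maximal' (fun g => ?_) Subgroup.le_normalizer
    obtain ⟨k, m, hm, e⟩ := Nat.exists_eq_two_pow_mul_odd (orderOf_pos g).ne'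
    refine ⟨k, Subtype.ext (MM_faithful fun i hi => S5170.fx (g ^ 2 ^ k).2 ?_ i hi ((testBit_ones 24 i).2 hi))⟩
    rw [Subgroup.orderOf_coe, orderOf_pow' _ (by positivity), e, Nat.gcd_mul_right_left, Nat.mul_div_cancel_left _ (by positivity)]
    exact hm
  obtain ⟨g, rfl⟩ := MulAction.exists_smul_eq MM P S
  have k : ∀ (x : MM) (Q : Sylow 2 MM), x ∈ Subgroup.normalizer ((Q : Subgroup MM) : Set MM) ↔ x • Q = Q :=
    fun _ _ => Sylow.smul_eq_iff_mem_normalizer.symm
  ext x
  rw [k, Sylow.coe_subgroup_smul, Subgroup.mem_pointwise_smul_iff_inv_smul_mem, ← h, k, ← inv_smul_eq_iff, ← mul_smul,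
    ← mul_smul]
  simp [mul_assoc]

end Cfsg.Agent.S2882
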