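import Cfsg.Statements.S2928
import Cfsg.Agent.H11.HS5

set_option autoImplicit false
open Cfsg

namespace Cfsg.Agent.S2928

open Equiv Equiv.Perm H11.HS H16 Finset in
theorem mt_of {α : Type*} [Fintype α] [DecidableEq α] {S H : Subgroup (Perm α)}
    (hS : ¬ 2 ∣ S.index) (hSH : S ⊓ alternatingGroup α ≤ H) (h8 : 8 ≤ Fintype.card α) :
    ∃ τ, Mt H τ ∧ (Fintype.card α ≤ 9 → τ ∈ H) := by
  obtain ⟨τ, hτ, hc⟩ := exists_fam Nat.prime_two le_rfl hS
  rw [pow_one] at hτ
  have hi : ∀ x, τ (τ x) = x := fun x => by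
    rw [← Perm.mul_apply, ← pow_two, hτ.pw, Perm.one_apply]
  refine ⟨τ, ⟨hi, fun x y hx hy => ?_, fun x y hx hy => ?_⟩, fun h9 => hSH ⟨?_, ?_⟩⟩
  · have := hτ.rest
    exact card_le_one.1 (show τ.supportᶜ.card ≤ 1 by omega) x (by simp [hx]) y (by simp [hy])
  · have key : ∀ x, τ x ≠ x → swap x (τ x) ∈ S := fun x hx => by
      have h1 := cycleOf_mem_cycleFactorsFinset_iff.2 (mem_support.2 hx)
      have h2 := (mem_cycleFactorsFinset_iff.1 h1).1.eq_swap_of_apply_apply_eq_self (x := x)
        (by simpa using hx) (by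
          rw [cycleOf_apply_self, cycleOf_apply_apply_self, hi])
      rw [cycleOf_apply_self] at h2
      exact h2 ▸ hc _ h1
    refine hSH ⟨S.mul_mem (key x hx) (key y hy), ?_⟩
    show _ ∈ alternatingGroup α
    simp [mem_alternatingGroup, hx.symm, hy.symm]
  · rw [← cycleFactorsFinset_noncommProd τ]
    exact Subgroup.noncommProd_mem _ _ hc
  · show _ ∈ alternatingGroup α
    have e1 : τ.cycleType = Multiset.replicate τ.cycleType.card 2 :=
      Multiset.eq_replicate_card.2 fun b hb => by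
        rw [cycleType_def] at hb
        obtain ⟨c, hc, rfl⟩ := Multiset.mem_map.1 hb
        exact hτ.len c hc
    have e2 := sum_cycleType τ
    have e3 := hτ.rest
    rw [card_compl] at e3
    have e4 := card_le_univ τ.support
    have e5 : τ.cycleType.sum = τ.cycleType.card * 2 := by
      conv_lhs => rw [e1]
      rw [Multiset.sum_replicate, smul_eq_mul]
    rw [mem_alternatingGroup, sign_of_cycleType, show τ.cycleType.sum = 8 by omega,
      show τ.cycleType.card = 4 by omega]
    rfl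

/-- Let n ≥ 8 and let H be a subgroup of the symmetric group of degree n whose generalized Fitting subgroup F*(H) is quasisimple. If H contains a Sylow 2-subgroup of the alternating group of degree n, then F*(H) is isomorphic to an alternating group of degree m for some m ∈ {n − 3, n − 2, n − 1, n}. -/
theorem result (n : ℕ) (hn : 8 ≤ n) (H : Subgroup (Equiv.Perm (Fin n))) (hF : Cfsg.IsQuasisimple ↥(Cfsg.generalizedFittingSubgroup ↥H)) (hS : ∃ P : Sylow 2 ↥(alternatingGroup (Fin n)), ((P : Subgroup ↥(alternatingGroup (Fin n))).map (alternatingGroup (Fin n)).subtype) ≤ H) : ∃ m : ℕ, (m = n - 3 ∨ m = n - 2 ∨ m = n - 1 ∨ m = n) ∧ Nonempty (↥(Cfsg.generalizedFittingSubgroup ↥H) ≃* ↥(alternatingGroup (Fin m))) := by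
  obtain ⟨P, hP⟩ := hS
  have e : Fintype.card (Fin n) = n := Fintype.card_fin n
  have hA : H11.HS.AH {2} ((P : Subgroup (alternatingGroup (Fin n))).map
      (alternatingGroup (Fin n)).subtype) := H11.HS.ah_alt (H11.HS.hall_map.1 (H16.hl_top_iff.1
    (H16.sy_mk le_top (H16.pg_iff.2 P.isPGroup') (by simpa using P.not_dvd_index))))
  obtain ⟨S, h1, h2⟩ := hA.big Nat.prime_two rfl
  obtain ⟨τ, hτ, hτH⟩ := mt_of h1 (h2.trans hP) (by omega)
  obtain ⟨x, hx⟩ := hτ.ex_three (H11.HS.qf_of hF) (by omega) hτH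
  have h3 := hτ.rr_le (H11.HS.qf_of hF) (by omega) hx
  rw [Finset.card_compl] at h3
  have h4 := Finset.card_le_univ (H11.HS.fib (H11.HS.tf H) x)
  exact ⟨_, by omega, H11.HS.iso_of hF hx⟩

end Cfsg.Agent.S2928
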