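import Cfsg.Statements.S2929
import Cfsg.Agent.H11.HS5

set_option autoImplicit false
open Cfsg

namespace Cfsg.Agent.S2929

/-- Let n ≥ 5 and let H be a subgroup of the symmetric group of degree n whose generalized Fitting subgroup F*(H) is quasisimple. If H contains a Sylow 3-subgroup of the symmetric group, then F*(H) is isomorphic to an alternating group of degree m for some m ∈ {n − 2, n − 1, n}. -/
theorem result (n : ℕ) (hn : 5 ≤ n) (H : Subgroup (Equiv.Perm (Fin n))) (hF : Cfsg.IsQuasisimple ↥(Cfsg.generalizedFittingSubgroup ↥H)) (hS : ∃ P : Sylow 3 (Equiv.Perm (Fin n)), (P : Subgroup (Equiv.Perm (Fin n))) ≤ H) : ∃ m : ℕ, (m = n - 2 ∨ m = n - 1 ∨ m = n) ∧ Nonempty (↥(Cfsg.generalizedFittingSubgroup ↥H) ≃* ↥(alternatingGroup (Fin m))) := by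
  obtain ⟨P, hP⟩ := hS
  have e : Fintype.card (Fin n) = n := Fintype.card_fin n
  obtain ⟨τ, hτ, hc⟩ := H11.HS.exists_fam (k := 1) Nat.prime_three le_rfl
    (fun h => P.not_dvd_index (h.trans (Subgroup.index_dvd_of_le hP)))
  rw [pow_one] at hτ
  have key : ∀ y ∈ τ.support, ¬ H11.HS.Rr H y := fun y hy hr => by
    obtain ⟨c, hc', hyc⟩ := Equiv.Perm.mem_support_iff_mem_support_of_mem_cycleFactorsFinset.1 hy
    exact hr _ _ (H11.HS.T.of_three (card_support_eq_three_iff.1 (hτ.len c hc'))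
      (hc c hc') hyc)
  have h1 := hτ.rest
  obtain ⟨x, hx⟩ : τ.support.Nonempty := by
    rw [Finset.card_compl] at h1
    exact Finset.card_pos.1 (by omega)
  have h2 : (H11.HS.fib (H11.HS.tf H) x)ᶜ ⊆ τ.supportᶜ := fun y hy =>
    Finset.mem_compl.2 fun h => key y h (((H11.HS.qf_of hF).compl (key x hx)).1 hy)
  have h3 := Finset.card_le_card h2
  rw [Finset.card_compl, h1] at h3
  have h4 := Finset.card_le_univ (H11.HS.fib (H11.HS.tf H) x)
  exact ⟨_, by omega, H11.HS.iso_of hF (key x hx)⟩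

end Cfsg.Agent.S2929
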