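import Cfsg.Statements.S2930
import Cfsg.Agent.H11.HS6
import Cfsg.Agent.H8.AutA

set_option autoImplicit false
open Cfsg

namespace Cfsg.Agent.S2930

open Equiv Equiv.Perm in
theorem sylow_le {X : Type*} [Group X] [Finite X] {α : Type*} [Fintype α] [DecidableEq α]
    (h5 : 5 ≤ Fintype.card α) (A : Subgroup X) [A.Normal] (hc : Subgroup.centralizer (A : Set X) ≤ A)
    (e : A ≃* alternatingGroup α) {s : X} (hs : Odd (orderOf s)) : s ∈ A := by
  let ψ : X →* MulAut (alternatingGroup α) :=
    (MulAut.congr e).toMonoidHom.comp (MulAut.conjNormal : X →* MulAut A)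
  obtain ⟨g, hg⟩ := H8.Sy.mem_range_of_odd h5 (φ := ψ s) (hs.of_dvd_nat (orderOf_map_dvd ψ s))
  obtain ⟨m, hm⟩ := exists_pow_eq_self_of_coprime (x := s) (n := 2) (Nat.coprime_two_left.2 hs)
  let a : alternatingGroup α := ⟨g ^ 2, by simp [mem_alternatingGroup, Int.units_sq]⟩
  have e1 : ψ s = ψ (e.symm (a ^ m)) := by
    conv_lhs => rw [← hm, map_pow, map_pow, ← hg, ← map_pow, ← map_pow]
    ext1 x
    apply e.symm.injective
    simp only [ψ, MonoidHom.comp_apply, MulEquiv.coe_toMonoidHom, MulAut.congr_apply,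
      MulEquiv.trans_apply, MulEquiv.symm_apply_apply]
    have : (MulAut.conjNormal ((g ^ 2) ^ m)) x = a ^ m * x * (a ^ m)⁻¹ := Subtype.ext rfl
    rw [this, map_mul, map_mul, map_inv]
    exact Subtype.ext rfl
  have e2 : (MulAut.conjNormal s : MulAut A) = MulAut.conjNormal ((e.symm (a ^ m) : A) : X) :=
    (MulAut.congr e).injective e1
  have : ((e.symm (a ^ m) : A) : X)⁻¹ * s ∈ A := hc (Subgroup.mem_centralizer_iff.2 fun x hx => by
    have := congrArg (fun φ : MulAut A => (φ ⟨x, hx⟩ : X)) e2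
    simp only [MulAut.conjNormal_apply] at this
    calc x * (((e.symm (a ^ m) : A) : X)⁻¹ * s) = ((e.symm (a ^ m) : A) : X)⁻¹ *
          (((e.symm (a ^ m) : A) : X) * x * ((e.symm (a ^ m) : A) : X)⁻¹) * s := by group
      _ = _ := by rw [← this]; group)
  simpa using A.mul_mem (e.symm (a ^ m)).2 this

/-- Let X be a finite 3-minimal group (a Sylow 3-subgroup is not normal and lies in a unique maximal subgroup) whose generalized Fitting subgroup is isomorphic to an alternating group of degree n ≥ 5. Then X = F*(X), and n = 6, n = 9, or n = 3ᵃ + 1 for some a ≥ 2. -/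
theorem result {X : Type*} [Group X] [Finite X] (hX : Cfsg.IsPMinimal 3 X) (n : ℕ) (hn : 5 ≤ n) (hF : Nonempty (↥(Cfsg.generalizedFittingSubgroup X) ≃* ↥(alternatingGroup (Fin n)))) : Cfsg.generalizedFittingSubgroup X = ⊤ ∧ (n = 6 ∨ n = 9 ∨ ∃ a : ℕ, 2 ≤ a ∧ n = 3 ^ a + 1) := by
  obtain ⟨e⟩ := hF
  have e5 : Fintype.card (Fin n) = n := Fintype.card_fin n
  obtain ⟨S⟩ : Nonempty (Sylow 3 X) := inferInstance
  obtain ⟨hS, M, ⟨hM, hSM⟩, hu⟩ := hX S
  have key : ∀ K : Subgroup X, (S : Subgroup X) ≤ K → K ≠ ⊤ → K ≤ M := fun K h1 h2 => by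
    obtain ⟨N, hN, hle⟩ := (eq_top_or_exists_le_coatom K).resolve_left h2
    rwa [hu N ⟨hN, h1.trans hle⟩] at hle
  have hSA : (S : Subgroup X) ≤ generalizedFittingSubgroup X := fun s hs => by
    obtain ⟨k, hk⟩ := S.isPGroup' ⟨s, hs⟩
    exact sylow_le (by omega) _ H5.centralizer_fstar_le e
      ((Odd.pow (by decide)).of_dvd_nat (orderOf_dvd_of_pow_eq_one (congrArg Subtype.val hk)))
  have ht : generalizedFittingSubgroup X = ⊤ := by
    by_contra hc
    have := Fact.mk Nat.prime_three
    refine hM.1 (eq_top_iff.2 ?_)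
    rw [← S.normalizer_sup_eq_top' hSA]
    exact sup_le (key _ Subgroup.le_normalizer fun h => hS (Subgroup.normalizer_eq_top_iff.1 h))
      (key _ hSA hc)
  refine ⟨ht, ?_⟩
  let e' : X ≃* alternatingGroup (Fin n) :=
    (Subgroup.topEquiv.symm.trans (MulEquiv.subgroupCongr ht.symm)).trans e
  let f : X →* Equiv.Perm (Fin n) := (alternatingGroup (Fin n)).subtype.comp e'.toMonoidHom
  have hf : Function.Injective f := Subtype.val_injective.comp e'.injective
  have hr : f.range = alternatingGroup (Fin n) := by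
    rw [MonoidHom.range_comp, MonoidHom.range_eq_top.2 e'.surjective, ← MonoidHom.range_eq_map,
      Subgroup.range_subtype]
  have : Nontrivial (Fin n) := Fin.nontrivial_iff_two_le.2 (by omega)
  have hU : H11.HS.UM ((S : Subgroup X).map f) (M.map f) := by
    refine ⟨S.isPGroup'.map f, ?_, fun h => hM.1 ?_, fun K h1 h2 => ?_⟩
    · rw [Subgroup.index_map_of_injective _ hf, hr, alternatingGroup.index_eq_two]
      have := Fact.mk Nat.prime_three
      have := S.not_dvd_index
      omega
    · rw [← hr, MonoidHom.range_eq_map, Subgroup.map_le_map_iff_of_injective hf] at h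
      exact eq_top_iff.2 h
    · rw [← hr, inf_comm, ← Subgroup.map_comap_eq]
      refine Subgroup.map_mono (key _ (Subgroup.map_le_iff_le_comap.1 h1) fun h => h2 ?_)
      rw [← hr, MonoidHom.range_eq_map, Subgroup.map_le_iff_le_comap, h]
  simpa using hU.main (by omega)

end Cfsg.Agent.S2930
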