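import Cfsg.Statements.S2931
import Cfsg.Agent.H22.PC
import Cfsg.Agent.H22.IsoE
import Cfsg.Agent.S0288
import Cfsg.Agent.S0245
import Cfsg.Agent.S0246

set_option autoImplicit false
open Cfsg

namespace Cfsg.Agent.S2931

open Matrix H22.PC

def lA : List (Equiv.Perm (Fin 8)) :=
  [⟨![4, 5, 6, 7, 2, 3, 0, 1], ![6, 7, 4, 5, 0, 1, 2, 3], by decide, by decide⟩,
   ⟨![1, 0, 3, 2, 6, 7, 4, 5], ![1, 0, 3, 2, 6, 7, 4, 5], by decide, by decide⟩,
   ⟨![2, 3, 0, 1, 7, 6, 5, 4], ![2, 3, 0, 1, 7, 6, 5, 4], by decide, by decide⟩,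
   ⟨![3, 2, 0, 1, 7, 6, 4, 5], ![2, 3, 1, 0, 6, 7, 5, 4], by decide, by decide⟩,
   ⟨![1, 0, 3, 2, 4, 5, 6, 7], ![1, 0, 3, 2, 4, 5, 6, 7], by decide, by decide⟩,
   ⟨![1, 0, 3, 2, 5, 4, 7, 6], ![1, 0, 3, 2, 5, 4, 7, 6], by decide, by decide⟩]

def lS : List (Equiv.Perm (Fin 8)) :=
  [⟨![2, 3, 0, 1, 4, 5, 6, 7], ![2, 3, 0, 1, 4, 5, 6, 7], by decide, by decide⟩,
   ⟨![4, 5, 6, 7, 0, 1, 2, 3], ![4, 5, 6, 7, 0, 1, 2, 3], by decide, by decide⟩,
   ⟨![3, 2, 1, 0, 7, 6, 5, 4], ![3, 2, 1, 0, 7, 6, 5, 4], by decide, by decide⟩,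
   ⟨![0, 1, 2, 3, 4, 5, 7, 6], ![0, 1, 2, 3, 4, 5, 7, 6], by decide, by decide⟩,
   ⟨![0, 1, 3, 2, 4, 5, 7, 6], ![0, 1, 3, 2, 4, 5, 7, 6], by decide, by decide⟩,
   ⟨![0, 1, 2, 3, 5, 4, 7, 6], ![0, 1, 2, 3, 5, 4, 7, 6], by decide, by decide⟩,
   ⟨![1, 0, 3, 2, 5, 4, 7, 6], ![1, 0, 3, 2, 5, 4, 7, 6], by decide, by decide⟩]

def i4 : Fin 2 ⊕ Fin 2 → Fin 4 := Sum.elim ![0, 1] ![2, 3]

def i6 : (Fin 2 ⊕ Fin 2) ⊕ Fin 2 → Fin 6 := Sum.elim (Sum.elim ![0, 1] ![2, 3]) ![4, 5]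

def sp (M : Matrix (Fin 4) (Fin 4) (ZMod 3))
    (h : M.submatrix i4 i4 * J (Fin 2) (ZMod 3) * (M.submatrix i4 i4)ᵀ = J (Fin 2) (ZMod 3)) :
    symplecticGroup (Fin 2) (ZMod 3) := ⟨M.submatrix i4 i4, h⟩

def lP : List (symplecticGroup (Fin 2) (ZMod 3)) :=
  [sp !![0, 0, 0, 1; 1, 0, 1, 0; 0, 2, 0, 0; 1, 0, 2, 0] (by decide +kernel),
   sp !![0, 0, 0, 1; 0, 0, 1, 0; 0, 2, 0, 0; 2, 0, 0, 0] (by decide +kernel),
   sp !![1, 0, 1, 0; 0, 1, 0, 1; 1, 0, 2, 0; 0, 1, 0, 2] (by decide +kernel),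
   sp !![0, 0, 1, 0; 0, 1, 0, 0; 2, 0, 0, 0; 0, 0, 0, 1] (by decide +kernel),
   sp !![0, 0, 1, 0; 0, 0, 0, 1; 2, 0, 0, 0; 0, 2, 0, 0] (by decide +kernel),
   sp !![1, 0, 0, 0; 0, 2, 0, 0; 0, 0, 1, 0; 0, 0, 0, 2] (by decide +kernel)]

def om (M : Matrix (Fin 6) (Fin 6) (ZMod 2)) (h : M.submatrix i6 i6 * M.submatrix i6 i6 = 1)
    (h' : ∀ u, quadFormMinus 2 (ZMod 2) 1 1 (M.submatrix i6 i6 *ᵥ u) = quadFormMinus 2 (ZMod 2) 1 1 u) :
    isometryGroup (ZMod 2) (quadFormMinus 2 (ZMod 2) 1 1) :=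
  ⟨⟨M.submatrix i6 i6, M.submatrix i6 i6, h, h⟩, fun u _ => h' u⟩

def lO : List (isometryGroup (ZMod 2) (quadFormMinus 2 (ZMod 2) 1 1)) :=
  [om !![1, 1, 0, 0, 0, 0; 0, 1, 0, 0, 0, 0; 0, 0, 1, 0, 0, 0; 0, 0, 1, 1, 0, 0; 0, 0, 0, 0, 1, 0; 0, 0, 0, 0, 0, 1] (by decide +kernel) (by decide +kernel),
   om !![1, 0, 0, 0, 0, 0; 0, 1, 0, 1, 1, 0; 0, 0, 1, 0, 0, 0; 0, 0, 0, 1, 0, 0; 0, 0, 0, 0, 1, 0; 0, 0, 0, 1, 0, 1] (by decide +kernel) (by decide +kernel),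
   om !![1, 0, 1, 0, 1, 0; 0, 1, 0, 0, 0, 0; 0, 0, 1, 0, 0, 0; 0, 0, 0, 1, 0, 0; 0, 0, 0, 0, 1, 0; 0, 0, 1, 0, 0, 1] (by decide +kernel) (by decide +kernel),
   om !![1, 0, 0, 0, 0, 0; 0, 1, 0, 0, 0, 0; 0, 0, 1, 0, 0, 0; 0, 0, 0, 1, 0, 0; 0, 0, 0, 0, 1, 1; 0, 0, 0, 0, 0, 1] (by decide +kernel) (by decide +kernel),
   om !![1, 0, 0, 0, 0, 0; 0, 1, 0, 1, 0, 1; 0, 0, 1, 0, 0, 0; 0, 0, 0, 1, 0, 0; 0, 0, 0, 1, 1, 0; 0, 0, 0, 0, 0, 1] (by decide +kernel) (by decide +kernel),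
   om !![1, 0, 1, 0, 0, 1; 0, 1, 0, 0, 0, 0; 0, 0, 1, 0, 0, 0; 0, 0, 0, 1, 0, 0; 0, 0, 1, 0, 1, 0; 0, 0, 0, 0, 0, 1] (by decide +kernel) (by decide +kernel),
   om !![1, 0, 0, 1, 0, 0; 0, 1, 1, 0, 0, 0; 0, 0, 1, 0, 0, 0; 0, 0, 0, 1, 0, 0; 0, 0, 0, 0, 1, 0; 0, 0, 0, 0, 0, 1] (by decide +kernel) (by decide +kernel)]

def w1 : List (List ℕ × List (List ℕ)) :=
  [([1, 3, 4], [[0, 1, 3], [1, 4], [2, 3, 4], [3, 4], [4]]), ([], [[0], [1, 2, 3], [2], [3]]), ([], [[0, 2], [1], [2]]), ([1], [[0], [1]]), ([], [[0]]), ([], [])]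

def w2 : List (List ℕ × List (List ℕ)) :=
  [([], [[0, 1, 5], [1], [2], [3, 4, 5], [4], [5]]), ([], [[0], [1, 2], [2], [3, 4], [4]]), ([], [[0, 2], [1, 3], [2], [3]]), ([], [[0], [1], [2]]), ([], [[0], [1]]), ([], [[0]]), ([], [])]

theorem z01 : ∀ y : ZMod 2, y = 0 ∨ y = 1 := by decide
theorem a1 : chk (fun a b => decide (a = b)) lA w1 = true := by decide +kernel
theorem a2 : chk (fun a b => decide (a.1 = b.1 ∨ a.1 = -b.1)) lP w1 = true := by decide +kernel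
theorem a3 : ch lA = true := by decide +kernel
theorem cen {G : Type*} [Group G] [DecidableEq G] {l : List G} {z : G}
    (h : ((nfs l).all fun a => !(l.all fun b => decide (a * b = b * a)) || decide (a = 1) ||
      decide (a = z)) = true) : ∀ a ∈ nfs l, (∀ b ∈ l, a * b = b * a) → a = 1 ∨ a = z := by
  intro a ha hb
  have := List.all_eq_true.1 h a ha
  rw [List.all_eq_true.2 fun b h => decide_eq_true (hb b h)] at this
  simpa using this
theorem a4 : ∀ a ∈ nfs lA, (∀ b ∈ lA, a * b = b * a) → a = 1 ∨ a = lA.getD 5 1 :=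
  cen (by decide +kernel)
theorem a5 : ∀ a ∈ lA, Equiv.Perm.sign a = 1 := fun a ha =>
  of_decide_eq_true (List.all_eq_true.1 (show (lA.all fun a => decide (Equiv.Perm.sign a = 1)) = true by
    decide +kernel) a ha)
theorem a6 : (lP.getD 0 1 * lP.getD 5 1).1 ≠ (lP.getD 5 1 * lP.getD 0 1).1 := by decide +kernel
theorem b1 : chk (fun a b => decide (a = b)) lS w2 = true := by decide +kernel
theorem b2 : chk (fun a b => decide (a.1.1 = b.1.1)) lO w2 = true := by decide +kernel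
theorem b3 : ch lS = true := by decide +kernel
theorem b4 : ∀ a ∈ nfs lS, (∀ b ∈ lS, a * b = b * a) → a = 1 ∨ a = lS.getD 6 1 :=
  cen (by decide +kernel)
theorem b5 : (lO.getD 6 1).1.1 ≠ 1 := by decide +kernel

/-- The Sylow 2-subgroups of the alternating group of degree 8 and of PSp₄(3) are isomorphic, and so are the Sylow 2-subgroups of the symmetric group of degree 8 and of the full isometry group of a non-degenerate quadratic form of minus type in dimension 6 over the field with 2 elements. -/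
theorem result (F : Type) [Field F] [Fintype F] (hF : Fintype.card F = 3) (K : Type) [Field K] [Fintype K] (hK : Fintype.card K = 2) (a b : K) (hab : ∀ z₁ z₂ : K, z₁ ^ 2 + a * z₁ * z₂ + b * z₂ ^ 2 = 0 → z₁ = 0 ∧ z₂ = 0) (P : Sylow 2 ↥(alternatingGroup (Fin 8))) (Q : Sylow 2 (Cfsg.PSp 2 F)) (P' : Sylow 2 (Equiv.Perm (Fin 8))) (Q' : Sylow 2 ↥(Cfsg.isometryGroup K (Cfsg.quadFormMinus 2 K a b))) : Nonempty (↥(P : Subgroup ↥(alternatingGroup (Fin 8))) ≃* ↥(Q : Subgroup (Cfsg.PSp 2 F))) ∧ Nonempty (↥(P' : Subgroup (Equiv.Perm (Fin 8))) ≃* ↥(Q' : Subgroup ↥(Cfsg.isometryGroup K (Cfsg.quadFormMinus 2 K a b)))) := by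
  have := Fact.mk Nat.prime_two
  have := Fact.mk Nat.prime_three
  constructor
  · let e : PSp 2 (ZMod 3) ≃* PSp 2 F := H22.quotCenterCongr (H22.spCongr (H22.zmodEquiv hF).symm _)
    obtain ⟨c, ⟨f⟩⟩ := iso (e.toMonoidHom.comp (QuotientGroup.mk' _))
      (s := fun a b => decide (a.1 = b.1 ∨ a.1 = -b.1)) (fun x y h => by
        rcases of_decide_eq_true h with h | h
        · rw [Subtype.ext h]
        · refine congrArg e (QuotientGroup.eq.2 ?_)
          rw [Subgroup.mem_center_iff]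
          intro g
          have : (x⁻¹ * y).1 = -1 := by
            have h2 : (x⁻¹ * x).1 = 1 := by rw [inv_mul_cancel]; rfl
            rw [Submonoid.coe_mul] at h2 ⊢
            rw [← h2, h, mul_neg, neg_neg]
          apply Subtype.ext
          rw [Submonoid.coe_mul _ g, Submonoid.coe_mul _ _ g, this]; simp)
      lA lP rfl w1 a1 a2 a3 5 (fun h => by
        rw [MonoidHom.comp_apply, MulEquiv.coe_toMonoidHom, map_eq_one_iff _ e.injective,
          QuotientGroup.mk'_apply, QuotientGroup.eq_one_iff, Subgroup.mem_center_iff] at h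
        exact a6 (congrArg Subtype.val (h _))) a4
    have hle : cl lA ≤ alternatingGroup (Fin 8) :=
      (Subgroup.closure_le _).2 fun a ha => Equiv.Perm.mem_alternatingGroup.2 (a5 a ha)
    have c1 : Nat.card (alternatingGroup (Fin 8)) = 2 ^ 6 * 315 := by
      have := two_mul_nat_card_alternatingGroup (α := Fin 8)
      rw [Nat.card_perm, Nat.card_fin, show Nat.factorial 8 = 40320 from rfl] at this
      omega
    have c2 : Nat.card (PSp 2 F) = 2 ^ 6 * 405 := by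
      have := H22.card_center_mul_card_quotient (symplecticGroup (Fin 2) F)
      rw [S0246.result hF 2 (by norm_num), S0245.result hF 2] at this
      simp [Finset.prod_range_succ] at this
      change 2 * Nat.card (PSp 2 F) = _ at this
      omega
    refine sylow_iso P Q (n := 6) (S := (cl lA).subgroupOf _)
      ((Nat.card_congr (Subgroup.subgroupOfEquivOfLe hle).toEquiv).trans c)
      ((Subgroup.subgroupOfEquivOfLe hle).trans f) ?_ ?_
    · rw [c1, Nat.factorization_mul (by norm_num) (by norm_num), Nat.prime_two.factorization_pow]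
      simp [Nat.factorization_eq_zero_of_not_dvd]
    · rw [c2, Nat.factorization_mul (by norm_num) (by norm_num), Nat.prime_two.factorization_pow]
      simp [Nat.factorization_eq_zero_of_not_dvd]
  · let z := (H22.zmodEquiv hK).symm
    have h01 : ∀ x : K, x = 0 ∨ x = 1 := fun x => by
      obtain ⟨y, rfl⟩ := z.surjective x
      rcases z01 y with rfl | rfl <;> simp
    have hb : b = 1 := (h01 b).resolve_left fun h => one_ne_zero (hab 0 1 (by simp [h])).2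
    have ha : a = 1 := (h01 a).resolve_left fun h => one_ne_zero (hab 1 1 (by
      rw [h, hb]
      have : (1 : K) + 1 = z (1 + 1) := by simp
      simp [this, show (1 + 1 : ZMod 2) = 0 from rfl])).2
    subst ha hb
    let e : isometryGroup (ZMod 2) (quadFormMinus 2 (ZMod 2) 1 1) ≃* isometryGroup K (quadFormMinus 2 K 1 1) :=
      H22.isomCongr z fun v => by simpa using H22.quadFormMinus_comp z 2 1 1 v
    obtain ⟨c, ⟨f⟩⟩ := iso e.toMonoidHom (s := fun a b => decide (a.1.1 = b.1.1))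
      (fun x y h => by rw [Subtype.ext (Units.ext (of_decide_eq_true h))])
      lS lO rfl w2 b1 b2 b3 6 (fun h => by
        rw [MulEquiv.coe_toMonoidHom, map_eq_one_iff _ e.injective] at h
        exact b5 (by rw [h]; rfl)) b4
    have c1 : Nat.card (Equiv.Perm (Fin 8)) = 2 ^ 7 * 315 := by
      rw [Nat.card_perm, Nat.card_fin]; rfl
    have c2 : Nat.card (isometryGroup K (quadFormMinus 2 K 1 1)) = 2 ^ 7 * 405 := by
      have := S0288.result hK 3 (by norm_num) 1 1 hab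
      simpa [Finset.prod_range_succ] using this
    refine sylow_iso P' Q' (n := 7) c f ?_ ?_
    · rw [c1, Nat.factorization_mul (by norm_num) (by norm_num), Nat.prime_two.factorization_pow]
      simp [Nat.factorization_eq_zero_of_not_dvd]
    · rw [c2, Nat.factorization_mul (by norm_num) (by norm_num), Nat.prime_two.factorization_pow]
      simp [Nat.factorization_eq_zero_of_not_dvd]

end Cfsg.Agent.S2931
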