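import Cfsg.Statements.S2933
import Cfsg.Agent.H3.HgC
import Cfsg.Agent.S1237

set_option autoImplicit false
open Cfsg

namespace Cfsg.Agent.S2933

theorem tr4 {G : Type*} [Group G] [Finite G] {V : Subgroup G} (hV : Nat.card V = 4) {ρ : G}
    (h3 : ρ ^ 3 = 1) (hn : ρ ∈ Subgroup.normalizer (V : Set G))
    (hc : ρ ∉ Subgroup.centralizer (V : Set G)) {x y : G} (hx : x ∈ V) (hy : y ∈ V) (hx1 : x ≠ 1)
    (hy1 : y ≠ 1) : ∃ k : ℕ, ρ ^ k * x * (ρ ^ k)⁻¹ = y := by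
  classical
  have := Fintype.ofFinite V
  let φ := (MulAut.toPerm V).comp V.normalizerMonoidHom
  have ho : orderOf (φ ⟨ρ, hn⟩) = 3 := orderOf_eq_prime (by
    rw [← map_pow, show (⟨ρ, hn⟩ ^ 3 : Subgroup.normalizer (V : Set G)) = 1 from Subtype.ext h3, map_one])
    fun e => hc (Subgroup.mem_centralizer_iff.2 fun v hv =>
      (mul_inv_eq_iff_eq_mul.1 (congrArg Subtype.val (Equiv.congr_fun e ⟨v, hv⟩))).symm)
  rw [Nat.card_eq_fintype_card] at hV
  have h1 := Equiv.Perm.isCycle_of_prime_order' (ho ▸ Nat.prime_three) (by rw [ho, hV]; norm_num)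
  have h2 : (φ ⟨ρ, hn⟩).support = Finset.univ.erase 1 := Finset.eq_of_subset_of_card_le
    (fun v hv => Finset.mem_erase.2 ⟨fun e => Equiv.Perm.mem_support.1 hv (by
      rw [e]; exact map_one (V.normalizerMonoidHom ⟨ρ, hn⟩)), Finset.mem_univ _⟩)
    (by rw [← h1.orderOf, ho, Finset.card_erase_of_mem (Finset.mem_univ _), Finset.card_univ, hV])
  obtain ⟨k, hk⟩ := h1.exists_pow_eq (x := ⟨x, hx⟩) (y := ⟨y, hy⟩)
    (Equiv.Perm.mem_support.1 (by rw [h2]; simpa using hx1))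
    (Equiv.Perm.mem_support.1 (by rw [h2]; simpa using hy1))
  rw [← map_pow] at hk
  exact ⟨k, congrArg Subtype.val hk⟩

/-- Let T be a 2-subgroup of a finite group G, V ≤ Z(T) a four-group, and t, ρ ∈ N_G(V) ∩ N_G(T) elements of order 2 and 3 with t commuting with ρ and with V. If [V, ρ] = V and C_T(t) = V, then T is elementary abelian of order 16, or homocyclic of rank 2 (ℤ/2ⁿ × ℤ/2ⁿ for some n ≥ 1), or isomorphic to a Sylow 2-subgroup of PSL₃(4) or of PSU₃(4). -/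
theorem result {G : Type*} [Group G] [Finite G] (T V : Subgroup G) (hT : IsPGroup 2 ↥T) (hVT : V ≤ T ⊓ Subgroup.centralizer (T : Set G)) (hV : Nat.card ↥V = 4 ∧ ∀ v ∈ V, v ^ 2 = 1) (t ρ : G) (ht : orderOf t = 2) (hρ : orderOf ρ = 3) (htn : t ∈ Subgroup.normalizer (V : Set G) ⊓ Subgroup.normalizer (T : Set G)) (hρn : ρ ∈ Subgroup.normalizer (V : Set G) ⊓ Subgroup.normalizer (T : Set G)) (htρ : t * ρ = ρ * t) (htV : t ∈ Subgroup.centralizer (V : Set G)) (hVρ : ⁅V, Subgroup.zpowers ρ⁆ = V) (hCt : T ⊓ Subgroup.centralizer ({t} : Set G) = V) : (Nat.card ↥T = 16 ∧ ∀ x ∈ T, x ^ 2 = 1) ∨ (∃ n : ℕ, 1 ≤ n ∧ Nonempty (↥T ≃* Multiplicative (ZMod (2 ^ n)) × Multiplicative (ZMod (2 ^ n)))) ∨ (∃ (F : Type) (_ : Field F) (_ : Fintype F), Fintype.card F = 4 ∧ ∀ P : Sylow 2 (Matrix.ProjectiveSpecialLinearGroup (Fin 3) F), Nonempty (↥T ≃* ↥(P : Subgroup (Matrix.ProjectiveSpecialLinearGroup (Fin 3) F)))) ∨ (∃ (F : Type) (_ :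 Field F) (_ : Fintype F), Fintype.card F = 16 ∧ ∀ P : Sylow 2 (Cfsg.PSU 3 F 4), Nonempty (↥T ≃* ↥(P : Subgroup (Cfsg.PSU 3 F 4)))) := by
  have : Fintype (GaloisField 2 4) := Fintype.ofFinite _
  have hE : Fintype.card (GaloisField 2 4) = 4 ^ 2 := by
    rw [← Nat.card_eq_fintype_card, GaloisField.card 2 _ (by omega)]; rfl
  have hK := H3.HgA.card_K0 hE
  let φ := T.normalizerMonoidHom
  let a : Subgroup.normalizer (T : Set G) := ⟨t, htn.2⟩
  let r : Subgroup.normalizer (T : Set G) := ⟨ρ, hρn.2⟩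
  have h3 : ρ ^ 3 = 1 := hρ ▸ pow_orderOf_eq_one ρ
  have hC : ∀ x : T, x ∈ V.subgroupOf T ↔ φ a x = x := fun x => by
    rw [Subgroup.mem_subgroupOf, ← hCt, Subtype.ext_iff]
    change _ ↔ t * x * t⁻¹ = x
    rw [mul_inv_eq_iff_eq_mul]
    simp [Subgroup.mem_centralizer_singleton_iff, eq_comm]
  have hc : Nat.card (V.subgroupOf T) = 4 := by
    rw [Nat.card_congr (Subgroup.subgroupOfEquivOfLe (hVT.trans inf_le_left)).toEquiv, hV.1]
  have htr : ∀ x ∈ V.subgroupOf T, ∀ y ∈ V.subgroupOf T, x ≠ 1 → y ≠ 1 → ∃ k : ℕ, (φ r ^ k) x = y := by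
    intro x hx y hy hx1 hy1
    obtain ⟨k, hk⟩ := tr4 hV.1 h3 hρn.1 (fun h => by
      rw [Subgroup.commutator_comm, Subgroup.commutator_eq_bot_iff_le_centralizer.2
        (Subgroup.zpowers_le.2 h)] at hVρ
      simp [← hVρ] at hV) hx hy (fun e => hx1 (Subtype.ext e)) fun e => hy1 (Subtype.ext e)
    exact ⟨k, by rw [← map_pow]; exact Subtype.ext hk⟩
  have h2 : ∀ x ∈ V.subgroupOf T, x * x = 1 := fun x hx => Subtype.ext (by
    rw [← sq]; exact hV.2 x hx)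
  by_cases hu : ∃ u : T, u * u = 1 ∧ φ a u ≠ u
  swap
  · push Not at hu
    rcases S1237.result hT (fun A _ hA => (Subgroup.card_le_of_le fun x hx =>
        (hC x).2 (hu x (by rw [← sq]; exact hA x hx))).trans hc.le)
      (fun h => by
        have := h (V.subgroupOf T) ⟨⟨fun x y => Subtype.ext (Subtype.ext
          (Subgroup.mem_centralizer_iff.1 (hVT y.2).2 _ x.1.2))⟩⟩ fun x hx => by rw [sq, h2 x hx]
        omega) (φ r)
      (fun x y hx hy => htr x ((hC x).2 (hu x (H6.ord2_mul_self hx))) y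
        ((hC y).2 (hu y (H6.ord2_mul_self hy))) (H6.ord2_ne_one hx) (H6.ord2_ne_one hy)) hE
      (Classical.arbitrary _) with ⟨n, hn, ⟨e⟩⟩ | ⟨⟨e⟩⟩
    · exact .inr (.inl ⟨n, hn, ⟨e.trans (MulEquiv.prodMultiplicative _ _)⟩⟩)
    · exact .inr (.inr (.inr ⟨_, _, _, hE, fun P => ⟨e.trans (Sylow.equiv _ P)⟩⟩))
  obtain ⟨u, hu, hu'⟩ := hu
  obtain ⟨s, h⟩ := H3.HgA.exists_HH (F := H3.HgA.K0 hE) (φ a) (φ r) (by
      rw [← map_mul, show a * a = 1 from Subtype.ext (H6.ord2_mul_self ht), map_one])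
    (Commute.map (show Commute a r from Subtype.ext htρ) φ) (by
      rw [hK, ← map_pow, show r ^ (4 - 1) = 1 from Subtype.ext h3, map_one]) _ hC h2 (hc.trans hK.symm) htr
  by_cases hne : commutator T = ⊥
  · let _ : CommGroup T := { mul_comm := fun x y =>
      commutatorElement_eq_one_iff_mul_comm.1 (by simpa [hne] using H3.HgA.cm x y) }
    have key := h.ab hT hu hu'
    have hv : φ a (u⁻¹ * φ a u) = u⁻¹ * φ a u := by
      rw [map_mul, map_inv, show φ a (φ a u) = u from h.inv u, inv_eq_of_mul_eq_one_right hu,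
        inv_eq_of_mul_eq_one_right (key _).1, mul_comm]
    have hi := (h.sa hT).indep (fun x => (key x).1) (u := u) (v := u⁻¹ * φ a u)
      (fun e => hu' (by rw [e, map_one])) fun c e => hu' (by
        by_cases h0 : c = 0
        · rw [h0, h.zero] at e
          exact (inv_mul_eq_one.1 e).symm
        · rw [e] at hv
          exact h.inj h0 ((h.comm c u).symm.trans hv))
    refine .inl ⟨?_, fun x hx => ?_⟩
    · rw [← Nat.card_congr (Equiv.ofBijective _ ⟨hi, fun x => ?_⟩), Nat.card_prod,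
        Nat.card_eq_fintype_card, hK]
      obtain ⟨a, b, e⟩ := (key x).2
      exact ⟨(a, b), e.symm⟩
    · rw [sq]; exact congrArg Subtype.val (key ⟨x, hx⟩).1
  obtain ⟨c, ha0, ha1⟩ : ∃ a : H3.HgA.K0 hE, a ≠ 0 ∧ a ≠ 1 := by
    by_contra! h
    exact H26.not_inj_two (F := H3.HgA.K0 hE) hK.ge
      (AddMonoidHom.id _) (fun _ h => h) 1 fun x => (em (x = 0)).imp_right (h x)
  obtain ⟨p, r, π, i, H⟩ := h.std hT ha0 ha1 hne
  rcases H.cases hE (by decide) with h | h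
  · exact .inr (.inr (.inr ⟨_, _, _, hE, h⟩))
  · exact .inr (.inr (.inl ⟨_, _, _, hK, h⟩))

end Cfsg.Agent.S2933
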