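import Cfsg.Statements.S2970
import Cfsg.Agent.H11.Iso
import Cfsg.Agent.H3.Misc

set_option autoImplicit false
open Cfsg

namespace Cfsg.Agent.S2970

open Subgroup H16 H16.H11
open H1 hiding card_inf_mul_relIndex card_mul_relIndex card_sup_dvd isPiHallOf_map_subtype isPiHallOf_top
open H15 hiding card_cj cent_anti cent_bot cent_comm cent_le_cent1 cent_le_norm cent_sup cent_zpowers cj_bot cj_cent cj_cj_inv cj_comm cj_eq_bot cj_eq_iff cj_eq_top cj_inf cj_inj cj_inv_cj cj_le_cj cj_le_iff cj_le_of_mem cj_lt_cj cj_mono cj_norm cj_one cj_sup cj_top comm_le_inf comm_le_left comm_le_right comm_of_cyclic comm_of_le comm_sup le_cj_iff mem_cent mem_cent1 mem_cj mem_norm_of_cj_le norm_bot norm_top relIndex_cj relIndex_dvd_of_le_right relIndex_pos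
open scoped commutatorElement


/-- Let G be a finite group, p a prime and x ∈ G an element of p-power order which is isolated in G. Then the image of x in any quotient G ⧸ N is isolated in G ⧸ N; and if x ≠ 1 and the Sylow p-subgroups of G are cyclic, then G has a normal p-complement. -/
theorem result {G : Type*} [Group G] [Finite G] {p : ℕ} [Fact p.Prime] (x : G) (hx : ∃ k : ℕ, orderOf x = p ^ k) (hiso : Cfsg.IsIsolated x) : (∀ (N : Subgroup G) [N.Normal], Cfsg.IsIsolated (QuotientGroup.mk x : G ⧸ N)) ∧ (x ≠ 1 → (∀ P : Sylow p G, IsCyclic ↥(P : Subgroup G)) → Cfsg.HasNormalPComplement p G) := by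
  have hx' := pg_zpowers_of Fact.out hx
  refine ⟨fun N _ g hg => ?_, fun h1 hc => ?_⟩
  · obtain ⟨g, rfl⟩ := QuotientGroup.mk'_surjective N g
    let f := QuotientGroup.mk' N
    change f g * f x * (f g)⁻¹ = f x
    obtain ⟨c, hc, h⟩ := iso_fuse (H := C1[f g * f x * (f g)⁻¹].comap f) (g := g) hiso hx'
      (mem_cent1.2 hg) (by rw [mem_comap, map_mul, map_mul, map_inv]; exact cent1_self _)
    have h1 := congrArg f (mem_cent1.1 h)
    simp only [map_mul] at h1
    calc f g * f x * (f g)⁻¹ = f c * (f g * f x * (f g)⁻¹) * (f c)⁻¹ := by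
          rw [mem_cent1.1 (mem_comap.1 hc), mul_inv_cancel_right]
      _ = f c * f g * f x * (f c * f g)⁻¹ := by group
      _ = f x := by rw [h1, mul_inv_cancel_right]
  · obtain ⟨P, hP, h2⟩ := sy_exists_ge le_top hx'
    obtain ⟨P, rfl⟩ := sylow_of_sy_top hP
    have := comm_of_cyclic (hc P)
    refine H3.hasNormalPComplement_of_abelian_of_forall P fun q hq hqp _ g k hk hg => ?_
    by_contra h
    have h3 := cyc_pg_reg Fact.out (hl_pi hP) (hc P) (zpowers_le.2 hg)
      (((pg_zpowers_of hq ⟨k, hk⟩).compl_of_ne hqp).coprime' (hl_pi hP))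
      fun h4 => h (cent_symm h4 (mem_zpowers g))
    refine h1 (eq_one_of_mem_bot h3 ⟨h2 (mem_zpowers x), ?_⟩)
    rw [cent_zpowers]
    exact cent1_comm.1 (iso_norm hiso (sy_nil hP) (h2 (mem_zpowers x)) hg)

end Cfsg.Agent.S2970
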