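import Cfsg.Statements.S2971
import Cfsg.Agent.H11.Iso
import Cfsg.Agent.S2970

set_option autoImplicit false
open Cfsg

namespace Cfsg.Agent.S2971

open Subgroup H16 H16.H11
open H1 hiding card_inf_mul_relIndex card_mul_relIndex card_sup_dvd isPiHallOf_map_subtype isPiHallOf_top
open H15 hiding card_cj cent_anti cent_bot cent_comm cent_le_cent1 cent_le_norm cent_sup cent_zpowers cj_bot cj_cent cj_cj_inv cj_comm cj_eq_bot cj_eq_iff cj_eq_top cj_inf cj_inj cj_inv_cj cj_le_cj cj_le_iff cj_le_of_mem cj_lt_cj cj_mono cj_norm cj_one cj_sup cj_top comm_le_inf comm_le_left comm_le_right comm_of_cyclic comm_of_le comm_sup le_cj_iff mem_cent mem_cent1 mem_cj mem_norm_of_cj_le norm_bot norm_top relIndex_cj relIndex_dvd_of_le_right relIndex_pos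
open scoped commutatorElement


/-- Let G be a finite group and p an odd prime such that G has p-rank at most 1 (no elementary abelian subgroup of order p²). If x ∈ G is an isolated element of order p, then x is central modulo the largest normal subgroup of G of order prime to p. -/
theorem result {G : Type*} [Group G] [Finite G] {p : ℕ} [Fact p.Prime] (hp : p ≠ 2) (hrk : Cfsg.PRankLE p 1 G) (x : G) (hx : orderOf x = p) (hiso : Cfsg.IsIsolated x) : Cfsg.InZStar p x := by
  have hc : ∀ P : Sylow p G, IsCyclic (P : Subgroup G) := fun P =>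
    cyclic_of_prk1 hp (hl_pi (sy_top_of_sylow P)) (prk_of_le (prk_top.2 hrk) le_top)
  have h1 := (S2970.result x ⟨1, by rw [hx, pow_one]⟩ hiso).2
    (by rintro rfl; rw [orderOf_one] at hx; exact (Fact.out : p.Prime).one_lt.ne hx) hc
  obtain ⟨P⟩ : Nonempty (Sylow p G) := inferInstance
  have h2 := hl_sup_compl' ((pnil_iff Fact.out).1 (H3.hasNormalPComplement_top.2 h1))
    (sy_top_of_sylow P)
  have h3 := der_sup_le (K := Op[{p}ᶜ] ⊤) (H := (P : Subgroup G)) (le_norm_piCoreOf_of_le _ le_top)
  rw [h2, der_eq_bot.2 (comm_of_cyclic (hc P)), sup_bot_eq, ← pPrimeCore_eq_piCoreOf] at h3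
  exact fun g => h3 (commutator_mem_commutator (mem_top g) (mem_top x))

end Cfsg.Agent.S2971
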