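import Cfsg.Statements.S2981
import Cfsg.Agent.H12.FF11

set_option autoImplicit false
open Cfsg

namespace Cfsg.Agent.S2981

open H12 H10 Subgroup H4
open scoped commutatorElement

/-- The local C**(G,T)-Theorem for minimal parabolic groups. Let G be a finite p-minimal group (a Sylow p-subgroup T is not normal and lies in exactly one maximal subgroup) of characteristic p (C_G(O_p(G)) ≤ O_p(G)), and suppose G ≠ C**(G,T), the subgroup generated by C_G(Ω₁(Z(T))) and N_G(J(T)) (J(T) generated by the elementary abelian p-subgroups of T of largest order). Put V = Ω₁(Z(O_p(G))) and C = C_G(V). Then there are subgroups E₁, …, E_r of G containing C such that: J(G)TC = G and the E_i C/C form an internal direct product equal to J(G)C/C; any two of the E_i are conjugate by an element of T; V = C_V(⟨E_i⟩)·∏[V, E_i] with [V, E_i, E_j] = 1 for i ≠ j; for some n ≥ 1, each E_i/C is isomorphic to SL₂(pⁿ), or p = 2 and to the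 symmetric group of degree 2ⁿ + 1; and E_i acts on [V, E_i]/C_{[V,E_i]}(E_i) as the natural two-dimensional SL₂(pⁿ)-module, respectively as the symmetric group of degree 2ⁿ+1 on its even-weight permutation module. -/
theorem result {G : Type*} [Group G] [Finite G] {p : ℕ} [Fact p.Prime] (hmin : Cfsg.IsPMinimal p G) (hG : Subgroup.centralizer (Cfsg.pCore p G : Set G) ≤ Cfsg.pCore p G) (T : Sylow p G) (hne : Cfsg.cStarStarOf p (T : Subgroup G) ≠ ⊤) : ∃ (r : ℕ) (E : Fin r → Subgroup G), (∀ i, Subgroup.centralizer (Cfsg.omegaOneCenter p (Cfsg.pCore p G) : Set G) ≤ E i) ∧ Cfsg.thompsonSubgroup p G ⊔ (T : Subgroup G) ⊔ Subgroup.centralizer (Cfsg.omegaOneCenter p (Cfsg.pCore p G) : Set G) = ⊤ ∧ (⨆ i, E i) = Cfsg.thompsonSubgroup p G ⊔ Subgroup.centralizer (Cfsg.omegaOneCenter p (Cfsg.pCore p G) : Set G) ∧ (∀ i j, i ≠ j → ⁅E i, E j⁆ ≤ Subgroup.centralizer (Cfsg.omegaOneCenter p (Cfsg.pCore p G) : Set G)) ∧ (∀ i, E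 i ⊓ (⨆ j ∈ {j | j ≠ i}, E j) ≤ Subgroup.centralizer (Cfsg.omegaOneCenter p (Cfsg.pCore p G) : Set G)) ∧ (∀ i j, ∃ t ∈ (T : Subgroup G), (E i).map (MulAut.conj t).toMonoidHom = E j) ∧ (Cfsg.omegaOneCenter p (Cfsg.pCore p G) ⊓ Subgroup.centralizer ((⨆ i, E i : Subgroup G) : Set G)) ⊔ (⨆ i, ⁅Cfsg.omegaOneCenter p (Cfsg.pCore p G), E i⁆) = Cfsg.omegaOneCenter p (Cfsg.pCore p G) ∧ (∀ i j, i ≠ j → ⁅⁅Cfsg.omegaOneCenter p (Cfsg.pCore p G), E i⁆, E j⁆ = ⊥) ∧ ∀ i, ∃ n : ℕ, 1 ≤ n ∧ ((∃ (F : Type) (_ : Field F) (_ : Fintype F), Fintype.card F = p ^ n ∧ (∃ _ : ((Subgroup.centralizer (Cfsg.omegaOneCenter p (Cfsg.pCore p G) : Set G)).subgroupOf (E i)).Normal, Nonempty (↥(E i) ⧸ (Subgroup.centralizer (Cfsg.omegaOneCenter p (Cfsg.pCore p G) : Set G)).subgroupOf (E i) ≃* Matrix.SpecialLinearGroup (Fin 2) F)) ∧ Cfsg.ActsAsSL2OnSection F ⊤ (E i) ⁅Cfsg.omegaOneCenter p (Cfsg.pCore p G), E i⁆ (⁅Cfsg.omegaOneCenter p (Cfsg.pCore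 p G), E i⁆ ⊓ Subgroup.centralizer ((E i : Subgroup G) : Set G))) ∨ (p = 2 ∧ (∃ _ : ((Subgroup.centralizer (Cfsg.omegaOneCenter p (Cfsg.pCore p G) : Set G)).subgroupOf (E i)).Normal, Nonempty (↥(E i) ⧸ (Subgroup.centralizer (Cfsg.omegaOneCenter p (Cfsg.pCore p G) : Set G)).subgroupOf (E i) ≃* Equiv.Perm (Fin (2 ^ n + 1)))) ∧ Cfsg.ActsAsOddPermModuleOnSection (2 ^ n + 1) ⊤ (E i) ⁅Cfsg.omegaOneCenter p (Cfsg.pCore p G), E i⁆ (⁅Cfsg.omegaOneCenter p (Cfsg.pCore p G), E i⁆ ⊓ Subgroup.centralizer ((E i : Subgroup G) : Set G)))) := by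
  have hT := isSylowIn_top T
  obtain ⟨hn, M, ⟨hM, hTM⟩, hu⟩ := hmin T
  have um : UMax (T : Subgroup G) M ⊤ := ⟨hTM, hM.lt_top, fun X x1 x2 =>
    let ⟨N, n1, n2⟩ := exists_coatom_ge x2.ne; hu N ⟨n1, x1.trans n2⟩ ▸ n2⟩
  have hC := um.2.2 (cStarStarOf p T) (le_sup_of_le_right
    ((le_NN_self _).trans (normalizer_le_normalizer_thompsonOf _))) (lt_top_iff_ne_top.2 hne)
  have hc : CharPIn p (⊤ : Subgroup G) := charPIn_top.2 hG
  have hZ := hc.ZO_le hT
  rw [H10.pCoreOf_top] at hZ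
  change ZO p (T : Subgroup G) ≤ omegaOneCenter p (pCore p G) at hZ
  set V := omegaOneCenter p (pCore p G) with hVdef
  have hV : IsElementaryAbelian p V := elab_ZO _
  have : V.Normal := ⟨fun x hx g => conj_mem_of_mem_NN
    (NN_le_NN_ZO _ (le_normalizer_of_normal (mem_top g))) hx⟩
  have h1 : CC(V ⊓ CC((T : Subgroup G))) ≤ M :=
    (CC_anti (le_inf hZ (ZO_le_CC _))).trans (le_sup_left.trans hC)
  have hQ : pCoreOf p ⊤ ≤ CC(V) := H10.pCoreOf_top.le.trans (le_CC_ZO _)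
  have off : ∀ A ∈ maxAb p (⊤ : Subgroup G),
      Nat.card V * Nat.card (A ⊓ CC(V) : Subgroup G) ≤ meas V A := fun A hA => by
    have := (bestOffender_of_mem_maxAb hV le_top hA).1 (A ⊓ CC(V)) inf_le_left
    rwa [inf_eq_left.2 (le_CC_symm inf_le_right), mul_comm] at this
  have hJ : ¬ thompsonSubgroupOf p (T : Subgroup G) ≤ CC(V) := fun h => by
    have h2 := (le_inf (thompsonOf_le _) h).trans
      (umax_inf_le hT um ((CC_anti inf_le_left).trans h1) le_normalizer_of_normal)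
    have h3 := normalizer_le_normalizer_thompsonOf (n := p) (pCoreOf p (⊤ : Subgroup G))
    rw [thompsonOf_eq_of_le h2 hT.pCoreOf_le] at h3
    exact hM.lt_top.not_ge ((le_NN_pCoreOf ⊤).trans (h3.trans (le_sup_right.trans hC)))
  rw [thompsonOf_le_iff] at hJ
  push Not at hJ
  obtain ⟨A, hA, h0⟩ := hJ
  have hA' := maxAb_sylow_subset T hA
  obtain ⟨r, E, k⟩ := exists_ffq hV hT um (fun h => hn (normalizer_eq_top_iff.1
    (eq_top_iff.2 h))) hQ h1 hA.2.1 h0 (off A hA')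
  have e : ⨆ i, E i = thompsonSubgroup p G ⊔ CC(V) := le_antisymm
    (k.min _ A inferInstance (by rw [← thompsonOf_top]; exact le_thompsonOf hA') hA.2.1 h0 (off A hA'))
    (sup_le (by rw [← thompsonOf_top, thompsonOf_le_iff]; exact fun B hB => k.off B hB.2.1 (off B hB))
      (le_iSup_of_le ⟨0, k.pos⟩ (k.cle _)))
  exact ⟨r, E, k.cle, by rw [sup_right_comm, ← e, k.sup], e, k.comm, k.ind, k.conj, k.dec,
    fun i j hij => comm_eq_bot.2 (k.comm' i j hij), k.str⟩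

end Cfsg.Agent.S2981
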