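import Cfsg.Statements.S2989
import Cfsg.Agent.H10.PU11

set_option autoImplicit false
open Cfsg H10

namespace Cfsg.Agent.S2989

/-- Let G be a finite group and S a Sylow p-subgroup of G in the basic pushing-up situation (G ≠ 1, C_G(O_p(G)) ≤ O_p(G), S lies in a unique maximal subgroup of G, and some quotient of G is isomorphic to PSL₂ over a field of order a power of p), and suppose that S centralizes Z(J(S)), where J(S) is generated by the abelian subgroups of S of largest order (that is, J̃(S) = C_S(Z(J(S))) = S). Call a subgroup R of S centrally large if |R|·|Z(R)| is as large as possible among subgroups of S, and let S_Φ be the subgroup generated by the Frattini subgroups Φ(Q) of those minimal centrally large subgroups Q of S whose Ω₁(Z(Q)) has the largest order among minimal centrally large subgroups. Then Z(S) or S_Φ is normal in G; and if S_Φ = 1, the minimal centrally large subgroups of S are exactly the abelian subgroups of S of largest order, and at least one of them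 is elementary abelian. -/
theorem result {G : Type*} [Group G] [Finite G] {p : ℕ} [Fact p.Prime] (S : Subgroup G) (hE : Cfsg.IsPushingUpSituation p S) (hJ : S ≤ Subgroup.centralizer (Cfsg.centerThompsonAOf S : Set G)) : ((S ⊓ Subgroup.centralizer (S : Set G)).Normal ∨ ((Cfsg.frattiniOfMinimalCLJoin p ↥S).map S.subtype).Normal) ∧ (Cfsg.frattiniOfMinimalCLJoin p ↥S = ⊥ → (∀ Q : Subgroup ↥S, Cfsg.IsMinimalCentrallyLarge Q ↔ Q ∈ Cfsg.maxAbelianSubgroups ↥S) ∧ ∃ A ∈ Cfsg.maxAbelianSubgroups ↥S, Cfsg.IsElementaryAbelian p A) := by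
  obtain ⟨-, ⟨S, rfl⟩, hE₁, hE₂, K, _, F, _, _, n, hF, hE₃⟩ := hE
  have hb : BddAbove {k : ℕ | ∃ Q : Subgroup (S : Subgroup G), IsMinimalCentrallyLarge Q ∧
      Nat.card (omegaOneCenter p Q) = k} := (H11.bddAbove_measure fun Q : Subgroup (S : Subgroup G) =>
        Nat.card (omegaOneCenter p Q)).mono (by rintro _ ⟨Q, -, e⟩; exact ⟨Q, e⟩)
  have c : ∀ X : Subgroup (S : Subgroup G), Nat.card (ZO p (X.map (S : Subgroup G).subtype)) =
      Nat.card (omegaOneCenter p X) := fun X => by
    rw [← map_ZO_of_injective (Subgroup.subtype_injective _), card_map_subtype]; rfl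
  refine ⟨?_, fun h => ?_⟩
  · by_cases hZ : (S : Subgroup G) ⊓ CC((S : Subgroup G)) ≤ CC((⊤ : Subgroup G))
    · exact Or.inl (normal_of_top_le_NN ((le_CC_symm hZ).trans (CC_le_NN _)))
    have e := ((rk_of_psl S hE₂ K hF hE₃).2.nvC (charPIn_top.2 hE₁) (isSylowIn_top S)
      (ZJ_zero (S : Subgroup G) ▸ hJ) hZ).phi_normal (isSylowIn_top S) (ZO_le _)
      (m := maxOmegaCenterOfMinimalCL p (S : Subgroup G)) fun X hX => by
        obtain ⟨X, rfl⟩ := exists_sub hX.1.1
        exact le_csSup hb ⟨X, MCL_sub.1 hX, (c X).symm⟩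
    refine Or.inr (normal_of_top_le_NN (e.trans (le_of_eq ?_)))
    congr 2
    rw [frattiniOfMinimalCLJoin, Subgroup.map_iSup]
    refine le_antisymm (iSup_le fun ⟨X, hX, e⟩ => ?_) (iSup_le fun ⟨X, hX, e⟩ => ?_)
    · obtain ⟨X, rfl⟩ := exists_sub hX.1.1
      exact le_iSup_of_le ⟨X, MCL_sub.1 hX, c X ▸ e⟩
        (map_frOf_of_injective (Subgroup.subtype_injective _) X).ge
    · exact le_iSup_of_le ⟨_, MCL_sub.2 hX, (c X).trans e⟩
        (map_frOf_of_injective (Subgroup.subtype_injective _) X).le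
  · obtain ⟨X, hX⟩ := H11.exists_isCentrallyLarge (G := (S : Subgroup G))
    obtain ⟨R, hR, -⟩ := H11.exists_mcl_le hX
    obtain ⟨Q, hQ, e⟩ := Nat.sSup_mem (Set.nonempty_of_mem (by exact ⟨R, hR, rfl⟩)) hb
    have h0 : frOf Q ≤ ⊥ := h ▸ le_iSup_of_le (f := fun Q : {Q : Subgroup (S : Subgroup G) //
      IsMinimalCentrallyLarge Q ∧ Nat.card (omegaOneCenter p Q) = maxOmegaCenterOfMinimalCL p _} =>
      (frattini Q.1).map Q.1.subtype) ⟨Q, hQ, e⟩ le_rfl
    have hp : IsPGroup p Q := S.isPGroup'.to_subgroup Q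
    have ab := comm_eq_bot.1 (eq_bot_iff.2 ((comm_le_frOf hp).trans h0))
    have := H11.mcl_iff_maxAbelian hQ (isMulCommutative_iff_le_CC.2 ab)
    exact ⟨this, Q, (this Q).1 hQ, isElementaryAbelian_iff.2 ⟨ab, fun a ha =>
      Subgroup.mem_bot.1 (h0 (pow_mem_frOf hp ha))⟩⟩

end Cfsg.Agent.S2989
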