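import Cfsg.Statements.S2990
import Cfsg.Agent.H10.PU11

set_option autoImplicit false
open Cfsg H10

namespace Cfsg.Agent.S2990

/-- Let G be a finite group and S a Sylow p-subgroup of G in the basic pushing-up situation (G ≠ 1, C_G(O_p(G)) ≤ O_p(G), S lies in a unique maximal subgroup of G, and some quotient of G is isomorphic to PSL₂ over a field of order a power of p), and suppose that S centralizes Z(J(S)), where J(S) is generated by the abelian subgroups of S of largest order (that is, J̃(S) = C_S(Z(J(S))) = S). Call a subgroup R of S centrally large if |R|·|Z(R)| is as large as possible among subgroups of S, let Q be a minimal centrally large subgroup of S and let S_MCL be the subgroup generated by all minimal centrally large subgroups of S. Then the derived subgroup [Q, Q] is characteristic in S; Z(S) ∩ [Q, Q] or S_MCL is normal in G; and if [Q, Q] = 1, the minimal centrally large subgroups of S are exactly the abelian subgroups of S of largest order. -/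
theorem result {G : Type*} [Group G] [Finite G] {p : ℕ} [Fact p.Prime] (S : Subgroup G) (hE : Cfsg.IsPushingUpSituation p S) (hJ : S ≤ Subgroup.centralizer (Cfsg.centerThompsonAOf S : Set G)) (Q : Subgroup ↥S) (hQ : Cfsg.IsMinimalCentrallyLarge Q) : (⁅Q, Q⁆).Characteristic ∧ (((S ⊓ Subgroup.centralizer (S : Set G)) ⊓ (⁅Q, Q⁆).map S.subtype).Normal ∨ ((Cfsg.minimalCentrallyLargeJoin ↥S).map S.subtype).Normal) ∧ (⁅Q, Q⁆ = ⊥ → ∀ R : Subgroup ↥S, Cfsg.IsMinimalCentrallyLarge R ↔ R ∈ Cfsg.maxAbelianSubgroups ↥S) := by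
  obtain ⟨-, ⟨S, rfl⟩, hE₁, hE₂, K, _, F, _, _, n, hF, hE₃⟩ := hE
  refine ⟨mcl_char hQ, ?_, fun h => H11.mcl_iff_maxAbelian hQ
    (isMulCommutative_iff_le_CC.2 (comm_eq_bot.1 h))⟩
  rcases (rk_of_psl S hE₂ K hF hE₃).2.mcl_normal (charPIn_top.2 hE₁) (isSylowIn_top S)
    (ZJ_zero (S : Subgroup G) ▸ hJ) (MCL_sub.2 hQ) with e | e
  · rw [Subgroup.map_commutator]
    exact Or.inl (normal_of_top_le_NN ((le_CC_symm e).trans (CC_le_NN _)))
  · refine Or.inr (normal_of_top_le_NN (e.trans (le_of_eq ?_)))
    congr 2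
    rw [minimalCentrallyLargeJoin, sSup_eq_iSup, sSup_eq_iSup, Subgroup.map_iSup]
    refine le_antisymm (iSup₂_le fun X hX => ?_) (iSup_le fun X => ?_)
    · obtain ⟨X, rfl⟩ := exists_sub hX.1.1
      exact le_iSup_of_le X (Subgroup.map_mono (le_iSup_of_le (MCL_sub.1 hX) le_rfl))
    · rw [Subgroup.map_iSup]
      exact iSup_le fun hX => le_iSup₂_of_le _ (MCL_sub.2 hX) le_rfl

end Cfsg.Agent.S2990
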