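import Cfsg.Statements.S2999
import Cfsg.Agent.H12.FF3

set_option autoImplicit false
open Cfsg

namespace Cfsg.Agent.S2999

open H12 H10 Subgroup H4
open scoped commutatorElement

/-- Let p be a prime and let P and V be subgroups of a finite group with V elementary abelian, P normalizing V and acting faithfully on it (P ∩ C(V) = 1). Suppose P is p-minimal (a Sylow p-subgroup T of P is not normal and lies in a unique maximal subgroup M of P) and A ≤ T is an elementary abelian subgroup such that: |V/C_V(A)| ≤ |A| while |A₀|·|C_V(A₀)| < |A|·|C_V(A)| for every nontrivial proper subgroup A₀ of A; [C_V(T), P] ≠ 1; and P = ⟨A, xAx⁻¹⟩ for every x ∈ P outside M. Then, with q = |A|, there is a field F with q elements such that P ≅ SL₂(F), C_V(A) = [V, A]·C_V(P), and P acts on V/C_V(P) as SL₂(F) on its natural two-dimensional module. -/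
theorem result {G : Type*} [Group G] [Finite G] {p : ℕ} [Fact p.Prime] (V P : Subgroup G) (hV : Cfsg.IsElementaryAbelian p V) (hPV : P ≤ Subgroup.normalizer (V : Set G)) (hfaith : P ⊓ Subgroup.centralizer (V : Set G) = ⊥) (hmin : Cfsg.IsPMinimal p ↥P) (T : Sylow p ↥P) (M : Subgroup ↥P) (hM : IsCoatom M) (hTM : (T : Subgroup ↥P) ≤ M) (A : Subgroup G) (hAT : A ≤ ((T : Subgroup ↥P).map P.subtype)) (hAel : Cfsg.IsElementaryAbelian p A) (hi : Nat.card ↥V ≤ Nat.card ↥A * Nat.card ↥(V ⊓ Subgroup.centralizer ((A : Subgroup G) : Set G)) ∧ ∀ A₀ : Subgroup G, A₀ ≤ A → A₀ ≠ ⊥ → A₀ ≠ A → Nat.card ↥A₀ * Nat.card ↥(V ⊓ Subgroup.centralizer ((A₀ : Subgroup G) : Set G)) < Nat.card ↥A * Nat.card ↥(V ⊓ Subgroup.centralizer ((A : Subgroup G) : Set G))) (hii : ⁅(V ⊓ Subgroup.centralizer ((((T : Subgroup ↥P).map P.subtype) : Subgroup G) : Set G)), P⁆ ≠ ⊥) (hiii : ∀ x : ↥P, x ∉ M → A ⊔ A.map (MulAut.conj (x : G)).toMonoidHom = P) :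 ∃ (F : Type) (_ : Field F) (_ : Fintype F), Fintype.card F = Nat.card ↥A ∧ Nonempty (↥P ≃* Matrix.SpecialLinearGroup (Fin 2) F) ∧ (V ⊓ Subgroup.centralizer ((A : Subgroup G) : Set G)) = ⁅V, A⁆ ⊔ (V ⊓ Subgroup.centralizer ((P : Subgroup G) : Set G)) ∧ Cfsg.ActsAsSL2OnSection F ⊤ P V (V ⊓ Subgroup.centralizer ((P : Subgroup G) : Set G)) := by
  obtain ⟨hU, hn⟩ := umax_of_pmin hmin T hM hTM
  have hT := isSylowIn_map_subtype T
  set T' := (T : Subgroup P).map P.subtype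
  set M' := M.map P.subtype
  have hVc := elab_le_CC hV
  have gen : ∀ x ∈ P, x ∉ M' → A ⊔ H10.cj x A = P := fun x hx h =>
    hiii ⟨x, hx⟩ fun h' => h (mem_map_of_mem _ h')
  obtain ⟨x, hx, hxn⟩ := SetLike.not_le_iff_exists.1 hU.2.1.not_ge
  have hAP := hAT.trans hT.le
  have hnc : ¬ V ⊓ CC(T') ≤ CC(P) := fun h => hii (comm_eq_bot.2 h)
  have hA0 : ¬ A ≤ CC(V) := fun h => hnc (by
    have e : A = ⊥ := eq_bot_iff.2 ((le_inf hAP h).trans hfaith.le)
    rw [← gen x hx hxn, e, cj_bot, sup_idem, CC_bot]; exact le_top)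
  have hb : ∀ B ≤ A, meas V B ≤ meas V A := fun B hB => by
    by_cases h0 : B = ⊥
    · rw [h0, meas_bot]; exact hi.1
    by_cases h1 : B = A
    · rw [h1]
    exact (hi.2 B hB h0 h1).le
  have hm : ∀ B ≤ A, B ≠ ⊥ → meas V A ≤ meas V B → B = A := fun B hB h0 h =>
    by_contra fun h1 => (hi.2 B hB h0 h1).not_ge h
  have hq := quad_of_min hV (hAP.trans hPV) hAel hb
    (fun B hB h0 => hm B hB fun e => h0 (e ▸ bot_le)) hA0
  have hUV : ncl (V ⊓ CC(T')) P ≤ V := ncl_le inf_le_left hPV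
  have hUQ : ncl (V ⊓ CC(T')) P ≤ CC(pCoreOf p P) :=
    ncl_le_CC (inf_le_right.trans (CC_anti hT.pCoreOf_le)) (le_NN_pCoreOf P)
  have h := r0_of_umax hT hU hAT (fun y hy h => (gen y hy h).ge.trans le_sup_left)
    (hUV.trans (hVc.trans (CC_anti hUV))) (le_NN_ncl _ _) hUQ ((commutator_mono hUV le_rfl).trans hq)
    (ncl_mono (le_inf (le_ncl _ _) (inf_le_right.trans (CC_anti hAT))) le_rfl)
    (off_of_best hVc hUV hb)
  have hU0 : ¬ ncl (V ⊓ CC(T')) P ≤ CC(P) := fun h1 => hnc ((le_ncl _ _).trans h1)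
  have h0 := (h.inf_of_min hU0 hx hxn hVc hUV hm).1
  obtain ⟨X, h1, h2, h3, h4, -⟩ := h.exists_line hU0 hx hxn hVc hUV hPV
    (eq_bot_iff.2 ((inf_le_inf_right _ (ncl_le_of_le hAP)).trans hfaith.le)) h0
    (h.sup_of_inf hU0 hx hxn hVc hUV h0 hi.1)
  have hXP := h1.trans (ncl_le_of_le hAP)
  obtain ⟨y, hy, hyn⟩ := SetLike.not_le_iff_exists.1 h4
  obtain rfl : X = P := le_antisymm hXP ((gen y (hXP hy) hyn).ge.trans
    (sup_le h2.le (cj_le_of_mem hy h2.le)))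
  have hp := (isElementaryAbelian_iff.1 hV).2
  obtain ⟨F, _, _, k1, k2, k3, -⟩ := h2.exists_sl2 hp fun k hk hc => by
    have e1 : X ⊓ stabMod V (V ⊓ CC(X)) ≤ pCoreOf p X := by
      refine le_pCoreOf (isPGroup_iff_mem.2 fun g hg => ⟨1, ?_⟩) inf_le_left
        (le_NN_inf (le_NN_self X) (le_NN_stabMod hPV
          ((le_CC_symm inf_le_right).trans (CC_le_NN _))))
      rw [pow_one]
      exact h2.eq_one (X.pow_mem hg.1 p) (pow_eq_one_of_stab hp (hPV hg.1)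
          (le_CC_symm inf_le_right hg.1) hg.2.2)
    have e2 : k ∈ pCoreOf p X := e1 ⟨hk, CC_le_NN _ (le_CC_symm inf_le_right hk), fun v hv =>
      ⟨V.mul_mem (conj_mem_of_mem_NN (hPV hk) hv) (V.inv_mem hv), hc v hv⟩⟩
    refine h2.eq_one hk ?_
    rw [← h3, CC_sup]
    exact ⟨le_CC_symm hUQ e2, le_CC_symm inf_le_right hk⟩
  exact ⟨F, inferInstance, inferInstance, k1, k2, h2.E_eq, k3⟩

end Cfsg.Agent.S2999
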