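import Cfsg.Statements.S3009
import Cfsg.Agent.H12.SL2Nat

set_option autoImplicit false
open Cfsg

namespace Cfsg.Agent.S3009

open H12 H10 Subgroup H4
open scoped commutatorElement MatrixGroups IsMulCommutative

/-- Let p be a prime and let G and V be subgroups of a finite group with V elementary abelian and normalized by G, and G isomorphic to SL₂(F) for a finite field F with pⁿ elements. Suppose G acts irreducibly and nontrivially on V by conjugation (no G-invariant subgroups of V other than 1 and V, and [V, G] ≠ 1), and let S be a Sylow p-subgroup of G and V₀ = C_V(S). If [V, S, S] = 1 or |V| ≤ |V₀|², then G acts on V as SL₂(F) on its natural two-dimensional module; in particular |V| = |F|². -/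
theorem result {X : Type*} [Group X] [Finite X] {p : ℕ} [Fact p.Prime] (G V : Subgroup X) (hV : Cfsg.IsElementaryAbelian p V) (hGV : G ≤ Subgroup.normalizer (V : Set X)) (F : Type) [Field F] [Fintype F] (n : ℕ) (hF : Fintype.card F = p ^ n) (hG : Nonempty (↥G ≃* Matrix.SpecialLinearGroup (Fin 2) F)) (hirr : ∀ U : Subgroup X, U ≤ V → G ≤ Subgroup.normalizer (U : Set X) → U = ⊥ ∨ U = V) (hnt : ⁅V, G⁆ ≠ ⊥) (S : Sylow p ↥G) (hyp : ⁅⁅V, (S : Subgroup ↥G).map G.subtype⁆, (S : Subgroup ↥G).map G.subtype⁆ = ⊥ ∨ Nat.card ↥V ≤ Nat.card ↥(V ⊓ Subgroup.centralizer (((S : Subgroup ↥G).map G.subtype : Subgroup X) : Set X)) ^ 2) : Cfsg.ActsAsSL2OnSection F ⊤ G V ⊥ := by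
  obtain ⟨e0⟩ := hG
  have := charP_of_card_eq_prime_pow hF
  have hU : IsSylowIn p (upU F) ⊤ :=
    isSylowIn_of_not_dvd le_top (sylIn_upU (p := p)).pgrp (sylIn_upU (p := p)).not_dvd
  obtain ⟨g, -, hg⟩ := ((isSylowIn_top S).map_top (f := e0.toMonoidHom) e0.surjective).exists_cj hU
  let e : G ≃* SL(2, F) := e0.trans (MulAut.conj g)
  have he : ∀ s : G, s ∈ (S : Subgroup G) ↔ e s ∈ upU F := fun s => by
    rw [← hg]
    exact ((mem_map_iff_mem (f := e0.toMonoidHom) e0.injective).symm.trans conj_mem_cj_iff.symm)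
  have hS := isSylowIn_map_subtype S
  set T := (S : Subgroup G).map G.subtype
  have hT : ∀ s, s ∈ T ↔ ∃ t, (e.symm (upT t) : X) = s := fun s => ⟨by
    rintro ⟨s, hs, rfl⟩
    obtain ⟨t, ht⟩ := mem_upU.1 ((he s).1 hs)
    exact ⟨t, by rw [ht, e.symm_apply_apply]; rfl⟩, by
    rintro ⟨t, rfl⟩
    exact ⟨_, (he _).2 (by rw [e.apply_symm_apply]; exact upT_mem_upU t), rfl⟩⟩
  have hVc := elab_le_CC hV
  have := hV.1
  let φ : SL(2, F) →* MulAut V :=
    V.normalizerMonoidHom.comp ((inclusion hGV).comp e.symm.toMonoidHom)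
  have hφ : ∀ M (v : V), (φ M v : X) = e.symm M * v * (e.symm M : X)⁻¹ := fun _ _ => rfl
  have fix : ∀ M (v : V), φ M v = v ↔ (e.symm M : X) * v = v * e.symm M := fun M v => by
    rw [Subtype.ext_iff, hφ, mul_inv_eq_iff_eq_mul]
  have c0 : ∀ v : V, (v : X) ∈ CC(T) ↔ ∀ t, φ (upT t) v = v := fun v =>
    ⟨fun h t => (fix _ _).2 (h _ ((hT _).2 ⟨t, rfl⟩)), fun h s hs => by
      obtain ⟨t, rfl⟩ := (hT s).1 hs; exact (fix _ _).1 (h t)⟩
  let x : G := e.symm (wT 1 one_ne_zero)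
  have c1 : ∀ v : V, (v : X) ∈ CC(H10.cj (x : X) T) ↔ ∀ t, φ (loT t) v = v := fun v => by
    have k : ∀ t : F, (x : X) * e.symm (upT t) * (x : X)⁻¹ = e.symm (loT (-t)) := fun t => by
      rw [mul_inv_eq_iff_eq_mul, ← Subgroup.coe_mul, ← Subgroup.coe_mul, ← map_mul, ← map_mul,
        loT_wT]; simp
    refine ⟨fun h t => (fix _ _).2 (h _ ?_), fun h s hs => ?_⟩
    · rw [← neg_neg t, ← k]; exact conj_mem_cj ((hT _).2 ⟨_, rfl⟩)
    · obtain ⟨s, h1, rfl⟩ := mem_cj'.1 hs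
      obtain ⟨t, rfl⟩ := (hT s).1 h1
      rw [k]; exact (fix _ _).1 (h _)
  have hZ : V ⊓ CC(G) = ⊥ := (hirr _ inf_le_left (le_NN_inf hGV (le_NN_CC (le_NN_self G)))).resolve_right
    fun h => hnt (comm_eq_bot.2 (h.ge.trans inf_le_right))
  have hz : ∀ a : V, (∀ t, φ (upT t) a = a) → (∀ t, φ (loT t) a = a) → a = 1 := fun a h1 h2 => by
    have h3 := sl2_eq_top_of_upT_loT (H := (MulAction.stabilizer (MulAut V) a).comap φ) h1 h2
    refine Subtype.ext (mem_bot.1 (hZ.le ⟨a.2, fun k hk => ?_⟩))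
    have := (fix _ _).1 (h3.ge (mem_top (e ⟨k, hk⟩)))
    rwa [e.symm_apply_apply] at this
  have hTV := hS.le.trans hGV
  have hx := hGV x.2
  have hE : H10.cj (x : X) (V ⊓ CC(T)) = V ⊓ CC(H10.cj (x : X) T) := by
    rw [cj_inf, cj_centralizer, cj_eq_of_mem_NN hx]
  have hb : V ⊓ CC(T) ⊓ (V ⊓ CC(H10.cj (x : X) T)) = ⊥ := eq_bot_iff.2 fun v hv =>
    congrArg Subtype.val (hz ⟨v, hv.1.1⟩ ((c0 _).1 hv.1.2) ((c1 _).1 hv.2.2))
  have hV0 : V ≠ ⊥ := fun h => hnt (by rw [h, commutator_bot_left])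
  obtain ⟨f, hf, f1, f2⟩ : ∃ f ∈ V ⊓ CC(H10.cj (x : X) T), f ≠ 1 ∧ ∀ s ∈ T, ⁅s, f⁆ ∈ CC(T) := by
    rcases hyp with h | h
    · obtain ⟨f, hf, f1⟩ := (bot_or_exists_ne_one _).resolve_left (inf_CC_ne_bot' (elab_isPGroup hV)
        (isPGroup_cj (x : X) hS.isPGroup) ((cj_le_of_mem x.2 hS.le).trans hGV) hV0)
      exact ⟨f, hf, f1, fun s hs => comm_eq_bot.1 h
        (commutator_comm V T ▸ commutator_mem_commutator hs hf.1)⟩
    have h1 := card_sup_mul_card_inf (ab_le_NN hVc (inf_le_left : V ⊓ CC(T) ≤ V)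
      (inf_le_left : V ⊓ CC(H10.cj (x : X) T) ≤ V))
    rw [hb, card_bot, mul_one, ← hE, card_cj, hE, ← sq] at h1
    have h2 := eq_of_le_of_card_ge (sup_le inf_le_left inf_le_left) (h.trans h1.ge)
    have hTc : T ≤ CC(T) := fun s hs r hr => by
      obtain ⟨a, rfl⟩ := (hT s).1 hs
      obtain ⟨b, rfl⟩ := (hT r).1 hr
      rw [← Subgroup.coe_mul, ← Subgroup.coe_mul, ← map_mul, ← map_mul, ← upT_add, ← upT_add,
        add_comm]
    have h3 : V ⊓ CC(T) ⊔ T ≤ CC(T) := sup_le inf_le_right hTc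
    have h4 : V ⊓ CC(T) ⊔ T < V ⊔ T := lt_of_le_of_ne (sup_le_sup_right inf_le_left _) fun h4 => by
      have h5 : V ⊓ CC(T) = V := inf_of_le_left (le_sup_left.trans (h4.ge.trans h3))
      rw [← hE, h5, cj_eq_of_mem_NN hx, inf_idem] at hb
      exact hV0 hb
    obtain ⟨k, hk, k1⟩ := SetLike.exists_of_lt
      (lt_inf_NN (isPGroup_sup_of_NN' (elab_isPGroup hV) hS.isPGroup hTV) h4)
    obtain ⟨v, hv, s, hs, rfl⟩ := (mem_sup_of_NN' hTV).1 hk.1
    obtain ⟨a, ha, f, hf, rfl⟩ :=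
      (mem_sup_of_NN (ab_le_NN hVc inf_le_left inf_le_left)).1 (h2.ge hv)
    have k2 : f ∈ NN(V ⊓ CC(T) ⊔ T) := (Subgroup.mul_mem_cancel_left _ (le_NN_self _
      (mem_sup_left ha))).1 ((Subgroup.mul_mem_cancel_right _ (le_NN_self _ (mem_sup_right hs))).1 hk.2)
    refine ⟨f, hf, fun h5 => k1 (by rw [h5, mul_one]; exact mul_mem_sup ha hs), fun r hr => h3 ?_⟩
    rw [show ⁅r, f⁆ = r * (f * r⁻¹ * f⁻¹) by simp only [commutatorElement_def]; group]
    exact Subgroup.mul_mem _ (mem_sup_right hr)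
      (conj_mem_of_mem_NN k2 (mem_sup_right (T.inv_mem hr)))
  obtain ⟨τ, t1, t2⟩ := exists_nat_hom φ (f := ⟨f, hf.1⟩) (fun h => f1 (congrArg Subtype.val h))
    ((c1 _).1 hf.2) (fun s t => (c0 _).1 (f2 _ ((hT _).2 ⟨t, rfl⟩)) s) hz
  have hr : τ.range.map V.subtype = V := (hirr _ (map_subtype_le _) (le_NN_iff.2 (by
    rintro k hk _ ⟨_, ⟨v, rfl⟩, rfl⟩
    refine ⟨_, ⟨_, t2 (e ⟨k, hk⟩) v.toAdd⟩, ?_⟩
    rw [coe_subtype, hφ, e.symm_apply_apply]; rfl))).resolve_left fun h => by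
      have h1 : τ (Multiplicative.ofAdd 1) = 1 := Subtype.ext (mem_bot.1 (h.le ⟨_, ⟨_, rfl⟩, rfl⟩))
      exact one_ne_zero (congrFun (congrArg Multiplicative.toAdd
        ((map_eq_one_iff _ t1).1 h1)) 0)
  let ψ := (MulEquiv.ofBijective τ ⟨t1, fun v => by
    obtain ⟨_, ⟨w, rfl⟩, h⟩ := hr.ge v.2
    exact ⟨w, Subtype.ext h⟩⟩).symm
  refine actsAs_iff.2 ⟨e.toMonoidHom, ψ.toMonoidHom, MonoidHom.range_eq_top.2 e.surjective, hGV,
    bot_le, ψ.surjective, fun u => (map_eq_one_iff _ ψ.injective).trans (by simp), fun k u w h => ?_⟩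
  have h1 := t2 (e k) (ψ u).toAdd
  have h2 : τ (ψ u) = u := ψ.symm_apply_apply u
  rw [ofAdd_toAdd, h2, show φ (e k) u = w from Subtype.ext (by rw [hφ, e.symm_apply_apply, h])] at h1
  rw [← h1]
  exact congrArg _ (ψ.apply_symm_apply _)

end Cfsg.Agent.S3009
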