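import Cfsg.Statements.S3040
import Cfsg.Agent.H17.T3c
import Cfsg.Agent.H8.Sdp

set_option autoImplicit false
open Cfsg

namespace Cfsg.Agent.S3040

open H17 Cfsg

open Subgroup H1 H16 H5 H8 H17.T3 SemidirectProduct in
theorem key {G : Type*} [Group G] [Finite G] (h3 : ¬ 3 ∣ Nat.card G)
    (Sig : Subgroup (MulAut G)) (e : ↥Sig ≃* Equiv.Perm (Fin 3)) (hfpf : ∀ g : G, (∀ σ ∈ Sig, σ g = g) → g = 1)
    (σ : Sig) (h : orderOf σ = 3) : Th (sdL Sig.subtype ⊤) (inr σ) := by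
  have : Finite Sig := Finite.of_equiv _ e.toEquiv.symm
  have := Fact.mk Nat.prime_two
  have h1 : σ ^ 3 = 1 := h ▸ pow_orderOf_eq_one σ
  refine ⟨le_normalizer_of_normal (mem_top _), by rw [← map_pow, h1, map_one], by rwa [card_sdL, card_top], ?_⟩
  obtain ⟨b, b1, b2, b3⟩ := (by decide : ∀ a : Equiv.Perm (Fin 3), a ^ 3 = 1 → a ≠ 1 → ∃ b, b * b = 1 ∧
    b * a * b⁻¹ = a⁻¹ ∧ ∀ c, ∃ i j : Fin 3, c = a ^ i.1 * b ^ j.1) (e σ) (by rw [← map_pow, h1, map_one])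
    (by rw [Ne, map_eq_one_iff _ e.injective]; rintro rfl; simp at h)
  obtain ⟨τ, rfl⟩ := e.surjective b
  rw [← map_mul, map_eq_one_iff _ e.injective] at b1
  rw [← map_inv, ← map_mul, ← map_mul, ← map_inv, e.apply_eq_iff_eq] at b2
  set C := sdL Sig.subtype ⊤ ⊓ C[zpowers (inr σ : G ⋊[Sig.subtype] Sig)] with hC
  have hT : Pg[2] (zpowers (inr τ : G ⋊[Sig.subtype] Sig)) := pg_invol (by rw [← map_mul, b1, map_one])
  have hn : zpowers (inr τ : G ⋊[Sig.subtype] Sig) ≤ N[C] := norm_inf le_normalizer_of_normal (norm_cent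
    (zpowers_le.2 (H16.cj_eq_self_iff.1 (by
      rw [← zpowers_cj, ← map_inv, ← map_mul, ← map_mul, b2, map_inv, zpowers_inv]))))
  rw [← Nat.not_even_iff_odd, even_iff_two_dvd]
  intro hd
  obtain ⟨P, h4, h5⟩ := sy_exists_ge (M := C ⊔ _) le_sup_right hT
  have h6 := hl_inf h4 le_sup_left (h4.1.trans (sup_le (le_norm C) hn))
  obtain ⟨x, ⟨⟨-, ⟨g, -, rfl⟩, h7⟩, h8⟩, h9⟩ := H16.exists_ne_one (pg_inf_cent_ne_bot Nat.prime_two hT (hl_pi h6)
    (norm_inf (norm_of_le h5) hn) (sy_ne_bot h6 Nat.prime_two hd))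
  rw [← MonoidHom.map_zpowers] at h7 h8
  refine h9 (by
    rw [hfpf g fun ρ hρ => ?_, map_one]
    obtain ⟨i, j, e1⟩ := b3 (e ⟨ρ, hρ⟩)
    rw [← map_pow, ← map_pow, ← map_mul, e.apply_eq_iff_eq] at e1
    have a := (inl_mem_centralizer_sdR _).1 h7 _ (pow_mem (mem_zpowers σ) i)
    have b := (inl_mem_centralizer_sdR _).1 h8 _ (pow_mem (mem_zpowers τ) j)
    change Sig.subtype ⟨ρ, hρ⟩ g = g
    rw [e1, map_mul, MulAut.mul_apply, b, a])

open Subgroup H1 H16 H5 H8 H17.T3 SemidirectProduct in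
theorem key2 {G : Type*} [Group G] [Finite G] (Sig : Subgroup (MulAut G)) [Finite Sig] (σ : Sig)
    (h : Th (sdL Sig.subtype ⊤) (inr σ)) : Group.IsSolvable G ∧ Odd (Nat.card (closure {g : G | σ.1 g = g})) ∧
      pPrimePCore 2 G ⊔ closure {g : G | σ.1 g = g} = ⊤ := by
  have e : sdL Sig.subtype ⊤ ⊓ C[zpowers (inr σ : G ⋊[Sig.subtype] Sig)] =
      sdL Sig.subtype (closure {g : G | σ.1 g = g}) := by
    rw [← MonoidHom.map_zpowers]
    refine le_antisymm ?_ (le_inf (map_mono le_top) (map_le_iff_le_comap.2 ((closure_le _).2 fun g hg => ?_)))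
    · rintro _ ⟨⟨g, -, rfl⟩, a⟩
      exact ⟨g, subset_closure ((inl_mem_centralizer_sdR _).1 a σ (mem_zpowers σ)), rfl⟩
    · change inl g ∈ C[(zpowers σ).map inr]
      rw [MonoidHom.map_zpowers, cent_zpowers, mem_cent1, eq_comm, ← mul_inv_eq_iff_eq_mul, inr_conj_inl]
      exact congrArg _ hg
  refine ⟨?_, by rw [← card_sdL Sig.subtype, ← e]; exact h.o, ?_⟩
  · have := Th.solv _ _ _ _ rfl h
    exact isSolvable_of_equiv ((sdLEquiv Sig.subtype ⊤).symm.trans topEquiv)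
  have h1 := cop_comm_sup_cent (zpowers_le.2 h.n) (h.cop le_rfl) (Or.inl (sol_zp _))
  obtain ⟨D, hD⟩ := exists_sdL_eq _ (comm_le_left (zpowers_le.2 h.n))
  rw [e, ← hD, ← Subgroup.map_sup] at h1
  have : D.Normal := ⟨fun x hx g => by
    have := conj_mem (H8.le_normalizer_commutator_left _ (zpowers (inr σ))
      ((inl_mem_sdL Sig.subtype).2 (mem_top g)))
      (hD ▸ (inl_mem_sdL _).2 hx)
    rwa [← hD, ← map_inv, ← map_mul, ← map_mul, inl_mem_sdL] at this⟩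
  refine eq_top_iff.2 ((sdL_injective _ h1).ge.trans (sup_le_sup_right (le_pPrimePCore ?_) _))
  rintro ⟨_, x, hx, rfl⟩
  obtain ⟨k, hk⟩ := h.pow_mem (hD ▸ (inl_mem_sdL _).2 hx)
  rw [← map_oppOf_of_injective inl_injective, oppOf_top, ← map_pow, inl_mem_sdL] at hk
  exact ⟨k, Subtype.ext ((QuotientGroup.eq_one_iff _).2 hk)⟩

/-- Let G be a finite group of even order coprime to 3, and let Σ be a group of automorphisms of G isomorphic to the symmetric group of degree 3 that is fixed-point-free (only the identity of G is fixed by every element of Σ). Then G is solvable, O_{2′,2}(G) (the preimage in G of O₂(G/O(G))) has odd index in G, and G = O_{2′,2}(G) C_G(σ) for every element σ of Σ of order 3; that is, O₂(G/O(G)) is a Sylow 2-subgroup of G/O(G) and G/O(G) = O₂(G/O(G)) C_{G/O(G)}(σ). -/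
theorem result {G : Type*} [Group G] [Finite G] (heven : 2 ∣ Nat.card G) (h3 : ¬ 3 ∣ Nat.card G)
    (Sig : Subgroup (MulAut G)) (hS3 : Nonempty (↥Sig ≃* Equiv.Perm (Fin 3))) (hfpf : ∀ g : G, (∀ σ ∈ Sig, σ g = g) → g = 1) :
    Group.IsSolvable G ∧ ¬ 2 ∣ (Cfsg.pPrimePCore 2 G).index ∧ ∀ σ ∈ Sig, orderOf σ = 3 →
      Cfsg.pPrimePCore 2 G ⊔ Subgroup.closure {g : G | σ g = g} = ⊤ := by
  obtain ⟨e⟩ := hS3
  have : Finite Sig := Finite.of_equiv _ e.toEquiv.symm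
  have := Fact.mk Nat.prime_three
  obtain ⟨σ, hσ⟩ := exists_prime_orderOf_dvd_card' (G := Sig) 3 (by
    rw [Nat.card_congr e.toEquiv, Nat.card_perm]; simp [Nat.factorial])
  obtain ⟨a, b, c⟩ := key2 Sig σ (key h3 Sig e hfpf σ hσ)
  refine ⟨a, fun d => ?_, fun ρ h1 h2 => (key2 Sig ⟨ρ, h1⟩ (key h3 Sig e hfpf _ (by
    rwa [← Subgroup.orderOf_coe]))).2.2⟩
  rw [← Subgroup.relIndex_top_right, ← c, Subgroup.relIndex_sup_left] at d
  exact b.not_two_dvd_nat (d.trans (Subgroup.relIndex_dvd_card _ _))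

end Cfsg.Agent.S3040
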