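import Mathlib
import Cfsg.Statements.S3043
import Cfsg.Agent.H8.TI4

set_option autoImplicit false
open Cfsg

namespace Cfsg.Agent.S3043

theorem result {G : Type*} [Group G] [Finite G] (M : Subgroup G) (hM1 : M ≠ ⊥)
    (hTI : ∀ g : G, M ⊓ M.map (MulAut.conj g).toMonoidHom ≠ ⊥ → M.map (MulAut.conj g).toMonoidHom = M)
    (z : G) (hz : orderOf z = 2) (hzN : z ∈ Subgroup.normalizer (M : Set G))
    (hfac : M ⊔ (Subgroup.normalizer (M : Set G) ⊓ Subgroup.centralizer ({z} : Set G)) = Subgroup.normalizer (M : Set G))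
    (hodd : ∀ x ∈ M, x ≠ 1 → Odd (Nat.card ↥(Subgroup.centralizer ({x} : Set G)))) :
    M.Normal ∨
    Nat.card {g : G // orderOf g = 2} ≤ M.index ∨
    (∃ (F : Type) (_ : Field F) (_ : Fintype F) (p : ℕ) (_ : Fact p.Prime) (_ : CharP F p), Fintype.card F = Nat.card M ∧ Cfsg.IsElementaryAbelian p M ∧
        (Nonempty (G ≃* (GL (Fin 2) F ⧸ Subgroup.center (GL (Fin 2) F))) ∨
         (Fintype.card F % 4 = 1 ∧ Nonempty (G ≃* Matrix.ProjectiveSpecialLinearGroup (Fin 2) F)))) ∨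
    (∃ (F : Type) (_ : Field F) (_ : Fintype F) (e : ℕ), 1 < e ∧ Fintype.card F = 2 ^ e ∧ IsCyclic ↥M ∧ Nat.card M = 2 ^ e + 1 ∧
        Nonempty (G ≃* Matrix.ProjectiveSpecialLinearGroup (Fin 2) F)) ∨
    (∃ (d : ℕ) (E : Subgroup G), 1 ≤ d ∧ E.Normal ∧ Cfsg.IsElementaryAbelian 2 E ∧ Nat.card E = 2 ^ (2 * d) ∧
        E ⊓ Subgroup.normalizer (M : Set G) = ⊥ ∧ E ⊔ Subgroup.normalizer (M : Set G) = ⊤ ∧
        Nonempty (↥(Subgroup.normalizer (M : Set G)) ≃* DihedralGroup (2 ^ d + 1))) := by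
  obtain ⟨z1, zz⟩ := H26.orderOf_eq_two_iff'.1 hz
  have h : H8.TI.Hy M z := by
    refine ⟨hM1, fun g hg x hx e => ?_, z1, zz, hzN, fun w hw => ?_, hodd⟩
    · by_contra x1
      apply hg
      have := hTI g (fun k => x1 (by
        have := (Subgroup.eq_bot_iff_forall _).1 k (g * x * g⁻¹) ⟨e, x, hx, rfl⟩
        simpa using this))
      rw [Subgroup.mem_normalizer_iff]
      intro y
      constructor
      · intro hy
        rw [← this]; exact ⟨y, hy, rfl⟩
      · intro hy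
        rw [← this] at hy
        obtain ⟨y', hy', e'⟩ := hy
        have : y' = y := by simpa using e'
        exact this ▸ hy'
    · obtain ⟨a, ha, b, hb, e⟩ := FT.Cfsg.IsComplIn.decomp (FT.compl_mk (K := M)
        (H := Subgroup.normalizer (M : Set G) ⊓ Subgroup.centralizer ({z} : Set G))
        Subgroup.le_normalizer inf_le_left (by
          rw [Subgroup.eq_bot_iff_forall]
          intro y hy
          by_contra y1
          exact z1 (H26.eq_one_of_sq_of_odd (H26.odd_orderOf_of_mem (hodd y hy.1 y1)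
            (Subgroup.mem_centralizer_singleton_iff.2
              (Subgroup.mem_centralizer_singleton_iff.1 hy.2.2).symm)) zz)) hfac
        (Or.inr inf_le_left)) hw
      exact ⟨a, ha, b, hb.1, Subgroup.mem_centralizer_singleton_iff.1 hb.2, e⟩
  by_cases hn : ∃ g, g ∉ H8.TI.Nm M
  swap
  · push Not at hn
    exact Or.inl (Subgroup.normalizer_eq_top_iff.1 ((Subgroup.eq_top_iff' _).2 hn))
  right
  by_cases hc : ∀ g, g ∉ H8.TI.Nm M → ∃ x ∈ M, g * x * (g * x) = 1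
  swap
  · push Not at hc
    obtain ⟨g, hg, hno⟩ := hc
    exact Or.inl (h.card_le hg hno)
  right
  have k : H8.TI.Hz M z := ⟨h, hc, hn⟩
  by_cases hA : ∀ c ∈ H8.TI.Nm M, c * z = z * c → c = 1 ∨ c = z
  swap
  · push Not at hA
    obtain ⟨c, h1, h2, h3, h4⟩ := hA
    exact Or.inl (k.caseB h1 h2 h3 h4)
  right
  obtain ⟨d, hd, hX, ⟨h1, h2⟩ | ⟨h1, h2, h3⟩⟩ := k.cases hA
  · obtain ⟨E, hE⟩ := k.caseA1 hA hd h1 h2
    exact Or.inr ⟨d, E, hd, hE⟩
  · exact Or.inl (k.caseA2 hA hd hX h1 h2 h3)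

end Cfsg.Agent.S3043
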