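import Cfsg.Statements.S3049
import Cfsg.Agent.H10.PMin2
import Cfsg.Agent.H5.Std
import Cfsg.Agent.H3.PComp
import Cfsg.Agent.H4.Thompson
import Cfsg.Agent.S1946
import Cfsg.Agent.S2969

set_option autoImplicit false
open Cfsg H10

namespace Cfsg.Agent.S3049

theorem npc {G : Type*} [Group G] [Finite G] {p : ℕ} [Fact p.Prime] (hp : p ≠ 2)
    {H K T : Subgroup G} (hK : K ≤ H) (hp' : ⁅K, K⁆ = K) (hT : IsSylowIn p T H)
    (h : ∀ a ∈ T, a ^ p = 1 → ∀ g ∈ H, g * a * g⁻¹ ∈ T → g * a * g⁻¹ = a) :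
    (Nat.card K).Coprime p := by
  have h1 : HasNormalPComplement p H := (Cfsg.Agent.S1946.result hT.toSylow).2 fun a ha h1 g hg => by
    rw [hT.coe_toSylow] at ha hg ⊢
    refine ⟨1, one_mem _, Subtype.ext ?_⟩
    simpa using h a ha (congrArg Subtype.val (h1.resolve_right fun e => hp e.1)) g g.2 hg
  rw [H3.hasNormalPComplement_iff_coprime, ← card_map_subtype, resOf_def] at h1
  refine h1.coprime_dvd_left (Subgroup.card_dvd_of_le ?_)
  rw [← resOf_eq_of_perfect (p := p) hp']
  exact resOf_mono hK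

/-- Let G be a finite group and p an odd prime with O_{p'}(G) = 1. Suppose that G has p-rank at most 2 (no elementary abelian subgroup of order p³) and that some element x of order p is isolated in G (no G-conjugate of x other than x commutes with x) and not central. Then the generalized Fitting subgroup F*(G) is a non-abelian simple group. Since O_{p'}(G) = 1, such an x is not central modulo O_{p'}(G): the hypotheses describe a counterexample to the Z*_p statement in p-rank at most 2. -/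
theorem result {G : Type*} [Group G] [Finite G] {p : ℕ} [Fact p.Prime] (hp : p ≠ 2) (hcore : Cfsg.pPrimeCore p G = ⊥)
    (hrank : Cfsg.PRankLE p 2 G) (x : G) (hx : orderOf x = p) (hiso : Cfsg.IsIsolated x) (hnc : x ∉ Subgroup.center G) :
    IsSimpleGroup ↥(Cfsg.generalizedFittingSubgroup G) ∧ ¬ IsMulCommutative ↥(Cfsg.generalizedFittingSubgroup G) := by
  have hpp : p.Prime := Fact.out
  have hxp : x ^ p = 1 := hx ▸ pow_orderOf_eq_one x
  have hxP : IsPGroup p (Subgroup.zpowers x) := isPGroup_zpowers_of_orderOf_eq hx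
  have hR : ∀ R : Subgroup G, IsPGroup p R → x ∈ R → NN(R) ≤ Subgroup.centralizer {x} :=
    (Cfsg.Agent.S2969.result x ⟨1, by rw [hx, pow_one]⟩ hiso).1
  have hO : H5.oppOf p (⊤ : Subgroup G) = ⊥ := by rw [H5.oppOf_top, hcore]
  have hsn : ∀ N : Subgroup G, H5.SN N ⊤ → (Nat.card N).Coprime p → N = ⊥ := fun N h1 h2 =>
    le_bot_iff.1 (hO ▸ h1.le_oppOf h2)
  have hF : IsPGroup p (H5.fitOf (⊤ : Subgroup G)) := by
    rw [H5.fitOf_eq_opOf hO, H5.opOf_top]; exact isPGroup_pCore'
  haveI hFn : (H5.fitOf (⊤ : Subgroup G)).Normal := by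
    rw [H5.fitOf_eq_opOf hO]; exact normal_of_top_le_NN (le_NN_pCoreOf _)
  obtain ⟨K, hK, hKx⟩ : ∃ K, H5.CompOf K (⊤ : Subgroup G) ∧ ¬ Subgroup.zpowers x ≤ CC(K) := by
    by_contra hn
    push Not at hn
    have h1 := H5.le_fitOf_of_centralizes (H := Subgroup.zpowers x) le_top
      (le_CC_symm (H5.layerOf_le_iff.2 fun L hL => le_CC_symm (hn L hL)))
      (le_CC_symm (by
        rw [CC_zpowers]
        exact le_trans (le_sup_right.trans (le_NN_self _)) (hR (Subgroup.zpowers x ⊔ _)
          (isPGroup_sup_of_NN hxP hF (le_NN_of_normal _ _))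
          (Subgroup.mem_sup_left (Subgroup.mem_zpowers x)))))
    refine hnc (Subgroup.mem_center_iff.2 fun g => ?_)
    exact Subgroup.mem_centralizer_singleton_iff.1
      (hR _ hF (h1 (Subgroup.mem_zpowers x)) (le_NN_of_normal ⊤ _ trivial))
  have hKp : ¬ (Nat.card K).Coprime p := fun h => hK.ne_bot (hsn K hK.sn h)
  have hxK : x ∈ NN(K) := by
    by_contra hn
    obtain ⟨P, hP, hxP'⟩ := exists_isSylowIn_ge hxP le_top
    have h1 : IsSylowIn p (P ⊓ K) K := hP.inf_subn hK.sn
    have h2 : cj x K ≤ CC(K) := comm_eq_bot.1 ((hK.cj_of_mem (g := x)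
      (le_NN_of_normal ⊤ ⊤ trivial)).commutator_eq_bot hK fun e => hn (mem_NN.2 e))
    refine hKp (npc hp le_rfl hK.perfect h1 fun a ha _ g hg _ => ?_)
    have h3 := Subgroup.mem_centralizer_singleton_iff.1
      (hR P hP.isPGroup (hxP' (Subgroup.mem_zpowers x)) (le_NN_self _ ha.1))
    have h4 := conj_mem_cj (g := x) ha.2
    rw [← h3, mul_inv_cancel_right] at h4
    rw [mem_CC.1 (h2 h4) g hg, mul_inv_cancel_right]
  have hC : (Nat.card CC(K)).Coprime p := by
    by_contra hn
    have hxC : Subgroup.zpowers x ≤ NN(CC(K)) := le_NN_CC (Subgroup.zpowers_le_of_mem hxK)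
    obtain ⟨P, hP, hxP'⟩ := exists_isSylowIn_ge hxP
      (le_sup_left : _ ≤ Subgroup.zpowers x ⊔ CC(K))
    have h1 : IsSylowIn p (P ⊓ CC(K)) CC(K) :=
      hP.inf_normal le_sup_right (sup_le hxC (le_NN_self _))
    obtain ⟨c, hc, hcp⟩ := exists_orderOf_eq_of_ne_bot h1.isPGroup (h1.ne_bot
      (by rwa [Nat.coprime_comm, hpp.coprime_iff_not_dvd, not_not] at hn))
    have hcx : c ∈ CC(Subgroup.zpowers x) := by
      rw [CC_zpowers]
      exact hR P hP.isPGroup (hxP' (Subgroup.mem_zpowers x)) (le_NN_self _ hc.1)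
    have hcp' : c ^ p = 1 := hcp ▸ pow_orderOf_eq_one c
    have hE : IsElementaryAbelian p (Subgroup.zpowers x ⊔ Subgroup.zpowers c) :=
      elab_sup (H4.elemAb_zpowers hxp) (H4.elemAb_zpowers hcp')
        (le_CC_symm (Subgroup.zpowers_le_of_mem hcx))
    have hE2 : p ^ 2 ≤ Nat.card (Subgroup.zpowers x ⊔ Subgroup.zpowers c : Subgroup G) := by
      have h2 := card_sup_mul_card_inf (L := Subgroup.zpowers x) (N := Subgroup.zpowers c)
        ((le_CC_symm (Subgroup.zpowers_le_of_mem hcx)).trans (CC_le_NN _))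
      have h3 : Nat.card (Subgroup.zpowers x ⊓ Subgroup.zpowers c : Subgroup G) = 1 := by
        have h4 := Subgroup.card_dvd_of_le (inf_le_left (a := Subgroup.zpowers x)
          (b := Subgroup.zpowers c))
        rw [Nat.card_zpowers, hx] at h4
        refine ((Nat.dvd_prime hpp).1 h4).resolve_right fun e => hKx ?_
        have := Subgroup.eq_of_le_of_card_ge (inf_le_left (a := Subgroup.zpowers x)
          (b := Subgroup.zpowers c)) (by rw [e, Nat.card_zpowers, hx])
        exact this.ge.trans (inf_le_right.trans (Subgroup.zpowers_le_of_mem hc.2))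
      rw [h3, mul_one, Nat.card_zpowers, Nat.card_zpowers, hx, hcp] at h2
      rw [h2, pow_two]
    set E := Subgroup.zpowers x ⊔ Subgroup.zpowers c with hEd
    have hcH : K ⊔ E ≤ CC(Subgroup.zpowers c) := sup_le
      (le_CC_symm (Subgroup.zpowers_le_of_mem hc.2)) ((elab_le_CC hE).trans (CC_anti le_sup_right))
    obtain ⟨T, hT, hET⟩ := exists_isSylowIn_ge (elab_isPGroup hE) (le_sup_right : _ ≤ K ⊔ E)
    have hxT : x ∈ T := hET (Subgroup.mem_sup_left (Subgroup.mem_zpowers x))
    have hTx := (le_NN_self T).trans (hR T hT.isPGroup hxT)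
    have hTE : T ≤ CC(E) := by
      rw [hEd, CC_sup, CC_zpowers]; exact le_inf hTx (hT.le.trans hcH)
    refine hKp (npc hp le_sup_left hK.perfect hT fun a ha hap g hg hga => ?_)
    have h2 := elab_sup hE (H4.elemAb_zpowers hap)
      (le_CC_symm (Subgroup.zpowers_le_of_mem (hTE ha)))
    have h3 : E = E ⊔ Subgroup.zpowers a := Subgroup.eq_of_le_of_card_ge le_sup_left
      ((hrank _ h2.1 h2.2).trans hE2)
    have h4 : a ∈ E := h3.ge (Subgroup.mem_sup_right (Subgroup.mem_zpowers a))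
    rw [hEd, mem_sup_of_NN ((le_CC_symm (Subgroup.zpowers_le_of_mem hcx)).trans (CC_le_NN _))] at h4
    obtain ⟨u, hu, v, hv, rfl⟩ := h4
    have h5 : g * v * g⁻¹ = v := by rw [← mem_CC.1 (hcH hg) v hv, mul_inv_cancel_right]
    have h6 : g * (u * v) * g⁻¹ = g * u * g⁻¹ * v := by
      conv_rhs => rw [← h5]
      group
    rw [h6] at hga ⊢
    have h7 : g * u * g⁻¹ ∈ T := by
      simpa using mul_mem hga (inv_mem (hET (Subgroup.mem_sup_right hv)))
    by_cases hu1 : u = 1
    · subst hu1; simp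
    have h8 : Subgroup.zpowers u = Subgroup.zpowers x := by
      refine Subgroup.eq_of_le_of_card_ge (Subgroup.zpowers_le_of_mem hu) ?_
      have h9 := Subgroup.card_dvd_of_le (Subgroup.zpowers_le_of_mem hu)
      rw [Nat.card_zpowers x, hx] at h9 ⊢
      refine (((Nat.dvd_prime hpp).1 h9).resolve_left fun e => hu1 ?_).ge
      rwa [Nat.card_zpowers, orderOf_eq_one_iff] at e
    obtain ⟨k, hk⟩ := h8.ge (Subgroup.mem_zpowers x)
    have h9 : g * x * g⁻¹ ∈ T := by
      rw [← hk, ← conj_zpow]; exact zpow_mem h7 k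
    have h10 := hiso g (Subgroup.mem_centralizer_singleton_iff.1 (hTx h9)).symm
    obtain ⟨j, rfl⟩ := hu
    simp only
    rw [← conj_zpow, h10]
  have hbot : ∀ N : Subgroup G, H5.SN N ⊤ → N ≤ CC(K) → N = ⊥ := fun N h1 h2 =>
    hsn N h1 (hC.coprime_dvd_left (Subgroup.card_dvd_of_le h2))
  have e : generalizedFittingSubgroup G = K := by
    rw [← H5.fstarOf_top, H5.fstarOf_eq, hbot (H5.fitOf ⊤) (H5.SN.of_normal le_top
      (le_NN_of_normal _ _)) ((H5.fitOf_le_centralizer_layerOf _).trans (CC_anti hK.le_layerOf)),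
      sup_bot_eq]
    refine le_antisymm (H5.layerOf_le_iff.2 fun L hL => ?_) hK.le_layerOf
    by_contra hn
    exact hL.ne_bot (hbot L hL.sn (comm_eq_bot.1 (hL.commutator_eq_bot hK fun e => hn e.le)))
  rw [e]
  exact H5.isSimpleGroup_of_qs hK.qs (hbot _ (SubnIn.step hK.sn inf_le_left
    (le_NN_inf (le_NN_self _) (le_NN_CC (le_NN_self _)))) inf_le_right)

end Cfsg.Agent.S3049
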