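import Cfsg.Statements.S3058
import Cfsg.Agent.H11.Chain

set_option autoImplicit false
open Cfsg

namespace Cfsg.Agent.S3058

open Subgroup H16 H16.H11
open H1 hiding card_inf_mul_relIndex card_mul_relIndex card_sup_dvd isPiHallOf_map_subtype isPiHallOf_top
open H15 hiding card_cj cent_anti cent_bot cent_comm cent_le_cent1 cent_le_norm cent_sup cent_zpowers cj_bot cj_cent cj_cj_inv cj_comm cj_eq_bot cj_eq_iff cj_eq_top cj_inf cj_inj cj_inv_cj cj_le_cj cj_le_iff cj_le_of_mem cj_lt_cj cj_mono cj_norm cj_one cj_sup cj_top comm_le_inf comm_le_left comm_le_right comm_of_cyclic comm_of_le comm_sup le_cj_iff mem_cent mem_cent1 mem_cj mem_norm_of_cj_le norm_bot norm_top relIndex_cj relIndex_dvd_of_le_right relIndex_pos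
open scoped commutatorElement


/-- Let p be a prime and G a finite group whose Sylow p-subgroups are not chain-connected through nontrivial intersections (so G has a strongly p-embedded subgroup). If N and M are normal subgroups of G whose orders are both divisible by p, then the order of N ∩ M is divisible by p. Consequently, among the normal subgroups of G whose order is divisible by p there is a smallest one (the intersection of all of them). -/
theorem result {G : Type*} [Group G] [Finite G]
    (p : ℕ) [Fact p.Prime] (hG : ¬ Cfsg.IsSylowChainConnected p G)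
    (N M : Subgroup G) [N.Normal] [M.Normal] (hN : p ∣ Nat.card N) (hM : p ∣ Nat.card M) :
    p ∣ Nat.card ↥(N ⊓ M) := by
  have hp : p.Prime := Fact.out
  obtain ⟨H, hH⟩ := not_conn_iff.1 hG
  obtain ⟨S, hS⟩ := sy_exists p H
  have nN : ⊤ ≤ N[N] := le_normalizer_of_normal
  have nM : ⊤ ≤ N[M] := le_normalizer_of_normal
  obtain ⟨h1, h2⟩ := hH.frattini nN hN hS
  obtain ⟨h3, -⟩ := hH.frattini nM hM hS
  by_contra hd
  have hD : Pg'[p] (N ⊓ M) := isPi_compl_of_not_dvd hd
  have pS := hl_pi hS
  have h4 := pg_inf_cent_ne_bot hp pS (pS.inf_left (K := M)) (norm_inf (le_norm S) (le_top.trans nM)) h3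
  obtain ⟨X, hX, cX⟩ := exists_card_prime hp ((pS.inf_left.inf_left).dvd_of_ne_bot h4)
  obtain ⟨Y, hY, cY⟩ := exists_card_prime hp (pS.inf_left.dvd_of_ne_bot h1)
  have hXM : X ≤ M := hX.trans (inf_le_left.trans inf_le_right)
  have hXS : X ≤ S := hX.trans (inf_le_left.trans inf_le_left)
  have hne : X ≠ Y := fun e => hd (cX ▸ card_dvd (le_inf (e ▸ hY.trans inf_le_right) hXM))
  have hA := E2_sup hp cX cY hne (hX.trans (inf_le_right.trans (cent_anti (hY.trans inf_le_left))))
  have nD : ⊤ ≤ N[N ⊓ M] := norm_inf nN nM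
  have h5 := hH.le_of_E2 hA (sup_le (hXS.trans hS.1) (hY.trans (inf_le_left.trans hS.1)))
    (le_top.trans nD) hD
  have pX := pg_of_card hp cX
  have h6 := cop_sup_cent (inf_le_left : N ⊓ M ≤ N) (le_top.trans nD) (pX.coprime hD)
    (Or.inl pX.solvable) (le_inf (comm_le_left (le_top.trans nN))
      ((commutator_mono le_rfl hXM).trans (comm_le_right (le_top.trans nM))))
  refine hH.ne (eq_top_iff.2 (h2.ge.trans (sup_le (h6.ge.trans (sup_le h5 (inf_le_right.trans
    ((cent_le_norm X).trans (hH.norm pX (ne_bot_of_card hp cX) (hXS.trans hS.1)))))) le_rfl)))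

end Cfsg.Agent.S3058
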