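import Cfsg.Statements.S3062
import Cfsg.Agent.H11.DStar
import Cfsg.Agent.H11.CD
import Cfsg.Agent.S0649
import Cfsg.Agent.S0650

set_option autoImplicit false
open Cfsg

namespace Cfsg.Agent.S3062

open Subgroup H16 H16.H11
open H1 hiding card_inf_mul_relIndex card_mul_relIndex card_sup_dvd isPiHallOf_map_subtype isPiHallOf_top
open H15 hiding card_cj cent_anti cent_bot cent_comm cent_le_cent1 cent_le_norm cent_sup cent_zpowers cj_bot cj_cent cj_cj_inv cj_comm cj_eq_bot cj_eq_iff cj_eq_top cj_inf cj_inj cj_inv_cj cj_le_cj cj_le_iff cj_le_of_mem cj_lt_cj cj_mono cj_norm cj_one cj_sup cj_top comm_le_inf comm_le_left comm_le_right comm_of_cyclic comm_of_le comm_sup le_cj_iff mem_cent mem_cent1 mem_cj mem_norm_of_cj_le norm_bot norm_top relIndex_cj relIndex_dvd_of_le_right relIndex_pos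
open scoped commutatorElement


/-- Let S be a finite p-group, J(S) the subgroup generated by the abelian subgroups of S of largest order and Z(J(S)) its centre. Then Z(S) ≤ D*(S) ≤ Z(J(S)), and every maximal normal abelian subgroup of S contains D*(S). -/
theorem result {S : Type*} [Group S] [Finite S] {p : ℕ} [Fact p.Prime]
    (hS : IsPGroup p S) :
    Subgroup.center S ≤ Cfsg.dStar S ∧
    Cfsg.dStar S ≤ Cfsg.thompsonSubgroupA S ⊓ Subgroup.centralizer (Cfsg.thompsonSubgroupA S : Set S) ∧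
    ∀ A : Subgroup S, A.Normal → IsMulCommutative A →
      (∀ B : Subgroup S, B.Normal → IsMulCommutative B → A ≤ B → B = A) → Cfsg.dStar S ≤ A := by
  have hP : Pg[p] (⊤ : Subgroup S) := pg_iff.2 (hS.to_subgroup ⊤)
  have hD := df_dStar hP
  have nD := norm_dStar (⊤ : Subgroup S)
  rw [dStar_top] at hD nD
  rw [norm_top] at nD
  have h1 : ∀ A ∈ maxAbelianSubgroups S, dStar S ≤ A := by
    by_contra! h
    obtain ⟨A, hA, h⟩ := h
    obtain ⟨_, -, ⟨A, hA, h, rfl⟩, hm⟩ := exists_max_of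
      (C := fun X => ∃ A ∈ maxAbelianSubgroups S, ¬ dStar S ≤ A ∧ X = A ⊓ dStar S) ⟨A, hA, h, rfl⟩
    have h2 : ¬ dStar S ≤ N[A] := fun h2 => h ((cent_symm (hD.cent_of_norm hP le_top hA.1 h2)).trans
      (_root_.H11.centralizer_eq_of_maxAbelian hA).le)
    haveI := normal_of_top nD
    have h3 : ⁅dStar S, dStar S⁆ ≤ A := (der_eq_bot.2 hD.comm).le.trans bot_le
    obtain ⟨b, b1, b2, b3⟩ := S0649.result hS _ (fun _ => hD.comm) A hA.1 h3 h2
    obtain ⟨c1, c2, -, c3, c4, -⟩ := S0650.result hS _ (fun _ => hD.comm) A hA.1 h3 h2 b b1 b2 b3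
    exact c3.ne' (hm _ ⟨_, ⟨c2, fun B hB => c1 ▸ hA.2 B hB⟩, inf_lt_right.1 c4, rfl⟩ c3.le)
  refine ⟨?_, le_inf ?_ (cent_symm (sSup_le fun A hA => cent_symm ((h1 A hA).trans
    (comm_iff.1 hA.1)))), fun A a b c => ?_⟩
  · rw [← dStar_top, ← cent_top]
    exact DF.le_dStar ⟨le_top, comm_iff.2 (cent_anti le_top), fun x hx _ =>
      cent_symm (le_refl C[(⊤ : Subgroup S)]) hx⟩
  · obtain ⟨A, hA⟩ := _root_.H11.exists_maxAbelian (G := S)
    exact (h1 A hA).trans (le_sSup hA)
  · have h2 := hD.cent_of_norm hP le_top b le_normalizer_of_normal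
    exact le_sup_right.trans (c _ (normal_of_top (norm_sup le_normalizer_of_normal nD))
      (comm_sup b hD.comm h2) le_sup_left).le

end Cfsg.Agent.S3062
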