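import Cfsg.Statements.S3066
import Cfsg.Agent.H5.OutSolv
import Cfsg.Agent.H26.JRx
import Cfsg.Agent.H12.ES2
import Cfsg.Agent.H1.AutP
import Cfsg.Agent.H1.Frattini
import Cfsg.Agent.S0144
import Cfsg.Agent.S2602
import Cfsg.Agent.S2603
import Cfsg.Agent.S2126
import Cfsg.Agent.H7.CycInt
import Cfsg.Agent.H9.Basic

set_option autoImplicit false
open Cfsg

namespace Cfsg.Agent.S3066

open Subgroup

theorem solv23 {M : Type*} [Group M] [Finite M] {a r : ℕ} (hr : r.Prime) (h : Nat.card M ∣ 2 ^ a * r) :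
    Group.IsSolvable M := by
  obtain ⟨x, y, h1, h2, e⟩ := (Nat.dvd_mul).1 h
  obtain ⟨i, -, rfl⟩ := (Nat.dvd_prime_pow Nat.prime_two).1 h1
  rcases (Nat.dvd_prime hr).1 h2 with rfl | rfl
  · exact S0144.result 2 3 i 0 Nat.prime_two Nat.prime_three (by simp [← e])
  · exact S0144.result 2 y i 1 Nat.prime_two hr (by simp [← e])

theorem aut_dvd {P : Type*} [Group P] [Finite P] (hP : IsPGroup 2 P) (T : Finset P)
    (hT : closure (T : Set P) = ⊤) :
    (T.card ≤ 2 → ∃ a, Nat.card (MulAut P) ∣ 2 ^ a * 3) ∧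
      (T.card ≤ 3 → ∃ a, Nat.card (MulAut P) ∣ 2 ^ a * 21) := by
  have := Fact.mk Nat.prime_two
  obtain ⟨r, hr⟩ := IsPGroup.iff_card.1 (hP.to_quotient (frattini P))
  obtain ⟨k, hk⟩ := IsPGroup.iff_card.1 (hP.to_subgroup (frattini P))
  obtain ⟨T', h1, h2, -⟩ := H1.burnside_basis hP hr T hT
  have h3 := H1.card_mulAut_pgroup_dvd hP hr
  rw [hk, ← pow_mul] at h3
  have h4 := h2 ▸ Finset.card_le_card h1
  constructor
  · intro h
    refine ⟨k * r + 1, h3.trans ?_⟩
    rw [pow_succ, mul_assoc]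
    refine Nat.mul_dvd_mul_left _ ?_
    have : r ≤ 2 := h4.trans h
    interval_cases r <;> decide
  · intro h
    refine ⟨k * r + 3, h3.trans ?_⟩
    rw [pow_add, mul_assoc]
    refine Nat.mul_dvd_mul_left _ ?_
    have : r ≤ 3 := h4.trans h
    interval_cases r <;> decide

theorem caseB {G : Type*} [Group G] [Finite G] [IsSimpleGroup G] (S : Sylow 2 G)
    (hS1 : (S : Subgroup G) ≠ ⊥) {a : ℕ} (h : Nat.card (MulAut S) ∣ 2 ^ a * 21) {g : G}
    (h1 : g ∈ normalizer ((S : Subgroup G) : Set G)) (h2 : Odd (orderOf g))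
    (h3 : g ∉ centralizer ((S : Subgroup G) : Set G)) : Group.IsSolvable (Out G) := by
  have := Fact.mk Nat.prime_two
  refine H5.out_solvable_of_range S hS1 ?_
  let c : normalizer ((S : Subgroup G) : Set G) →* H5.autStab (S : Subgroup G) :=
    (MulAut.conj.comp (normalizer ((S : Subgroup G) : Set G)).subtype).codRestrict _
      fun n => H5.mem_autStab.2 fun s => ((mem_normalizer_iff.1 n.2) s).symm
  let f := (H5.autRes (S : Subgroup G)).rangeRestrict.comp c
  have hN : f.range.Normal := by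
    constructor
    rintro _ ⟨n, rfl⟩ ⟨_, φ, rfl⟩
    refine ⟨⟨φ.1 n, mem_normalizer_iff.2 fun s => ?_⟩, Subtype.ext (MulEquiv.ext fun s =>
      Subtype.ext ?_)⟩
    · obtain ⟨s, rfl⟩ := φ.1.surjective s
      rw [← map_inv, ← map_mul, ← map_mul]
      exact (φ.2 s).trans (((mem_normalizer_iff.1 n.2) s).trans (φ.2 _).symm)
    · change φ.1 n * s * (φ.1 n)⁻¹ = φ.1 (n * (H5.autRes _ φ)⁻¹ s * n⁻¹)
      rw [← map_inv (H5.autRes _), H5.autRes_apply]
      simp
  have hs : Group.IsSolvable (normalizer ((S : Subgroup G) : Set G)) := by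
    have := (S : Subgroup G).normal_in_normalizer
    exact @H7.isSolvable_of_normal_sylow_two _ _ _ (S.subtype le_normalizer) this
  have hK : Group.IsSolvable f.range := Group.isSolvable_of_surjective f.rangeRestrict_surjective
  refine H1.isSolvable_of_normal_quotient f.range hK ?_
  have d1 : Nat.card f.range * Nat.card (_ ⧸ f.range) ∣ 2 ^ a * 21 := by
    rw [mul_comm, ← card_eq_card_quotient_mul_card_subgroup]
    exact (card_subgroup_dvd_card _).trans h
  have d2 : orderOf (f ⟨g, h1⟩) ∣ Nat.card f.range := by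
    rw [← orderOf_mk (H := f.range) _ ⟨_, rfl⟩]; exact orderOf_dvd_natCard _
  have d3 : orderOf (f ⟨g, h1⟩) ≠ 1 := fun e => h3 (mem_centralizer_iff.2 fun s hs => by
    have := congrArg (fun φ : (H5.autRes (S : Subgroup G)).range => ((φ.1 ⟨s, hs⟩ : S) : G))
      (orderOf_eq_one_iff.1 e)
    change g * s * g⁻¹ = s at this
    rw [← mul_inv_eq_iff_eq_mul.1 this])
  have d4 : Odd (orderOf (f ⟨g, h1⟩)) := h2.of_dvd_nat ((orderOf_map_dvd f _).trans (by simp))
  obtain ⟨r, hr, d5⟩ := Nat.exists_prime_and_dvd d3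
  have d6 : r ∣ 21 := (Nat.Coprime.pow_right a (Nat.coprime_two_right.2
    (d4.of_dvd_nat d5))).dvd_of_dvd_mul_left ((d5.trans d2).trans ((Dvd.intro _ rfl).trans d1))
  have d7 := (Nat.mul_dvd_mul_right (d5.trans d2) _).trans d1
  have : r = 3 ∨ r = 7 := by
    have := Nat.le_of_dvd (by norm_num) d6
    interval_cases r <;> first | omega | exact absurd hr (by norm_num)
  rcases this with rfl | rfl
  · exact solv23 (a := a) (r := 7) (by norm_num) (Nat.dvd_of_mul_dvd_mul_left (by norm_num : 0 < 3)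
      (d7.trans (dvd_of_eq (by ring))))
  · exact solv23 (a := a) (r := 3) (by norm_num) (Nat.dvd_of_mul_dvd_mul_left (by norm_num : 0 < 7)
      (d7.trans (dvd_of_eq (by ring))))

theorem congr {G H : Type*} [Group G] [Group H] (e : Nonempty (G ≃* H)) (h : Group.IsSolvable (Out H)) :
    Group.IsSolvable (Out G) := by
  obtain ⟨e⟩ := e
  obtain ⟨e'⟩ := H12.out_congr e
  exact Group.isSolvable_of_surjective (f := e'.symm.toMonoidHom) e'.symm.surjective

theorem cyc {M : Type*} [Group M] {n : ℕ} (φ : M →* Multiplicative (ZMod n)) (h : IsCyclic φ.ker) :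
    Group.IsSolvable M := by
  have : Group.IsSolvable φ.ker := Group.isSolvable_of_comm fun a b => mul_comm' a b
  exact Group.isSolvable_of_ker_le_range φ.ker.subtype φ (by simp)

theorem psl {F : Type} [Field F] [Fintype F] (h : 4 ≤ Fintype.card F) :
    Group.IsSolvable (Out (Matrix.ProjectiveSpecialLinearGroup (Fin 2) F)) := by
  obtain ⟨p, hp, n, hp', hn⟩ := FiniteField.card' F
  have := Fact.mk hp'
  obtain ⟨φ, -, h1, -⟩ := S2602.result (p := p) n.2 hn (hn ▸ h)
  exact cyc φ h1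


/-- Let G be a finite non-abelian simple group with a nontrivial Sylow 2-subgroup S (that is, G has even order). Then Out(G) = Aut(G)/Inn(G) is solvable provided one of the following holds: (a) S is generated by two elements; (b) S is generated by three elements and N_G(S)/C_G(S) is not a 2-group (some element of N_G(S) of odd order does not centralize S); (c) the involutions of S commute pairwise and are all conjugate in G. -/
theorem result {G : Type*} [Group G] [Finite G] [IsSimpleGroup G]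
    (hG : ¬ IsMulCommutative G) (S : Sylow 2 G) (hS1 : (S : Subgroup G) ≠ ⊥)
    (h : (∃ a b : ↥S, Subgroup.closure ({a, b} : Set ↥S) = ⊤) ∨
      ((∃ a b c : ↥S, Subgroup.closure ({a, b, c} : Set ↥S) = ⊤) ∧
        ∃ g ∈ Subgroup.normalizer ((S : Subgroup G) : Set G), Odd (orderOf g) ∧ g ∉ Subgroup.centralizer ((S : Subgroup G) : Set G)) ∨
      ((∀ s ∈ S, ∀ t ∈ S, orderOf s = 2 → orderOf t = 2 → s * t = t * s) ∧
        (∀ s ∈ S, ∀ t ∈ S, orderOf s = 2 → orderOf t = 2 → ∃ g : G, g * s * g⁻¹ = t))) :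
    Group.IsSolvable (Cfsg.Out G) := by
  classical
  have := Fact.mk Nat.prime_two
  rcases h with ⟨a, b, h⟩ | ⟨⟨a, b, c, h⟩, g, h1, h2, h3⟩ | ⟨h1, -⟩
  · obtain ⟨k, hk⟩ := (aut_dvd S.2 {a, b} (by simpa using h)).1 Finset.card_le_two
    exact H5.out_solvable_of_range S hS1 (solv23 Nat.prime_three ((card_subgroup_dvd_card _).trans hk))
  · obtain ⟨k, hk⟩ := (aut_dvd S.2 {a, b, c} (by simpa using h)).2 Finset.card_le_three
    exact caseB S hS1 hk h1 h2 h3
  rcases H26.J.types_inv ‹_› hG (H10.isSylowIn_top S) (fun a ha b hb e1 e2 => by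
    by_cases a1 : a = 1
    · simp [a1]
    by_cases b1 : b = 1
    · simp [b1]
    exact h1 a ha b hb (orderOf_eq_prime (by rw [sq, e1]) a1) (orderOf_eq_prime (by rw [sq, e2]) b1))
    with h | ⟨-, F, _, _, -, h2, e⟩ | ⟨V, v1, v2, v3, v4, -⟩
  · rcases H26.J.tri_of_tb ‹_› hG h with ⟨F, _, _, n, h1, h2, e⟩ | ⟨F, _, _, m, h1, h2, e⟩ |
      ⟨F, _, _, n, h1, h2, e⟩
    · exact congr e (psl (h2 ▸ Nat.pow_le_pow_right (n := 2) two_pos (by omega : 2 ≤ n)))
    · refine congr e ?_
      have h3 := S2126.result h1 h2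
      have : Finite (Out (Lie.Sz F (2 ^ (m + 1)))) := Nat.finite_of_card_ne_zero (by omega)
      exact H17.odd_solvable (by rw [h3]; exact odd_two_mul_add_one m)
    · obtain ⟨φ, -, h3, -⟩ := S2603.result (p := 2) (f := n) (n := 3) (by omega) rfl h2 le_rfl (by
        rintro ⟨-, h⟩
        have := Nat.pow_le_pow_right (n := 2) two_pos h1
        omega)
      exact congr e (cyc φ h3)
  · exact congr e (psl h2)
  · obtain ⟨T, rfl⟩ := v1.exists_sylow_top
    have hT : (T : Subgroup G) ≠ ⊥ := fun e => by simp [e] at v3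
    have h4 := H1.card_mulAut_elab_dvd (p := 2) (r := 3) v2.1 (fun x => Subtype.ext (v2.2 x x.2)) v3
    obtain ⟨a, b, ab, a1, b1⟩ : ∃ a b : T, a ≠ b ∧ a ≠ 1 ∧ b ≠ 1 := by
      have : Fintype T := Fintype.ofFinite _
      have h5 : 1 < (Finset.univ.erase (1 : T)).card := by
        rw [Finset.card_erase_of_mem (Finset.mem_univ _), Finset.card_univ, ← Nat.card_eq_fintype_card]
        change 1 < Nat.card (T : Subgroup G) - 1
        omega
      obtain ⟨a, ha, b, hb, ab⟩ := Finset.one_lt_card.1 h5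
      exact ⟨a, b, ab, Finset.ne_of_mem_erase ha, Finset.ne_of_mem_erase hb⟩
    obtain ⟨n, n1, n2⟩ := v4 a a.2 (fun e => a1 (Subtype.ext e)) b b.2 (fun e => b1 (Subtype.ext e))
    obtain ⟨s, m, hm, e⟩ := Nat.exists_eq_two_pow_mul_odd (orderOf_pos n).ne'
    refine caseB T hT (a := 3) (h4.trans (by decide)) (g := n ^ 2 ^ s) (pow_mem n1 _) ?_ fun hc => ab ?_
    · rw [orderOf_pow' n (by positivity), e, Nat.gcd_mul_right_left, Nat.mul_div_cancel_left _ (by positivity)]
      exact hm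
    have h6 : IsPGroup 2 (zpowers (n ^ m)) := IsPGroup.of_card (n := s) (by
      rw [Nat.card_zpowers, orderOf_pow' n hm.pos.ne', e, Nat.gcd_mul_left_left,
        Nat.mul_div_cancel _ hm.pos])
    have h7 : n ^ m ∈ (T : Subgroup G) :=
      ((h6.inf_normalizer_sylow T).le ⟨mem_zpowers _, pow_mem n1 _⟩).2
    have h8 : n ^ m ∈ centralizer ((T : Subgroup G) : Set G) := mem_centralizer_iff.2 fun x hx =>
      congrArg Subtype.val (v2.1.is_comm.comm ⟨x, hx⟩ ⟨_, h7⟩)
    have h9 : n ∈ centralizer ((T : Subgroup G) : Set G) :=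
      H9.mem_of_pow_mem_of_coprime hc h8 (Nat.Coprime.pow_left s (Nat.coprime_two_left.2 hm))
    apply Subtype.ext
    rw [← n2, ← mem_centralizer_iff.1 h9 a a.2]; simp

end Cfsg.Agent.S3066
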