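import Cfsg.Statements.S3121
import Cfsg.Agent.H11.YC
import Cfsg.Agent.H5.Fstar

set_option autoImplicit false
open Cfsg

namespace Cfsg.Agent.S3121

open Subgroup MulAction H16 H15.Bd H11.ZD H11.YZ


/-- Let G be a finite group whose generalized Fitting subgroup F*(G) is a non-abelian simple group, let H be a tightly embedded subgroup of G and N its normalizer. If H^g ∩ N has odd order for every element g of G outside N, then either H is normal in G or F*(G) has a strongly embedded subgroup. -/
theorem result {G : Type*} [Group G] [Finite G]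
    (hF : IsSimpleGroup ↥(Cfsg.generalizedFittingSubgroup G)) (hF' : ¬ IsMulCommutative ↥(Cfsg.generalizedFittingSubgroup G))
    (H : Subgroup G) (hH : Cfsg.IsTightlyEmbedded H)
    (hodd : ∀ g : G, g ∉ Subgroup.normalizer (H : Set G) →
      Odd (Nat.card ↥(H.map (MulAut.conj g).toMonoidHom ⊓ Subgroup.normalizer (H : Set G)))) :
    H.Normal ∨ ∃ M : Subgroup ↥(Cfsg.generalizedFittingSubgroup G), Cfsg.IsStronglyEmbedded M := by
  refine or_iff_not_imp_left.2 fun hn => ?_
  have se := tight_se hH.1 hodd fun e => hn (normalizer_eq_top_iff.1 e)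
  have hC := H5.centralizer_fstar_le (G := G)
  have nF : (generalizedFittingSubgroup G).Normal := inferInstance
  generalize generalizedFittingSubgroup G = F at *
  have h1 : F ≤ normalClosure H := by
    rcases hF.eq_bot_or_eq_top_of_normal ((normalClosure H).subgroupOf F) inferInstance with e | e
    · obtain ⟨t, ht, ot⟩ := H6.exists_ord2_mem_of_even hH.1
      rw [subgroupOf_eq_bot] at e
      exact absurd (e.le_bot ⟨le_normalClosure ht, hC (mem_cent.2 fun x hx => (commute_of_normal_of_disjoint _ _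
        inferInstance nF e t x (le_normalClosure ht) hx).symm)⟩) (H6.ord2_ne_one ot)
    · exact subgroupOf_eq_top.1 e
  obtain ⟨t, ht, ot⟩ := H6.exists_ord2_mem_of_even (H := F) (Nat.not_odd_iff_even.1 fun h =>
    hF' ⟨⟨IsSimpleGroup.comm_iff_isSolvable.2 (H17.odd_solvable h)⟩⟩)
  have key : ∀ s : normalClosure (H : Set G), orderOf s = 2 → (s : G) ∈ F := fun s os => by
    obtain ⟨g, rfl⟩ := isConj_iff.1 (H6.se_isConj se (a := ⟨t, h1 ht⟩) (by rwa [← orderOf_coe]) os)
    exact nF.conj_mem t ht g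
  obtain ⟨s, hs, os⟩ := H6.se_exists_ord2 se
  obtain ⟨r, or, hr⟩ := H6.se_exists_ord2_not_mem se
  exact ⟨N[H].subgroupOf F, H6.stronglyEmbedded_iff.2 ⟨fun e => hr (subgroupOf_eq_top.1 e (key r or)),
    ⟨⟨s, key s os⟩, hs, by rw [← orderOf_coe] at os ⊢; exact os⟩, fun g x ox h2 h3 =>
      H6.se_mem se (g := ⟨g, h1 g.2⟩) (t := ⟨x, h1 x.2⟩) (by rw [← orderOf_coe] at ox ⊢; exact ox) h2 h3⟩⟩

end Cfsg.Agent.S3121
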