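import Cfsg.Statements.S3154
import Cfsg.Agent.H3.L34a

set_option autoImplicit false
open Cfsg

namespace Cfsg.Agent.S3154

open Subgroup Matrix Cfsg.Agent.H3.L34
open scoped MatrixGroups IsMulCommutative Pointwise

section
variable {X : Type*} [Group X] [Finite X] {F : Type*} [Field F] [Fintype F] (hF : Fintype.card F = 4)
  (hZ : Cfsg.IsElementaryAbelian 2 (center X)) {π : X →* PSL(3, F)} (hs : Function.Surjective π)
  (hk : π.ker = center X)

include hF in
theorem two_zero : (2 : F) = 0 := by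
  have := FiniteField.cast_card_eq_zero F
  rw [hF] at this
  have h : (2 : F) * 2 = 0 := by rw [← this]; norm_num
  exact mul_self_eq_zero.1 h

include hF in
theorem cube (x : F) (hx : x ≠ 0) : x ^ 3 = 1 := by
  have := FiniteField.pow_card_sub_one_eq_one x hx
  rwa [hF] at this

include hF hZ hs hk in
theorem half1 : Cfsg.IsElementaryAbelian 2 (A.comap π) := by
  have h2 := two_zero hF
  have hz : ∀ z, π z = 1 → z * z = 1 ∧ ∀ g, g * z = z * g := fun z hz => by
    have : z ∈ center X := hk ▸ hz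
    exact ⟨by rw [← pow_two]; exact hZ.2 z this, mem_center_iff.1 this⟩
  obtain ⟨v, hv⟩ := hs (U 0 0 1)
  have hv2 := hz (v * v) (by rw [map_mul, hv, U_mul, ← U_zero]; congr 1 <;> first | linear_combination h2 | simp)
  have sq : ∀ h a c, π h = U a 0 c → (a ≠ 0 ∨ c ≠ 0) → h * h = v * v := by
    intro h a c hh hac
    obtain ⟨g, hg⟩ := trans (y := U a 0 c) ⟨_, _, rfl⟩ fun e => by
      obtain ⟨h1, -, h3⟩ := U_inj (e.trans U_zero.symm)
      tauto
    obtain ⟨n, rfl⟩ := hs g
    have h1 := hz ((n * v * n⁻¹)⁻¹ * h) (by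
      rw [map_mul, map_inv, map_mul, map_mul, map_inv, hv, hg, hh, inv_mul_cancel])
    set z := (n * v * n⁻¹)⁻¹ * h with hzd
    have e : h = n * v * n⁻¹ * z := by rw [hzd]; group
    calc h * h = n * v * n⁻¹ * (z * (n * v * n⁻¹)) * z := by rw [e]; group
      _ = n * (v * v) * n⁻¹ * (z * z) := by rw [← h1.2]; group
      _ = v * v := by rw [h1.1, hv2.2 n]; group
  obtain ⟨w, hw0, hw1⟩ : ∃ w : F, w ≠ 0 ∧ w ≠ 1 := by
    by_contra hcon
    push Not at hcon
    classical
    have : (Finset.univ : Finset F) ⊆ {0, 1} := fun x _ => by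
      by_cases hx : x = 0
      · simp [hx]
      · simp [hcon x hx]
    have := (Finset.card_le_card this).trans Finset.card_le_two
    rw [Finset.card_univ, hF] at this
    omega
  have hw2 : 1 + w ≠ 0 := fun e => hw1 (by linear_combination e - h2)
  obtain ⟨x, hx⟩ := hs (U 1 0 0)
  obtain ⟨y, hy⟩ := hs (U 0 0 w)
  set c := v * v with hc
  have k : ∀ t s : F, ∀ b, π b = U 0 0 s → s ≠ 0 → x⁻¹ * b * x * b⁻¹ = c := by
    intro t s b hb hs0
    have e1 := sq x 1 0 hx (Or.inl one_ne_zero)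
    have e2 := sq b 0 s hb (Or.inr hs0)
    have e3 := sq (x * b) 1 s (by rw [map_mul, hx, hb, U_mul]; simp) (Or.inl one_ne_zero)
    calc x⁻¹ * b * x * b⁻¹ = (x * x)⁻¹ * (x * b * (x * b)) * (b * b)⁻¹ := by group
      _ = c⁻¹ := by rw [e1, e2, e3]; group
      _ = c := inv_eq_of_mul_eq_one_right hv2.1
  have k1 := k 0 1 v hv one_ne_zero
  have k2 := k 0 w y hy hw0
  have k3 := k 0 (1 + w) (v * y) (by rw [map_mul, hv, hy, U_mul]; simp) hw2
  have hc1 : c = 1 := by
    calc c = x⁻¹ * (v * y) * x * (v * y)⁻¹ := k3.symm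
      _ = (x⁻¹ * v * x * v⁻¹) * (v * (x⁻¹ * y * x * y⁻¹) * v⁻¹) := by group
      _ = 1 := by rw [k1, k2, hv2.2 v, mul_inv_cancel_right, hv2.1]
  have all : ∀ h ∈ A.comap π, h * h = 1 := by
    rintro h ⟨a, d, hh⟩
    by_cases h0 : a ≠ 0 ∨ d ≠ 0
    · rw [sq h a d hh h0, hc1]
    · push Not at h0
      rw [h0.1, h0.2, U_zero] at hh
      exact (hz h hh).1
  refine ⟨⟨⟨fun a b => Subtype.ext ?_⟩⟩, fun a ha => by rw [pow_two]; exact all a ha⟩
  have e1 := all _ a.2
  have e2 := all _ b.2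
  have e3 := all _ (mul_mem a.2 b.2)
  show (a : X) * b = b * a
  rw [← inv_eq_of_mul_eq_one_right e3, _root_.mul_inv_rev, inv_eq_of_mul_eq_one_right e1, inv_eq_of_mul_eq_one_right e2]

include hF in
theorem UU_syl : ∃ P : Sylow 2 PSL(3, F), (P : Subgroup PSL(3, F)) = UU := by
  haveI : CharP F 2 := (CharP.charP_iff_prime_eq_zero Nat.prime_two).2 (by exact_mod_cast two_zero hF)
  have hc : Nat.card (UU : Subgroup PSL(3, F)) = 2 ^ 6 := by
    rw [card_UU, Nat.card_eq_fintype_card, hF]; norm_num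
  obtain ⟨P, hP⟩ := (IsPGroup.of_card hc).exists_le_sylow
  refine ⟨P, (eq_of_le_of_card_ge hP ?_).symm⟩
  rw [Cfsg.Agent.H3.HgA.card_syl, hc, hF]; norm_num

include hF hs in
theorem half2 (hH : Cfsg.IsElementaryAbelian 2 (A.comap π)) (hK : Cfsg.IsElementaryAbelian 2 (B.comap π)) :
    ∃ C : Subgroup X, C ≤ normalizer (A.comap π : Set X) ∧ C ⊓ A.comap π = ⊥ ∧
      A.comap π ⊔ C = normalizer (A.comap π : Set X) ∧ Nonempty (↥C ≃* PSL(2, F)) := by
  haveI : CharP F 2 := (CharP.charP_iff_prime_eq_zero Nat.prime_two).2 (by exact_mod_cast two_zero hF)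
  set H := A.comap π with hHd
  set K := B.comap π with hKd
  set N := normalizer (H : Set X) with hNd
  have hN : N = (normalizer ((A : Subgroup PSL(3, F)) : Set PSL(3, F))).comap π :=
    (comap_normalizer_eq_of_surjective A hs).symm
  obtain ⟨ρ, hρ, hρk⟩ := exists_rho (cube hF)
  let ψ : N →* SL(2, F) := ρ.comp ((π.comp N.subtype).codRestrict _ fun n => hN.le n.2)
  have hψ : Function.Surjective ψ := fun D => by
    obtain ⟨⟨y, hy⟩, rfl⟩ := hρ D
    obtain ⟨x, rfl⟩ := hs y
    exact ⟨⟨x, hN.ge hy⟩, rfl⟩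
  have hψk : ∀ n, ψ n = 1 ↔ n.1 ∈ H := fun n => hρk _
  have hKN : K ≤ N := by
    rintro x ⟨b, c, hx⟩
    rw [hN, mem_comap, hx, normalizer_A (cube hF)]
    exact ⟨_, S_mem .., rfl⟩
  have hHN : H ≤ N := le_normalizer
  obtain ⟨W, hW1, hW2, hW3⟩ := H9.exists_compl_of_elementary hK (inf_le_right : H ⊓ K ≤ K)
  haveI : IsMulCommutative H := hH.1
  haveI : IsMulCommutative (H.subgroupOf N) := inferInstance
  have hsup : H ⊔ W = UU.comap π := by
    rw [← sup_eq, ← comap_sup_eq _ _ _ hs]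
    refine le_antisymm (sup_le_sup_left hW1 _) (sup_le le_sup_left ?_)
    change K ≤ _
    rw [← hW3]; exact sup_le_sup_right inf_le_left _
  obtain ⟨P, hP⟩ := UU_syl hF
  obtain ⟨C, hC⟩ := H1.gaschutz_exists (A := H.subgroupOf N) (U := (H ⊔ W).subgroupOf N) (H := W.subgroupOf N)
    (by
      rw [eq_bot_iff]
      rintro x ⟨h1, h2⟩
      have : x.1 ∈ H ⊓ K ⊓ W := ⟨⟨h2, hW1 h1⟩, h1⟩
      rw [hW2] at this
      exact Subtype.ext this)
    (subgroupOf_sup hHN (hW1.trans hKN)).symm (by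
      obtain ⟨k, hk⟩ := IsPGroup.iff_card.1 (show IsPGroup 2 (H.subgroupOf N) from fun x =>
        ⟨1, Subtype.ext (Subtype.ext (by simpa using hH.2 _ x.2))⟩)
      rw [hk]
      refine Nat.Coprime.pow_left _ ((Nat.Prime.coprime_iff_not_dvd Nat.prime_two).2 fun h => P.not_dvd_index ?_)
      have h1 := relIndex_dvd_index_of_le (sup_le hHN (hW1.trans hKN))
      rw [hP, ← index_comap_of_surjective _ hs, ← hsup]
      exact h.trans h1)
  have hb : Function.Bijective (ψ.comp C.subtype) := by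
    refine ⟨(injective_iff_map_eq_one _).2 fun c hc => ?_, fun D => ?_⟩
    · have : c.1 ∈ H.subgroupOf N ⊓ C := ⟨(hψk _).1 hc, c.2⟩
      rw [hC.disjoint.eq_bot] at this
      exact Subtype.ext this
    · obtain ⟨n, rfl⟩ := hψ D
      obtain ⟨⟨a, c⟩, rfl⟩ := hC.2 n
      refine ⟨c, ?_⟩
      show ψ c = ψ (a * c)
      rw [map_mul, (hψk a).2 a.2, one_mul]
  have e2 : SL(2, F) ≃* PSL(2, F) := by
    refine ((QuotientGroup.quotientMulEquivOfEq (eq_bot_iff.2 fun g hg => ?_)).trans
      QuotientGroup.quotientBot).symm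
    obtain ⟨r, h1, hr⟩ := Matrix.SpecialLinearGroup.mem_center_iff.1 hg
    have : r = 1 := by
      rw [Fintype.card_fin, ← one_pow 2] at h1
      exact (frobenius_inj F 2) h1
    exact Subtype.ext (by rw [← hr, this, map_one]; rfl)
  refine ⟨C.map N.subtype, map_subtype_le _, ?_, ?_,
    ⟨((C.equivMapOfInjective _ N.subtype_injective).symm.trans (MulEquiv.ofBijective _ hb)).trans e2⟩⟩
  · rw [eq_bot_iff]
    rintro _ ⟨⟨c, hc, rfl⟩, h2⟩
    have : c ∈ H.subgroupOf N ⊓ C := ⟨h2, hc⟩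
    rw [hC.disjoint.eq_bot, mem_bot] at this
    rw [this]; exact one_mem _
  · have := congrArg (Subgroup.map N.subtype) hC.sup_eq_top
    rwa [Subgroup.map_sup, map_subgroupOf_eq_of_le hHN, ← MonoidHom.range_eq_map, range_subtype] at this

include hs in
theorem cent (hH : Cfsg.IsElementaryAbelian 2 (A.comap π)) (hK : Cfsg.IsElementaryAbelian 2 (B.comap π)) :
    A.comap π ⊓ B.comap π = (center ↥(A.comap π ⊔ B.comap π)).map (A.comap π ⊔ B.comap π).subtype := by
  refine le_antisymm ?_ ?_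
  · intro x hx
    refine ⟨⟨x, mem_sup_left hx.1⟩, mem_center_iff.2 ?_, rfl⟩
    intro g
    refine Subtype.ext ?_
    have : A.comap π ⊔ B.comap π ≤ centralizer ({x} : Set X) := sup_le
      (fun y hy => mem_centralizer_singleton_iff.2 (congrArg Subtype.val (hH.1.1.1 (⟨y, hy⟩ : A.comap π) ⟨x, hx.1⟩)))
      (fun y hy => mem_centralizer_singleton_iff.2 (congrArg Subtype.val (hK.1.1.1 (⟨y, hy⟩ : B.comap π) ⟨x, hx.2⟩)))
    exact mem_centralizer_singleton_iff.1 (this g.2)
  · rintro _ ⟨x, hx, rfl⟩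
    obtain ⟨a, ha⟩ := hs (U 1 0 0)
    obtain ⟨b, hb⟩ := hs (U 0 1 0)
    have h1 : π x ∈ UU := by
      have := (comap_sup_eq π A B hs).le x.2
      rwa [sup_eq] at this
    have h2 := congrArg (fun t : ↥(A.comap π ⊔ B.comap π) => π t)
      (mem_center_iff.1 hx ⟨a, mem_sup_left (show a ∈ A.comap π from ⟨_, _, ha⟩)⟩)
    have h3 := congrArg (fun t : ↥(A.comap π ⊔ B.comap π) => π t)
      (mem_center_iff.1 hx ⟨b, mem_sup_right (show b ∈ B.comap π from ⟨_, _, hb⟩)⟩)
    simp only [Subgroup.coe_mul, map_mul, ha, hb] at h2 h3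
    exact center_le h1 h2.symm h3.symm

include hF hZ hs hk in
theorem main {H K : Subgroup X} (hH : H = A.comap π) (hK : K = B.comap π) :
    Cfsg.IsElementaryAbelian 2 H ∧ Cfsg.IsElementaryAbelian 2 K ∧
      H ⊓ K = (center ↥(H ⊔ K)).map (H ⊔ K).subtype ∧
      (∃ C : Subgroup X, C ≤ normalizer (H : Set X) ∧ C ⊓ H = ⊥ ∧ H ⊔ C = normalizer (H : Set X) ∧
        Nonempty (↥C ≃* PSL(2, F))) ∧
      (∃ C : Subgroup X, C ≤ normalizer (K : Set X) ∧ C ⊓ K = ⊥ ∧ K ⊔ C = normalizer (K : Set X) ∧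
        Nonempty (↥C ≃* PSL(2, F))) := by
  have hs' : Function.Surjective (tau.toMonoidHom.comp π) := tau.surjective.comp hs
  have hk' : (tau.toMonoidHom.comp π).ker = center X := by
    rw [← hk]; ext x; simp
  have e1 : A.comap (tau.toMonoidHom.comp π) = B.comap π := by rw [← comap_comap, comap_A]
  have e2 : B.comap (tau.toMonoidHom.comp π) = A.comap π := by rw [← comap_comap, comap_B]
  have h1 := half1 hF hZ hs hk
  have h2 := half1 hF hZ hs' hk'
  have h3 := half2 hF hs' h2 (e2 ▸ h1)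
  rw [e1] at h2 h3
  subst hH hK
  exact ⟨h1, h2, cent hs h1 h2, half2 hF hs h1 h2, h3⟩

end


/-- Let X be a finite quasisimple group whose centre is an elementary abelian 2-group and whose central quotient is isomorphic to the projective special linear group of dimension 3 over the field with 4 elements. Let T be a Sylow 2-subgroup of X and H ≠ K subgroups of T containing the centre Z(X) whose images in X/Z(X) are elementary abelian of order 16 (the two such subgroups of a Sylow 2-subgroup of the quotient). Then H and K are elementary abelian, H ∩ K is the centre of the subgroup they generate, and each of N_X(H), N_X(K) is a split extension of H, respectively K, by the projective special linear group of dimension 2 over the field with 4 elements (there is a complement isomorphic to that group). -/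
theorem result {X : Type*} [Group X] [Finite X] (hq : Cfsg.IsQuasisimple X) (hZ : Cfsg.IsElementaryAbelian 2 (Subgroup.center X))
    {F : Type*} [Field F] [Fintype F] (hF : Fintype.card F = 4) (hXL : Nonempty ((X ⧸ Subgroup.center X) ≃* Matrix.ProjectiveSpecialLinearGroup (Fin 3) F))
    (T : Sylow 2 X) (H K : Subgroup X) (hHK : H ≠ K) (hHT : H ≤ T) (hKT : K ≤ T) (hZH : Subgroup.center X ≤ H) (hZK : Subgroup.center X ≤ K)
    (hH : Cfsg.IsElementaryAbelian 2 (H.map (QuotientGroup.mk' (Subgroup.center X))) ∧ Nat.card ↥(H.map (QuotientGroup.mk' (Subgroup.center X))) = 16)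
    (hK : Cfsg.IsElementaryAbelian 2 (K.map (QuotientGroup.mk' (Subgroup.center X))) ∧ Nat.card ↥(K.map (QuotientGroup.mk' (Subgroup.center X))) = 16) :
    Cfsg.IsElementaryAbelian 2 H ∧ Cfsg.IsElementaryAbelian 2 K ∧
      H ⊓ K = (Subgroup.center ↥(H ⊔ K)).map (H ⊔ K).subtype ∧
      (∃ C : Subgroup X, C ≤ Subgroup.normalizer (H : Set X) ∧ C ⊓ H = ⊥ ∧ H ⊔ C = Subgroup.normalizer (H : Set X) ∧
        Nonempty (↥C ≃* Matrix.ProjectiveSpecialLinearGroup (Fin 2) F)) ∧
      (∃ C : Subgroup X, C ≤ Subgroup.normalizer (K : Set X) ∧ C ⊓ K = ⊥ ∧ K ⊔ C = Subgroup.normalizer (K : Set X) ∧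
        Nonempty (↥C ≃* Matrix.ProjectiveSpecialLinearGroup (Fin 2) F)) := by
  obtain ⟨e⟩ := hXL
  let π0 : X →* PSL(3, F) := e.toMonoidHom.comp (QuotientGroup.mk' _)
  obtain ⟨P, hP⟩ := UU_syl hF
  obtain ⟨Q, hQ⟩ := (T.isPGroup'.map π0).exists_le_sylow
  obtain ⟨g, hg⟩ := MulAction.exists_smul_eq PSL(3, F) Q P
  let e' := e.trans (MulAut.conj g)
  let π : X →* PSL(3, F) := e'.toMonoidHom.comp (QuotientGroup.mk' _)
  have hs : Function.Surjective π := e'.surjective.comp (QuotientGroup.mk'_surjective _)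
  have hk : π.ker = center X := by
    ext x
    rw [MonoidHom.mem_ker, ← QuotientGroup.eq_one_iff]
    exact map_eq_one_iff _ e'.injective
  have key : ∀ L : Subgroup X, L ≤ T → center X ≤ L →
      (Cfsg.IsElementaryAbelian 2 (L.map (QuotientGroup.mk' (center X))) ∧
        Nat.card ↥(L.map (QuotientGroup.mk' (center X))) = 16) → L = A.comap π ∨ L = B.comap π := by
    intro L h1 h2 h3
    have h4 : L.map π = (L.map (QuotientGroup.mk' (center X))).map e'.toMonoidHom := by rw [Subgroup.map_map]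
    have h5 : Nat.card (L.map π) = 16 := by rw [h4, card_map_of_injective e'.injective, h3.2]
    have h6 : L.map π ≤ UU := by
      rintro _ ⟨x, hx, rfl⟩
      rw [← hP, ← hg, Sylow.coe_subgroup_smul]
      exact smul_mem_pointwise_smul _ _ _ (hQ ⟨x, h1 hx, rfl⟩)
    have h7 : Cfsg.IsElementaryAbelian 2 (L.map π) := by
      rw [h4]
      haveI := h3.1.1
      refine ⟨inferInstance, ?_⟩
      rintro _ ⟨y, hy, rfl⟩
      rw [← map_pow, h3.1.2 y hy, map_one]
    have h8 : (L.map π).comap π = L := by rw [comap_map_eq, hk, sup_eq_left.2 h2]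
    refine (le_or h6 h7).imp (fun h => ?_) fun h => ?_
    · rw [← h8, eq_of_le_of_card_ge h (by rw [h5, card_A, Nat.card_eq_fintype_card, hF]; norm_num)]
    · rw [← h8, eq_of_le_of_card_ge h (by rw [h5, card_B, Nat.card_eq_fintype_card, hF]; norm_num)]
  rcases key H hHT hZH hH with h1 | h1 <;> rcases key K hKT hZK hK with h2 | h2
  · exact absurd (h1.trans h2.symm) hHK
  · exact main hF hZ hs hk h1 h2
  · obtain ⟨a, b, c, d, f⟩ := main hF hZ hs hk h2 h1
    refine ⟨b, a, ?_, f, d⟩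
    rw [inf_comm, sup_comm]; exact c
  · exact absurd (h1.trans h2.symm) hHK

end Cfsg.Agent.S3154
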