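import Cfsg.Statements.S3161
import Cfsg.Agent.H3.HgC

set_option autoImplicit false
open Cfsg

namespace Cfsg.Agent.S3161

/-- Let Q be a non-abelian finite 2-group admitting commuting automorphisms α of order 2 and ρ of order 2^n − 1, where n ≥ 2, such that the fixed points of α form an elementary abelian subgroup of order 2^n on whose nonidentity elements the group generated by ρ acts transitively. Then Q is isomorphic to a Sylow 2-subgroup of the projective special unitary group of dimension 3 with parameter 2^n (realised over the field with 4^n elements) or of the projective special linear group of dimension 3 over the field with 2^n elements. -/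
theorem result {Q : Type*} [Group Q] [Finite Q] (hQ : IsPGroup 2 Q) (hna : ¬ IsMulCommutative Q) (n : ℕ) (hn : 2 ≤ n)
    (α ρ : MulAut Q) (hα : orderOf α = 2) (hρ : orderOf ρ = 2 ^ n - 1) (hc : Commute α ρ)
    (C : Subgroup Q) (hC : ∀ x : Q, x ∈ C ↔ α x = x) (hCE : Cfsg.IsElementaryAbelian 2 C ∧ Nat.card ↥C = 2 ^ n)
    (htr : ∀ x y : Q, x ∈ C → y ∈ C → x ≠ 1 → y ≠ 1 → ∃ k : ℕ, (ρ ^ k) x = y) :
    (∃ (F : Type) (_ : Field F) (_ : Fintype F), Fintype.card F = 4 ^ n ∧
        ∃ S : Sylow 2 (Cfsg.PSU 3 F (2 ^ n)), Nonempty (Q ≃* ↥(S : Subgroup (Cfsg.PSU 3 F (2 ^ n))))) ∨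
      (∃ (F : Type) (_ : Field F) (_ : Fintype F), Fintype.card F = 2 ^ n ∧
        ∃ S : Sylow 2 (Matrix.ProjectiveSpecialLinearGroup (Fin 3) F), Nonempty (Q ≃* ↥(S : Subgroup (Matrix.ProjectiveSpecialLinearGroup (Fin 3) F)))) := by
  have : Fintype (GaloisField 2 (n * 2)) := Fintype.ofFinite _
  have hE : Fintype.card (GaloisField 2 (n * 2)) = (2 ^ n) ^ 2 := by
    rw [← Nat.card_eq_fintype_card, GaloisField.card 2 _ (by omega), pow_mul]
  have hK := H3.HgA.card_K0 hE
  obtain ⟨s, h⟩ := H3.HgA.exists_HH (F := H3.HgA.K0 hE) α ρ (by rw [← sq, ← hα, pow_orderOf_eq_one]) hc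
    (by rw [hK, ← hρ, pow_orderOf_eq_one]) C hC (fun x hx => by rw [← sq]; exact hCE.1.2 x hx)
    (by rw [hK, hCE.2]) fun x hx y hy => htr x y hx hy
  obtain ⟨a, ha0, ha1⟩ : ∃ a : H3.HgA.K0 hE, a ≠ 0 ∧ a ≠ 1 := by
    by_contra! h
    have := H26.not_inj_two (F := H3.HgA.K0 hE) (hK.ge.trans' (Nat.pow_le_pow_right (n := 2) two_pos hn))
      (AddMonoidHom.id _) (fun _ h => h) 1 fun x => (em (x = 0)).imp_right (h x)
    exact this
  obtain ⟨p, r, π, i, H⟩ := h.std hQ ha0 ha1 fun e => hna ⟨⟨fun x y =>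
    commutatorElement_eq_one_iff_mul_comm.1 (by simpa [e] using H3.HgA.cm x y)⟩⟩
  rcases H.cases hE (Nat.even_pow.2 ⟨even_two, by omega⟩) with h | h
  · exact .inl ⟨_, _, _, by rw [hE, ← pow_mul, mul_comm, pow_mul]; rfl, Classical.arbitrary _, h _⟩
  · exact .inr ⟨_, _, _, hK, Classical.arbitrary _, h _⟩

end Cfsg.Agent.S3161
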