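import Mathlib
import Cfsg.Statements.S3169
import Cfsg.Agent.H8.UT5e

set_option autoImplicit false
open Cfsg

namespace Cfsg.Agent.S3169

theorem result {G : Type*} [Group G] [Finite G]
    (hO : Cfsg.oddCore G = ⊥) (S : Sylow 2 G) (P : Sylow 2 ↥Cfsg.M24)
    (hS : Nonempty (↥(S : Subgroup G) ≃* (↥(P : Subgroup ↥Cfsg.M24) ⧸ Subgroup.center ↥(P : Subgroup ↥Cfsg.M24))))
    (A : Subgroup G) (hA : A ≤ (S : Subgroup G)) (hAc : IsMulCommutative ↥A) (hA64 : Nat.card ↥A = 64)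
    (huniq : ∀ B : Subgroup G, B ≤ (S : Subgroup G) → IsMulCommutative ↥B → Nat.card ↥B = 64 → B = A) :
    A.Normal := by
  exact H8.UT5.normal_of hO S (hS.some.trans (H8.UT5.isoS P).some) ⟨hAc, hA64⟩ hA

end Cfsg.Agent.S3169
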