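import Mathlib
import Cfsg.Statements.S3170
import Cfsg.Agent.H8.UT5e
import Cfsg.Agent.H6.ZS

set_option autoImplicit false
open Cfsg

namespace Cfsg.Agent.S3170

open H8.UT5 Subgroup

theorem card_cU : Nat.card (center U) = 2 := by
  have := prj.ker.card_mul_index
  rw [index_ker, MonoidHom.range_eq_top.2 prj_surj, card_top, card_S, card_U, ker_prj] at this
  exact Nat.eq_of_mul_eq_mul_right (by norm_num : 0 < 512) (this.trans (by norm_num))

theorem result {H : Type*} [Group H] [Finite H]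
    (hO : Cfsg.oddCore H = ⊥) (T : Sylow 2 H) (P : Sylow 2 ↥Cfsg.M24)
    (hT : Nonempty (↥(T : Subgroup H) ≃* ↥(P : Subgroup ↥Cfsg.M24)))
    (hZ : ∀ z ∈ (T : Subgroup H), (∀ t ∈ (T : Subgroup H), z * t = t * z) → z ∈ Subgroup.center H)
    (E : Subgroup H) (hE : E ≤ (T : Subgroup H)) (hEn : (E.subgroupOf (T : Subgroup H)).Normal)
    (hEx : Cfsg.IsExtraspecial 2 ↥E) (hE7 : Nat.card ↥E = 2 ^ 7)
    (huniq : ∀ E' : Subgroup H, E' ≤ (T : Subgroup H) → (E'.subgroupOf (T : Subgroup H)).Normal →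
      Cfsg.IsExtraspecial 2 ↥E' → Nat.card ↥E' = 2 ^ 7 → E' = E) :
    E.Normal := by
  have := Fact.mk Nat.prime_two
  let e := hT.some.trans (iso P).some
  set Z : Subgroup H := (center (T : Subgroup H)).map (T : Subgroup H).subtype with hZd
  have ZC : Z ≤ center H := by
    rintro _ ⟨z, hz, rfl⟩
    exact hZ z z.2 fun t ht => (congrArg Subtype.val (mem_center_iff.1 hz ⟨t, ht⟩)).symm
  haveI : Z.Normal := ⟨fun z hz g => by rw [mem_center_iff.1 (ZC hz) g, mul_inv_cancel_right]; exact hz⟩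
  have cZ : Nat.card Z = 2 := by
    rw [card_map_of_injective (T : Subgroup H).subtype_injective, Nat.card_congr (centerCongr e).toEquiv, card_cU]
  have hO' : pPrimeCore 2 (H ⧸ Z) = ⊥ := by
    have a := H6.comap_pPrimeCore_le_of_central hO ZC
    have b : IsPGroup 2 (pPrimeCore 2 (H ⧸ Z)) := by
      rw [← map_comap_eq_self_of_surjective (QuotientGroup.mk'_surjective Z) (pPrimeCore 2 (H ⧸ Z))]
      exact ((H1.isPGroup_pCore 2).to_le a).map _
    obtain ⟨k, hk⟩ := IsPGroup.iff_card.1 b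
    have c := H1.coprime_card_pPrimeCore (G := H ⧸ Z) 2
    rw [hk] at c
    rcases k with _ | k
    · exact card_eq_one.1 hk
    · exact absurd (Nat.Coprime.eq_one_of_dvd c.symm (dvd_pow_self 2 k.succ_ne_zero)) (by norm_num)
  let S' := T.mapSurjective (QuotientGroup.mk'_surjective Z)
  let f : (T : Subgroup H) →* (S' : Subgroup (H ⧸ Z)) := (QuotientGroup.mk' Z).subgroupMap T
  have hf : Function.Surjective f := MonoidHom.subgroupMap_surjective _ _
  have kf : f.ker = (prj.comp e.toMonoidHom).ker := by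
    ext x
    rw [MonoidHom.mem_ker, MonoidHom.mem_ker, MonoidHom.comp_apply, ← MonoidHom.mem_ker, ← MonoidHom.mem_ker, ker_prj,
      MonoidHom.mem_ker, Subtype.ext_iff]
    change ((x : H) : H ⧸ Z) = 1 ↔ _
    rw [QuotientGroup.eq_one_iff, hZd, ← coe_subtype, mem_map_iff_mem (T : Subgroup H).subtype_injective,
      mem_center_iff, mem_center_iff]
    constructor
    · intro h g
      obtain ⟨g, rfl⟩ := e.surjective g
      change e g * e x = e x * e g
      rw [← map_mul, ← map_mul, h]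
    · intro h g
      apply e.injective
      rw [map_mul, map_mul]; exact h (e g)
  let e' := (QuotientGroup.quotientKerEquivOfSurjective f hf).symm.trans
    ((QuotientGroup.quotientMulEquivOfEq kf).trans
      (QuotientGroup.quotientKerEquivOfSurjective (prj.comp e.toMonoidHom) (prj_surj.comp e.surjective)))
  obtain ⟨⟨-, -, h3⟩, h4⟩ := hEx
  set Y : Subgroup H := (center E).map E.subtype with hY
  have cY : Nat.card Y = 2 := by rw [card_map_of_injective E.subtype_injective, h4]
  have nE : ∀ t ∈ (T : Subgroup H), ∀ x ∈ E, t * x * t⁻¹ ∈ E := fun t ht x hx =>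
    hEn.conj_mem ⟨x, hE hx⟩ hx ⟨t, ht⟩
  have YZ : Y ≤ Z := by
    rintro _ ⟨y, hy, rfl⟩
    refine ⟨⟨y, hE y.2⟩, mem_center_iff.2 fun t => Subtype.ext ?_, rfl⟩
    have m : t.1 * y * t.1⁻¹ ∈ Y := ⟨⟨_, nE _ t.2 _ y.2⟩, mem_center_iff.2 fun x => Subtype.ext (by
      have := congrArg Subtype.val (mem_center_iff.1 hy ⟨_, nE _ (inv_mem t.2) _ x.2⟩)
      simp only [coe_mul, inv_inv] at this ⊢
      calc _ = t.1 * (t.1⁻¹ * x * t.1 * y) * t.1⁻¹ := by group
        _ = _ := by rw [this]; group), rfl⟩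
    obtain ⟨w, -, hw⟩ := (Nat.card_eq_two_iff' (1 : Y)).1 cY
    change t.1 * y = y * t.1
    by_cases c : (y : H) = 1
    · rw [c, mul_one, one_mul]
    · have a := hw ⟨y, mem_map_of_mem _ hy⟩ fun d => c (congrArg Subtype.val d)
      have b := hw ⟨_, m⟩ fun d => c (by simpa using congrArg Subtype.val d)
      exact mul_inv_eq_iff_eq_mul.1 (congrArg Subtype.val (b.trans a.symm))
  have YZ' : Y = Z := eq_of_le_of_card_ge YZ (by rw [cY, cZ])
  have ZE : Z ≤ E := YZ' ▸ map_subtype_le _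
  have ab : Ab (E.map (QuotientGroup.mk' Z)) := by
    refine ⟨⟨⟨?_⟩⟩, ?_⟩
    · rintro ⟨_, a, ha, rfl⟩ ⟨_, b, hb, rfl⟩
      apply Subtype.ext
      change QuotientGroup.mk' Z a * QuotientGroup.mk' Z b = QuotientGroup.mk' Z b * QuotientGroup.mk' Z a
      rw [← commutatorElement_eq_one_iff_mul_comm, ← map_commutatorElement, QuotientGroup.mk'_apply,
        QuotientGroup.eq_one_iff]
      exact YZ ⟨_, h3.le (commutator_mem_commutator (mem_top (⟨a, ha⟩ : E)) (mem_top (⟨b, hb⟩ : E))), rfl⟩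
    · have := (Z.subgroupOf E).card_mul_index
      rw [Nat.card_congr (subgroupOfEquivOfLe ZE).toEquiv, cZ, hE7] at this
      rw [← relIndex_ker, QuotientGroup.ker_mk', relIndex]
      omega
  have n := normal_of hO' S' e' ab (map_mono hE)
  have := n.comap (QuotientGroup.mk' Z)
  rwa [comap_map_eq_self (by rw [QuotientGroup.ker_mk']; exact ZE)] at this

end Cfsg.Agent.S3170
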