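import Mathlib
import Cfsg.Statements.S3171
import Cfsg.Agent.H8.UT5
import Cfsg.Agent.H9.Basic

set_option autoImplicit false
open Cfsg

namespace Cfsg.Agent.S3171

open H8.UT5 Subgroup

def Pr (T : Type*) [Group T] : Prop :=
    (∀ M : Subgroup T, IsCoatom M → Nat.card ↥(Subgroup.center ↥M) ≤ 8) ∧
      (∃ A : Subgroup T, Cfsg.IsElementaryAbelian 2 A ∧ Nat.card ↥A = 64) ∧
      ∀ A B : Subgroup T, IsMulCommutative ↥A → Nat.card ↥A = 64 → IsMulCommutative ↥B → Nat.card ↥B = 64 → A = B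

theorem comm_map {T T' : Type*} [Group T] [Group T'] (f : T →* T') {A : Subgroup T} (h : IsMulCommutative A) :
    IsMulCommutative (A.map f) := inferInstance

theorem Pr.of {T T' : Type*} [Group T] [Group T'] (e : T ≃* T') (h : Pr T') : Pr T := by
  obtain ⟨h1, ⟨A, ⟨a1, a2⟩, a3⟩, h3⟩ := h
  refine ⟨fun M hM => ?_, ⟨A.map e.symm.toMonoidHom, ⟨comm_map _ a1, ?_⟩, ?_⟩, fun A B a b c d => ?_⟩
  · have := h1 (M.map e.toMonoidHom) ((OrderIso.isCoatom_iff e.mapSubgroup M).2 hM)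
    exact (Nat.card_congr (Subgroup.centerCongr (e.subgroupMap M)).toEquiv).trans_le this
  · rintro _ ⟨x, hx, rfl⟩
    rw [← map_pow, a2 x hx, map_one]
  · rw [card_map_of_injective e.symm.injective, a3]
  · apply map_injective (f := e.toMonoidHom) e.injective
    exact h3 _ _ (comm_map _ a) (by rw [card_map_of_injective e.injective, b]) (comm_map _ c)
      (by rw [card_map_of_injective e.injective, d])

def g1 : S := ⟨0, 0, 0, 0, 0, 0, 1, 0, 1⟩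
def h1 : S := ⟨1, 0, 0, 1, 0, 0, 0, 0, 0⟩
def g2 : S := ⟨1, 0, 0, 0, 1, 0, 0, 0, 0⟩
def h2 : S := ⟨0, 0, 0, 1, 0, 0, 1, 0, 0⟩
def XL : List S := [⟨0, 0, 0, 0, 0, 0, 0, 0, 0⟩, ⟨0, 0, 1, 0, 0, 0, 0, 0, 0⟩, ⟨0, 0, 0, 0, 0, 1, 0, 0, 0⟩,
  ⟨0, 0, 1, 0, 0, 1, 0, 0, 0⟩, ⟨0, 1, 0, 0, 0, 0, 0, 0, 0⟩, ⟨0, 1, 1, 0, 0, 0, 0, 0, 0⟩, ⟨0, 1, 0, 0, 0, 1, 0, 0, 0⟩,
  ⟨0, 1, 1, 0, 0, 1, 0, 0, 0⟩, ⟨0, 0, 0, 0, 0, 0, 0, 1, 0⟩, ⟨0, 0, 1, 0, 0, 0, 0, 1, 0⟩, ⟨0, 0, 0, 0, 0, 1, 0, 1, 0⟩,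
  ⟨0, 0, 1, 0, 0, 1, 0, 1, 0⟩]
def cm (x y : S) : Prop := x * y = y * x
instance (x y : S) : Decidable (cm x y) := inferInstanceAs (Decidable (x * y = y * x))

set_option synthInstance.maxSize 100000 in
theorem chkX : ∀ a b c d e f g h i : F, (cm ⟨a, b, c, d, e, f, g, h, i⟩ g1 ∨ cm ⟨a, b, c, d, e, f, g, h, i⟩ h1 ∨
      cm ⟨a, b, c, d, e, f, g, h, i⟩ (g1 * h1)) →
    (cm ⟨a, b, c, d, e, f, g, h, i⟩ g2 ∨ cm ⟨a, b, c, d, e, f, g, h, i⟩ h2 ∨
      cm ⟨a, b, c, d, e, f, g, h, i⟩ (g2 * h2)) → (⟨a, b, c, d, e, f, g, h, i⟩ : S) ∈ XL := by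
  decide +kernel

theorem pS : IsPGroup 2 S := IsPGroup.of_card (n := 9) (by rw [card_S]; norm_num)

theorem part1 (M : Subgroup S) (hM : IsCoatom M) : Nat.card ↥(Subgroup.center ↥M) ≤ 8 := by
  have := Fact.mk Nat.prime_two
  have hi : M.index = 2 := H9.index_of_isCoatom pS hM
  have key : ∀ z : center M, ((z : M) : S) ∈ XL := by
    intro z
    have hz : ∀ g ∈ M, cm ((z : M) : S) g := fun g hg =>
      (congrArg Subtype.val (mem_center_iff.1 z.2 ⟨g, hg⟩)).symm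
    have t : ∀ g h : S, cm ((z : M) : S) g ∨ cm ((z : M) : S) h ∨ cm ((z : M) : S) (g * h) := by
      intro g h
      by_cases a : g ∈ M
      · exact .inl (hz g a)
      by_cases b : h ∈ M
      · exact .inr (.inl (hz h b))
      exact .inr (.inr (hz _ ((mul_mem_iff_of_index_two hi).2 (iff_of_false a b))))
    exact chkX _ _ _ _ _ _ _ _ _ (t g1 h1) (t g2 h2)
  have c : Nat.card (center M) ≤ 12 := by
    have : Nat.card (center M) ≤ Nat.card (XL.toFinset : Set S) :=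
      Nat.card_le_card_of_injective (fun z => ⟨((z : M) : S), by simpa using key z⟩)
        fun a b h => Subtype.ext (Subtype.ext (Subtype.mk.inj h))
    rw [Nat.card_coe_set_eq, Set.ncard_coe_finset] at this
    exact this.trans (List.toFinset_card_le XL)
  obtain ⟨k, hk⟩ := IsPGroup.iff_card.1 ((pS.to_subgroup M).to_subgroup (center M))
  rw [hk] at c ⊢
  have : k < 4 := by
    by_contra h
    have := Nat.pow_le_pow_right (n := 2) (by norm_num) (not_lt.1 h)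
    omega
  interval_cases k <;> simp

/-- the projection to the middle block -/
def rho : S →* S := MonoidHom.mk' (fun a => ⟨0, 0, 0, a.a23, a.a24, 0, a.a34, 0, 0⟩) fun a b => by
  simp only [S.mul_def]; ext <;> simp

theorem mem_ker {a : S} : a ∈ rho.ker ↔ a.a23 = 0 ∧ a.a24 = 0 ∧ a.a34 = 0 := by
  rw [MonoidHom.mem_ker]
  change (⟨0, 0, 0, a.a23, a.a24, 0, a.a34, 0, 0⟩ : S) = ⟨0, 0, 0, 0, 0, 0, 0, 0, 0⟩ ↔ _
  simp

theorem two0 : (2 : F) = 0 := rfl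

theorem ker_comm {a b : S} (ha : a ∈ rho.ker) (hb : b ∈ rho.ker) : a * b = b * a := by
  obtain ⟨a1, a2, a3⟩ := mem_ker.1 ha
  obtain ⟨b1, b2, b3⟩ := mem_ker.1 hb
  simp only [S.mul_def, a1, a2, a3, b1, b2, b3]
  ext <;> simp only <;> ring

def kE : rho.ker ≃ F × F × F × F × F × F where
  toFun a := (a.1.a12, a.1.a13, a.1.a14, a.1.a25, a.1.a35, a.1.a45)
  invFun x := ⟨⟨x.1, x.2.1, x.2.2.1, 0, 0, x.2.2.2.1, 0, x.2.2.2.2.1, x.2.2.2.2.2⟩, mem_ker.2 ⟨rfl, rfl, rfl⟩⟩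
  left_inv a := by
    obtain ⟨a1, a2, a3⟩ := mem_ker.1 a.2
    apply Subtype.ext
    ext <;> simp [a1, a2, a3]
  right_inv _ := rfl

theorem card_ker : Nat.card rho.ker = 64 := by
  rw [Nat.card_congr kE]; simp [Nat.card_prod]

theorem elab_ker : Cfsg.IsElementaryAbelian 2 rho.ker := by
  refine ⟨⟨⟨fun a b => Subtype.ext (ker_comm a.2 b.2)⟩⟩, fun a ha => ?_⟩
  obtain ⟨a1, a2, a3⟩ := mem_ker.1 ha
  rw [sq]
  simp only [S.mul_def, S.one_def, a1, a2, a3]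
  ext <;> simp only <;> ring_nf <;> simp [two0]

/-- the elements of the kernel commuting with two elements of the middle block -/
def cnt (r s : S) : Finset (F × F × F × F × F × F) :=
  Finset.univ.filter fun x => cm (kE.symm x).1 r ∧ cm (kE.symm x).1 s

set_option synthInstance.maxSize 100000 in
theorem chk1 : ∀ a b c : F, (⟨0, 0, 0, a, b, 0, c, 0, 0⟩ : S) ≠ 1 →
    (cnt ⟨0, 0, 0, a, b, 0, c, 0, 0⟩ ⟨0, 0, 0, a, b, 0, c, 0, 0⟩).card ≤ 16 := by decide +kernel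

set_option synthInstance.maxSize 100000 in
theorem chk2 : ∀ a b c a' b' c' : F, (⟨0, 0, 0, a, b, 0, c, 0, 0⟩ : S) ≠ 1 →
    (⟨0, 0, 0, a', b', 0, c', 0, 0⟩ : S) ≠ 1 → (⟨0, 0, 0, a, b, 0, c, 0, 0⟩ : S) ≠ ⟨0, 0, 0, a', b', 0, c', 0, 0⟩ →
    (cnt ⟨0, 0, 0, a, b, 0, c, 0, 0⟩ ⟨0, 0, 0, a', b', 0, c', 0, 0⟩).card ≤ 8 := by decide +kernel

theorem cm_rho {a b : S} (ha : a ∈ rho.ker) (h : cm a b) : cm a (rho b) := by
  have k : b * (rho b)⁻¹ ∈ rho.ker := by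
    rw [MonoidHom.mem_ker, map_mul, map_inv, show rho (rho b) = rho b from rfl, mul_inv_cancel]
  have c1 : Commute a b := h
  have c2 : Commute a (b * (rho b)⁻¹) := ker_comm ha k
  have := c2.inv_right.mul_right c1
  rw [mul_inv_rev, inv_inv, mul_assoc, inv_mul_cancel, mul_one] at this
  exact this

theorem card_inf_le {B : Subgroup S} (hB : IsMulCommutative B) {x y : S} (hx : x ∈ B) (hy : y ∈ B) :
    Nat.card ↥(rho.ker ⊓ B) ≤ (cnt (rho x) (rho y)).card := by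
  have c : ∀ a ∈ B, ∀ b ∈ B, cm a b := fun a ha b hb => congrArg Subtype.val (hB.is_comm.comm ⟨a, ha⟩ ⟨b, hb⟩)
  rw [← Nat.card_eq_finsetCard]
  refine Nat.card_le_card_of_injective (fun z => ⟨kE ⟨z.1, z.2.1⟩, ?_⟩) fun a b h => ?_
  · simp only [cnt, Finset.mem_filter, Finset.mem_univ, true_and, Equiv.symm_apply_apply]
    exact ⟨cm_rho z.2.1 (c _ z.2.2 _ hx), cm_rho z.2.1 (c _ z.2.2 _ hy)⟩
  · exact Subtype.ext (Subtype.mk.inj (kE.injective (Subtype.mk.inj h)))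

theorem card_range : Nat.card rho.range = 8 := by
  have := rho.ker.card_mul_index
  rw [card_ker, card_S, index_ker] at this
  omega

theorem uniq {B : Subgroup S} (hB : IsMulCommutative B) (hc : Nat.card B = 64) : B = rho.ker := by
  have hm : Nat.card ↥(rho.ker ⊓ B) * Nat.card (B.map rho) = 64 := by
    rw [← hc, ← relIndex_ker, ← inf_relIndex_right, mul_comm]
    have := Subgroup.card_mul_index ((rho.ker ⊓ B).subgroupOf B)
    rw [Nat.card_congr (subgroupOfEquivOfLe (inf_le_right : rho.ker ⊓ B ≤ B)).toEquiv] at this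
    rw [← this, mul_comm]; rfl
  by_cases h0 : B ≤ rho.ker
  · exact eq_of_le_of_card_ge h0 (by rw [hc, card_ker])
  exfalso
  obtain ⟨x, hx, hx'⟩ := SetLike.not_le_iff_exists.1 h0
  have hx1 : rho x ≠ 1 := hx'
  have hle : B.map rho ≤ rho.range := map_le_range _ _
  by_cases h1 : ∃ y ∈ B, rho y ≠ 1 ∧ rho x ≠ rho y
  · obtain ⟨y, hy, a, b⟩ := h1
    have c1 := (card_inf_le hB hx hy).trans (chk2 _ _ _ _ _ _ hx1 a b)
    have c2 := card_le_of_le hle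
    rw [card_range] at c2
    have c3 : Nat.card (B.map rho) = 8 := by nlinarith
    have e : B.map rho = rho.range := eq_of_le_of_card_ge hle (by rw [c3, card_range])
    have cc := comm_map rho hB
    rw [e] at cc
    have := congrArg Subtype.val (cc.is_comm.comm ⟨rho h1, h1, rfl⟩ ⟨rho g1, g1, rfl⟩)
    exact absurd this (by decide +kernel : ¬ rho h1 * rho g1 = rho g1 * rho h1)
  · push Not at h1
    have c1 := (card_inf_le hB hx hx).trans (chk1 _ _ _ hx1)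
    have c2 : Nat.card (B.map rho) ≤ Nat.card ({1, rho x} : Set S) := by
      refine Nat.card_le_card_of_injective (fun z => ⟨z.1, ?_⟩) fun a b h => Subtype.ext (Subtype.mk.inj h)
      obtain ⟨_, y, hy, rfl⟩ := z
      by_cases a : rho y = 1
      · exact .inl a
      · exact .inr (h1 y hy a).symm
    rw [Nat.card_coe_set_eq, Set.ncard_pair hx1.symm] at c2
    nlinarith

theorem prS : Pr S :=
  ⟨part1, ⟨_, elab_ker, card_ker⟩, fun _ _ a b c d => (uniq a b).trans (uniq c d).symm⟩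

theorem result (P : Sylow 2 ↥Cfsg.M24) :
    (∀ M : Subgroup (↥(P : Subgroup ↥Cfsg.M24) ⧸ Subgroup.center ↥(P : Subgroup ↥Cfsg.M24)), IsCoatom M →
        Nat.card ↥(Subgroup.center ↥M) ≤ 8) ∧
      (∃ A : Subgroup (↥(P : Subgroup ↥Cfsg.M24) ⧸ Subgroup.center ↥(P : Subgroup ↥Cfsg.M24)),
        Cfsg.IsElementaryAbelian 2 A ∧ Nat.card ↥A = 64) ∧
      ∀ A B : Subgroup (↥(P : Subgroup ↥Cfsg.M24) ⧸ Subgroup.center ↥(P : Subgroup ↥Cfsg.M24)),
        IsMulCommutative ↥A → Nat.card ↥A = 64 → IsMulCommutative ↥B → Nat.card ↥B = 64 → A = B := by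
  exact Pr.of (isoS P).some prS

end Cfsg.Agent.S3171
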