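import Cfsg.Statements.S3177
import Cfsg.Agent.H5.GV
import Cfsg.Agent.H16.PL1

set_option autoImplicit false
open Cfsg

namespace Cfsg.Agent.S3177

open H5 H5.Gd Subgroup
open H10 (IsSylowIn)

/-- Let n ≥ 3 and let G be a finite group whose Sylow 2-subgroups are isomorphic to those of PSU(3, 2^n), realised over the field with 4^n elements. Then either G is solvable of 2-length at most one, or the quotient of G by its largest normal subgroup of odd order has a normal subgroup of odd index isomorphic to PSU(3, 2^n). -/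
theorem result {G : Type*} [Group G] [Finite G]
    (n : ℕ) (hn : 3 ≤ n) {F : Type*} [Field F] [Fintype F] (hF : Fintype.card F = 4 ^ n)
    (S : Sylow 2 G) (P : Sylow 2 (Cfsg.PSU 3 F (2 ^ n)))
    (hS : Nonempty (↥(S : Subgroup G) ≃* ↥(P : Subgroup (Cfsg.PSU 3 F (2 ^ n))))) :
    (Group.IsSolvable G ∧ Cfsg.PLengthLE 2 1 G) ∨
      ∃ N : Subgroup (G ⧸ Cfsg.oddCore G), N.Normal ∧ Odd N.index ∧ Nonempty (↥N ≃* Cfsg.PSU 3 F (2 ^ n)) := by
  obtain ⟨e⟩ := hS
  obtain ⟨A, h⟩ := u3_sylow (by omega) (hF.trans (by rw [← pow_mul, mul_comm, pow_mul]; rfl)) P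
  set O := oddCore G
  let φ := QuotientGroup.mk' O
  have hφ : Function.Surjective φ := QuotientGroup.mk'_surjective O
  have hO : ¬ 2 ∣ Nat.card O := (Nat.prime_two.coprime_iff_not_dvd).1 (H1.coprime_card_pPrimeCore 2).symm
  have hf : Function.Injective (φ.comp ((S : Subgroup G).subtype.comp e.symm.toMonoidHom)) :=
    (injective_iff_map_eq_one _).2 fun x hx => e.symm.injective (Subtype.ext (by
      rw [map_one]
      exact mem_bot.1 (H10.eq_bot_of_isPGroup_of_not_dvd (S.isPGroup'.to_le (inf_le_left : _ ⊓ O ≤ _))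
        inf_le_right hO ▸ ⟨(e.symm x).2, (QuotientGroup.eq_one_iff _).1 hx⟩)))
  have h1 := h.map hf
  rw [← map_map, ← map_map, map_top_of_surjective _ e.symm.surjective, map_subtype_top] at h1
  have hS := (H10.isSylowIn_top S).map_top hφ
  have hi := hS.not_dvd_relIndex
  rw [relIndex_top_right] at hi
  rcases h1.main hS (by omega) ((oppOf_top 2).trans (H1.pPrimeCore_quotient_pPrimeCore 2)) hF with
    hN | ⟨E, h2, h3, h4⟩
  · have := H10.normal_of_top_le_NN hN
    refine Or.inl ⟨H1.isSolvable_of_normal_quotient O (H17.odd_solvable (Nat.odd_iff.2 (by omega)))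
      (H1.isSolvable_of_normal_quotient ((S : Subgroup G).map φ)
        (H15.Cfsg.IsPiSubgroup.solvable (H15.IsPGroup.isPi hS.isPGroup)) (H17.odd_solvable ?_)),
      H16.pl1_of_normal_series O (((S : Subgroup G).map φ).comap φ) hO ?_ ?_⟩
    · rw [← index_eq_card, Nat.odd_iff]; omega
    · rw [← H1.card_map_mk'_eq_relIndex, map_comap_eq_self_of_surjective hφ]
      exact H15.IsPGroup.isPi hS.isPGroup
    · rwa [index_comap_of_surjective _ hφ]
  · exact Or.inr ⟨E, h2, Nat.odd_iff.2 (Nat.two_dvd_ne_zero.1 fun k => hi (k.trans (index_dvd_of_le h3))), h4⟩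

end Cfsg.Agent.S3177
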