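import Cfsg.Statements.S3179
import Cfsg.Agent.S2475
import Cfsg.Agent.S0280
import Cfsg.Agent.S1163
import Cfsg.Agent.H4.Dk1
import Cfsg.Agent.H16.Misc
import Mathlib.LinearAlgebra.Matrix.GeneralLinearGroup.Card

set_option autoImplicit false
open Cfsg

namespace Cfsg.Agent.S3179


open Subgroup H16 H15

theorem cardGL : Nat.card (GL (Fin 5) (ZMod 2)) = 9999360 := by
  rw [Matrix.card_GL_field]
  simp [Fin.prod_univ_five]

def ma : GL (Fin 5) (ZMod 2) :=
  ⟨!![0,1,0,0,0;1,1,0,0,0;0,0,1,0,0;0,0,0,1,0;0,0,0,0,1], !![1,1,0,0,0;1,0,0,0,0;0,0,1,0,0;0,0,0,1,0;0,0,0,0,1],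
    by decide +kernel, by decide +kernel⟩

def mb : GL (Fin 5) (ZMod 2) :=
  ⟨!![1,0,0,0,0;0,1,0,0,0;0,0,0,1,0;0,0,1,1,0;0,0,0,0,1], !![1,0,0,0,0;0,1,0,0,0;0,0,1,1,0;0,0,1,0,0;0,0,0,0,1],
    by decide +kernel, by decide +kernel⟩

theorem no_nine (g : GL (Fin 5) (ZMod 2)) : ¬ 9 ∣ orderOf g := by
  intro hg
  have : Fact (Nat.Prime 3) := ⟨Nat.prime_three⟩
  obtain ⟨x, hx⟩ : ∃ x : GL (Fin 5) (ZMod 2), orderOf x = 9 :=
    ⟨g ^ (orderOf g / 9), orderOf_pow_orderOf_div (orderOf_pos g).ne' hg⟩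
  have h1 : Sy[3] (zpowers x) ⊤ := by
    refine sy_mk le_top (isPi_of_card_eq_pow (n := 2) Nat.prime_three (by rw [H16.card_zpowers, hx]; rfl)) ?_
    have := (zpowers x).card_mul_index
    rw [H16.card_zpowers, hx, cardGL] at this
    rw [relIndex_top_right]
    omega
  have ha : ma ^ 3 = 1 := Units.ext (by decide +kernel)
  have hb : mb ^ 3 = 1 := Units.ext (by decide +kernel)
  have hab : ma * mb = mb * ma := Units.ext (by decide +kernel)
  have k : ∀ y : GL (Fin 5) (ZMod 2), y ^ 3 = 1 → Pg[3] (zpowers y) := fun y hy => isPi_of_pow_eq_one (by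
    rintro _ ⟨n, rfl⟩
    rw [← zpow_natCast, ← zpow_mul, mul_comm, zpow_mul, zpow_natCast, hy, one_zpow])
  obtain ⟨u, -, hu⟩ := sy_conj_le h1 le_top ((k ma ha).sup_of_le_norm (k mb hb)
    (norm_of_cent (by rw [H16.cent_zpowers]; exact zpowers_le.2 (H16.mem_cent1.2 hab))))
  have hc : IsCyclic ↥(zpowers ma ⊔ zpowers mb) := (cyclic_cj u).1 (H16.cyclic_of_le (cyclic_zpowers x) hu)
  classical
  have := Fintype.ofFinite ↥(zpowers ma ⊔ zpowers mb)
  let a : ↥(zpowers ma ⊔ zpowers mb) := ⟨ma, mem_sup_left (mem_zpowers _)⟩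
  let b : ↥(zpowers ma ⊔ zpowers mb) := ⟨mb, mem_sup_right (mem_zpowers _)⟩
  have h2 := (Finset.card_le_card (s := {1, a, b, a * b}) (fun y hy => ?_)).trans
    (IsCyclic.card_pow_eq_one_le (α := ↥(zpowers ma ⊔ zpowers mb)) (n := 3) (by norm_num))
  · have n : ∀ y z : ↥(zpowers ma ⊔ zpowers mb), (y : GL (Fin 5) (ZMod 2)).1 ≠ (z : GL (Fin 5) (ZMod 2)).1 → y ≠ z :=
      fun y z h e => h (e ▸ rfl)
    rw [Finset.card_insert_of_notMem, Finset.card_insert_of_notMem, Finset.card_pair] at h2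
    · omega
    · exact n _ _ (by decide +kernel)
    · simp only [Finset.mem_insert, Finset.mem_singleton, not_or]
      exact ⟨n _ _ (by decide +kernel), n _ _ (by decide +kernel)⟩
    · simp only [Finset.mem_insert, Finset.mem_singleton, not_or]
      exact ⟨n _ _ (by decide +kernel), n _ _ (by decide +kernel), n _ _ (by decide +kernel)⟩
  · simp only [Finset.mem_insert, Finset.mem_singleton] at hy
    rw [Finset.mem_filter]
    refine ⟨Finset.mem_univ _, Subtype.ext ?_⟩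
    rcases hy with rfl | rfl | rfl | rfl
    · simp
    · exact ha
    · exact hb
    · exact Units.ext (by decide +kernel)

theorem pow_le {n k : ℕ} (h : 2 ^ n * k ∣ 9999360) : n ≤ 10 := by
  by_contra hn
  have : 2 ^ 11 ∣ 9999360 := (pow_dvd_pow 2 (by omega)).trans (dvd_of_mul_right_dvd h)
  norm_num at this

/-- Let X be a section of the general linear group GL(5, 2), that is, a quotient of a subgroup of it. If X is isomorphic to PSL(2, 2^n) for some n ≥ 2, to a Suzuki group over the field with 2^(2m+1) elements for some m ≥ 1, or to PSU(3, 2^n) for some n ≥ 2, then X is isomorphic to PSL(2, 4). -/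
theorem result {H : Subgroup (GL (Fin 5) (ZMod 2))}
    {K : Subgroup ↥H} [K.Normal]
    (hX : (∃ (n : ℕ) (F : Type) (_ : Field F) (_ : Fintype F), 2 ≤ n ∧ Fintype.card F = 2 ^ n ∧
        Nonempty (↥H ⧸ K ≃* Matrix.ProjectiveSpecialLinearGroup (Fin 2) F)) ∨
      (∃ (m : ℕ) (F : Type) (_ : Field F) (_ : Fintype F), 1 ≤ m ∧ Fintype.card F = 2 ^ (2 * m + 1) ∧
        Nonempty (↥H ⧸ K ≃* ↥(Cfsg.Lie.Sz F (2 ^ (m + 1))))) ∨
      (∃ (n : ℕ) (F : Type) (_ : Field F) (_ : Fintype F), 2 ≤ n ∧ Fintype.card F = 4 ^ n ∧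
        Nonempty (↥H ⧸ K ≃* Cfsg.PSU 3 F (2 ^ n)))) :
    ∃ (F : Type) (_ : Field F) (_ : Fintype F), Fintype.card F = 4 ∧
      Nonempty (↥H ⧸ K ≃* Matrix.ProjectiveSpecialLinearGroup (Fin 2) F) := by
  have hd : Nat.card (↥H ⧸ K) ∣ 9999360 := cardGL ▸ (card_quotient_dvd_card K).trans (card_subgroup_dvd_card H)
  rcases hX with ⟨n, F, _, _, hn, hF, ⟨e⟩⟩ | ⟨m, F, _, _, hm, hF, ⟨e⟩⟩ | ⟨n, F, _, _, hn, hF, ⟨e⟩⟩
  · have h1 := H4.card_psl (F := F)
    have h2 : Nat.gcd 2 (2 ^ n - 1) = 1 := Nat.coprime_two_left.2 (Nat.Even.sub_odd Nat.one_le_two_pow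
      ((Nat.even_pow' (by omega)).2 even_two) odd_one)
    rw [hF, h2, one_mul, ← Nat.card_congr e.toEquiv] at h1
    rw [h1] at hd
    have := pow_le hd
    by_cases h3 : n = 3
    · subst h3
      have : CharP F 2 := charP_of_card_eq_prime_pow hF
      have h4 : 9 ∈ Set.range (orderOf : Matrix.ProjectiveSpecialLinearGroup (Fin 2) F → ℕ) := by
        rw [Cfsg.Agent.S2475.result 2 (by rw [hF]; norm_num), hF]
        norm_num
      obtain ⟨x, hx⟩ := h4
      obtain ⟨y, hy⟩ := QuotientGroup.mk_surjective (e.symm x)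
      refine (no_nine y ?_).elim
      rw [orderOf_coe, ← hx, ← e.symm.orderOf_eq, ← hy]
      exact orderOf_map_dvd (QuotientGroup.mk' K) y
    by_cases h4 : n = 2
    · exact ⟨F, _, _, by rw [hF, h4]; rfl, ⟨e⟩⟩
    interval_cases n <;> simp_all
  · rw [Nat.card_congr e.toEquiv, (Cfsg.Agent.S1163.result hm hF).1, ← pow_mul, mul_assoc] at hd
    have := pow_le hd
    have : m ≤ 2 := by omega
    interval_cases m <;> simp_all
  · have h1 := Cfsg.Agent.S0280.result (q := 2 ^ n) (by rw [hF, ← pow_mul, mul_comm, pow_mul]; rfl) 3 (by norm_num)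
    rw [← Nat.card_congr e.toEquiv] at h1
    have h2 := h1 ▸ mul_dvd_mul (Nat.gcd_dvd_left 3 (2 ^ n + 1)) (mul_dvd_mul_left (2 ^ n + 1) hd)
    have h3 : n ≤ 3 := by
      by_contra h
      have h4 : 2 ^ 11 ∣ 3 * ((2 ^ n + 1) * 9999360) :=
        (pow_dvd_pow 2 (by omega)).trans ((pow_mul 2 n _).symm ▸ dvd_of_mul_right_dvd h2)
      have h5 : Nat.Coprime (2 ^ 11) (2 ^ n + 1) := Nat.Coprime.pow_left _ (Nat.coprime_two_left.2
        (((Nat.even_pow' (by omega)).2 even_two).add_one))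
      have := h5.dvd_of_dvd_mul_left ((by norm_num : Nat.Coprime (2 ^ 11) 3).dvd_of_dvd_mul_left h4)
      norm_num at this
    interval_cases n <;> simp [Finset.prod_range_succ] at h2

end Cfsg.Agent.S3179
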