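import Cfsg.Statements.S3182
import Cfsg.Agent.H5.GC

set_option autoImplicit false
open Cfsg

namespace Cfsg.Agent.S3182

open H5 H5.Gd Subgroup
open H10 (IsSylowIn)

theorem mem_center_map {G : Type*} [Group G] {U : Subgroup G} {x : G}
    (h : x ∈ (center U).map U.subtype) : U ≤ centralizer {x} := by
  obtain ⟨y, hy, rfl⟩ := h
  exact fun u hu => mem_centralizer_singleton_iff.2 (congrArg Subtype.val (mem_center_iff.1 hy ⟨u, hu⟩))

/-- Simple groups with central Sylow 2-intersections. Let G be a non-abelian finite simple group in which the intersection of any two distinct Sylow 2-subgroups is contained in the centre of some Sylow 2-subgroup. Then G is isomorphic to PSL(2, q) for some prime power q ≡ 0, 3 or 5 mod 8; or G has abelian Sylow 2-subgroups and an involution t whose centralizer is a maximal subgroup of G and is the direct product of the subgroup generated by t with a subgroup E having a normal subgroup isomorphic to PSL(2, q), q odd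 and greater than 3, with trivial centralizer in E; or G is isomorphic to a Suzuki group Sz(2^(2m+1)) with m ≥ 1, or to PSU(3, 2^n) with n ≥ 2. -/
theorem result {G : Type*} [Group G] [Finite G] [IsSimpleGroup G]
    (hG : ¬ IsMulCommutative G)
    (hCI : ∀ S T : Sylow 2 G, S ≠ T → ∃ U : Sylow 2 G,
      (S : Subgroup G) ⊓ (T : Subgroup G) ≤ (Subgroup.center ↥(U : Subgroup G)).map (U : Subgroup G).subtype) :
    (∃ (F : Type) (_ : Field F) (_ : Fintype F),
        (Fintype.card F % 8 = 0 ∨ Fintype.card F % 8 = 3 ∨ Fintype.card F % 8 = 5) ∧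
        Nonempty (G ≃* Matrix.ProjectiveSpecialLinearGroup (Fin 2) F)) ∨
    ((∀ S : Sylow 2 G, IsMulCommutative ↥(S : Subgroup G)) ∧
      ∃ t : G, orderOf t = 2 ∧ IsCoatom (Subgroup.centralizer ({t} : Set G)) ∧
        ∃ E : Subgroup G, Cfsg.IsInternalDirectProduct (Subgroup.zpowers t) E (Subgroup.centralizer ({t} : Set G)) ∧
          ∃ (F : Type) (_ : Field F) (_ : Fintype F), Odd (Fintype.card F) ∧ 3 < Fintype.card F ∧
            ∃ N : Subgroup ↥E, N.Normal ∧ Nonempty (↥N ≃* Matrix.ProjectiveSpecialLinearGroup (Fin 2) F) ∧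
              Subgroup.centralizer (N : Set ↥E) = ⊥) ∨
    (∃ (m : ℕ) (F : Type) (_ : Field F) (_ : Fintype F), 1 ≤ m ∧ Fintype.card F = 2 ^ (2 * m + 1) ∧
        Nonempty (G ≃* ↥(Cfsg.Lie.Sz F (2 ^ (m + 1))))) ∨
    (∃ (n : ℕ) (F : Type) (_ : Field F) (_ : Fintype F), 2 ≤ n ∧ Fintype.card F = 4 ^ n ∧
        Nonempty (G ≃* Cfsg.PSU 3 F (2 ^ n))) := by
  obtain ⟨S⟩ : Nonempty (Sylow 2 G) := inferInstance
  have hS := H10.isSylowIn_top S
  rcases types_of_center ‹_› hG hS (fun a ha _ g hg => by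
    by_contra hx
    set x := g * a * g⁻¹
    have hR : IsPGroup 2 ((S : Subgroup G) ⊓ 𝒞₁(x) : Subgroup G) := S.isPGroup'.to_le inf_le_left
    obtain ⟨U, hU, k⟩ := H10.exists_isSylowIn_ge hR (inf_le_right : _ ≤ 𝒞₁(x))
    have hg' : cj g S ≤ 𝒞₁(x) := by
      rw [show 𝒞₁(x) = cj g 𝒞₁(a) from (cj_centralizer_singleton g a).symm]
      exact cj_mono fun s hs => mem_centralizer_singleton_iff.2 (ha.2 s hs)
    obtain ⟨U, rfl⟩ := (show IsSylowIn 2 U ⊤ from H10.isSylowIn_of_card_ge (hS.cj_top g)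
      hU.isPGroup le_top (hU.card_eq ((hS.cj_top g).of_le hg' le_top)).ge).exists_sylow_top
    have hne : S ≠ U := fun e => hx fun s hs =>
      mem_centralizer_singleton_iff.1 (hU.le (e ▸ hs))
    obtain ⟨W, hW⟩ := hCI S U hne
    set R := (S : Subgroup G) ⊓ 𝒞₁(x)
    have hWR : (W : Subgroup G) ≤ 𝒞(R) := fun w hw r hr =>
      (mem_centralizer_singleton_iff.1 (mem_center_map (hW ⟨hr.1, k hr⟩) hw)).symm
    have hlt : R < S := lt_of_le_of_ne inf_le_left fun e => hx fun s hs =>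
      mem_centralizer_singleton_iff.1 ((e.ge hs).2)
    obtain ⟨n, hn, hnR⟩ := SetLike.exists_of_lt (lt_inf_normalizer_of_lt S.isPGroup' hlt)
    have h1 : (S : Subgroup G) ⊓ 𝒩(R) ≤ 𝒞(R) :=
      by
      obtain ⟨c, hc, k⟩ := ((H10.isSylowIn_top W).of_le (hWR.trans (centralizer_le_normalizer _))
        le_top).exists_le_cj (S.isPGroup'.to_le inf_le_left) inf_le_right
      exact k.trans ((cj_mono hWR).trans
        (cj_eq_of_mem_normalizer (normalizer_le_normalizer_centralizer R hc)).le)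
    exact hnR ⟨hn.1, centralizer_le_singleton (show x ∈ R from ⟨hg, mem_C1.2 rfl⟩) (h1 hn)⟩) with h | h | h
  · rcases h.1.tri ‹_› hG with ⟨F, i, j, n, h1, h2, e⟩ | ⟨F, _, _, m, h1, h2, e⟩ | ⟨F, _, _, n, h1, h2, e⟩
    · refine Or.inl ⟨F, i, j, Or.inl ?_, e⟩
      obtain ⟨e⟩ := e
      obtain rfl | h3 := h1.eq_or_lt
      · have := H4.card_psl (F := F)
        have h8 := h.2
        rw [← Nat.card_congr e.toEquiv, h2] at this
        norm_num at this
        omega
      · obtain ⟨k, rfl⟩ := Nat.exists_eq_add_of_le (show 3 ≤ n from h3)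
        rw [h2, pow_add]
        omega
    · exact Or.inr (Or.inr (Or.inl ⟨m, F, _, _, h1, h2, e⟩))
    · exact Or.inr (Or.inr (Or.inr ⟨n, F, _, _, h1, by rw [h2, ← pow_mul, mul_comm, pow_mul]; rfl, e⟩))
  · obtain ⟨F, _, _, h1, -, e⟩ := H16.GD.l2d_of_td h
    exact Or.inl ⟨F, _, _, Or.inr h1, e⟩
  · refine Or.inr (Or.inl ⟨fun T => (h.elab ‹_› hG (H10.isSylowIn_top T)).1.1, ?_⟩)
    obtain ⟨t, ht⟩ := exists_prime_orderOf_dvd_card' (G := G) 2 h.even
    obtain ⟨E, L, k1, k2, k3, k4, k5, -, F, _, _, k6, k7, ⟨e⟩⟩ := h.choose_spec.2.2.2.2 t ht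
    have hE : E ≤ 𝒞₁(t) := k1 ▸ le_sup_left
    refine ⟨t, ht, h.coatom ‹_› hG ht, E, ⟨k1 ▸ le_sup_right, hE, fun a ha b hb => ?_, ?_,
      (sup_comm _ _).trans k1⟩, F, _, _, k6, k7, L.subgroupOf E,
      (normal_subgroupOf_iff_le_normalizer k3).2 k4, ⟨(subgroupOfEquivOfLe k3).trans e⟩, ?_⟩
    · exact (centralizer_zpowers t).ge (hE hb) a ha
    · refine (eq_bot_iff_forall _).2 fun a ha => (mem_zpowers_two ?_ ha.1).resolve_right fun k => k2 (k ▸ ha.2)
      rw [← pow_two, ← ht, pow_orderOf_eq_one]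
    · refine (eq_bot_iff_forall _).2 fun a ha => Subtype.ext (mem_bot.1 (k5 ▸ ⟨a.2, fun b hb => ?_⟩))
      exact congrArg Subtype.val (ha ⟨b, k3 hb⟩ hb)

end Cfsg.Agent.S3182
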