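import Cfsg.Statements.S3186
import Cfsg.Agent.H6.AI5
import Cfsg.Agent.S1169
import Cfsg.Agent.H17.GB4

set_option autoImplicit false
open Cfsg

namespace Cfsg.Agent.S3186

/-- Let G be a non-abelian finite simple group in which the intersection of any two distinct Sylow 2-subgroups is abelian. Then a Sylow 2-subgroup of G is either dihedral (of order at least 4) or of nilpotency class at most two (its derived subgroup is central). -/
theorem result {G : Type*} [Group G] [Finite G] [IsSimpleGroup G]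
    (hG : ¬ IsMulCommutative G)
    (hA : ∀ S T : Sylow 2 G, S ≠ T → IsMulCommutative ↥((S : Subgroup G) ⊓ (T : Subgroup G))) (S : Sylow 2 G) :
    (∃ m : ℕ, 2 ≤ m ∧ Nonempty (↥(S : Subgroup G) ≃* DihedralGroup m)) ∨
      commutator ↥(S : Subgroup G) ≤ Subgroup.center ↥(S : Subgroup G) := by
  have hS := H10.isSylowIn_top S
  by_cases c2 : ⁅(S : Subgroup G), (S : Subgroup G)⁆ ≤ Subgroup.centralizer (S : Set G)
  · refine Or.inr fun x hx => Subgroup.mem_center_iff.2 fun y => Subtype.ext (c2 ?_ y y.2)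
    exact (Subgroup.map_subtype_commutator _).le (Subgroup.mem_map_of_mem _ hx)
  refine Or.inl (H6.AI.Hy.dih ⟨fun T hT g hg => ?_, hS, fun B h1 h2 h3 => by_contra fun h0 => c2 ?_, ?_, c2⟩)
  · obtain ⟨U, hU⟩ := (hT.cj_top g).exists_sylow_top
    obtain ⟨T, rfl⟩ := hT.exists_sylow_top
    have := hA T U fun e => hg (hU.symm.trans (by rw [e]))
    rw [hU] at this
    exact H10.isMulCommutative_iff_le_CC.1 this
  · rcases S1169.result S B h0 (H10.isMulCommutative_iff_le_CC.2 h2) ⟨h1, h3⟩ with h | ⟨M, hM⟩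
    · exact (H5.commutator_le_of_le le_rfl le_rfl).trans (H10.isMulCommutative_iff_le_CC.1 h)
    · obtain ⟨V, K, W, t, b⟩ := H17.exists_bf_top hM hG (H5.Gd.hall_of_syl hS)
      exact b.der_le.trans b.VC
  · exact (Subgroup.Normal.eq_bot_or_eq_top inferInstance).resolve_left fun e =>
      hG ⟨⟨fun a b => commutatorElement_eq_one_iff_mul_comm.1 (Subgroup.mem_bot.1
        (e.le (Subgroup.commutator_mem_commutator trivial trivial)))⟩⟩

end Cfsg.Agent.S3186
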