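import Cfsg.Statements.S3188
import Cfsg.Agent.H26.AbS

set_option autoImplicit false
open Cfsg

namespace Cfsg.Agent.S3188


/-- Let G be a finite group with abelian Sylow 2-subgroups in which the centralizer of every involution is solvable. Then either G is solvable, or G modulo its largest normal subgroup of odd order has a normal subgroup isomorphic to PSL(2, q) with trivial centralizer (so that the quotient embeds in the automorphism group of PSL(2, q)), where q ≡ 3 or 5 mod 8 with q ≥ 5, or q = 2^n with n ≥ 2. -/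
theorem result {G : Type*} [Group G] [Finite G]
    (S : Sylow 2 G) (hS : IsMulCommutative ↥(S : Subgroup G))
    (hC : ∀ t : G, orderOf t = 2 → Group.IsSolvable ↥(Subgroup.centralizer ({t} : Set G))) :
    Group.IsSolvable G ∨
      ∃ (F : Type) (_ : Field F) (_ : Fintype F),
        (((Fintype.card F % 8 = 3 ∨ Fintype.card F % 8 = 5) ∧ 5 ≤ Fintype.card F) ∨
          (∃ n : ℕ, 2 ≤ n ∧ Fintype.card F = 2 ^ n)) ∧
        ∃ N : Subgroup (G ⧸ Cfsg.oddCore G), N.Normal ∧
          Nonempty (↥N ≃* Matrix.ProjectiveSpecialLinearGroup (Fin 2) F) ∧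
          Subgroup.centralizer (N : Set (G ⧸ Cfsg.oddCore G)) = ⊥ := by
  haveI := Fact.mk Nat.prime_two
  by_cases hs : Group.IsSolvable G
  · exact .inl hs
  right
  have hsurj := QuotientGroup.mk'_surjective (Cfsg.oddCore G)
  have hco := H1.coprime_card_pPrimeCore (G := G) 2
  haveI hO : Group.IsSolvable (Cfsg.oddCore G) := H1.ft_odd (Nat.coprime_two_right.1 hco)
  obtain ⟨N, h1, h2, h3⟩ := H26.Ab.core_free (G := G ⧸ Cfsg.oddCore G) (H1.pPrimeCore_quotient_pPrimeCore 2)
    (S.mapSurjective hsurj) ⟨⟨fun a b => Subtype.ext (by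
      obtain ⟨x, hx, e1⟩ := a.2
      obtain ⟨y, hy, e2⟩ := b.2
      have : x * y = y * x := congrArg Subtype.val (hS.1.1 (⟨x, hx⟩ : S) ⟨y, hy⟩)
      show a.1 * b.1 = b.1 * a.1
      rw [← e1, ← e2, ← map_mul, ← map_mul, this])⟩⟩ (fun t ht => by
      obtain ⟨x, hx, rfl⟩ := H9.exists_lift_orderOf (p := 2) (Cfsg.oddCore G) hco t ht
      have := H1.map_centralizer_mk' (Cfsg.oddCore G) (A := Subgroup.zpowers x)
        (by rw [Nat.card_zpowers, hx]; exact hco.symm) (.inr hO)
      rw [MonoidHom.map_zpowers, Subgroup.zpowers_eq_closure, Subgroup.zpowers_eq_closure,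
        Subgroup.centralizer_closure, Subgroup.centralizer_closure] at this
      haveI hh := hC x hx
      exact (show Group.IsSolvable (Subgroup.centralizer ({QuotientGroup.mk' (Cfsg.oddCore G) x} : Set _)) from
        this ▸ Group.isSolvable_of_surjective (MonoidHom.subgroupMap_surjective _ _)))
    fun k => hs (Group.isSolvable_of_ker_le_range (Cfsg.oddCore G).subtype (QuotientGroup.mk' (Cfsg.oddCore G)) (by simp))
  rcases h2 with ⟨F, _, _, n, a1, a2, e⟩ | ⟨F, _, _, a1, a2, e⟩
  · exact ⟨F, _, _, .inr ⟨n, by omega, a2⟩, N, h1, e, h3⟩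
  · exact ⟨F, _, _, .inl ⟨a1, by omega⟩, N, h1, e, h3⟩

end Cfsg.Agent.S3188
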