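import Cfsg.Statements.S3189
import Cfsg.Agent.H26.AbS
import Cfsg.Agent.S1227
import Cfsg.Agent.H10.RO5

set_option autoImplicit false
open Cfsg

namespace Cfsg.Agent.S3189


/-- Let G be a non-abelian finite simple group whose Sylow 2-subgroup S is elementary abelian of order 8, and suppose the centralizer of every involution of G is solvable. Then the normalizer of S modulo the centralizer of S has order 7. -/
theorem result {G : Type*} [Group G] [Finite G]
    [IsSimpleGroup G] (hG : ¬ IsMulCommutative G) (S : Sylow 2 G)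
    (hS : Cfsg.IsElementaryAbelian 2 (S : Subgroup G)) (hS8 : Nat.card ↥(S : Subgroup G) = 8)
    (hC : ∀ t : G, orderOf t = 2 → Group.IsSolvable ↥(Subgroup.centralizer ({t} : Set G))) :
    (Subgroup.centralizer ((S : Subgroup G) : Set G)).relIndex (Subgroup.normalizer ((S : Subgroup G) : Set G)) = 7 := by
  haveI := Fact.mk Nat.prime_two
  rcases H26.Ab.simple_case ‹_› hG S hS.1 hC with h | ⟨F, _, _, a1, -, ⟨e⟩⟩
  · have hb : (S : Subgroup G) ≠ ⊥ := fun k => by rw [k, Subgroup.card_bot] at hS8; omega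
    have hnn : ¬ (S : Subgroup G).Normal := fun k => by
      rcases k.eq_bot_or_eq_top with k | k
      · exact hb k
      · exact hG ⟨⟨fun a b => congrArg Subtype.val (hS.1.1.1 (⟨a, k.ge trivial⟩ : (S : Subgroup G)) ⟨b, k.ge trivial⟩)⟩⟩
    have hsq : ∀ x ∈ (S : Subgroup G), x ≠ 1 → orderOf x = 2 := fun x hx h1 =>
      orderOf_eq_prime (hS.2 x hx) h1
    have hnc : ¬ IsCyclic (S : Subgroup G) := fun ⟨g, hg⟩ => by
      have h1 := orderOf_eq_card_of_forall_mem_zpowers hg
      have h2 := orderOf_dvd_of_pow_eq_one (show g ^ 2 = 1 from Subtype.ext (hS.2 g g.2))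
      rw [h1, hS8] at h2
      omega
    obtain ⟨u, hu, huH⟩ : ∃ u : G, orderOf u = 2 ∧ u ∉ Subgroup.normalizer ((S : Subgroup G) : Set G) := by
      by_contra k
      push Not at k
      refine hnn ⟨fun x hx g => ?_⟩
      by_cases h1 : x = 1
      · simp [h1]
      have h2 : orderOf (g * x * g⁻¹) = 2 := by
        rw [← hsq x hx h1]; exact (MulAut.conj g).orderOf_eq x
      have h3 : IsPGroup 2 (Subgroup.zpowers (g * x * g⁻¹)) := IsPGroup.of_card (n := 1) (by rw [Nat.card_zpowers, h2]; rfl)
      have := h3.inf_normalizer_sylow S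
      exact (this.le ⟨Subgroup.mem_zpowers _, k _ h2⟩).2
    have h1 := (Cfsg.Agent.S1227.result S hnc hnn (fun t ht => ⟨⟨⟨fun a b => by
      have h1 := h.sq ht a.2
      have h2 := h.sq ht b.2
      have h3 := h.sq ht (a * b).2
      apply Subtype.ext
      show a.1 * b.1 = b.1 * a.1
      calc a.1 * b.1 = (b.1 * b.1) * (a.1 * b.1) * (a.1 * a.1) := by rw [h1, h2]; group
        _ = b.1 * (b.1 * a.1 * b.1 * a.1) * a.1 := by group
        _ = b.1 * a.1 := by
          have : b.1 * a.1 * b.1 * a.1 = 1 := by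
            calc _ = b.1 * ((a.1 * b.1) * (a.1 * b.1)) * b.1⁻¹ := by group
              _ = 1 := by rw [show (a.1 * b.1) * (a.1 * b.1) = 1 from h3]; group
          rw [this, mul_one]⟩⟩, fun c hc => by rw [pow_two]; exact h.sq ht hc⟩) u hu huH).2.1
    have h2 : Subgroup.centralizer ((S : Subgroup G) : Set G) = S := by
      obtain ⟨⟨t, ht⟩, h0⟩ := (Subgroup.ne_bot_iff_exists_ne_one.1 hb)
      refine S.is_maximal' ((h.pg (hsq t ht fun k => h0 (Subtype.ext k))).to_le
        (Subgroup.centralizer_le (Set.singleton_subset_iff.2 ht))) (H10.isMulCommutative_iff_le_CC.1 hS.1)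
    have h3 := Subgroup.card_mul_index ((S : Subgroup G).subgroupOf (Subgroup.normalizer ((S : Subgroup G) : Set G)))
    rw [Nat.card_congr (Subgroup.subgroupOfEquivOfLe Subgroup.le_normalizer).toEquiv, h1, hS8] at h3
    rw [h2, Subgroup.relIndex]
    omega
  · exact absurd (hS8 ▸ Nat.card_congr e.toEquiv ▸ (S : Subgroup G).card_subgroup_dvd_card) (H10.not_eight_dvd_psl a1)

end Cfsg.Agent.S3189
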