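import Cfsg.Statements.S3192
import Cfsg.Agent.H26.CR2
import Cfsg.Agent.H25.EO1

set_option autoImplicit false
open Cfsg

namespace Cfsg.Agent.S3192


/-- Simple groups of conjugate type rank three. For a finite group G consider the set of indices of the centralizers of the non-central elements of G. Then G is a non-abelian simple group for which this set has exactly three members if and only if G is isomorphic to PSL(2, 2^m) for some m ≥ 2. -/
theorem result (G : Type*) [Group G] [Finite G] :
    (IsSimpleGroup G ∧ ¬ IsMulCommutative G ∧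
        Set.ncard {m : ℕ | ∃ x : G, x ∉ Subgroup.center G ∧ m = (Subgroup.centralizer ({x} : Set G)).index} = 3) ↔
      ∃ (m : ℕ) (F : Type) (_ : Field F) (_ : Fintype F), 2 ≤ m ∧ Fintype.card F = 2 ^ m ∧
        Nonempty (G ≃* Matrix.ProjectiveSpecialLinearGroup (Fin 2) F) := by
  refine ⟨fun ⟨h1, h2, h3⟩ => H26.CS.three h2 h3.le, ?_⟩
  rintro ⟨m, F, _, _, hm, hF, ⟨e⟩⟩
  have h4 : 4 ≤ Fintype.card F := hF ▸ Nat.pow_le_pow_right (n := 2) (i := 2) two_pos hm
  haveI := H22.PSL_fin_isSimpleGroup (F := F) 2 le_rfl fun _ => h4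
  haveI := e.isSimpleGroup
  refine ⟨this, fun hc => H25.EO.psl_not_solv (F := F) h4 ?_,
    H26.CS.sizes_even e (hF ▸ dvd_pow_self 2 (by omega)) h4⟩
  haveI : Group.IsSolvable G := IsSimpleGroup.comm_iff_isSolvable.1 hc.is_comm.comm
  exact Group.isSolvable_of_isSolvable_injective (f := e.symm.toMonoidHom) e.symm.injective

end Cfsg.Agent.S3192
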