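import Mathlib
import Cfsg.Statements.S3197
import Cfsg.Agent.H8.GoldA
import Cfsg.Agent.H8.UT4

set_option autoImplicit false
open Cfsg

namespace Cfsg.Agent.S3197

open H8 H8.UT4 Subgroup H16

theorem a5c : ∀ x : Equiv.Perm (Fin 5), Equiv.Perm.sign x = 1 → x * x = 1 → x ≠ 1 →
    ∃ g : Equiv.Perm (Fin 5), Equiv.Perm.sign g = 1 ∧ g * (Equiv.swap 0 1 * Equiv.swap 2 3) = x * g := by
  decide +kernel

theorem a5conj {x y : alternatingGroup (Fin 5)} (hx : x * x = 1) (hy : y * y = 1) (x1 : x ≠ 1) (y1 : y ≠ 1) :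
    ∃ g, g * x * g⁻¹ = y := by
  obtain ⟨g, a, b⟩ := a5c x x.2 (congrArg Subtype.val hx) fun c => x1 (Subtype.ext c)
  obtain ⟨h, c, d⟩ := a5c y y.2 (congrArg Subtype.val hy) fun c => y1 (Subtype.ext c)
  refine ⟨⟨h, c⟩ * ⟨g, a⟩⁻¹, Subtype.ext ?_⟩
  change h * g⁻¹ * x * (h * g⁻¹)⁻¹ = y
  calc _ = h * g⁻¹ * (x * g) * h⁻¹ := by group
    _ = y * h * h⁻¹ := by rw [← b, ← d]; group
    _ = _ := by group

theorem cardA5 : Nat.card (alternatingGroup (Fin 5)) = 60 := by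
  rw [nat_card_alternatingGroup, Nat.card_eq_fintype_card, Fintype.card_fin]; decide

theorem fpf {A : Type*} [Group A] [Finite A] (hA : Nat.card A = 16) {φ : MulAut A} (h5 : φ ^ 5 = 1) {a : A}
    (a1 : a ≠ 1) (h : φ a = a) : φ = 1 := by
  have : Fact (Nat.Prime 5) := ⟨by norm_num⟩
  have p : IsPGroup 5 (zpowers φ) := by
    rintro ⟨_, n, rfl⟩
    refine ⟨1, Subtype.ext ?_⟩
    change (φ ^ n) ^ 5 ^ 1 = 1
    rw [pow_one, ← zpow_natCast, ← zpow_mul, mul_comm, zpow_mul, zpow_natCast, h5, one_zpow]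
  have m := p.card_modEq_card_fixedPoints A
  let C : Subgroup A := φ.toMonoidHom.eqLocus (MonoidHom.id A)
  have e : MulAction.fixedPoints (zpowers φ) A = (C : Set A) := by
    ext x
    refine ⟨fun hx => hx ⟨φ, mem_zpowers φ⟩, fun hx g => ?_⟩
    exact (show zpowers φ ≤ MulAction.stabilizer (MulAut A) x from zpowers_le.2 hx) g.2
  rw [e, hA] at m
  have d : Nat.card C ∣ 16 := hA ▸ card_subgroup_dvd_card C
  have n : Nat.card C ≠ 1 := fun c => a1 (mem_bot.1 (card_eq_one.1 c ▸ (h : a ∈ C)))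
  have : Nat.card C = 16 := by
    have l := Nat.le_of_dvd (by norm_num) d
    change 16 % 5 = Nat.card C % 5 at m
    generalize Nat.card C = k at *
    interval_cases k <;> first | rfl | omega
  have t : C = ⊤ := (card_eq_iff_eq_top C).1 (this.trans hA.symm)
  ext x
  exact (t ▸ mem_top x : x ∈ C)

theorem result {G : Type*} [Group G] [Finite G]
    (S : Sylow 2 G) (P : Sylow 2 ↥(alternatingGroup (Fin 8)))
    (hS : Nonempty (↥(S : Subgroup G) ≃* ↥(P : Subgroup ↥(alternatingGroup (Fin 8)))))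
    (h3 : Nat.card {c : ConjClasses G // ∃ x ∈ c.carrier, orderOf x = 2} = 3)
    (A : Subgroup G) (hA : Cfsg.IsElementaryAbelian 2 A) (hA16 : Nat.card ↥A = 16)
    (N : Subgroup G) (hN : N = Subgroup.normalizer (A : Set G))
    (hNA : ∃ (_ : (A.subgroupOf N ⊔ Cfsg.oddCore ↥N).Normal),
      Nonempty (↥N ⧸ (A.subgroupOf N ⊔ Cfsg.oddCore ↥N) ≃* ↥(alternatingGroup (Fin 5)))) :
    (A ⊔ Cfsg.oddCore G).Normal := by
  have := Fact.mk Nat.prime_two
  subst hN
  obtain ⟨_, ⟨e⟩⟩ := hNA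
  set A' := A.subgroupOf N[A] ⊔ oddCore N[A] with hA'
  let π : N[A] →* alternatingGroup (Fin 5) := e.toMonoidHom.comp (QuotientGroup.mk' A')
  have πs : Function.Surjective π := e.surjective.comp (QuotientGroup.mk'_surjective _)
  have πk : ∀ x, π x = 1 ↔ x ∈ A' := fun x => by
    change e (x : N[A] ⧸ A') = 1 ↔ _
    rw [map_eq_one_iff _ e.injective, QuotientGroup.eq_one_iff]
  have pA : IsPGroup 2 A := IsPGroup.of_card (n := 4) hA16
  obtain ⟨T, hT⟩ := pA.exists_le_sylow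
  let e0 := ((Sylow.equiv T S).trans (hS.some.trans (iso P).some)).symm
  let ι : U →* G := (T : Subgroup G).subtype.comp e0.toMonoidHom
  have hι : Function.Injective ι := Subtype.val_injective.comp e0.injective
  have ιT : ∀ u, ι u ∈ (T : Subgroup G) := fun u => (e0 u).2
  have Tι : ∀ t ∈ (T : Subgroup G), ∃ u, ι u = t := fun t ht => by
    obtain ⟨u, hu⟩ := e0.surjective ⟨t, ht⟩
    exact ⟨u, congrArg Subtype.val hu⟩
  have ac : ∀ a ∈ A, ∀ b ∈ A, a * b = b * a := fun a ha b hb =>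
    congrArg Subtype.val (hA.1.is_comm.comm ⟨a, ha⟩ ⟨b, hb⟩)
  have mA : ∀ u, ι u ∈ A ↔ rho u = 1 := by
    have l : A ≤ ι.range := fun a ha => Tι a (hT ha)
    have : A.comap ι = rho.ker := uniq ⟨⟨fun a b => Subtype.ext (hι (by
        rw [coe_mul, coe_mul, map_mul, map_mul]; exact ac _ a.2 _ b.2))⟩⟩
      (by rw [← card_map_of_injective hι, map_comap_eq_self l, hA16])
    intro u
    rw [← mem_comap, this, MonoidHom.mem_ker]
  have TN : (T : Subgroup G) ≤ N[A] := le_norm_iff.2 fun t ht a ha => by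
    obtain ⟨t, rfl⟩ := Tι t ht
    obtain ⟨a, rfl⟩ := Tι a (hT ha)
    rw [← map_inv, ← map_mul, ← map_mul, mA, map_mul, map_mul, (mA a).1 ha]; simp
  have oO : ∀ o ∈ oddCore N[A], Odd (orderOf o) := fun o ho =>
    (Nat.coprime_two_right.1 (H1.coprime_card_pPrimeCore 2)).of_dvd_nat (orderOf_dvd_natCard _ ho)
  have triv : ∀ o ∈ oddCore N[A], (o : G) ∈ (T : Subgroup G) → o = 1 := fun o ho h => by
    obtain ⟨k, hk⟩ := IsPGroup.iff_orderOf.1 T.isPGroup' ⟨o, h⟩
    have := oO o ho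
    rw [← orderOf_coe, ← orderOf_mk _ h, hk] at this
    rcases k with _ | k
    · rw [← orderOf_eq_one_iff, ← orderOf_coe, ← orderOf_mk _ h, hk, pow_zero]
    · exact absurd this (Nat.not_odd_iff_even.2 (even_two.pow_of_ne_zero k.succ_ne_zero))
  haveI : (A.subgroupOf N[A]).Normal := normal_in_normalizer
  have oc : ∀ o ∈ oddCore N[A], ∀ a ∈ A, a * o = o * a := fun o ho a ha =>
    congrArg Subtype.val (commute_of_normal_of_disjoint (A.subgroupOf N[A]) (oddCore N[A]) inferInstance inferInstance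
      (disjoint_def.2 fun h1 h2 => triv _ h2 (hT h1)) ⟨a, le_norm A ha⟩ o ha ho).eq
  have dec : ∀ x ∈ A', ∃ a ∈ A, ∃ o ∈ oddCore N[A], a * o = (x : G) := fun x hx => by
    obtain ⟨a, ha, o, ho, rfl⟩ := mem_sup_of_normal_right.1 hx
    exact ⟨a, ha, o, ho, rfl⟩
  have A'C : ∀ x ∈ A', (x : G) ∈ C[A] := fun x hx => by
    obtain ⟨a, ha, o, ho, h⟩ := dec x hx
    rw [← h]
    exact mul_mem (mem_cent.2 fun b hb => ac b hb a ha) (mem_cent.2 fun b hb => oc o ho b hb)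
  have TA : ∀ x : N[A], (x : G) ∈ (T : Subgroup G) → π x = 1 → (x : G) ∈ A := fun x hx h => by
    obtain ⟨a, ha, o, ho, h⟩ := dec x ((πk x).1 h)
    have : (o : G) ∈ (T : Subgroup G) := ((T : Subgroup G).mul_mem_cancel_left (hT ha)).1 (h ▸ hx)
    rw [← h, triv o ho this]; simpa using ha
  have nrm : ∀ M : Subgroup N[A], M.Normal → (∀ x ∈ M, π x = 1) ∨ M.map π = ⊤ := fun M hM =>
    ((hM.map π πs).eq_bot_or_eq_top).imp_left fun h x hx => mem_bot.1 (h.le (mem_map_of_mem π hx))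
  have CA' : ∀ x : N[A], (x : G) ∈ C[A] → π x = 1 := by
    refine (nrm (C[A].subgroupOf N[A]) (normal_subgroupOf_of_le_normalizer (norm_cent le_rfl))).resolve_right ?_
    intro h
    obtain ⟨a, ha, x, hx⟩ := ncent
    obtain ⟨y, hy, e⟩ := (h ▸ mem_top (π ⟨ι x, TN (ιT x)⟩) : _ ∈ (C[A].subgroupOf N[A]).map π)
    have : y⁻¹ * ⟨ι x, TN (ιT x)⟩ ∈ A' := (πk _).1 (by rw [map_mul, map_inv, e, inv_mul_cancel])
    have c : ι x ∈ C[A] := (C[A].mul_mem_cancel_left (inv_mem hy)).1 (A'C _ this)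
    exact hx (hι (by rw [map_mul, map_mul, mem_cent.1 c _ ((mA a).2 ha)]))
  have cl1 : ∀ s ∈ (T : Subgroup G), ∀ t ∈ (T : Subgroup G), s ∉ A → t ∉ A → s * s = 1 → t * t = 1 → IsConj s t := by
    intro s hs t ht sA tA s2 t2
    obtain ⟨g, hg⟩ := a5conj (x := π ⟨s, TN hs⟩) (y := π ⟨t, TN ht⟩)
      (by rw [← map_mul]; exact (congrArg π (Subtype.ext s2)).trans (map_one π))
      (by rw [← map_mul]; exact (congrArg π (Subtype.ext t2)).trans (map_one π))
      (fun c => sA (TA _ hs c)) (fun c => tA (TA _ ht c))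
    obtain ⟨n, rfl⟩ := πs g
    obtain ⟨a, ha, o, ho, h⟩ := dec (n * ⟨s, TN hs⟩ * n⁻¹ * ⟨t, TN ht⟩⁻¹)
      ((πk _).1 (by rw [map_mul, map_mul, map_mul, map_inv, map_inv, hg, mul_inv_cancel]))
    change a * o = n * s * (n : G)⁻¹ * t⁻¹ at h
    have h' : n * s * (n : G)⁻¹ = a * o * t := by rw [h]; group
    have q : a * o * t * (a * o * t) = 1 := by
      rw [← h']
      calc _ = n * (s * s) * (n : G)⁻¹ := by group
        _ = 1 := by rw [s2]; group
    have ti : t⁻¹ = t := inv_eq_of_mul_eq_one_right t2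
    have o' := (inferInstance : (oddCore N[A]).Normal).conj_mem o ho ⟨t, TN ht⟩
    have a' := conj_mem (TN ht) ha
    have inv : o * (t * o * t⁻¹) = 1 := by
      have k : (o : G) * (t * o * t⁻¹) = (t * a * t⁻¹)⁻¹ * a⁻¹ := by
        have c := oc o ho _ a'
        calc _ = (t * a * t⁻¹)⁻¹ * a⁻¹ * (a * (t * a * t⁻¹ * o) * (t * o * t⁻¹)) := by group
          _ = (t * a * t⁻¹)⁻¹ * a⁻¹ * (a * o * t * (a * o * t⁻¹)) := by rw [c]; group
          _ = _ := by rw [ti, q, mul_one]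
      exact congrArg Subtype.val (triv _ (mul_mem ho o') (hT (show (o : G) * (t * o * t⁻¹) ∈ A from k ▸ mul_mem (inv_mem a') (inv_mem ha))))
    obtain ⟨k, hk⟩ := oO o ho
    have ok : (o : G) ^ (k + 1) * o ^ (k + 1) = o := by
      rw [← pow_add, show k + 1 + (k + 1) = 2 * k + 1 + 1 by ring, pow_succ, ← hk, ← orderOf_coe,
        pow_orderOf_eq_one, one_mul]
    have tk : t * ((o : G) ^ (k + 1))⁻¹ = o ^ (k + 1) * t := by
      have : t * (o : G)⁻¹ * t⁻¹ = o := by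
        calc _ = (t * o * t⁻¹)⁻¹ := by group
          _ = _ := by rw [eq_inv_of_mul_eq_one_right inv, inv_inv]
      have h2 : (t * (o : G)⁻¹ * t⁻¹) ^ (k + 1) = (o : G) ^ (k + 1) := by rw [this]
      rw [conj_pow, inv_pow] at h2
      exact mul_inv_eq_iff_eq_mul.1 h2
    have fin : (o : G) ^ (k + 1) * (a * t) * ((o : G) ^ (k + 1))⁻¹ = n * s * (n : G)⁻¹ := by
      have c : Commute a ((o : G) ^ (k + 1)) := (show Commute a o from oc o ho a ha).pow_right _
      rw [h', ← mul_assoc, ← c.eq, mul_assoc, mul_assoc, tk, ← mul_assoc ((o : G) ^ (k + 1)), ok, mul_assoc]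
    have c1 : IsConj s (a * t) := (isConj_iff.2 ⟨(n : G), rfl⟩).trans (isConj_iff.2 ⟨_, fin⟩).symm
    have a2 : a * t * (a * t) = 1 := by
      obtain ⟨c, hc⟩ := isConj_iff.1 c1
      rw [← hc]
      calc _ = c * (s * s) * c⁻¹ := by group
        _ = 1 := by rw [s2]; group
    obtain ⟨t, rfl⟩ := Tι t ht
    obtain ⟨a, rfl⟩ := Tι a (hT ha)
    obtain ⟨b, -, hb⟩ := coset (a * t) t (hι (by simpa using a2)) (hι (by simpa using t2))
      (fun c => tA ((mA t).2 c)) (by rw [map_mul, (mA a).1 ha, one_mul])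
    exact c1.trans (isConj_iff.2 ⟨ι b, by rw [← map_mul, ← map_inv, ← map_mul, ← map_mul, hb]⟩)
  letI : MulAction N[A] A := MulAction.compHom A A.normalizerMonoidHom
  have sm : ∀ (n : N[A]) (a : A), ((n • a : A) : G) = n * a * (n : G)⁻¹ := fun _ _ => rfl
  have ten : ∀ a : A, a ≠ 1 → ¬ IsConj (a : G) (ι ⟨0, 0, 1, 0, 0, 0⟩) → 10 ≤ (MulAction.orbit N[A] a).ncard := by
    intro a a1 hz
    rw [← MulAction.index_stabilizer]
    set M := MulAction.stabilizer N[A] a with hM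
    have mM : ∀ n, n ∈ M ↔ (n : G) ∈ C1[(a : G)] := fun n => by
      rw [MulAction.mem_stabilizer_iff, Subtype.ext_iff, sm, mem_cent1, mul_inv_eq_iff_eq_mul]
    have d5 : 5 ∣ M.index := by
      by_contra c
      have : Fact (Nat.Prime 5) := ⟨by norm_num⟩
      have i := index_map_eq M πs fun x hx => (mM x).2 (cent_le_cent1 a.2 (A'C x ((πk x).1 hx)))
      have k := (M.map π).card_mul_index
      rw [cardA5, i] at k
      obtain ⟨⟨_, g, hg, rfl⟩, h5⟩ := exists_prime_orderOf_dvd_card' (G := M.map π) 5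
        (((Nat.Prime.dvd_mul this.out).1 (k ▸ (by norm_num : 5 ∣ 60))).resolve_right c)
      replace h5 : orderOf (π g) = 5 := (orderOf_coe _).trans h5
      have k1 : ∀ x : N[A], A.normalizerMonoidHom x = 1 ↔ (x : G) ∈ C[A] := fun x => by
        rw [← MonoidHom.mem_ker, normalizerMonoidHom_ker, mem_subgroupOf]
      have := fpf hA16 (φ := A.normalizerMonoidHom g)
        (by rw [← map_pow, k1]; exact A'C _ ((πk _).1 ((map_pow π g 5).trans (orderOf_dvd_iff_pow_eq_one.1 h5.dvd)))) a1 hg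
      rw [CA' g ((k1 g).1 this), orderOf_one] at h5
      omega
    have d2 : 2 ∣ M.index := by
      by_contra c
      obtain ⟨Q, hQ⟩ := sy_exists 2 (N[A] ⊓ C1[(a : G)])
      have i : (N[A] ⊓ C1[(a : G)]).relIndex N[A] = M.index := by
        rw [inf_relIndex_left, relIndex]; congr 1; ext x; rw [mM, mem_subgroupOf]
      have s1 : Sy[2] Q N[A] := sy_mk (hQ.1.trans inf_le_left) hQ.2.1 (by
        rw [← relIndex_mul_relIndex Q _ _ hQ.1 inf_le_left, i, Nat.prime_two.dvd_mul, not_or]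
        exact ⟨sy_not_dvd hQ Nat.prime_two, c⟩)
      obtain ⟨n, hn, h⟩ := sy_conj s1 (hl_of_le (sy_top_of_sylow T) TN le_top)
      obtain ⟨u, hu⟩ := Tι _ (hT (conj_mem hn a.2))
      have := cen u fun y => hι (by
        have : ι y ∈ C1[n * a * n⁻¹] := by
          rw [cent1_cj]; exact cj_mono n (hQ.1.trans inf_le_right) (h ▸ ιT y)
        rw [map_mul, map_mul, hu, mem_cent1.1 this])
      rcases this with rfl | rfl
      · rw [map_one, eq_comm, H16.conj_eq_one_iff] at hu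
        exact a1 (Subtype.ext hu)
      · exact hz (isConj_iff.2 ⟨n, hu.symm⟩)
    exact Nat.le_of_dvd (Nat.pos_of_ne_zero M.index_ne_zero_of_finite)
      (Nat.Coprime.mul_dvd_of_dvd_of_dvd (by norm_num : Nat.Coprime 2 5) d2 d5)
  have cl2 : ∀ a b : A, a ≠ 1 → b ≠ 1 → ¬ IsConj (a : G) (ι ⟨0, 0, 1, 0, 0, 0⟩) →
      ¬ IsConj (b : G) (ι ⟨0, 0, 1, 0, 0, 0⟩) → IsConj (a : G) b := by
    intro a b a1 b1 ha hb
    by_contra c
    have dj : Disjoint (MulAction.orbit N[A] a) (MulAction.orbit N[A] b) := by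
      refine Set.disjoint_left.2 ?_
      rintro _ ⟨n, rfl⟩ ⟨m, hm⟩
      have hm' : (m : G) * b * (m : G)⁻¹ = n * a * (n : G)⁻¹ := congrArg Subtype.val hm
      exact c ((isConj_iff.2 ⟨(n : G), rfl⟩).trans (isConj_iff.2 ⟨(m : G), hm'⟩).symm)
    have l := Set.ncard_le_card (MulAction.orbit N[A] a ∪ MulAction.orbit N[A] b)
    rw [Set.ncard_union_eq dj, hA16] at l
    have := ten a a1 ha
    have := ten b b1 hb
    omega
  have h0 : H10.SA (T : Subgroup G) A := by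
    refine ⟨H10.isSylowIn_top T, hT, H16.comm_iff.1 hA.1, fun x hx g ht => by_contra fun tA => ?_⟩
    have t2 : g * x * g⁻¹ * (g * x * g⁻¹) = 1 := by rw [← sq, conj_pow, hA.2 x hx]; group
    have all : ∀ w : G, orderOf w = 2 → ∃ a : A, a ≠ 1 ∧ IsConj w a := by
      intro w hw
      have w2 : w * w = 1 := by rw [← sq, ← hw, pow_orderOf_eq_one]
      obtain ⟨c, -, hc⟩ := sy_conj_le (sy_top_of_sylow T) (le_top (a := zpowers w))
        (pg_iff.2 (IsPGroup.of_card (n := 1) (by rw [Nat.card_zpowers, hw]; rfl)))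
      have m := hc (cj_mem (mem_zpowers w))
      have k : ∀ a : A, IsConj w a → a ≠ 1 := by
        rintro _ h rfl
        rw [isConj_one_left.1 h, orderOf_one] at hw
        omega
      by_cases d : c * w * c⁻¹ ∈ A
      · exact ⟨⟨_, d⟩, k _ (isConj_iff.2 ⟨c, rfl⟩), isConj_iff.2 ⟨c, rfl⟩⟩
      · have := ((isConj_iff.2 ⟨c, rfl⟩).trans (cl1 _ m _ ht d tA
          (by rw [← sq, conj_pow, sq, w2]; group) t2)).trans (isConj_iff.2 ⟨g, rfl⟩).symm
        exact ⟨⟨x, hx⟩, k _ this, this⟩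
    obtain ⟨y, hy⟩ : ∃ y : G, ∀ a : A, a ≠ 1 → IsConj (a : G) (ι ⟨0, 0, 1, 0, 0, 0⟩) ∨ IsConj (a : G) y := by
      by_cases c : ∃ b : A, b ≠ 1 ∧ ¬ IsConj (b : G) (ι ⟨0, 0, 1, 0, 0, 0⟩)
      · obtain ⟨b, b1, hb⟩ := c
        exact ⟨b, fun a a1 => or_iff_not_imp_left.2 fun ha => cl2 a b a1 b1 ha hb⟩
      · push Not at c
        exact ⟨1, fun a a1 => .inl (c a a1)⟩
    have l : Nat.card {c : ConjClasses G // ∃ x ∈ c.carrier, orderOf x = 2} ≤
        Nat.card ({ConjClasses.mk (ι ⟨0, 0, 1, 0, 0, 0⟩), ConjClasses.mk y} : Set (ConjClasses G)) := by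
      refine Nat.card_le_card_of_injective (fun c => ⟨c.1, ?_⟩) fun a b h => Subtype.ext (Subtype.mk.inj h)
      obtain ⟨c, w, hw, ho⟩ := c
      obtain ⟨a, a1, ha⟩ := all w ho
      rw [ConjClasses.mem_carrier_iff_mk_eq] at hw
      subst hw
      exact (hy a a1).imp (fun h => ConjClasses.mk_eq_mk_iff_isConj.2 (ha.trans h))
        fun h => ConjClasses.mk_eq_mk_iff_isConj.2 (ha.trans h)
    rw [h3, Nat.card_coe_set_eq] at l
    have := (Set.ncard_insert_le (ConjClasses.mk (ι ⟨0, 0, 1, 0, 0, 0⟩)) {ConjClasses.mk y})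
    rw [Set.ncard_singleton] at this
    omega
  set K := normalClosure (A : Set G) with hK
  have AK : A ≤ K := le_normalClosure
  have TK : (T : Subgroup G) ⊓ K = A := by
    refine le_antisymm (fun x hx => ?_) (le_inf hT AK)
    obtain ⟨u, rfl⟩ := Tι x hx.1
    have k : ι (u * (rho u)⁻¹) ∈ A := by rw [mA, map_mul, map_inv, (rho_sq u).2, mul_inv_cancel]
    have m : ι (rho u) ∈ K := by
      have := K.mul_mem (K.inv_mem (AK k)) hx.2
      simpa using this
    have := sc_inv h0 (ιT _) m (by rw [← map_mul, (rho_sq u).1, map_one])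
    rwa [mA, (rho_sq u).2, ← mA] at this
  have sy : Sy[2] A K := TK ▸ hl_inf (sy_top_of_sylow T) le_top le_normalizer_of_normal
  refine normal_sup_of_le (burn sy fun n hn => ?_)
  rcases nrm (K.subgroupOf N[A]) inferInstance with h | h
  · exact A'C ⟨n, hn.2⟩ ((πk _).1 (h _ hn.1))
  · exfalso
    obtain ⟨a, ha, x, hx⟩ := ncent
    have s2 : Sy[2] ((T : Subgroup G) ⊓ (K ⊓ N[A])) (K ⊓ N[A]) :=
      hl_inf (sy_top_of_sylow T) le_top (norm_inf le_normalizer_of_normal (TN.trans (le_norm _)))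
    obtain ⟨y, hy, e⟩ := (h ▸ mem_top (π ⟨ι x, TN (ιT x)⟩) : _ ∈ (K.subgroupOf N[A]).map π)
    haveI : (A.subgroupOf (K ⊓ N[A])).Normal := normal_subgroupOf_of_le_normalizer inf_le_right
    have om : Odd (A.relIndex (K ⊓ N[A])) := Nat.not_even_iff_odd.1 fun c =>
      sy_not_dvd (hl_of_le sy (le_inf AK (le_norm A)) inf_le_left) Nat.prime_two c.two_dvd
    have p1 : (y : G) ^ A.relIndex (K ⊓ N[A]) ∈ A :=
      pow_index_mem (H := A.subgroupOf (K ⊓ N[A])) (⟨y, hy, y.2⟩ : ↥(K ⊓ N[A]))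
    have p2 : π y ^ A.relIndex (K ⊓ N[A]) = 1 := by
      rw [← map_pow, πk]; exact mem_sup_left p1
    obtain ⟨k, hk⟩ := IsPGroup.iff_orderOf.1 (T.isPGroup'.of_equiv e0.symm) x
    have p3 : π y ^ 2 ^ k = 1 := by
      rw [e, ← map_pow]
      exact (congrArg π (Subtype.ext (by
        change ι x ^ 2 ^ k = 1
        rw [← map_pow, ← hk, pow_orderOf_eq_one, map_one]))).trans (map_one π)
    have p4 := pow_gcd_eq_one.2 ⟨p2, p3⟩
    rw [(Nat.coprime_two_right.2 om).pow_right k, pow_one, e] at p4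
    exact hx (hι (by rw [map_mul, map_mul, ac _ (TA _ (ιT x) p4) _ ((mA a).2 ha)]))

end Cfsg.Agent.S3197
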