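import Cfsg.Statements.S3206
import Cfsg.Agent.H5.JR
import Cfsg.Agent.H5.OutSolv

set_option autoImplicit false
open Cfsg

namespace Cfsg.Agent.S3206

/-- Let G be a non-abelian finite simple group with abelian Sylow 2-subgroups, and let t be an involution of G whose centralizer is a maximal subgroup of G and is the direct product of the subgroup generated by t with a subgroup E having a normal subgroup isomorphic to PSL(2, q), q odd and greater than 3, with trivial centralizer in E. Then every finite perfect group having a central 2-subgroup with quotient isomorphic to G has that central subgroup trivial (G has no nontrivial perfect central extension by a 2-group), and every automorphism of G of 2-power order that fixes every element of some Sylow 2-subgroup of G is inner. -/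
theorem result {G : Type*} [Group G] [Finite G] [IsSimpleGroup G]
    (hG : ¬ IsMulCommutative G) (hab : ∀ S : Sylow 2 G, IsMulCommutative ↥(S : Subgroup G))
    (t : G) (ht : orderOf t = 2) (hmax : IsCoatom (Subgroup.centralizer ({t} : Set G)))
    (E : Subgroup G) (hE : Cfsg.IsInternalDirectProduct (Subgroup.zpowers t) E (Subgroup.centralizer ({t} : Set G)))
    {F : Type*} [Field F] [Fintype F] (hFo : Odd (Fintype.card F)) (hF3 : 3 < Fintype.card F)
    (N : Subgroup ↥E) [N.Normal] (hN : Nonempty (↥N ≃* Matrix.ProjectiveSpecialLinearGroup (Fin 2) F))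
    (hNc : Subgroup.centralizer (N : Set ↥E) = ⊥) :
    (∀ (L : Type) (_ : Group L) (_ : Finite L) (Z : Subgroup L) (_ : Z.Normal), commutator L = ⊤ → Z ≤ Subgroup.center L →
        IsPGroup 2 ↥Z → Nonempty (L ⧸ Z ≃* G) → Z = ⊥) ∧
    (∀ (φ : G ≃* G) (k : ℕ), φ ^ (2 ^ k) = 1 → (∃ S : Sylow 2 G, ∀ s ∈ (S : Subgroup G), φ s = s) →
        ∃ g : G, ∀ x : G, φ x = g * x * g⁻¹) := by
  obtain ⟨e⟩ := hN
  obtain ⟨h1, h2, h3, h4, h5⟩ := hE
  have ht2 : IsPGroup 2 (Subgroup.zpowers t) :=
    IsPGroup.of_card (n := 1) (by rw [Nat.card_zpowers, ht]; rfl)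
  obtain ⟨S, hS⟩ := ht2.exists_le_sylow
  have htS : t ∈ (S : Subgroup G) := hS (Subgroup.mem_zpowers t)
  haveI hSc := hab S
  have hSC : (S : Subgroup G) ≤ Subgroup.centralizer ({t} : Set G) := fun s hs =>
    Subgroup.mem_centralizer_singleton_iff.2
      (congrArg Subtype.val (hSc.is_comm.comm (⟨s, hs⟩ : (S : Subgroup G)) ⟨t, htS⟩))
  have h8 : Nat.card (S : Subgroup G) = 8 := by
    obtain ⟨R⟩ : Nonempty (Sylow 2 E) := inferInstance
    obtain ⟨S', hS'⟩ := (R.isPGroup'.map E.subtype).exists_le_sylow
    haveI : IsMulCommutative (R : Subgroup E) := ⟨⟨fun a b => by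
      have := congrArg Subtype.val ((hab S').is_comm.comm
        (⟨a.1.1, hS' ⟨a.1, a.2, rfl⟩⟩ : (S' : Subgroup G)) ⟨b.1.1, hS' ⟨b.1, b.2, rfl⟩⟩)
      exact Subtype.ext (Subtype.ext this)⟩⟩
    have hR := H5.sylow_le_of_psl_normal R hFo hF3 N e hNc
    have hC : Nat.card (Subgroup.centralizer ({t} : Set G)) = 2 * Nat.card E := by
      have hn : Subgroup.zpowers t ≤ Subgroup.normalizer (E : Set G) := by
        intro a ha
        refine Subgroup.centralizer_le_normalizer _ ?_
        intro b hb
        exact (h3 a ha b hb).symm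
      have h6 := H1.relIndex_sup_of_le_normalizer hn
      have h7 := H1.card_inf_mul_relIndex E (Subgroup.zpowers t)
      rw [inf_comm, h4, Subgroup.card_bot, one_mul, Nat.card_zpowers, ht] at h7
      have h8 := H1.card_mul_relIndex h2
      rw [h5, h7] at h6
      rw [← h8, h6, mul_comm]
    have h9 : Nat.card (S : Subgroup G) =
        Nat.card ((S : Subgroup G).subgroupOf (Subgroup.centralizer ({t} : Set G))) :=
      (Nat.card_congr (Subgroup.subgroupOfEquivOfLe hSC).toEquiv).symm
    have h10 := Sylow.card_eq_multiplicity (S.subtype hSC)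
    rw [Sylow.coe_subtype] at h10
    rw [Sylow.card_eq_multiplicity] at hR
    rw [h9, h10, hC,
      Nat.factorization_mul (by norm_num) Nat.card_pos.ne', Finsupp.add_apply, pow_add, hR,
      Nat.Prime.factorization_self Nat.prime_two]
    norm_num
  have hS1 : (S : Subgroup G) ≠ ⊥ := by
    intro h; rw [h] at h8; simp at h8
  refine ⟨?_, ?_⟩
  · rintro L _ _ Z _ hL hZ hZ2 ⟨f⟩
    let π : L →* G := f.toMonoidHom.comp (QuotientGroup.mk' Z)
    have hk : π.ker = Z := by
      ext x
      simp [π, MonoidHom.mem_ker]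
    rw [← hk]
    exact H5.no_two_cover π (f.surjective.comp (QuotientGroup.mk'_surjective Z)) (hk ▸ hZ)
      (hk ▸ hZ2) hL S h8
  · rintro φ k hφ ⟨P, hP⟩
    have hZ : Subgroup.center G = ⊥ := by
      rcases (inferInstance : (Subgroup.center G).Normal).eq_bot_or_eq_top with h | h
      · exact h
      · exact absurd ⟨⟨fun a b => (Subgroup.mem_center_iff.1 (h ▸ Subgroup.mem_top b) a)⟩⟩ hG
    have hO : Cfsg.pPrimeCore 2 G = ⊥ :=
      H5.odd_normal_eq_bot_of_simple S hS1 _ inferInstance
        (Nat.coprime_two_right.1 (H1.coprime_card_pPrimeCore 2))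
    obtain ⟨j, -, hj⟩ := (Nat.dvd_prime_pow Nat.prime_two).1
      (orderOf_dvd_of_pow_eq_one (x := (φ : MulAut G)) hφ)
    exact Cfsg.Agent.S4593.result hZ hO P (hab P) φ ⟨j, hj⟩ hP

end Cfsg.Agent.S3206
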