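import Cfsg.Statements.S3222
import Cfsg.Agent.H6.ZS4b
import Cfsg.Agent.H4.Dk5

set_option autoImplicit false
open Cfsg

namespace Cfsg.Agent.S3222

/-- Let G be a finite group of even order such that (1) some involution t lying in the centre of a Sylow 2-subgroup of G has C_G(t) ≅ Z₂ × S₄, and (2) every Sylow 2-subgroup S of G satisfies C_G(S′) = S, where S′ is the derived subgroup of S. Then G = C_G(t) if G is solvable, and G ≅ S₆ otherwise. -/
theorem result {G : Type*} [Group G] [Finite G] (hev : Even (Nat.card G))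
    (t : G) (ht : orderOf t = 2) (T : Sylow 2 G) (htT : t ∈ (T : Subgroup G)) (htc : ∀ s ∈ (T : Subgroup G), s * t = t * s)
    (e : ↥(Subgroup.centralizer ({t} : Set G)) ≃* (Multiplicative (ZMod 2) × Equiv.Perm (Fin 4)))
    (h2 : ∀ S : Sylow 2 G, Subgroup.centralizer ((⁅(S : Subgroup G), (S : Subgroup G)⁆ : Subgroup G) : Set G) = (S : Subgroup G)) :
    (Group.IsSolvable G → Subgroup.centralizer ({t} : Set G) = ⊤) ∧
      (¬ Group.IsSolvable G → Nonempty (G ≃* Equiv.Perm (Fin 6))) := by
    classical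
    have htC : t ∈ Subgroup.centralizer ({t} : Set G) := H6.mem_cent_iff_commute.mpr (Commute.refl t)
    let f : H6.ZS4.S4 →* G := (Subgroup.centralizer ({t} : Set G)).subtype.comp
      (e.symm.toMonoidHom.comp (MonoidHom.inr _ _))
    have hf : ∀ σ, f σ = (e.symm (1, σ) : G) := fun _ => rfl
    have hζ : ∀ x : Multiplicative (ZMod 2), x = 1 ∨ x = Multiplicative.ofAdd 1 := by decide
    have het : e ⟨t, htC⟩ = (Multiplicative.ofAdd 1, 1) := by
      have h1 : ∀ τ, (e ⟨t, htC⟩).2 * τ = τ * (e ⟨t, htC⟩).2 := fun τ => by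
        have : (⟨t, htC⟩ : Subgroup.centralizer ({t} : Set G)) * e.symm (1, τ) = e.symm (1, τ) * ⟨t, htC⟩ :=
          Subtype.ext (H6.mem_cent_iff_commute.mp (e.symm (1, τ)).2).symm
        simpa using congrArg (fun x => (e x).2) this
      have h2 := H6.ZS4.cen_s4 _ (h1 _) (h1 _) (h1 _)
      rcases hζ (e ⟨t, htC⟩).1 with k | k
      · have : e ⟨t, htC⟩ = 1 := Prod.ext k h2
        exact absurd (congrArg Subtype.val (e.injective (this.trans (map_one e).symm))) (H6.ord2_ne_one ht)
      · exact Prod.ext k h2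
    have ht' : t = (e.symm (Multiplicative.ofAdd 1, 1) : G) := by rw [← het, e.symm_apply_apply]
    have hinj : Function.Injective f := fun x y k =>
      congrArg Prod.snd (e.symm.injective (Subtype.ext k))
    have hcomm : ∀ σ, Commute t (f σ) := fun σ => (H6.mem_cent_iff_commute.mp (e.symm (1, σ)).2).symm
    have hcent : ∀ g, Commute g t → ∃ σ, g = f σ ∨ g = t * f σ := fun g hg => by
      have hg' := H6.mem_cent_iff_commute.mpr hg
      refine ⟨(e ⟨g, hg'⟩).2, ?_⟩
      have k0 : g = (e.symm (e ⟨g, hg'⟩) : G) := by rw [e.symm_apply_apply]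
      rcases hζ (e ⟨g, hg'⟩).1 with k | k
      · left; rw [hf, ← k]; exact k0
      · right
        refine k0.trans ?_
        refine Eq.trans ?_ (congrArg (· * f (e ⟨g, hg'⟩).2) ht'.symm)
        show _ = _ * _
        rw [hf, ← Subgroup.coe_mul, ← map_mul, ← k]
        simp
    have hcard : Nat.card (Subgroup.centralizer ({t} : Set G)) = 48 := by
      rw [Nat.card_congr e.toEquiv, Nat.card_prod, H6.ZS4.card_s4]; simp
    set T₀ : Subgroup G := (((⊤ : Subgroup (Multiplicative (ZMod 2))).prod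
      (Subgroup.centralizer {H6.ZS4.z0})).map e.symm.toMonoidHom).map
        (Subgroup.centralizer ({t} : Set G)).subtype with hT₀
    have hc0 : Nat.card T₀ = 16 := by
      rw [hT₀, Subgroup.card_subtype, Subgroup.card_map_of_injective e.symm.injective,
        Nat.card_congr (Subgroup.prodEquiv _ _).toEquiv, Nat.card_prod, H6.ZS4.card_d0]
      simp
    have hT16 : Nat.card (T : Subgroup G) ≤ 16 := by
      obtain ⟨n, hn⟩ := T.2.exists_card_eq
      have k := Subgroup.card_dvd_of_le (show (T : Subgroup G) ≤ Subgroup.centralizer ({t} : Set G) from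
        fun s hs => H6.mem_cent_iff_commute.mpr (htc s hs))
      rw [hn, hcard] at k
      rw [hn]
      exact Nat.le_of_dvd (by norm_num) (Nat.Coprime.dvd_of_dvd_mul_right (k := 2 ^ n) (m := 16) (n := 3)
        (Nat.Coprime.pow_left _ (by norm_num)) k)
    obtain ⟨S, hS⟩ := H6.exists_sylow_eq_of_card T (Q := T₀) (IsPGroup.of_card (n := 4) hc0) (hc0 ▸ hT16)
    have hmem : ∀ g ∈ T₀, ∃ i σ, σ * H6.ZS4.z0 = H6.ZS4.z0 * σ ∧ g = (e.symm (i, σ) : G) := by
      rintro _ ⟨_, ⟨⟨i, σ⟩, hx, rfl⟩, rfl⟩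
      exact ⟨i, σ, H6.mem_cent_iff_commute.mp hx.2, rfl⟩
    have hCz : T₀ = Subgroup.centralizer {f H6.ZS4.z0} := by
      refine le_antisymm (fun g hg => ?_) ?_
      · obtain ⟨i, σ, k, rfl⟩ := hmem g hg
        rw [H6.mem_cent_singleton, hf, ← Subgroup.coe_mul, ← Subgroup.coe_mul, ← map_mul, ← map_mul]
        simp [k]
      · have k := h2 S
        rw [hS] at k
        rw [← k, ← H15.cent_zpowers]
        refine Subgroup.centralizer_le (Subgroup.commutator_le.mpr fun g hg g' hg' => ?_)
        obtain ⟨i, σ, k1, rfl⟩ := hmem g hg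
        obtain ⟨j, τ, k2, rfl⟩ := hmem g' hg'
        have : ((e.symm (i, σ)) : G) * ((e.symm (j, τ)) : G) * ((e.symm (i, σ)) : G)⁻¹ *
            ((e.symm (j, τ)) : G)⁻¹ = f (σ * τ * σ⁻¹ * τ⁻¹) := by
          rw [hf, ← Subgroup.coe_inv, ← Subgroup.coe_inv, ← Subgroup.coe_mul,
            ← Subgroup.coe_mul, ← Subgroup.coe_mul, ← map_inv, ← map_inv, ← map_mul, ← map_mul, ← map_mul]
          simp
        rw [commutatorElement_def, this]
        rcases H6.ZS4.comm_d0 σ τ k1 k2 with k3 | k3 <;> rw [k3]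
        · rw [map_one]; exact Subgroup.one_mem _
        · exact Subgroup.mem_zpowers _
    have h : H6.ZS4.Cfg t f := ⟨ht, hinj, hcomm, fun σ k => by
        exact absurd (congrArg Prod.fst (e.symm.injective (Subtype.ext ((hf σ).symm.trans (k.trans ht')))))
          (show (1 : Multiplicative (ZMod 2)) ≠ Multiplicative.ofAdd 1 by decide),
      hcent, ⟨S, hS.trans hCz⟩, fun g hg => by
        obtain ⟨i, σ, -, rfl⟩ := hmem g (hCz ▸ H6.mem_cent_iff_commute.mpr hg)
        exact H6.mem_cent_iff_commute.mp (e.symm (i, σ)).2, hcard, hCz ▸ hc0⟩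
    rcases h.main with k | ⟨⟨e'⟩⟩
    · refine ⟨fun _ => k, fun hn => absurd ?_ hn⟩
      haveI := H4.isSolvable_s4
      let e' := (Subgroup.topEquiv.symm.trans (MulEquiv.subgroupCongr k).symm).trans e
      exact Group.isSolvable_of_isSolvable_injective (f := e'.toMonoidHom) e'.injective
    · refine ⟨fun hs => absurd (Group.isSolvable_of_surjective (f := e'.toMonoidHom) e'.surjective)
        (Equiv.Perm.not_isSolvable _ (by simp; norm_num)), fun _ => ⟨e'⟩⟩

end Cfsg.Agent.S3222
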