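import Cfsg.Statements.S3239
import Cfsg.Agent.H26.JRv
import Cfsg.Agent.H26.JRU
import Cfsg.Agent.S2039

set_option autoImplicit false
open Cfsg

namespace Cfsg.Agent.S3239

open Subgroup H16 H16.GD H26.J

theorem aux {K : Type*} [Group K] [Finite K] (h : commutator K = ⊤)
    (e : K ⧸ center K ≃* Spor.J1) : Spor.IsoJ1 K := by
  let s : Shrink.{0} K ≃* K := Shrink.mulEquiv
  let f := e.toMonoidHom.comp (QuotientGroup.mk' (center K))
  have hf : Function.Surjective f := e.surjective.comp (QuotientGroup.mk'_surjective _)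
  have hk : ∀ x, f x = 1 → x ∈ center K := fun x hx =>
    (QuotientGroup.eq_one_iff x).1 ((map_eq_one_iff _ e.injective).1 hx)
  haveI : Finite (Shrink.{0} K) := Finite.of_equiv _ s.symm.toEquiv
  obtain ⟨π, hπ⟩ := S2039.result.2 (Shrink.{0} K) (f.comp s.toMonoidHom) ⟨hf.comp s.surjective,
    fun x hx => mem_center_iff.2 fun y => s.injective (by
      rw [map_mul, map_mul]; exact mem_center_iff.1 (hk _ hx) _), fun x _ => by
      have : (commutator K).map s.symm.toMonoidHom = commutator (Shrink.{0} K) := by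
        rw [commutator_def, commutator_def, map_commutator, map_top_of_surjective _ s.symm.surjective]
      rw [← this, h, map_top_of_surjective _ s.symm.surjective]; trivial⟩
  refine ⟨MulEquiv.ofBijective f ⟨(injective_iff_map_eq_one f).2 fun x hx => ?_, hf⟩⟩
  obtain ⟨a, ha⟩ := hπ ⟨s.symm x, by simpa using hx⟩
  rw [Subsingleton.elim a 1, map_one] at ha
  simpa using congrArg (fun y => s y.1) ha.symm


/-- Let t be an involution of a finite group G lying in the centre of a Sylow 2-subgroup of G, and suppose the weak closure of t in C_G(t) — the subgroup generated by all G-conjugates of t that commute with t — is isomorphic to Z₂ × A₅. Then the normal closure ⟨t^G⟩ of t in G is isomorphic to the first Janko group J₁. -/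
theorem result {G : Type*} [Group G] [Finite G]
    (t : G) (ht : orderOf t = 2) (S : Sylow 2 G) (htS : t ∈ (S : Subgroup G)) (htc : ∀ s ∈ (S : Subgroup G), s * t = t * s)
    (hW : Nonempty (↥(Subgroup.closure {x : G | ∃ g : G, x = g * t * g⁻¹ ∧ x * t = t * x}) ≃*
      (Multiplicative (ZMod 2) × ↥(alternatingGroup (Fin 5))))) :
    Cfsg.Spor.IsoJ1 ↥(Subgroup.normalClosure ({t} : Set G)) := by
  obtain ⟨e⟩ := hW
  have m1 : ∀ g, g * t * g⁻¹ ∈ C1[t] → g * t * g⁻¹ ∈
      closure {x : G | ∃ g : G, x = g * t * g⁻¹ ∧ x * t = t * x} := fun g hg =>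
    Subgroup.subset_closure (show ∃ k : G, _ = k * t * k⁻¹ ∧ _ from ⟨g, rfl, mem_cent1.1 hg⟩)
  have m2 : ∀ X : Subgroup G, (∀ g, g * t * g⁻¹ ∈ C1[t] → g * t * g⁻¹ ∈ X) →
      closure {x : G | ∃ g : G, x = g * t * g⁻¹ ∧ x * t = t * x} ≤ X := fun X h =>
    (closure_le _).2 fun x ⟨g, e1, e2⟩ => e1 ▸ h g (e1 ▸ mem_cent1.2 e2)
  generalize closure {x : G | ∃ g : G, x = g * t * g⁻¹ ∧ x * t = t * x} = W at e m1 m2
  have h1 : W ≤ C1[t] := m2 _ fun _ k => k
  obtain ⟨L, k1, k2, ⟨k3⟩⟩ := split_of_iso' ht (by simpa using m1 1 (by simpa using cent1_self t))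
    h1 center_a5 e
  have h2 : L ≤ W := k1 ▸ le_sup_right
  have h3 : C1[t] ≤ N[W] := le_norm_iff_cj.2 fun a ha => cj_le_iff.2 (m2 _ fun g hg => by
    rw [mem_cj, inv_inv, show a * (g * t * g⁻¹) * a⁻¹ = a * g * t * (a * g)⁻¹ by group]
    refine m1 _ ?_
    rw [show a * g * t * (a * g)⁻¹ = a * (g * t * g⁻¹) * a⁻¹ by group]
    exact mul_mem (mul_mem ha hg) (inv_mem ha))
  have h4 : ⁅W, W⁆ = L := by
    rw [k1, der_sup_cent (zpowers_le.2 (le_cent1.1 (h2.trans h1))), (a5_facts k3).2.2.1,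
      der_eq_bot.2 inferInstance, bot_sup_eq]
  have w : WC S L t := ⟨sy_top_of_sylow S, htS, fun s hs => mem_cent1.2 (htc s hs), ht, h2.trans h1, k2,
    h4 ▸ norm_der h3, ⟨k3⟩, k1 ▸ m1⟩
  obtain ⟨g, a1, a2⟩ : ∃ g, g * t * g⁻¹ ∈ C1[t] ∧ g * t * g⁻¹ ≠ t := by
    by_contra! k
    have := card_le (h2.trans (m2 (zpowers t) fun g hg => by rw [k g hg]; exact mem_zpowers t))
    rw [(a5_facts k3).2.2.2, H16.card_zpowers, ht] at this
    omega
  have m3 : t ∈ normalClosure ({t} : Set G) := subset_normalClosure (Set.mem_singleton t)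
  obtain ⟨b1, T, p, n, τ, f, b2⟩ := w.main a1 a2 m3
    (h2.trans (m2 _ fun g _ => normalClosure_normal.conj_mem t m3 g)) le_rfl
  exact aux b1 b2.isoJ1.some

end Cfsg.Agent.S3239
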