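import Cfsg.Statements.S3250
import Cfsg.Agent.H5.Ch6
import Cfsg.Agent.S0348

set_option autoImplicit false
open Cfsg

namespace Cfsg.Agent.S3250

/-- With the length of a finite group defined as the maximum n for which there is a chain G = G₀ > G₁ > ⋯ > G_n = 1 of subgroups: a finite non-abelian simple group of length exactly 8 whose Sylow 2-subgroups have order 2⁷ is isomorphic to PSL₂(127). -/
theorem result {G : Type*} [Group G] [Finite G] [IsSimpleGroup G]
    (hG : ¬ IsMulCommutative G) (h8 : ∃ c : Fin 9 → Subgroup G, StrictAnti c) (h9 : ∀ c : Fin 10 → Subgroup G, ¬ StrictAnti c)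
    (S : Sylow 2 G) (hS : Nat.card ↥(S : Subgroup G) = 2 ^ 7) :
    ∃ (F : Type) (_ : Field F) (_ : Fintype F), Fintype.card F = 127 ∧ Nonempty (G ≃* Matrix.ProjectiveSpecialLinearGroup (Fin 2) F) := by
  obtain ⟨h1, c, hc⟩ := H5Ch.cit hG h9 S hS
  have a1 : 128 ∣ Nat.card G := by
    have := Subgroup.card_subgroup_dvd_card (S : Subgroup G)
    rwa [hS] at this
  have a2 : ¬ 256 ∣ Nat.card G := fun e => by
    rw [← (S : Subgroup G).card_mul_index, hS] at e
    exact S.not_dvd_index ((Nat.mul_dvd_mul_iff_left (by norm_num : 0 < 128)).1 e)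
  have hn : ∃ a b : G, a * b ≠ b * a := by
    by_contra hc
    push Not at hc
    exact hG ⟨⟨hc⟩⟩
  rcases Cfsg.Agent.S0348.result hn h1 with ⟨F, i1, i2, hF, ⟨f⟩⟩ | ⟨F, i1, i2, hF, ⟨f⟩⟩ |
    ⟨-, m, hm, e⟩
  · have e := H4.card_psl (F := F)
    rw [← Nat.card_congr f.toEquiv] at e
    rcases hF with hF | ⟨n, hF⟩ | ⟨hp, k, hk⟩
    · rw [hF] at e; norm_num at e; omega
    · exfalso
      by_cases h2 : 2 ≤ n
      · have h3 : 2 ∣ 2 ^ n := dvd_pow_self 2 (by omega)
        have h4 : 0 < 2 ^ n := by positivity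
        rcases (H1.CIT.el_psl_even h2 hF).1 ((H1.CIT.El.congr f).1 ⟨c, hc⟩) with h | h | h <;> omega
      · have : n ≤ 1 := by omega
        have h5 : 1 < Fintype.card F := Fintype.one_lt_card
        interval_cases n
        · omega
        · rw [hF] at e; norm_num at e; omega
    · exact ⟨F, i1, i2, H5Ch.arith hp e a1 a2 hk, ⟨f⟩⟩
  · exfalso
    have h1 := H22.gcd_mul_card_PSL (F := F) 3 (by norm_num)
    have h2 := H22.card_SL (F := F) 3 (by norm_num)
    rw [← Nat.card_congr f.toEquiv] at h1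
    rw [hF] at h1 h2
    rw [Fin.prod_univ_three] at h2
    norm_num [-Nat.card_eq_fintype_card] at h1 h2
    omega
  · exfalso
    by_cases h2 : m = 1
    · subst h2; norm_num at e; omega
    refine a2 (e ▸ Dvd.dvd.mul_right (Dvd.dvd.mul_right ?_ _) _)
    rw [← pow_mul]
    exact pow_dvd_pow 2 (by omega : 8 ≤ (2 * m + 1) * 2)

end Cfsg.Agent.S3250
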