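import Cfsg.Statements.S3254
import Cfsg.Agent.H20.N3e
-- import your own Cfsg.Agent.* helpers here

set_option autoImplicit false
open Cfsg

namespace Cfsg.Agent.S3254

/-- Let p > 3 be a prime and G a finite non-abelian simple group acting faithfully and transitively on a set Ω of 3p points, such that the normalizer of a Sylow p-subgroup of G has order 2p. If the action is primitive then p = 5 and G ≅ A₆; if it is imprimitive then p = 2^m + 1 for some m and G ≅ PSL₂(2^m). -/
theorem result {G : Type*} [Group G] [Finite G] [IsSimpleGroup G] (hG : ¬ IsMulCommutative G)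
    (p : ℕ) (hp : p.Prime) (hp3 : 3 < p) {Ω : Type*} [Fintype Ω] [MulAction G Ω] [FaithfulSMul G Ω]
    (htr : MulAction.IsPretransitive G Ω) (hΩ : Fintype.card Ω = 3 * p)
    (P : Sylow p G) (hN : Nat.card ↥(Subgroup.normalizer ((P : Subgroup G) : Set G)) = 2 * p) :
    (MulAction.IsPreprimitive G Ω → p = 5 ∧ Nonempty (G ≃* ↥(alternatingGroup (Fin 6)))) ∧
      (¬ MulAction.IsPreprimitive G Ω → ∃ (F : Type) (_ : Field F) (_ : Fintype F) (m : ℕ), Fintype.card F = 2 ^ m ∧ p = 2 ^ m + 1 ∧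
        Nonempty (G ≃* Matrix.ProjectiveSpecialLinearGroup (Fin 2) F)) := by
  classical
  haveI := Fact.mk hp
  have hΩ' : Nat.card Ω = 3 * p := Nat.card_eq_fintype_card.trans hΩ
  have hP := H2.card_of_two_p (by omega) P hN
  have hperf := H2.sm_commutator_eq_top hG
  obtain ⟨hC, he2⟩ := H2.two_p_setup hperf P hP hN
  obtain ⟨O, _, hO⟩ := H2.exists_ovp p
  obtain ⟨X, Y, s, ε, h⟩ := H2.d1_exists hO (by omega) P hP
  rw [he2] at h
  obtain ⟨θ, hθ⟩ := h.Y_nonempty
  obtain ⟨χ, hχ⟩ := Finset.card_pos.1 (show 0 < X.card by have := h.cardX; omega)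
  have conc := fun e => H20.N3.conc_sl P hN (h.e_two_conc hG hp3 hC hN hχ e)
  haveI : Nontrivial Ω := Finite.one_lt_card_iff_nontrivial.1 (by omega)
  obtain ⟨a⟩ : Nonempty Ω := inferInstance
  have hco := MulAction.isCoatom_stabilizer_iff_preprimitive G a
  have hi := (MulAction.index_stabilizer_of_transitive G a).trans hΩ'
  refine ⟨fun hprim => ?_, fun hprim => ?_⟩
  · rcases H20.N3.prim h hC hG hp3 hN hχ hθ hΩ' with e | ⟨F, _, _, h1, ⟨e⟩⟩
    · obtain ⟨h1, m, F, _, _, h2, h3, ⟨e⟩⟩ := conc e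
      exact (H20.N3.not_prim hG hp3 hΩ' h1 h2 h3 e).elim
    have h2 := H4.card_psl (F := F)
    have h3 := (MulAction.stabilizer G a).index_mul_card
    rw [H4.gcd_eq_two (by omega), ← Nat.card_congr e.toEquiv, ← h3, hi, ← one_pow 2, Nat.sq_sub_sq, h1] at h2
    have h4 := H20.N3.psl_nine (Nat.odd_iff.2 (by omega)) (by omega) _
      ((OrderIso.isCoatom_iff e.mapSubgroup _).2 (hco.2 hprim)) (by
        rw [show e.mapSubgroup _ = Subgroup.map e.toMonoidHom _ from rfl,
          Subgroup.card_map_of_injective e.injective]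
        exact Nat.eq_of_mul_eq_mul_left (show 0 < 2 * p by omega) (by linarith))
    obtain ⟨e'⟩ := H18.psl_a6 h4
    exact ⟨by omega, ⟨e.trans e'⟩⟩
  obtain ⟨M, h1, h2⟩ : ∃ M, MulAction.stabilizer G a < M ∧ M ≠ ⊤ := by
    by_contra! h1
    exact hprim (hco.1 ⟨fun e => by rw [e, Subgroup.index_top] at hi; omega, h1⟩)
  have h3 : M.index = p := by
    have h3 := hi ▸ Subgroup.index_dvd_of_le h1.le
    have h4 := H2.sm_two_card_dvd hG M h2
    have h5 := Nat.le_of_dvd Nat.card_pos (hP ▸ P.1.card_subgroup_dvd_card)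
    have h6 := Subgroup.index_strictAnti h1
    obtain ⟨u, v, hu, hv, e⟩ := exists_dvd_and_dvd_of_dvd_mul h3
    rw [Nat.dvd_prime Nat.prime_three] at hu
    rw [Nat.dvd_prime hp] at hv
    rcases hu with rfl | rfl <;> rcases hv with rfl | rfl
    · exact (h2 (Subgroup.index_eq_one.1 e)).elim
    · omega
    · have := Nat.le_of_dvd (Nat.factorial_pos _) h4
      rw [e] at this
      simp only [Nat.factorial] at this
      omega
    · omega
  rcases H20.N3.decomp h hC hperf hp3 hχ hθ (G ⧸ M) (Or.inl rfl) (by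
    rw [one_mul, ← h3, Subgroup.index_eq_card]) with ⟨-, -, e, -⟩ | ⟨-, -, -, e | ⟨e, -⟩⟩
  · omega
  · obtain ⟨-, m, F, _, _, k2, k3, e⟩ := conc e
    exact ⟨F, inferInstance, inferInstance, m, k2, k3, H2.z_psl_of_sl
      (by rw [k2]; exact even_two.pow_of_ne_zero (by rintro rfl; omega)) e⟩
  · omega

end Cfsg.Agent.S3254
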