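import Cfsg.Statements.S3258
import Cfsg.Agent.H17.PH3

set_option autoImplicit false
open Cfsg

namespace Cfsg.Agent.S3258

open H17 Cfsg


/-- Let π be a set of primes containing 2 and G a finite group all of whose π-subgroups (subgroups whose order is divisible only by primes in π) have a normal Sylow 2-subgroup. Then the π'-elements of G (elements whose order is divisible by no prime in π) form a subgroup if and only if N_G(H)/C_G(H) is a π-group for every nontrivial π-subgroup H of G. -/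
theorem result {G : Type*} [Group G] [Finite G] (π : Set ℕ) (h2 : 2 ∈ π)
    (hcl : ∀ H : Subgroup G, (∀ p : ℕ, p.Prime → p ∣ Nat.card ↥H → p ∈ π) → ∀ P : Sylow 2 ↥H, (P : Subgroup ↥H).Normal) :
    (∃ K : Subgroup G, ∀ x : G, x ∈ K ↔ ∀ p : ℕ, p.Prime → p ∣ orderOf x → p ∉ π) ↔
      (∀ H : Subgroup G, H ≠ ⊥ → (∀ p : ℕ, p.Prime → p ∣ Nat.card ↥H → p ∈ π) →
        ∀ p : ℕ, p.Prime → p ∣ (Subgroup.centralizer (H : Set G)).relIndex (Subgroup.normalizer (H : Set G)) → p ∈ π) := by
  refine ⟨fun h H _ hH => ?_, fun h => H17.Ho.closed (H17.Ho.C2.piSep h2 G (fun H hH P hP => ?_)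
    (H17.Ho.ph_of_hom h)) h⟩
  · have := H8.hom_of_closed (π := πᶜ) h H (by rwa [compl_compl])
    rwa [compl_compl] at this
  · have := Fact.mk Nat.prime_two
    obtain ⟨S, rfl⟩ := H16.sylow_of_sy hP
    have := hcl H hH S
    exact fun x hx => Subgroup.le_normalizer_map _ ⟨⟨x, hx⟩, by rw [Subgroup.normalizer_eq_top]; trivial, rfl⟩

end Cfsg.Agent.S3258
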