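import Cfsg.Statements.S3280
import Cfsg.Agent.H18.SC4
import Cfsg.Agent.H6.QDFus
import Cfsg.Agent.H19.BS3
import Cfsg.Agent.H4.Tor3
import Cfsg.Agent.H2.Sm6
import Cfsg.Agent.S0494
import Cfsg.Agent.S0495

set_option autoImplicit false
open Cfsg

namespace Cfsg.Agent.S3280

open Subgroup H18
open scoped MatrixGroups

theorem cent_congr {G H : Type*} [Group G] [Group H] (e : G ≃* H) (w : G) :
    Nat.card (centralizer ({e w} : Set H)) = Nat.card (centralizer ({w} : Set G)) :=
  (Nat.card_congr (e.toEquiv.subtypeEquiv fun g => by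
    simp only [mem_centralizer_singleton_iff, MulEquiv.toEquiv_eq_coe, EquivLike.coe_coe,
      ← map_mul, EmbeddingLike.apply_eq_iff_eq])).symm

theorem cent_conj {G : Type*} [Group G] {w u : G} (h : IsConj u w) :
    Nat.card (centralizer ({w} : Set G)) = Nat.card (centralizer ({u} : Set G)) := by
  obtain ⟨c, rfl⟩ := isConj_iff.1 h
  exact cent_congr (MulAut.conj c) u

theorem psl {F : Type*} [Field F] [Fintype F] (ho : Odd (Fintype.card F)) (h3 : 3 < Fintype.card F)
    {w : PSL(2, F)} (h1 : w ≠ 1) (hw : Nat.card (centralizer ({w} : Set PSL(2, F))) = 4) :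
    Fintype.card F = 5 ∨ Fintype.card F = 7 ∨ Fintype.card F = 9 := by
  obtain ⟨k, hk⟩ := ho
  have h2 : (2 : F) ≠ 0 := fun e => by
    have := FiniteField.even_card_iff_char_two.1 (CharP.ringChar_of_prime_eq_zero Nat.prime_two
      (by exact_mod_cast e))
    omega
  by_cases h4 : w * w = 1
  · have := H4.card_cent_inv h2 (x := w) (orderOf_eq_prime (by rw [sq, h4]) h1)
    omega
  rcases H4.psl_cases w with rfl | ⟨u, a, h, rfl⟩ | ⟨u, h, rfl⟩
  · exact absurd rfl h1
  · have := (H4.card_cent_un h).symm.trans hw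
    omega
  · have := H4.card_cent_tor h (x := u) (H4.pmk_mem_pT_self _) h1 (Or.inr h4)
    rw [hw, hk, Nat.add_sub_cancel, Nat.gcd_eq_left (dvd_mul_right _ _)] at this
    rcases H4.card_pT h with e | e <;> rw [e] at this <;> omega

theorem dih {G : Type*} [Group G] [Finite G] [IsSimpleGroup G] (hc : ¬ IsMulCommutative G)
    {w : G} (h1 : w ≠ 1) (hw : Nat.card (centralizer ({w} : Set G)) = 4) :
    GW.Dih (⊤ : Subgroup G) := by
  obtain ⟨S, hS⟩ := (IsPGroup.of_card (p := 2) (n := 2) hw).exists_le_sylow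
  have hS' := H10.isSylowIn_top S
  have hwC : w ∈ centralizer ({w} : Set G) := mem_centralizer_singleton_iff.2 rfl
  have h2 : centralizer ({⟨w, hS hwC⟩} : Set S) = (centralizer {w}).subgroupOf S := by
    ext g
    rw [mem_centralizer_singleton_iff, mem_subgroupOf, Subtype.ext_iff,
      mem_centralizer_singleton_iff]
    rfl
  have h3 : Nat.card (centralizer ({⟨w, hS hwC⟩} : Set S)) = 4 := by
    rw [h2, H10.card_subgroupOf_of_le hS, hw]
  by_cases hSc : IsMulCommutative S
  · refine sc_dih hS' (Or.inr ?_)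
    have : centralizer ({⟨w, hS hwC⟩} : Set S) = ⊤ := by
      rw [eq_top_iff]; intro g _
      rw [mem_centralizer_singleton_iff]; exact hSc.is_comm.comm _ _
    rwa [this, card_top] at h3
  obtain ⟨m, a, b, hm, ha, hi, hb, h⟩ :=
    H6.taussky S.isPGroup' ((H6.index_commutator_le_card_cent _).trans h3.le) hSc
  have hcard : Nat.card S = 2 ^ (m + 1) := by
    rw [← (zpowers a).card_mul_index, Nat.card_zpowers, ha, hi, pow_succ]
  rcases h with ⟨e1, e2⟩ | ⟨e1, e2⟩ | ⟨e0, e1, e2⟩
  · exact sc_dih hS' (Or.inl ⟨_, H6.equiv_dihedral_of_top ha (by rw [← pow_two, e1]) e2 hb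
      (S3224.top_of hi hb)⟩)
  · exfalso
    obtain ⟨k, rfl⟩ : ∃ k, m = k + 1 := ⟨m - 1, by omega⟩
    simp only [Nat.add_sub_cancel] at e1
    obtain ⟨e⟩ := H6.equiv_quaternion_of_top (n := 2 ^ k) (by rw [ha, pow_succ, mul_comm])
      (by rw [← pow_two, e1]) e2 hb (S3224.top_of hi hb)
    obtain ⟨t, ht, ot, -⟩ := sc_central S.isPGroup' fun e => h1 (mem_bot.1 (e ▸ hS hwC))
    have hO : pPrimeCore 2 G = ⊥ := (inferInstance : (pPrimeCore 2 G).Normal).eq_bot_or_eq_top.resolve_right
      fun e => by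
        have := H1.pPrimeCore_eq_top_iff.1 e
        have h4 := H2.sm_four_dvd hc
        rw [Nat.coprime_two_right, Nat.odd_iff] at this
        omega
    have h4 := H19.brauer_suzuki hS' ht ot (fun s hs os => congrArg Subtype.val
      (H6.quaternion_ord2_unique (by positivity) e (x := ⟨s, hs⟩) (y := ⟨t, ht⟩)
        (by rwa [← Subgroup.orderOf_coe]) (by rwa [← Subgroup.orderOf_coe]))) hO
    rcases (inferInstance : (center G).Normal).eq_bot_or_eq_top with e | e
    · rw [e, mem_bot] at h4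
      rw [h4] at ot; simp at ot
    · exact hc ⟨⟨fun a b => mem_center_iff.1 (e.ge (mem_top b)) a⟩⟩
  · exfalso
    obtain ⟨k, x, y, hq⟩ := H6.qd_sub (G := G) (S := S) ⟨m, e0, hcard, a, b, ha,
      orderOf_eq_prime e1 (fun h : b = 1 => hb (by rw [h]; exact one_mem _)), e2⟩
    have b1 : 8 ≤ orderOf x := by
      rw [hq.ox, pow_add]
      have : 0 < 2 ^ k := by positivity
      omega
    have b2 : ∀ i : ℤ, ¬ IsConj (x ^ i) w := fun i e => by
      have := card_le_of_le (show zpowers x ≤ centralizer {x ^ i} from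
        zpowers_le.2 (mem_centralizer_singleton_iff.2 (Commute.self_zpow x i).eq))
      rw [← cent_conj e, hw, Nat.card_zpowers] at this
      omega
    have b3 : orderOf w ∣ 2 ^ 2 := ((centralizer {w}).orderOf_dvd_natCard hwC).trans hw.dvd
    obtain ⟨j, hj, oj⟩ := (Nat.dvd_prime_pow Nat.prime_two).1 b3
    interval_cases j
    · exact h1 (orderOf_eq_one_iff.1 oj)
    · have c1 := hq.z_comm hq.yS
      have c2 : y ∉ zpowers (x ^ (4 * (2 : ℤ) ^ k)) := fun e =>
        hq.ny (zpowers_le.2 (zpow_mem (mem_zpowers x) _) e)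
      obtain ⟨e⟩ := H6.subgroup_equiv_dihedral hq.ord_z hq.yy (by
        rw [c1.eq, mul_inv_cancel_right, eq_inv_iff_mul_eq_one, hq.zz]) c2 rfl
      have hT : IsKleinFour (closure ({x ^ (4 * (2 : ℤ) ^ k), y} : Set G)) :=
        ⟨(Nat.card_congr e.toEquiv).trans IsKleinFour.card_four,
          (Monoid.exponent_eq_of_mulEquiv e).trans IsKleinFour.exponent_two⟩
      have hTS : closure ({x ^ (4 * (2 : ℤ) ^ k), y} : Set G) ≤ S := by
        rw [closure_le]; rintro _ (rfl | rfl); exacts [hq.xS _, hq.yS]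
      by_cases hn : H6.NoOdd (closure ({x ^ (4 * (2 : ℤ) ^ k), y} : Set G))
      · obtain ⟨K, a1, -, a2⟩ := hq.exists_K_Q hT hTS hn
        exact H2.sm_no_two hc K a1 a2
      · rcases hq.ord2_conj oj with e | e
        exacts [b2 _ e, b2 _ ((hq.conj_z hT hTS hn).trans e)]
    · have c2 : x * y ∉ zpowers (x ^ (2 * (2 : ℤ) ^ k)) := by
        simpa using hq.not_mem_zpowers' (2 * (2 : ℤ) ^ k) 1
      obtain ⟨e⟩ := H6.subgroup_equiv_quaternion (n := 2) hq.ord_u (by rw [hq.sq_xy, sq, hq.uu])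
        (by simpa using hq.conj_even' 1 (2 ^ k)) c2 rfl
      have hTS : closure ({x ^ (2 * (2 : ℤ) ^ k), x * y} : Set G) ≤ S := by
        rw [closure_le]; rintro _ (rfl | rfl); exacts [hq.xS _, mul_mem hq.xS' hq.yS]
      by_cases hn : H6.NoOdd (closure ({x ^ (2 * (2 : ℤ) ^ k), x * y} : Set G))
      · obtain ⟨K, a1, -, a2⟩ := hq.exists_K_D e hTS hn
        exact H2.sm_no_two hc K a1 a2
      · rcases hq.ord4_conj oj with e' | e'
        exacts [b2 _ e', b2 _ ((hq.conj_u e hTS hn).trans e')]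

/-- A non-cyclic finite simple group containing an element whose centralizer has order at most 4 is isomorphic to the alternating group of degree 5, 6 or 7, or to PSL(2, 7). -/
theorem result {G : Type*} [Group G] [Finite G] [IsSimpleGroup G] (hG : ¬ IsCyclic G)
    (w : G) (hw : Nat.card ↥(Subgroup.centralizer ({w} : Set G)) ≤ 4) :
    Nonempty (G ≃* ↥(alternatingGroup (Fin 5))) ∨ Nonempty (G ≃* ↥(alternatingGroup (Fin 6))) ∨
      Nonempty (G ≃* ↥(alternatingGroup (Fin 7))) ∨
      (∃ (F : Type) (_ : Field F) (_ : Fintype F), Fintype.card F = 7 ∧ Nonempty (G ≃* Matrix.ProjectiveSpecialLinearGroup (Fin 2) F)) := by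
  have hc : ¬ IsMulCommutative G := fun h => by
    open scoped IsMulCommutative in exact hG IsSimpleGroup.isCyclic
  have h4 := H2.sm_four_dvd hc
  have hwC : w ∈ centralizer ({w} : Set G) := mem_centralizer_singleton_iff.2 rfl
  have h1 : w ≠ 1 := by
    rintro rfl
    have h5 : centralizer ({1} : Set G) = ⊤ := by simp [eq_top_iff, SetLike.le_def, mem_centralizer_singleton_iff]
    rw [h5, card_top] at hw
    have h6 : Nat.card G = 2 ^ 2 := le_antisymm hw (Nat.le_of_dvd Nat.card_pos h4)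
    exact hc (IsPGroup.isMulCommutative_of_card_eq_prime_sq h6)
  have hp : ∀ p : ℕ, p.Prime → Nat.card (centralizer ({w} : Set G)) = p →
      orderOf w = p ∧ centralizer ({w} : Set G) = zpowers w := fun p hp e => by
    have h5 := H16.zpowers_eq_of_prime (e ▸ hp) hwC h1
    exact ⟨by rw [← Nat.card_zpowers, h5, e], h5.symm⟩
  have h2 : 2 ≤ Nat.card (centralizer ({w} : Set G)) := by
    simpa using sc_two_card bot_le hwC h1
  have seven : Nat.card G = 168 → ∃ (F : Type) (_ : Field F) (_ : Fintype F), Fintype.card F = 7 ∧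
      Nonempty (G ≃* PSL(2, F)) := fun e => by
    have : Fact (Nat.Prime 7) := ⟨by norm_num⟩
    exact ⟨ZMod 7, inferInstance, inferInstance, ZMod.card 7, S0495.result e (ZMod.card 7)⟩
  obtain e | e | e : Nat.card (centralizer ({w} : Set G)) = 2 ∨
      Nat.card (centralizer ({w} : Set G)) = 3 ∨ Nat.card (centralizer ({w} : Set G)) = 4 := by omega
  · exfalso
    obtain ⟨a1, a2⟩ := hp 2 Nat.prime_two e
    obtain ⟨P, hP⟩ := H2.sm_sylow_of_selfcent a1 a2
    exact H2.sm_sylow_two_not_cyclic hc P (hP ▸ inferInstance)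
  · obtain ⟨a1, a2⟩ := hp 3 Nat.prime_three e
    rcases Sc.simple ⟨a1, a2⟩ hc with e | e
    · exact Or.inl (S0494.result e)
    · exact Or.inr (Or.inr (Or.inr (seven e)))
  · rcases GW.known inferInstance hc (dih hc h1 e) with ⟨F, i1, i2, a1, a2, ⟨f⟩⟩ | a1
    · rcases psl a1 a2 (w := f w) (by simpa using h1) ((cent_congr f w).trans e) with e | e | e
      · exact Or.inl ((psl_a5 (Or.inr e)).map f.trans)
      · exact Or.inr (Or.inr (Or.inr ⟨F, i1, i2, e, ⟨f⟩⟩))
      · exact Or.inr (Or.inl ((psl_a6 e).map f.trans))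
    · exact Or.inr (Or.inr (Or.inl a1))

end Cfsg.Agent.S3280
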