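import Cfsg.Statements.S3285
import Cfsg.Agent.S3239
import Cfsg.Agent.S0111
import Cfsg.Agent.S0813
import Cfsg.Agent.S0265

set_option autoImplicit false
open Cfsg

namespace Cfsg.Agent.S3285

open Subgroup H16 H16.GD H26.J Equiv Equiv.Perm

theorem alt_sq {α : Type*} [Fintype α] [DecidableEq α] (hα : 6 ≤ Fintype.card α) {u : Perm α}
    (hu : ∀ x, u (u x) = x) (K : Subgroup (Perm α))
    (hK : ∀ w : Perm α, sign w = 1 → w * u = u * w → w * w ∈ K) (n : ℕ) :
    ∀ v : Perm α, v.support.card = n → sign v = 1 → (∀ x, v x = x ∨ v x = u x) → v ∈ K := by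
  have two : ∀ x y, u x ≠ x → u y ≠ y → y ≠ x → y ≠ u x → swap x (u x) * swap y (u y) ∈ K := by
    intro x y hx hy h1 h2
    have h3 : u y ≠ x := fun e => h2 (by rw [← e, hu])
    have h4 : u y ≠ u x := u.injective.ne h1
    obtain ⟨a, b, ab, ha, hb, hab⟩ : ∃ a b, a ≠ b ∧ a ∉ ({x, u x, y, u y} : Finset α) ∧
        b ∉ ({x, u x, y, u y} : Finset α) ∧ (b = u a ∨ (u a = a ∧ u b = b)) := by
      have inv : ∀ a, a ∉ ({x, u x, y, u y} : Finset α) → u a ∉ ({x, u x, y, u y} : Finset α) := by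
        simp only [Finset.mem_insert, Finset.mem_singleton, not_or]
        exact fun a ⟨k1, k2, k3, k4⟩ => ⟨fun e => k2 (by rw [← e, hu]), u.injective.ne k1,
          fun e => k4 (by rw [← e, hu]), u.injective.ne k3⟩
      obtain ⟨a, ha, b, hb, ab⟩ := Finset.one_lt_card.1 (show 1 < ({x, u x, y, u y}ᶜ : Finset α).card by
        have := Finset.card_le_four (a := x) (b := u x) (c := y) (d := u y)
        rw [Finset.card_compl]; omega)
      rw [Finset.mem_compl] at ha hb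
      by_cases k1 : u a = a
      · by_cases k2 : u b = b
        · exact ⟨a, b, ab, ha, hb, Or.inr ⟨k1, k2⟩⟩
        · exact ⟨b, u b, Ne.symm k2, hb, inv b hb, Or.inl rfl⟩
      · exact ⟨a, u a, Ne.symm k1, ha, inv a ha, Or.inl rfl⟩
    simp only [Finset.mem_insert, Finset.mem_singleton, not_or] at ha hb
    have cu : ∀ p q, swap p q * u = u * swap (u p) (u q) := fun p q => by
      rw [mul_swap_eq_swap_mul, hu, hu]
    have k := hK (swap x (u x) * (swap x y * swap (u x) (u y)) * swap a b) (by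
      simp [sign_swap hx.symm, sign_swap h1.symm, sign_swap h4.symm, sign_swap ab]) (by
      have e1 : swap a b * u = u * swap a b := by
        rw [cu]
        rcases hab with rfl | ⟨k1, k2⟩
        · rw [hu, swap_comm]
        · rw [k1, k2]
      have e2 : swap x y * swap (u x) (u y) = swap (u x) (u y) * swap x y := by
        rw [mul_swap_eq_swap_mul, swap_apply_of_ne_of_ne hx h2.symm, swap_apply_of_ne_of_ne h3 hy]
      rw [mul_assoc, e1, ← mul_assoc, mul_assoc (swap x (u x)), mul_assoc (swap x y), cu, hu, hu,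
        ← mul_assoc (swap x y), cu, ← mul_assoc, ← mul_assoc, cu, hu, swap_comm (u x) x, e2]
      simp only [mul_assoc])
    convert k using 1
    ext z
    simp only [mul_apply, swap_apply_def]
    grind
  induction n using Nat.strong_induction_on with
  | _ n ih =>
  intro v hn hs hv
  have step : ∀ (v : Perm α) x, (∀ x, v x = x ∨ v x = u x) → v x ≠ x → u x ≠ x ∧
      (swap x (u x) * v).support.card < v.support.card ∧ (swap x (u x) * v) x = x ∧
      (swap x (u x) * v) (u x) = u x ∧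
      ∀ z, (swap x (u x) * v) z = z ∨ (swap x (u x) * v) z = u z := fun v x hv hx => by
    have e := (hv x).resolve_left hx
    have e1 : v (u x) = x := by
      rcases hv (u x) with k | k
      · exact absurd (v.injective (k.trans e.symm)) (e ▸ hx)
      · rw [k, hu]
    refine ⟨e ▸ hx, e ▸ card_support_swap_mul hx, by simp [e], by simp [e1], fun z => ?_⟩
    have := hv z
    have := hu z
    have := v.injective.eq_iff (a := z) (b := x)
    have := v.injective.eq_iff (a := z) (b := u x)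
    simp only [mul_apply, swap_apply_def]
    grind
  by_cases h1 : v = 1
  · exact h1 ▸ one_mem K
  obtain ⟨x, hx⟩ := not_forall.1 fun k => h1 (Equiv.ext k)
  obtain ⟨a1, a2, a3, a4, a5⟩ := step v x hv hx
  obtain ⟨y, hy⟩ := not_forall.1 fun k : ∀ y, (swap x (u x) * v) y = y => by
    have := congrArg sign (Equiv.ext k : swap x (u x) * v = 1)
    simp [sign_swap a1.symm, hs] at this
  obtain ⟨b1, b2, -, -, b5⟩ := step _ y a5 hy
  have k := mul_mem (two x y a1 b1 (fun e => hy (e ▸ a3)) fun e => hy (e ▸ a4))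
    (ih _ (by omega) _ rfl (by simp [sign_swap a1.symm, sign_swap b1.symm, hs]) b5)
  rwa [mul_assoc, swap_mul_self_mul, swap_mul_self_mul] at k


set_option synthInstance.maxSize 1000 in
theorem a4 : ∀ a : alternatingGroup (Fin 4), (a * a = 1 ∨ a ^ 3 = 1) ∧ (a * a = 1 → ∀ b,
    (b * b = 1 → a * b = b * a ∧ (a ≠ 1 → b ≠ 1 → ∃ d, d * a * d⁻¹ = b)) ∧
      (a ≠ 1 → a * b = b * a → b * b = 1)) := by
  decide +kernel

theorem four {G : Type*} [Group G] [Finite G] (hns : ¬ Group.IsSolvable G) {S T : Subgroup G} {t g : G}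
    (hS : Sy[2] S ⊤) (h1 : t ∈ S) (h2 : S ≤ C1[t]) (ht : orderOf t = 2) (h3 : t ∉ T)
    (h4 : zpowers t ⊔ T = C1[t]) (e : T ≃* alternatingGroup (Fin 4)) (hg : g * t * g⁻¹ ∈ S ⊓ T) :
    ∃ (F : Type) (_ : Field F) (_ : Fintype F), Fintype.card F = 8 ∧
      Nonempty (G ≃* MulAut (Matrix.ProjectiveSpecialLinearGroup (Fin 2) F)) := by
  have hT : T ≤ C1[t] := h4 ▸ le_sup_right
  have nT : C1[t] ≤ N[T] := h4 ▸ sup_le (zpowers_le.2 (cent_le_norm T (le_cent1.1 hT))) (le_norm T)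
  have c12 : Nat.card T = 12 := by
    rw [Nat.card_congr e.toEquiv, Nat.card_eq_fintype_card]; rfl
  have f1 : ∀ a ∈ T, a * a = 1 ∨ a ^ 3 = 1 := fun a ha =>
    (a4 (e ⟨a, ha⟩)).1.imp (fun k => congrArg Subtype.val (e.injective (a₁ := ⟨a, ha⟩ * ⟨a, ha⟩) (a₂ := 1)
      (by rw [map_mul, k, map_one]))) fun k => congrArg Subtype.val
        (e.injective (a₁ := ⟨a, ha⟩ ^ 3) (a₂ := 1) (by rw [map_pow, k, map_one]))
  have f2 : ∀ a ∈ T, a * a = 1 → ∀ b ∈ T, (b * b = 1 → a * b = b * a ∧ (a ≠ 1 → b ≠ 1 →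
      ∃ d ∈ T, d * a * d⁻¹ = b)) ∧ (a ≠ 1 → a * b = b * a → b * b = 1) := fun a ha a2 b hb => by
    have i : ∀ x y : T, x.1 = y.1 ↔ e x = e y := fun x y => by
      rw [e.injective.eq_iff, Subtype.ext_iff]
    have k := (a4 (e ⟨a, ha⟩)).2 (by rw [← map_mul, ← map_one e, ← i]; exact a2) (e ⟨b, hb⟩)
    simp only [← map_mul, ← map_one e, ne_eq, ← i] at k
    refine ⟨fun b2 => ⟨(k.1 b2).1, fun a1 b1 => ?_⟩, k.2⟩
    obtain ⟨d, hd⟩ := (k.1 b2).2 a1 b1
    obtain ⟨d, rfl⟩ := e.surjective d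
    rw [← map_inv, ← map_mul, ← map_mul, ← i] at hd
    exact ⟨d, d.2, hd⟩
  have sy := in_of_sy (hl_inf hS le_top (h2.trans nT))
  have sq : ∀ a ∈ S ⊓ T, a * a = 1 := fun a ha => (f1 a ha.2).elim id fun k => by
    obtain ⟨j, hj⟩ := H10.orderOf_eq_pow_of_mem sy.isPGroup ha
    rw [orderOf_eq_one_iff.1 (Nat.eq_one_of_dvd_coprimes (a := 2 ^ j) (b := 3)
      (Nat.Coprime.pow_left j (by norm_num)) hj.dvd (orderOf_dvd_of_pow_eq_one k)), one_mul]
  have mem : ∀ a ∈ T, a * a = 1 → a ∈ S ⊓ T := fun a ha k =>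
    sy.le_of_le_NN (H10.isPGroup_zpowers (k := 1) (by rwa [pow_one, pow_two])) (zpowers_le.2 ha)
      (zpowers_le.2 (cent_le_norm _ fun b hb => ((f2 b hb.2 (sq b hb) a ha).1 k).1)) (mem_zpowers a)
  have v : EV t (S ⊓ T) T := ⟨ht, klein_of (by
      rw [sy.card_eq_pow, c12, show (12 : ℕ).factorization 2 = 2 by
        rw [← Nat.primeFactorsList_count_eq]; simp]; rfl) sq,
    inf_le_left.trans h2, fun k => h3 k.2, hT, le_norm_iff.2 fun d hd a ha =>
      mem _ (mul_mem (mul_mem hd ha.2) (inv_mem hd)) (by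
        rw [show d * a * d⁻¹ * (d * a * d⁻¹) = d * (a * a) * d⁻¹ by group, sq a ha]; group),
    fun a ha a1 b hb b1 => ((f2 a ha.2 (sq a ha) b hb.2).1 (sq b hb)).2 a1 b1⟩
  have eS : zpowers t ⊔ S ⊓ T = S := by
    rw [← modl' (zpowers_le.2 h1) (Or.inr (hT.trans (cent1_le_norm t))), h4, inf_eq_left.2 h2]
  have hc : S ≤ C[S] := eS ▸ v.comm
  have h8 : Nat.card S = 8 := eS ▸ v.card
  have fus : ∀ s ∈ S, s ≠ 1 → ∃ k, k * t * k⁻¹ = s := fun s hs s1 => by
    obtain ⟨w, hw, k⟩ := sy_conj (hl_of_le (hl_cj_top hS g) (cent1_cj t g ▸ cj_mono g h2) le_top)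
      (hl_of_le hS (hc.trans (cent_le_cent1 hg.1)) le_top)
    obtain ⟨k, -, k1⟩ := v.fus (H := ⊤) (g := w * g) le_top trivial
      (eS.symm ▸ cj_eq_self_iff.1 (by rw [← cj_cj, k])) (by
        rwa [show w * g * t * (w * g)⁻¹ = w * (g * t * g⁻¹) * w⁻¹ by group, conj_eq hw])
      (eS.symm ▸ hs) s1
    exact ⟨k, k1⟩
  have nO : ∀ X : Subgroup G, X ≤ N[pPrimeCore 2 G] := fun X => le_top.trans (normalizer_eq_top _).ge
  have oO : Odd (Nat.card (pPrimeCore 2 G)) :=
    H5.oppOf_top (G := G) 2 ▸ Nat.coprime_two_right.1 (H5.coprime_card_oppOf 2 _)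
  have O1 : pPrimeCore 2 G ⊓ C1[t] = ⊥ := (eq_bot_iff_forall _).2 fun x hx => by
    have ox := odd_ord oO hx.1
    have k1 : pPrimeCore 2 G ⊓ C1[t] ≤ C[S] := cent_of_inf_bot
      (inf_le_right.trans (h4.ge.trans (sup_le (zpowers_le.2 (le_norm S h1)) (eS ▸ v.norm))))
      (norm_inf (nO _) (norm_of_le h2)) (inf_bot_of_coprime (by
        rw [h8]; exact Nat.Coprime.pow_right 3 (Nat.coprime_two_right.2 (odd_of_le oO inf_le_left))))
    have k2 : x ∈ T := mem_of_sq ox (by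
      rcases (mem_two_sup ht hT).1 (h4.ge hx.2) with k | k
      · exact mul_mem k k
      · have := mul_mem k k
        rwa [mul_assoc, ← mul_assoc x, mem_cent1.1 hx.2, ← mul_assoc, ← mul_assoc, sq_of_ord ht,
          one_mul] at this)
    obtain ⟨a, ha, a1⟩ := k_exists v.klein
    exact eq_one_of_sq ox ((f2 a ha.2 (sq a ha) x k2).2 a1 (k1 hx a ha.1))
  have hO : pPrimeCore 2 G = ⊥ := le_bot_iff.1 (k_gen v.klein oO (nO _) fun a ha a1 => by
    obtain ⟨k, rfl⟩ := fus a ha.1 a1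
    rw [cent1_cj, ← cj_norm (nO ⊤ (mem_top k)), ← cj_inf, O1, cj_bot])
  obtain ⟨L, hN, k1, k2, k3, k4⟩ := exists_simple_normal hS h8 hc fus h1 (ne_of_ord ht) hO hns
  have ot : orderOf (⟨t, k1 h1⟩ : L) = 2 := by rw [← orderOf_coe]; exact ht
  have c24 : Nat.card C1[t] = 24 := by rw [← h4, card_two_sup ht hT h3, c12]
  have sL := H10.isSylowIn_subgroupOf_top ((in_of_sy hS).of_le k1 le_top)
  have d8 : Nat.card (S.subgroupOf L) = 8 := by rw [Nat.card_congr (subgroupOfEquivOfLe k1).toEquiv, h8]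
  rcases walter k2 k3 sL (fun a ha b hb => Subtype.ext (hc ha b hb)) with ⟨-, l⟩ | l | ⟨p, n, ρ, τ, f, l⟩
  · have pg := l.pg ot
    obtain ⟨F, i1, i2, n, a1, a2, ⟨a3⟩⟩ := l
    have a4 := H4.card_psl (F := F)
    rw [← Nat.card_congr a3.toEquiv, a2, Nat.coprime_two_left.2 (Nat.Even.sub_odd
      Nat.one_le_two_pow (Nat.even_pow.2 ⟨even_two, by omega⟩) odd_one), one_mul] at a4
    obtain rfl : n = 3 := by
      by_contra a5
      obtain ⟨j, rfl⟩ := Nat.exists_eq_add_of_le (show 4 ≤ n by omega)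
      have a6 := sL.not_dvd_relIndex
      have a7 := (S.subgroupOf L).card_mul_index
      rw [relIndex_top_right] at a6
      rw [a4, d8, pow_add, mul_assoc] at a7
      omega
    refine ⟨F, i1, i2, a2, ?_⟩
    let φ : G →* MulAut (Matrix.ProjectiveSpecialLinearGroup (Fin 2) F) :=
      (MulAut.congr a3).toMonoidHom.comp (MulAut.conjNormal (H := L))
    have inj : Function.Injective φ := (MulAut.congr a3).injective.comp
      ((injective_iff_map_eq_one _).2 fun x hx => mem_bot.1 (k4 ▸ fun y hy => by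
        have := congrArg (fun β : MulAut L => (β ⟨y, hy⟩).1) hx
        exact (mul_inv_eq_iff_eq_mul.1 this).symm))
    have a5 := S0813.result (F := F) 2 3 (by norm_num) a2 2 le_rfl (by norm_num)
    rw [S0265.result, H22.card_SL_two, a2] at a5
    have a6 := card_dvd_of_injective φ inj
    obtain ⟨m, hm⟩ := card_subgroup_dvd_card L
    have a7 : m ≠ 1 := fun k => by
      obtain rfl : L = ⊤ := eq_top_of_card_eq _ (by rw [hm, k, mul_one])
      have b1 := (pg.map (⊤ : Subgroup G).subtype).to_le (H := T) fun x hx =>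
        ⟨⟨x, trivial⟩, mem_cent1.2 (Subtype.ext (mem_cent1.1 (hT hx))), rfl⟩
      obtain ⟨j, hj⟩ := b1.exists_card_eq
      have := (Nat.prime_dvd_prime_iff_eq Nat.prime_three Nat.prime_two).1
        (Nat.prime_three.dvd_of_dvd_pow (hj ▸ c12 ▸ (by norm_num : 3 ∣ 12)))
      omega
    rw [a5, hm, a4] at a6
    have a8 : m ∣ 3 := Nat.dvd_of_mul_dvd_mul_left (k := 504) (by norm_num) a6
    refine ⟨MulEquiv.ofBijective φ ((Nat.bijective_iff_injective_and_card φ).2 ⟨inj, ?_⟩)⟩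
    rw [a5, hm, a4, ((Nat.dvd_prime Nat.prime_three).1 a8).resolve_left a7]
    rfl
  · exact absurd (d8 ▸ card_subgroup_dvd_card _) (td_of_l2d (L := ⊤)
      (l.of_equiv topEquiv) |>.of_equiv topEquiv).1
  · have a1 := l.card_cent ot
    have a2 := l.lf _ ot
    have a3 := card_le (H := C1[(⟨t, k1 h1⟩ : L)].map L.subtype) (K := C1[t]) (by
      rintro _ ⟨x, hx, rfl⟩
      exact mem_cent1.2 (congrArg Subtype.val (mem_cent1.1 hx)))
    rw [card_map_of_injective L.subtype_injective, a1, c24] at a3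
    have := Nat.mul_le_mul (Nat.mul_le_mul (Nat.mul_le_mul a2.five (show 4 ≤ 4 * ρ by
      have := a2.odd_rho.pos; omega)) a2.three_le_tau) l.odd_f.pos
    omega

/-- Let G be a finite non-solvable group with no normal subgroup of index 2, and J an involution lying in the centre of a Sylow 2-subgroup of G whose centralizer is the internal direct product of ⟨J⟩ with a subgroup isomorphic to the alternating group of degree m. Then either m = 4 and G is isomorphic to the automorphism group PΓL(2, 8) of PSL(2, 8), or m = 5 and G is isomorphic to the first Janko group. -/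
theorem result {G : Type*} [Group G] [Finite G] (hns : ¬ Group.IsSolvable G) (h2 : ∀ N : Subgroup G, N.Normal → N.index ≠ 2)
    (J : G) (hJ : Cfsg.IsTwoCentralInvolution J) (m : ℕ) (T : Subgroup G)
    (hT : Nonempty (↥T ≃* ↥(alternatingGroup (Fin m))))
    (hd : Cfsg.IsInternalDirectProduct (Subgroup.zpowers J) T (Subgroup.centralizer ({J} : Set G))) :
    (m = 4 ∧ ∃ (F : Type) (_ : Field F) (_ : Fintype F), Fintype.card F = 8 ∧
        Nonempty (G ≃* MulAut (Matrix.ProjectiveSpecialLinearGroup (Fin 2) F))) ∨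
      (m = 5 ∧ Cfsg.Spor.IsoJ1 G) := by
  obtain ⟨ht, S, h1, h2⟩ := hJ
  obtain ⟨-, hT1, -, h3, h4⟩ := hd
  obtain ⟨e⟩ := hT
  have h5 : J ∉ T := fun k => ne_of_ord ht (mem_bot.1 (h3 ▸ ⟨mem_zpowers J, k⟩))
  have h6 : (S : Subgroup G) ≤ C1[J] := fun x hx => mem_cent1.2 (h2 x hx)
  have nT : C1[J] ≤ N[T] := h4 ▸ sup_le (zpowers_le.2 (cent_le_norm T (le_cent1.1 hT1))) (le_norm T)
  have eS : zpowers J ⊔ S ⊓ T = S := by
    rw [← modl' (zpowers_le.2 h1) (Or.inr (hT1.trans (cent1_le_norm J))), h4, inf_eq_left.2 h6]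
  obtain ⟨g, hg⟩ := (S0111.result S (S ⊓ T) inf_le_left (by
    have k := card_two_sup ht (inf_le_left.trans h6 : (S : Subgroup G) ⊓ T ≤ _) fun k => h5 k.2
    rw [eS, ← H16.card_mul_relIndex (inf_le_left : (S : Subgroup G) ⊓ T ≤ _), mul_comm] at k
    exact Nat.eq_of_mul_eq_mul_right (card_pos' _) k) J ht h1 fun k => h5 k.2).resolve_left
      fun ⟨M, k1, k2, _⟩ => ‹∀ N : Subgroup G, N.Normal → N.index ≠ 2› M k1 k2
  have o := (orderOf_cj J g).trans ht
  have u2 : e ⟨_, hg.2⟩ * e ⟨_, hg.2⟩ = 1 := by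
    rw [← map_mul, ← map_one e]; exact congrArg e (Subtype.ext (sq_of_ord o))
  have u1 : e ⟨_, hg.2⟩ ≠ 1 := fun k =>
    ne_of_ord o (congrArg Subtype.val ((map_eq_one_iff _ e.injective).1 k))
  rcases show m ≤ 3 ∨ m = 4 ∨ m = 5 ∨ 6 ≤ m by omega with k | rfl | rfl | k
  · exfalso
    revert u1 u2
    generalize e ⟨_, hg.2⟩ = u
    revert u
    interval_cases m <;> decide
  · exact Or.inl ⟨rfl, four hns (sy_top_of_sylow S) h1 h6 ht h5 h4 e hg⟩
  · have w : WC S T J := ⟨sy_top_of_sylow S, h1, h6, ht, hT1, h5, nT, ⟨e⟩, fun _ k => h4 ▸ k⟩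
    have m3 : J ∈ normalClosure ({J} : Set G) := subset_normalClosure (Set.mem_singleton J)
    have hN : (normalClosure ({J} : Set G)).Normal := normalClosure_normal
    have a1 := hT1 hg.2
    have a2 : g * J * g⁻¹ ≠ J := fun k => h5 (k ▸ hg.2)
    have a3 : T ≤ normalClosure {J} := by
      have := (a5_facts e).1
      rcases (hN.subgroupOf T).eq_bot_or_eq_top with k | k
      · exact absurd (congrArg Subtype.val (mem_bot.1 (k.le (show (⟨_, hg.2⟩ : T) ∈ _ from
          hN.conj_mem J m3 g)))) (ne_of_ord o)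
      · exact subgroupOf_eq_top.1 k
    obtain ⟨b1, U, p, n, τ, f, b2⟩ := w.main a1 a2 m3 a3 le_rfl
    obtain ⟨b3⟩ := S3239.aux b1 b2.isoJ1.some
    have b4 : normalClosure ({J} : Set G) = ⊤ := top_le_iff.1 fun x _ => by
      obtain ⟨k, hk, b5⟩ := w.conjK a1 a2 m3 a3 x
      refine (mul_mem_cancel_left (inv_mem hk)).1 (sup_le (zpowers_le.2 m3) a3 (h4.ge
        (mem_of_conj_eq ?_)))
      rw [show k⁻¹ * x * J * (k⁻¹ * x)⁻¹ = k⁻¹ * (x * J * x⁻¹) * k by group, ← b5]
      group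
    exact Or.inr ⟨rfl, ⟨(topEquiv.symm.trans (MulEquiv.subgroupCongr b4.symm)).trans b3⟩⟩
  · exfalso
    let f : alternatingGroup (Fin m) →* G := T.subtype.comp e.symm.toMonoidHom
    have hf : f (e ⟨_, hg.2⟩) = g * J * g⁻¹ := by simp [f]
    obtain ⟨y, hy, b1⟩ := alt_sq (by simpa using k) (u := (e ⟨_, hg.2⟩).1)
      (fun x => Equiv.congr_fun (congrArg Subtype.val u2) x)
      (((T :^ g).comap f).map (alternatingGroup (Fin m)).subtype) (fun w hw b1 => by
        refine ⟨⟨w, hw⟩ * ⟨w, hw⟩, ?_, rfl⟩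
        have b2 : f ⟨w, hw⟩ ∈ C1[g * J * g⁻¹] := mem_cent1.2 (by
          rw [← hf, ← map_mul, ← map_mul]; exact congrArg f (Subtype.ext b1))
        have b3 : T :^ g ≤ C1[g * J * g⁻¹] := cent1_cj J g ▸ cj_mono g hT1
        have b4 := b2
        rw [cent1_cj, ← h4, cj_sup, ← zpowers_cj] at b4
        change f (_ * _) ∈ T :^ g
        rw [map_mul]
        rcases (mem_two_sup o b3).1 b4 with k | k
        · exact mul_mem k k
        · have := mul_mem k k
          rwa [mul_assoc, ← mul_assoc (f _), mem_cent1.1 b2, ← mul_assoc, ← mul_assoc, sq_of_ord o,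
            one_mul] at this)
      _ _ rfl (e ⟨_, hg.2⟩).2 fun _ => Or.inr rfl
    rw [(Subtype.ext b1 : y = e ⟨_, hg.2⟩)] at hy
    exact h5 (cj_mem_iff.1 (hf ▸ (mem_comap.1 hy)))

end Cfsg.Agent.S3285
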