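import Cfsg.Statements.S3308
import Cfsg.Agent.H5.CI

set_option autoImplicit false
open Cfsg

namespace Cfsg.Agent.S3308

open Subgroup

/-- Let G be a finite nonsolvable group in which any two distinct Sylow 2-subgroups intersect in a cyclic group, and let R be its solvable radical (the largest solvable normal subgroup). Then G has a normal subgroup G₁ of odd index containing R such that G₁/R is a non-abelian simple group isomorphic to PSL(2, 2^n) (n ≥ 2), a Suzuki group over the field with 2^(2m+1) elements (m ≥ 1), PSU(3, 2^n) (n ≥ 2), PSL(2, q) with q ≡ 3 or 5 mod 8 and q > 5, or simple of order 175560 (the order of the first Janko group). -/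
theorem result {G : Type*} [Group G] [Finite G] (hns : ¬ Group.IsSolvable G)
    (hC : ∀ S T : Sylow 2 G, S ≠ T → IsCyclic ↥((S : Subgroup G) ⊓ (T : Subgroup G)))
    (R : Subgroup G) [R.Normal] (hR : Group.IsSolvable ↥R) (hRmax : ∀ N : Subgroup G, N.Normal → Group.IsSolvable ↥N → N ≤ R) :
    ∃ (G₁ : Subgroup G) (_ : G₁.Normal) (_ : (R.subgroupOf G₁).Normal), Odd G₁.index ∧ R ≤ G₁ ∧
      IsSimpleGroup (↥G₁ ⧸ R.subgroupOf G₁) ∧ ¬ IsMulCommutative (↥G₁ ⧸ R.subgroupOf G₁) ∧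
      ((∃ (n : ℕ) (F : Type) (_ : Field F) (_ : Fintype F), 2 ≤ n ∧ Fintype.card F = 2 ^ n ∧
          Nonempty (↥G₁ ⧸ R.subgroupOf G₁ ≃* Matrix.ProjectiveSpecialLinearGroup (Fin 2) F)) ∨
      (∃ (m : ℕ) (F : Type) (_ : Field F) (_ : Fintype F), 1 ≤ m ∧ Fintype.card F = 2 ^ (2 * m + 1) ∧
          Nonempty (↥G₁ ⧸ R.subgroupOf G₁ ≃* ↥(Cfsg.Lie.Sz F (2 ^ (m + 1))))) ∨
      (∃ (n : ℕ) (F : Type) (_ : Field F) (_ : Fintype F), 2 ≤ n ∧ Fintype.card F = 4 ^ n ∧
          Nonempty (↥G₁ ⧸ R.subgroupOf G₁ ≃* Cfsg.PSU 3 F (2 ^ n))) ∨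
      (∃ (F : Type) (_ : Field F) (_ : Fintype F), (Fintype.card F % 8 = 3 ∨ Fintype.card F % 8 = 5) ∧ 5 < Fintype.card F ∧
          Nonempty (↥G₁ ⧸ R.subgroupOf G₁ ≃* Matrix.ProjectiveSpecialLinearGroup (Fin 2) F)) ∨
      Cfsg.IsJ1 (↥G₁ ⧸ R.subgroupOf G₁)) := by
  let φ := QuotientGroup.mk' R
  have hφ : Function.Surjective φ := QuotientGroup.mk'_surjective R
  have k : ∀ N : Subgroup (G ⧸ R), N.Normal → Group.IsSolvable N → N = ⊥ := fun N hN hs => by
    rw [← map_comap_eq_self_of_surjective hφ N, Subgroup.map_eq_bot_iff, QuotientGroup.ker_mk']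
    exact hRmax _ (hN.comap φ) (H1.isSolvable_comap hs φ ((QuotientGroup.ker_mk' R).symm ▸ hR))
  have : Nontrivial (G ⧸ R) := not_subsingleton_iff_nontrivial.1 fun h =>
    hns (H1.isSolvable_of_normal_quotient R hR inferInstance)
  obtain ⟨E, h1, h2, h3, h4, h5⟩ := H5.Gd.ci_main (H7.CI.of_surjective hC hφ)
    ⟨k _ inferInstance (H15.Cfsg.IsPiSubgroup.solvable (H15.IsPGroup.isPi (H1.isPGroup_pCore 2))),
      k _ inferInstance (H1.ft_odd (Nat.coprime_two_right.1 (H1.coprime_card_pPrimeCore 2)))⟩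
  let f : E.comap φ →* E := φ.subgroupComap E
  have hk : R.subgroupOf (E.comap φ) = f.ker := by
    ext x
    exact (QuotientGroup.eq_one_iff (x : G)).symm.trans (Subtype.ext_iff (a1 := f x) (a2 := 1)).symm
  have e := (QuotientGroup.quotientMulEquivOfEq hk).trans
    (QuotientGroup.quotientKerEquivOfSurjective f (φ.subgroupComap_surjective_of_surjective E hφ))
  exact ⟨E.comap φ, h1.comap φ, inferInstance, by rwa [index_comap_of_surjective _ hφ],
    (QuotientGroup.ker_mk' R).ge.trans (ker_le_comap _ _), e.isSimpleGroup,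
    fun h => h4 ⟨⟨fun a b => e.symm.injective (by rw [map_mul, map_mul, h.is_comm.comm])⟩⟩, h5.of_equiv e⟩

end Cfsg.Agent.S3308
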