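import Cfsg.Statements.S3310
import Cfsg.Agent.H6.SI5

set_option autoImplicit false
open Cfsg

namespace Cfsg.Agent.S3310

/-- Let G be a finite nonsolvable group; write O(G) for its largest normal subgroup of odd order and O₂(G) for its largest normal 2-subgroup. Suppose that every intersection of two distinct Sylow 2-subgroups of G has 2-rank at most 1, that some two distinct Sylow 2-subgroups of G/O(G) have a non-cyclic intersection, and that no Sylow 2-subgroup of G is a quaternion group, ordinary or generalized (of order 2^k ≥ 8). Then either (a) O₂(G) is a quaternion group, ordinary or generalized (of order 2^k ≥ 8), and G has a normal subgroup G₁ of odd index containing O₂(G)O(G) with G₁/O₂(G)O(G) isomorphic to PSL(2,2ⁿ) (n ≥ 2), a Suzuki group over the field with 2^(2m+1) elements (m ≥ 1), or PSU(3,2ⁿ) (n ≥ 2); or (b) G has a normal subgroup G₁ containing O(G),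 of index odd or twice an odd number, with G₁/O(G) isomorphic to the central product of two copies of SL(2,5) with amalgamated centres. -/
theorem result {G : Type*} [Group G] [Finite G] (hns : ¬ Group.IsSolvable G)
    (hI : ∀ S T : Sylow 2 G, S ≠ T → Cfsg.PRankLE 2 1 ↥((S : Subgroup G) ⊓ (T : Subgroup G)))
    (hnC : ∃ S T : Sylow 2 (G ⧸ Cfsg.oddCore G), S ≠ T ∧
      ¬ IsCyclic ↥((S : Subgroup (G ⧸ Cfsg.oddCore G)) ⊓ (T : Subgroup (G ⧸ Cfsg.oddCore G))))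
    (hnQ : ∀ S : Sylow 2 G, ∀ n : ℕ, IsEmpty (↥(S : Subgroup G) ≃* QuaternionGroup (2 ^ (n + 1)))) :
    (∃ (G₁ : Subgroup G) (_ : G₁.Normal) (_ : ((Cfsg.pCore 2 G ⊔ Cfsg.oddCore G).subgroupOf G₁).Normal),
      Odd G₁.index ∧ Cfsg.pCore 2 G ⊔ Cfsg.oddCore G ≤ G₁ ∧
      (∃ n : ℕ, Nonempty (↥(Cfsg.pCore 2 G) ≃* QuaternionGroup (2 ^ (n + 1)))) ∧
      ((∃ (n : ℕ) (F : Type) (_ : Field F) (_ : Fintype F), 2 ≤ n ∧ Fintype.card F = 2 ^ n ∧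
          Nonempty (↥G₁ ⧸ (Cfsg.pCore 2 G ⊔ Cfsg.oddCore G).subgroupOf G₁ ≃* Matrix.ProjectiveSpecialLinearGroup (Fin 2) F)) ∨
       (∃ (m : ℕ) (F : Type) (_ : Field F) (_ : Fintype F), 1 ≤ m ∧ Fintype.card F = 2 ^ (2 * m + 1) ∧
          Nonempty (↥G₁ ⧸ (Cfsg.pCore 2 G ⊔ Cfsg.oddCore G).subgroupOf G₁ ≃* ↥(Cfsg.Lie.Sz F (2 ^ (m + 1))))) ∨
       (∃ (n : ℕ) (F : Type) (_ : Field F) (_ : Fintype F), 2 ≤ n ∧ Fintype.card F = 4 ^ n ∧
          Nonempty (↥G₁ ⧸ (Cfsg.pCore 2 G ⊔ Cfsg.oddCore G).subgroupOf G₁ ≃* Cfsg.PSU 3 F (2 ^ n))))) ∨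
    (∃ (G₁ : Subgroup G) (_ : G₁.Normal) (_ : ((Cfsg.oddCore G).subgroupOf G₁).Normal),
      (Odd G₁.index ∨ ∃ k : ℕ, Odd k ∧ G₁.index = 2 * k) ∧ Cfsg.oddCore G ≤ G₁ ∧
      ∃ (Z : Subgroup (Matrix.SpecialLinearGroup (Fin 2) (ZMod 5) × Matrix.SpecialLinearGroup (Fin 2) (ZMod 5))) (_ : Z.Normal),
        Z = Subgroup.zpowers ((-1 : Matrix.SpecialLinearGroup (Fin 2) (ZMod 5)), (-1 : Matrix.SpecialLinearGroup (Fin 2) (ZMod 5))) ∧
        Nonempty (↥G₁ ⧸ (Cfsg.oddCore G).subgroupOf G₁ ≃*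
          (Matrix.SpecialLinearGroup (Fin 2) (ZMod 5) × Matrix.SpecialLinearGroup (Fin 2) (ZMod 5)) ⧸ Z)) := by
  have hker := QuotientGroup.ker_mk' (Cfsg.oddCore G)
  rcases H6.SI.main_all (f := QuotientGroup.mk' (Cfsg.oddCore G)) (by rw [hker]; exact H1.coprime_card_pPrimeCore 2)
    (QuotientGroup.mk'_surjective _) (H1.pPrimeCore_quotient_pPrimeCore 2) (H6.SI.ri_of hI) hns hnC hnQ with
    ⟨M, h1, h2, h3, h4, Γ, _, φ, h5, h6⟩ | ⟨M, h1, h2, h3, ψ, h4, h5⟩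
  · rw [hker] at h3 h6
    obtain ⟨e⟩ := H6.SI.quot_iso φ h6
    refine Or.inl ⟨M, h1, inferInstance, h2, h3, h4, ?_⟩
    rcases h5 with ⟨F, i, j, m, k1, k2, ⟨e1⟩⟩ | ⟨F, i, j, m, k1, k2, ⟨e1⟩⟩ | ⟨F, i, j, m, k1, k2, ⟨e1⟩⟩
    · exact Or.inl ⟨m, F, i, j, k1, k2, ⟨e.trans e1⟩⟩
    · exact Or.inr (Or.inl ⟨m, F, i, j, k1, k2, ⟨e.trans e1⟩⟩)
    · exact Or.inr (Or.inr ⟨m, F, i, j, k1, by rw [k2, ← pow_mul, mul_comm, pow_mul]; rfl, ⟨e.trans e1⟩⟩)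
  · rw [hker] at h3
    obtain ⟨e⟩ := H6.SI.quot_iso (QuotientGroup.mk' (Cfsg.oddCore G)) (M := M) (N := Cfsg.oddCore G)
      fun x _ => QuotientGroup.eq_one_iff x
    exact Or.inr ⟨M, h1, inferInstance, h2, h3, ψ.ker, inferInstance, h5,
      ⟨e.trans ((MulEquiv.subgroupCongr h4.symm).trans (QuotientGroup.quotientKerEquivRange ψ).symm)⟩⟩

end Cfsg.Agent.S3310
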