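import Cfsg.Statements.S3315
import Cfsg.Agent.H3.Kul
import Cfsg.Agent.H5.GV

set_option autoImplicit false
open Cfsg

namespace Cfsg.Agent.S3315

open Subgroup
open scoped commutatorElement

theorem gauss {T : Type*} [Group T] [Finite T] (hT : IsPGroup 2 T) {Z W : Subgroup T}
    (hZ : Nat.card Z = 2) (hsq : ∀ x, x * x ∈ Z) (hc : ∀ x y : T, ⁅x, y⁆ ∈ Z)
    (hW : ∀ w ∈ W, w * w = 1) {m : ℕ} (hm : m ≤ Nat.card W) (h0 : m ≠ 0) :
    {x : T | x * x = 1}.ncard + m ≠ {x : T | x * x ≠ 1}.ncard := fun h => by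
  classical
  obtain ⟨z, z1, hz⟩ := (Nat.card_eq_two_iff' (1 : Z)).1 hZ
  have hz' : ∀ y ∈ Z, y ≠ 1 → y = z := fun y a b => congrArg Subtype.val (hz ⟨y, a⟩ (by simpa using b))
  have z2 : (z : T) * z = 1 := congrArg Subtype.val ((pow_two z).symm.trans (hZ ▸ pow_card_eq_one'))
  let D := centralizer (W : Set T)
  have e1 : ∀ w ∈ W, ∀ x, w * x * (w * x) = ⁅w, x⁆ * (x * x) := fun w a x => by
    rw [commutatorElement_def, inv_eq_of_mul_eq_one_left (hW w a)]; group
  have e2 : ∀ w ∈ W, ∀ x ∈ D, w * x * (w * x) = x * x := fun w a x b => by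
    rw [e1 w a, commutatorElement_eq_one_iff_mul_comm.2 (b w a), one_mul]
  have hD : W ≤ D := fun a ha b hb => by
    simpa [inv_eq_of_mul_eq_one_left (hW a ha), inv_eq_of_mul_eq_one_left (hW b hb)] using
      (inv_eq_of_mul_eq_one_left (hW _ (W.mul_mem hb ha))).symm
  have hw : ∀ c : Quotient (QuotientGroup.rightRel D), ∃ w ∈ W, ∀ x ∉ D, ⟦x⟧ = c → ⁅w, x⁆ = z := by
    rintro ⟨y⟩
    by_cases hy : y ∈ D
    · exact ⟨1, W.one_mem, fun x a b => absurd ((D.mul_mem_cancel_left hy).1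
        (QuotientGroup.rightRel_apply.1 (Quotient.exact b))) (by simpa using a)⟩
    obtain ⟨w, a, b⟩ : ∃ w ∈ W, w * y ≠ y * w := by simpa [D, mem_centralizer_iff] using hy
    refine ⟨w, a, fun x _ c => hz' _ (hc _ _) fun d => b ?_⟩
    have := QuotientGroup.rightRel_apply.1 (Quotient.exact c) w a
    rwa [← mul_assoc, mul_assoc y, (commutatorElement_eq_one_iff_commute.1 d).symm.inv_left.eq,
      ← mul_assoc, mul_left_inj] at this
  choose w h1 h2 using hw
  have inj : Function.Injective fun x : T => w ⟦x⟧ * x := fun x y e => by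
    have : (⟦x⟧ : Quotient (QuotientGroup.rightRel D)) = ⟦y⟧ := Quotient.sound
      (QuotientGroup.rightRel_apply.2 (by
        rw [show y * x⁻¹ = (w ⟦y⟧)⁻¹ * w ⟦x⟧ by 
          rw [eq_inv_mul_iff_mul_eq, ← mul_assoc, mul_inv_eq_iff_eq_mul]; exact e.symm]
        exact hD (W.mul_mem (W.inv_mem (h1 _)) (h1 _))))
    simpa [this] using e
  have h3 : ∀ P Q : T → Prop, (∀ x, P (x * x) → Q (z * (x * x))) →
      ({x : T | P (x * x)} \ D).ncard ≤ ({x : T | Q (x * x)} \ D).ncard := fun P Q f =>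
    Set.ncard_le_ncard_of_injOn _ (fun x a => ⟨show Q _ by
      rw [e1 _ (h1 _), h2 _ x a.2 rfl]; exact f x a.1,
      fun b => a.2 ((D.mul_mem_cancel_left (hD (h1 _))).1 b)⟩) inj.injOn
  have h4 : ∀ P : T → Prop, Nat.card W ∣ ({x : T | P (x * x)} ∩ D).ncard := fun P =>
    H6.card_dvd_ncard_of_free W _ (Set.toFinite _) (fun e a b hb => ⟨show P _ from
      (e2 e a b hb.2).symm ▸ hb.1, D.mul_mem (hD a) hb.2⟩) fun e _ b _ => mul_eq_right.1
  have h5 := le_antisymm (h3 (· = 1) (· ≠ 1) fun x a => by simpa [a] using z1)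
    (h3 (· ≠ 1) (· = 1) fun x a => by rw [hz' _ (hsq x) a, z2])
  obtain ⟨a, ha⟩ := h4 (· = 1)
  obtain ⟨b, hb⟩ := h4 (· ≠ 1)
  rw [← Set.ncard_inter_add_ncard_sdiff_eq_ncard _ (D : Set T),
    ← Set.ncard_inter_add_ncard_sdiff_eq_ncard {x : T | x * x ≠ 1} (D : Set T), h5, ha, hb] at h
  have h6 := Set.ncard_inter_add_ncard_sdiff_eq_ncard (D : Set T) {x : T | x * x = 1}
  rw [Set.inter_comm, ha, Set.sdiff_eq, Set.inter_comm, show {x : T | x * x = 1}ᶜ =
    {x : T | x * x ≠ 1} from rfl, hb, ← mul_add] at h6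
  have h7 : 0 < a := Nat.pos_of_mul_pos_left (ha.symm.trans_gt ((Set.ncard_pos (Set.toFinite _)).2
    ⟨1, mul_one 1, D.one_mem⟩))
  have h8 : 0 < Nat.card W := Nat.card_pos
  obtain rfl : b = a + 1 := by
    have : a < b := Nat.lt_of_mul_lt_mul_left (a := Nat.card W) (by omega)
    have : b ≤ a + 1 := Nat.le_of_mul_le_mul_left (by rw [mul_add]; omega) h8
    omega
  obtain ⟨k, hk⟩ := IsPGroup.iff_card.1 (hT.to_subgroup D)
  have := (Nat.Coprime.pow_right k (Nat.coprime_two_right.2 ⟨a, by ring⟩)).eq_one_of_dvd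
    (Dvd.intro_left _ (h6.trans hk) : a + (a + 1) ∣ _)
  omega

theorem fix {S : Type*} [Group S] [Finite S] (hS : IsPGroup 2 S) {A : Subgroup S} {n : ℕ}
    (h : H5.Gd.U3 ⊤ A (2 ^ (n + 1))) (hf : ∀ y ∈ A, y ≠ 1 →
      {x : S | x * x = y}.ncard = (2 ^ (n + 1) + 1) * 2 ^ (n + 1)) (τ : MulAut S) {s : S}
    (hτ : ∀ x, τ (τ x) = s * x * s⁻¹) : ∀ a ∈ A, τ a = a := by
  by_contra hne
  have hA : A ≤ center S := fun a ha => mem_center_iff.2 fun g => (h.cen (mem_top g) a ha).symm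
  have nm : ∀ B ≤ A, B.Normal := fun B hB => ⟨fun b hb g => by
    rwa [mem_center_iff.1 (hA (hB hb)) g, mul_inv_cancel_right]⟩
  have := nm A le_rfl
  let A0 := A ⊓ MonoidHom.eqLocus τ.toMonoidHom (MonoidHom.id S)
  have := nm A0 inf_le_left
  have cS : Nat.card S = _ := card_top.symm.trans h.cardS
  obtain ⟨B, _, h1, h2, h3⟩ := H9.exists_normal_card_eq_pow hS (M := A) (N := A0) inf_le_left (k := n)
    (Nat.le_of_mul_le_mul_right (by
      rw [← pow_succ, ← h.cardA]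
      exact H3.pg_le_card (hS.to_subgroup A) (inf_lt_left.2 hne)) two_pos)
    (h.cardA ▸ Nat.pow_le_pow_right two_pos n.le_succ)
  let f := QuotientGroup.mk' A
  have sq : ∀ x : S ⧸ A, x⁻¹ = x := fun x => by
    obtain ⟨x, rfl⟩ := QuotientGroup.mk_surjective x
    exact inv_eq_of_mul_eq_one_left ((QuotientGroup.eq_one_iff _).2 (h.sq x trivial))
  have cm : ∀ x y : S ⧸ A, x * y = y * x := fun x y => by rw [← sq (x * y), mul_inv_rev, sq, sq]
  let _ : CommGroup (S ⧸ A) := { mul_comm := cm }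
  let δ : S →* S ⧸ A := f * f.comp τ.toMonoidHom
  have hδ : ∀ x, δ x = f x * f (τ x) := fun _ => rfl
  have h4 : A ≤ δ.ker := fun a ha => (QuotientGroup.eq_one_iff _).2 (A.mul_mem ha
    ((h.inv _ trivial).1 (by rw [← map_mul, (h.inv _ trivial).2 ha, map_one])))
  have h5 : δ.range ≤ δ.ker.map f := by
    rintro _ ⟨x, rfl⟩
    refine ⟨x * τ x, ?_, rfl⟩
    change δ _ = 1
    rw [map_mul, hδ, hδ, hτ, map_mul, map_mul, map_inv, mul_inv_cancel_comm, mul_comm (f (τ x))]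
    exact mul_eq_one_iff_eq_inv.2 (sq _).symm
  have h6 : (2 ^ (n + 1)) ^ 2 ≤ Nat.card δ.ker := by
    have a := H3.card_map_mk h4
    have b := δ.ker.card_mul_index
    rw [index_ker, cS] at b
    have c := card_le_of_le h5
    rw [h.cardA] at a
    refine (Nat.pow_le_pow_iff_left two_ne_zero).1 ?_
    calc _ = 2 ^ (n + 1) * (Nat.card δ.ker * Nat.card δ.range) := by rw [b]; ring
      _ ≤ 2 ^ (n + 1) * (Nat.card δ.ker * Nat.card (δ.ker.map f)) := by gcongr
      _ = _ := by rw [mul_left_comm, a, pow_two]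
  let π := QuotientGroup.mk' B
  have hs := QuotientGroup.mk'_surjective B
  have pos := Nat.two_pow_pos n
  have h7 : Nat.card B * {x : S ⧸ B | x * x = 1}.ncard = Nat.card A +
      (2 ^ n - 1) * ((2 ^ (n + 1) + 1) * 2 ^ (n + 1)) := by
    refine (QuotientGroup.card_preimage_mk B _).symm.trans ?_
    rw [Nat.card_coe_set_eq, ← Set.ncard_inter_add_ncard_sdiff_eq_ncard _ (A : Set S),
      Set.inter_eq_right.2 (show (A : Set S) ⊆ QuotientGroup.mk ⁻¹' {x : S ⧸ B | x * x = 1} from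
        fun a ha => congrArg π ((h.inv _ trivial).2 ha)),
      H3.ncard_eq_mul (B := QuotientGroup.mk ⁻¹' {x : S ⧸ B | x * x = 1} \ (A : Set S))
        (Set.toFinite _) (C := (B : Set S) \ {1}) (Set.toFinite _) (fun x => x * x)
        (fun x a => ⟨(QuotientGroup.eq_one_iff _).1 a.1, fun b => a.2 ((h.inv _ trivial).1 b)⟩)
        fun y a => ?_, Set.ncard_sdiff_singleton_of_mem B.one_mem, ← h3]
    · rfl
    rw [← hf y (h2 a.1) a.2]
    congr 1
    exact Set.ext fun x => ⟨fun b => b.2, fun b => ⟨⟨(QuotientGroup.eq_one_iff _).2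
      (show x * x ∈ B from (show x * x = y from b) ▸ a.1), fun c => a.2 (b.symm.trans ((h.inv _ trivial).2 c))⟩, b⟩⟩
  refine gauss (hS.to_quotient B) (Z := A.map π) (W := δ.ker.map π) (m := 2 ^ (n + 2))
    (Nat.eq_of_mul_eq_mul_left pos (by rw [← pow_succ, ← h.cardA, ← H3.card_map_mk h2, h3]))
    (fun x => ?_) (fun x y => ?_) ?_
    (Nat.le_of_mul_le_mul_left ?_ pos) (by positivity) (Nat.eq_of_mul_eq_mul_left pos ?_)
  · obtain ⟨x, rfl⟩ := hs x
    exact ⟨_, h.sq x trivial, rfl⟩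
  · obtain ⟨x, rfl⟩ := hs x
    obtain ⟨y, rfl⟩ := hs y
    exact ⟨_, (QuotientGroup.eq_one_iff ⁅x, y⁆).1 (commutatorElement_eq_one_iff_mul_comm.2 (cm x y)), rfl⟩
  · rintro _ ⟨w, hw, rfl⟩
    refine (QuotientGroup.eq_one_iff _).2 (h1 ⟨h.sq w trivial, ?_⟩)
    have a : w⁻¹ * τ w ∈ A := QuotientGroup.eq.1 ((sq _).symm.trans (inv_eq_of_mul_eq_one_right hw))
    change τ _ = w * w
    rw [map_mul, ← mul_inv_cancel_left w (τ w), mul_assoc, ← mul_assoc _ w, ← mem_center_iff.1 (hA a) w,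
      mul_assoc w, (h.inv _ trivial).2 a, mul_one]
  · rw [← h3, H3.card_map_mk (h2.trans h4), h3]
    exact h6.trans_eq' (by ring)
  · have a := Set.ncard_add_ncard_compl {x : S ⧸ B | x * x = 1}
    have b := B.card_eq_card_quotient_mul_card_subgroup
    rw [cS, ← a, h3] at b
    rw [h3, h.cardA] at h7
    change _ = 2 ^ n * {x : S ⧸ B | x * x = 1}ᶜ.ncard
    obtain ⟨t, ht⟩ : ∃ t, 2 ^ n = t + 1 := ⟨_, (Nat.sub_add_cancel pos).symm⟩
    simp only [pow_succ 2, ht, Nat.add_sub_cancel] at b h7 ⊢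
    nlinarith


/-- Let S be a Sylow 2-subgroup of SU₃(2ⁿ), n ≥ 2 (realised over the field with 4ⁿ elements). If a finite 2-group R contains a subgroup S' of index 2 isomorphic to S, then the centre of S' is contained in the centre of R. -/
theorem result {R : Type*} [Group R] [Finite R]
    (hR : IsPGroup 2 R) (n : ℕ) (hn : 2 ≤ n) {F : Type*} [Field F] [Fintype F] (hF : Fintype.card F = 4 ^ n)
    (P : Sylow 2 ↥(Cfsg.SU 3 F (2 ^ n))) (S' : Subgroup R) (hS : Nonempty (↥S' ≃* ↥(P : Subgroup ↥(Cfsg.SU 3 F (2 ^ n)))))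
    (hidx : S'.index = 2) :
    (Subgroup.center ↥S').map S'.subtype ≤ Subgroup.center R := by
  have hF' : Fintype.card F = (2 ^ n) ^ 2 := by rw [hF, ← pow_mul, mul_comm, pow_mul]; rfl
  have : CharP F 2 := charP_of_card_eq_prime_pow (hF'.trans (pow_mul 2 n 2).symm)
  have h2 : IsPGroup 2 (H6.UG hF') := IsPGroup.of_card (H6.UG.card.trans (pow_mul 2 n 3).symm)
  obtain ⟨e⟩ := hS
  let E := ((MonoidHom.ofInjective H6.UG.toSU_injective).trans (((H10.sylow_su3 h2
    (Nat.even_pow.2 ⟨even_two, by omega⟩)).toSylowTop.equiv P).trans e.symm)).symm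
  obtain ⟨A, h⟩ := H5.Gd.u3_UG hF'
  obtain ⟨n, rfl⟩ : ∃ m, n = m + 1 := ⟨n - 1, by omega⟩
  have := normal_of_index_eq_two hidx
  rintro _ ⟨z, hz, rfl⟩
  refine mem_center_iff.2 fun r => mul_inv_eq_iff_eq_mul.1 (congrArg Subtype.val (E.injective
    (?_ : E (MulAut.conjNormal r z) = E z)))
  have := fix h2 h (fun y a b => ?_) (MulAut.congr E (MulAut.conjNormal r))
    (s := E ⟨r * r, (mul_mem_iff_of_index_two hidx).2 Iff.rfl⟩) (fun x => ?_) (E z) ?_
  · simpa using this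
  · have y0 := H6.UG.mul_self_eq_one.1 ((h.inv _ trivial).2 a)
    have y1 : y.s ^ 2 ^ (n + 1) = y.s := by
      have := y.tr
      rw [y0, mul_zero, H23.conj_apply] at this
      exact (CharTwo.add_eq_zero.1 this).symm
    have sq : ∀ x : H6.UG hF', x * x = y ↔ x.a ^ (2 ^ (n + 1) + 1) = y.s := fun x => by
      simp [H6.UG.ext_iff, CharTwo.add_self_eq_zero, y0, pow_succ, H23.conj_apply]
    rw [H3.ncard_eq_mul (B := {x | x * x = y}) (Set.toFinite _) (C := {x | x ^ (2 ^ (n + 1) + 1) = y.s}) (Set.toFinite _)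
      (·.a) (fun x => (sq x).1) fun c d => ?_]
    · exact congrArg (· * _) (H23.card_norm_eq hF' _ (fun c => b (H6.UG.ext y0 c)) y1)
    refine Eq.trans (Nat.card_congr ?_) (H23.card_trace_eq hF' y1)
    have d' : H23.conj hF' c * c = y.s := (pow_succ _ _).symm.trans d
    exact ⟨fun x => ⟨x.1.s, x.1.tr.trans ((congrArg (fun a => H23.conj hF' a * a) x.2.2).trans d')⟩, fun s => ⟨⟨c, s.1, s.2.trans d'.symm⟩,
      (sq _).2 d, rfl⟩, fun x => Subtype.ext (H6.UG.ext x.2.2.symm rfl), fun _ => rfl⟩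
  · obtain ⟨x, rfl⟩ := E.surjective x
    simp only [MulAut.congr_apply, MulEquiv.trans_apply, MulEquiv.symm_apply_apply, ← map_mul, ← map_inv]
    exact congrArg E (Subtype.ext (by simp [mul_assoc]))
  · by_contra c
    obtain ⟨a, ha, a1⟩ := (A.bot_or_exists_ne_one).resolve_left fun d => by
      have := h.cardA
      rw [d, card_bot] at this
      exact (Nat.one_lt_two_pow (by omega)).ne this
    obtain ⟨y, -, rfl⟩ := h.comm _ trivial c a ha
    obtain ⟨y, rfl⟩ := E.surjective y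
    exact a1 (by rw [← map_commutatorElement, commutatorElement_eq_one_iff_mul_comm.2
      (mem_center_iff.1 hz y).symm, map_one])

end Cfsg.Agent.S3315
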