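import Cfsg.Statements.S3390
import Cfsg.Agent.H15.Fx2

set_option autoImplicit false
open Cfsg

namespace Cfsg.Agent.S3390

/-- Let G be a finite group acting faithfully and transitively on a finite set Ω with fixity 2 (every non-identity element fixes at most two points, and some fixes exactly two). Let α ∈ Ω and S a Sylow 2-subgroup of G. Then one of the following holds: the stabilizer S_α of α in S is trivial; S is dihedral or semidihedral and either |S_α| = 2 or |S : S_α| = 2; |S| ≥ 4, S has exactly one orbit of size 2 on Ω, every other S-orbit is regular, and G has a normal subgroup of index 2 or of index |S| which is a Frobenius group; or S ≤ G_α. -/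
theorem result {G : Type*} [Group G] [Finite G] {Ω : Type*} [Fintype Ω] [MulAction G Ω] [FaithfulSMul G Ω] (htr : MulAction.IsPretransitive G Ω)
    (hfix : ∀ g : G, g ≠ 1 → Nat.card (MulAction.fixedBy Ω g) ≤ 2) (hex : ∃ g : G, g ≠ 1 ∧ Nat.card (MulAction.fixedBy Ω g) = 2) (α : Ω) (S : Sylow 2 G) :
    (S : Subgroup G) ⊓ MulAction.stabilizer G α = ⊥ ∨
    (((∃ n : ℕ, Nonempty (↥(S : Subgroup G) ≃* DihedralGroup n)) ∨ Cfsg.IsQuasiDihedral ↥(S : Subgroup G)) ∧
       (Nat.card ↥((S : Subgroup G) ⊓ MulAction.stabilizer G α) = 2 ∨ ((S : Subgroup G) ⊓ MulAction.stabilizer G α).relIndex (S : Subgroup G) = 2)) ∨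
    (4 ≤ Nat.card (S : Subgroup G) ∧
       (∃ ω : Ω, Nat.card (MulAction.orbit ↥(S : Subgroup G) ω) = 2 ∧
          ∀ ω' : Ω, ω' ∉ MulAction.orbit ↥(S : Subgroup G) ω → Nat.card (MulAction.orbit ↥(S : Subgroup G) ω') = Nat.card (S : Subgroup G)) ∧
       ∃ N : Subgroup G, N.Normal ∧ (N.index = 2 ∨ N.index = Nat.card (S : Subgroup G)) ∧ (∃ H : Subgroup ↥N, Cfsg.IsFrobeniusComplement H)) ∨
    (S : Subgroup G) ≤ MulAction.stabilizer G α := by
  by_cases h0 : (S : Subgroup G) ⊓ MulAction.stabilizer G α = ⊥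
  · exact Or.inl h0
  by_cases h1 : (S : Subgroup G) ≤ MulAction.stabilizer G α
  · exact Or.inr (Or.inr (Or.inr h1))
  set T := (S : Subgroup G) ⊓ MulAction.stabilizer G α with hT
  have c : Nat.card T * T.relIndex S = Nat.card (S : Subgroup G) := by
    rw [← (T.subgroupOf S).card_mul_index,
      Nat.card_congr (Subgroup.subgroupOfEquivOfLe (inf_le_left : T ≤ S)).toEquiv]
    rfl
  have t1 := (Subgroup.one_lt_card_iff_ne_bot T).2 h0
  have t2 : T.relIndex S ≠ 1 := fun e => h1 ((Subgroup.relIndex_eq_one.1 e).trans inf_le_right)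
  have t3 : T.relIndex S ≠ 0 := Subgroup.index_ne_zero_of_finite
  have t4 : 4 ≤ Nat.card (S : Subgroup G) := c ▸ Nat.mul_le_mul t1 (by omega : 2 ≤ T.relIndex S)
  by_cases h2 : T.relIndex S = 2
  swap
  · have k := H15.Fx2.two hfix S.isPGroup' h0 h1 h2
    rcases H15.Fx2.four hfix S.isPGroup' k (by omega) with e | e | e
    · exact Or.inr (Or.inl ⟨Or.inl e, Or.inl k⟩)
    · exact Or.inr (Or.inl ⟨Or.inr e, Or.inl k⟩)
    · rw [← hT] at k; rw [k, e] at c; omega
  have o2 : (MulAction.orbit (S : Subgroup G) α).ncard = 2 := by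
    rw [← H15.Fx2.rel, ← Subgroup.inf_relIndex_right, inf_comm]; exact h2
  by_cases hr : ∀ c : Ω, c ∉ MulAction.orbit (S : Subgroup G) α →
      (S : Subgroup G) ⊓ MulAction.stabilizer G c = ⊥
  · obtain ⟨N, a, b⟩ := H15.Fx2.frob hfix S h0 h2 hr
    refine Or.inr (Or.inr (Or.inl ⟨t4, ⟨α, o2, fun c hc => ?_⟩, N,
      Subgroup.normal_of_index_eq_two a, Or.inl a, b⟩))
    rw [Nat.card_coe_set_eq, ← H15.Fx2.rel, ← Subgroup.inf_relIndex_right, inf_comm, hr c hc,
      Subgroup.relIndex_bot_left]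
  push Not at hr
  obtain ⟨γ, g1, g2⟩ := hr
  obtain ⟨a, b, hab, e⟩ := Set.ncard_eq_two.1 o2
  have i2 : (T.subgroupOf S).index = 2 := h2
  have k0 : ∀ x ∈ T, x • γ = γ → x = 1 := fun x hx k => by
    by_contra x1
    have f : ∀ c ∈ MulAction.orbit (S : Subgroup G) α, x • c = c := by
      rintro _ ⟨u, rfl⟩
      have := (Subgroup.normal_of_index_eq_two i2).conj_mem ⟨x, hx.1⟩ hx u⁻¹
      have e : ((u : G)⁻¹ * x * (u : G)⁻¹⁻¹) • α = α := this.2
      rwa [inv_inv, mul_smul, mul_smul, inv_smul_eq_iff] at e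
    refine g1 (e ▸ H15.Fx2.three hfix x1 (f a ?_) (f b ?_) k hab) <;> simp [e]
  obtain ⟨s, hs, s1⟩ := (Subgroup.bot_or_exists_ne_one _).resolve_left g2
  have k1 : ∀ x ∈ (S : Subgroup G) ⊓ MulAction.stabilizer G γ, x ≠ 1 → x = s := fun x hx x1 => by
    have := (Subgroup.mul_mem_iff_of_index_two i2 (a := ⟨_, inv_mem hs.1⟩) (b := ⟨x, hx.1⟩)).2
      (iff_of_false (fun e => s1 (inv_eq_one.1 (k0 _ e (inv_mem hs).2))) fun e => x1 (k0 _ e hx.2))
    exact (inv_mul_eq_one.1 (k0 _ this (mul_mem (inv_mem hs) hx).2)).symm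
  have k : Nat.card ((S : Subgroup G) ⊓ MulAction.stabilizer G γ : Subgroup G) = 2 :=
    (Nat.card_eq_two_iff' 1).2 ⟨⟨s, hs⟩, fun e => s1 (congrArg Subtype.val e), fun x hx =>
      Subtype.ext (k1 x x.2 fun e => hx (Subtype.ext e))⟩
  refine Or.inr (Or.inl ⟨?_, Or.inr h2⟩)
  rcases H15.Fx2.four hfix S.isPGroup' k (by omega) with e | e | e
  · exact Or.inl e
  · exact Or.inr e
  obtain ⟨t, ht, t1⟩ := (Subgroup.bot_or_exists_ne_one _).resolve_left h0
  have s2 : s * s = 1 := by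
    by_contra e
    exact s1 (mul_left_cancel ((k1 _ (mul_mem hs hs) e).trans (mul_one s).symm))
  have t2 : t * t = 1 := by
    have := pow_card_eq_one' (x := (⟨t, ht⟩ : T))
    rw [show Nat.card T = 2 by rw [h2, e] at c; omega, sq] at this
    exact congrArg Subtype.val this
  have nc : ¬ IsCyclic (S : Subgroup G) := fun hc => by
    have := H15.Fx2.cyc hc (x := ⟨s, hs.1⟩) (y := ⟨t, ht.1⟩) (Subtype.ext s2) (Subtype.ext t2)
      (fun e => s1 (congrArg Subtype.val e)) fun e => t1 (congrArg Subtype.val e)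
    have e : s = t := congrArg Subtype.val this
    exact s1 (k0 s (e ▸ ht) hs.2)
  have : IsKleinFour (S : Subgroup G) :=
    ⟨e, (not_isCyclic_iff_exponent_eq_prime Nat.prime_two e).1 nc⟩
  exact Or.inl ⟨2, IsKleinFour.nonempty_mulEquiv⟩

end Cfsg.Agent.S3390
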