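import Cfsg.Statements.S3396
import Cfsg.Agent.H1.CIT13

set_option autoImplicit false
open Cfsg

namespace Cfsg.Agent.S3396

open H1.CIT

/-- Let G be a finite group whose order has at least three distinct prime divisors, and suppose every nonidentity element of G has order a power of 2 or a prime other than 5. Then G is isomorphic to PSL₂(7) (here F is any field with 7 elements). In particular a finite group whose set of element orders is {1, 2, 3, 4, 7} is PSL₂(7). -/
theorem result {G : Type*} [Group G] [Finite G]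
    {F : Type*} [Field F] [Fintype F] (hF : Fintype.card F = 7)
    (h3 : 3 ≤ (Nat.card G).primeFactors.card)
    (hord : ∀ g : G, g ≠ 1 → (∃ k : ℕ, orderOf g = 2 ^ k) ∨ ((orderOf g).Prime ∧ orderOf g ≠ 5)) :
    Nonempty (G ≃* Matrix.ProjectiveSpecialLinearGroup (Fin 2) F) := by
  have he : Eppo G := eppo_of fun g g1 => by
    rcases hord g g1 with ⟨k, e⟩ | ⟨e, -⟩
    · exact e ▸ Nat.prime_two.isPrimePow.pow (by rintro rfl; exact g1 (orderOf_eq_one_iff.1 e))
    · exact e.isPrimePow
  have no : ∀ n, Odd n → n ≠ 1 → El (G ⧸ pCore 2 G) n → n.Prime ∧ n ≠ 5 := fun n ho n1 hn => by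
    obtain ⟨g, rfl⟩ := hn.lift (QuotientGroup.mk'_surjective _)
    refine (hord g fun e => n1 (by simp [e])).resolve_left fun ⟨k, e⟩ => ?_
    rw [e] at ho n1
    exact absurd ((Nat.odd_pow_iff (by rintro rfl; simp at n1)).1 ho) (by decide)
  have n5 : ¬ 5 ∣ Nat.card (G ⧸ pCore 2 G) := fun e =>
    (no 5 (by decide) (by decide) (el_of_prime Nat.prime_five e)).2 rfl
  have n9 : ¬ El (G ⧸ pCore 2 G) 9 := fun e => absurd (no 9 (by decide) (by decide) e).1 (by decide)
  rcases he.cit.struct' (fun hs => by have := he.card_le hs; omega) with hK | hK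
  swap
  · exact absurd (by rw [hK.card]; norm_num) n5
  rcases hK.eppo (he.quot (QuotientGroup.mk'_surjective _)) with ⟨K, i1, i2, h1, ⟨f⟩⟩ | ⟨⟨f⟩⟩ |
    ⟨K, i1, i2, ⟨e, ⟨f⟩⟩ | ⟨e, ⟨f⟩⟩⟩ <;> rw [Nat.card_congr f.toEquiv] at n5
  · simp only [Finset.mem_insert, Finset.mem_singleton] at h1
    rw [El.congr f] at n9
    rcases h1 with e | e | e | e | e
    · simp [card_psl_of (n := 60) e, -Nat.card_eq_fintype_card] at n5
    · obtain ⟨f'⟩ := H18.psl_congr (e.trans hF.symm) 2
      refine (equiv_of_bot (by_contra fun h0 => ?_)).map (·.trans (f.trans f'))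
      have := hK.simple
      obtain ⟨H, hH⟩ := exists_21 ((Nat.card_congr f.toEquiv).trans (card_psl_of e (by norm_num)))
      exact absurd (no _ (by decide) (by decide) (hH ▸ el_of_cyclic (he.cit.el_pq h0 Nat.prime_three
        Nat.prime_seven (by decide) hH))).1 (by decide)
    · exact absurd ((el_psl_even (n := 3) (by norm_num) e).2 (by norm_num)) n9
    · simp [card_psl_of (n := 360) e, -Nat.card_eq_fintype_card] at n5
    · exact absurd ((el_psl_odd (p := 17) (n := 1) (by norm_num) (by norm_num) e (by omega)).2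
        (by norm_num [e])) n9
  · exact absurd (by rw [card_psl34]; norm_num) n5
  · exact (n5 (Dvd.dvd.trans (by norm_num [e]) (H26.Sz.lieModel (m := 1) le_rfl e).card_G.symm.dvd)).elim
  · exact (n5 (Dvd.dvd.trans (by norm_num [e]) (H26.Sz.lieModel (m := 2) one_le_two e).card_G.symm.dvd)).elim

end Cfsg.Agent.S3396
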