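import Cfsg.Statements.S3406
import Cfsg.Agent.H25.EO1
import Cfsg.Agent.S0252
import Cfsg.Agent.S0253
import Cfsg.Agent.S0254

set_option autoImplicit false
open Cfsg

namespace Cfsg.Agent.S3406

open H1.CIT H25.EO
open scoped MatrixGroups

theorem six {G : Type*} [Group G] [Finite G]
    (h5 : Nat.card (MulAction.orbitRel.Quotient (MulAut G) G) ≤ 5) {a b c d : ℕ}
    (h2 : El G 2) (ha : El G a) (hb : El G b) (hc : El G c) (hd : El G d) (k : [1, 2, a, b, c, d].Nodup) :
    False := by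
  classical
  let f : MulAction.orbitRel.Quotient (MulAut G) G → ℕ := Quotient.lift orderOf fun x y h => by
    obtain ⟨φ, rfl⟩ := h
    exact φ.orderOf_eq y
  have h1 : ([1, 2, a, b, c, d].toFinset : Set ℕ) ⊆ Set.range f := fun n hn => by
    have : El G n := by
      simp only [List.toFinset_cons, List.toFinset_nil, insert_empty_eq, Finset.coe_insert,
        Finset.coe_singleton, Set.mem_insert_iff, Set.mem_singleton_iff] at hn
      rcases hn with rfl | rfl | rfl | rfl | rfl | rfl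
      exacts [⟨1, orderOf_one⟩, h2, ha, hb, hc, hd]
    obtain ⟨x, rfl⟩ := this
    exact ⟨Quotient.mk _ x, rfl⟩
  have h3 := (Set.ncard_le_ncard h1 (Set.finite_range f)).trans
    ((Nat.card_le_card_of_surjective _ Set.rangeFactorization_surjective).trans h5)
  rw [Set.ncard_coe_finset, List.toFinset_card_of_nodup k] at h3
  simp at h3

theorem odd_case {G F : Type*} [Group G] [Finite G] [Field F] [Fintype F]
    (h5 : Nat.card (MulAction.orbitRel.Quotient (MulAut G) G) ≤ 5) (e : G ≃* PSL(2, F))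
    (ho : Fintype.card F % 2 = 1) (h3 : 3 < Fintype.card F) :
    Fintype.card F = 5 ∨ Fintype.card F = 7 ∨ Fintype.card F = 9 := by
  obtain ⟨p, i, n, hp, hn⟩ := FiniteField.card' F
  have hd : p ∣ Fintype.card F := hn ▸ dvd_pow_self p n.ne_zero
  have p2 : p ≠ 2 := by rintro rfl; omega
  have key := fun m => (El.congr e (n := m)).trans (el_psl_odd hp p2 hn (by omega))
  by_contra hc
  obtain ⟨a, ha⟩ : ∃ a, Fintype.card F = 2 * a + 1 := ⟨Fintype.card F / 2, by omega⟩
  have k1 : ¬ p ∣ a := fun h => hp.one_lt.ne' (Nat.dvd_one.1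
    ((Nat.dvd_add_right (h.mul_left 2)).1 (ha ▸ hd)))
  have k2 : ¬ p ∣ a + 1 := fun h => hp.one_lt.ne' (Nat.dvd_one.1
    ((Nat.dvd_add_right hd).1 (by rw [ha, add_assoc, ← mul_add_one 2]; exact h.mul_left 2)))
  have e1 : ∀ m, m ∣ a → El G m := fun m h => (key m).2 (.inr (.inl (by
    rw [ha]; exact Nat.mul_dvd_mul_left 2 h)))
  have e2 : ∀ m, m ∣ a + 1 → El G m := fun m h => (key m).2 (.inr (.inr (by
    rw [ha, add_assoc, ← mul_add_one 2]; exact Nat.mul_dvd_mul_left 2 h)))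
  have e3 := (key p).2 (.inl dvd_rfl)
  have p1 := hp.one_lt
  have n1 : p ≠ a := fun h => k1 (h ▸ dvd_rfl)
  have n2 : p ≠ a + 1 := fun h => k2 (h ▸ dvd_rfl)
  rcases Nat.even_or_odd' a with ⟨c, h | h⟩
  · have n3 : p ≠ c := fun k => k1 (k ▸ ⟨2, by omega⟩)
    exact six h5 (e1 2 ⟨c, h⟩) e3 (e1 a dvd_rfl) (e2 _ dvd_rfl) (e1 c ⟨2, by omega⟩) (by simp; omega)
  · have n3 : p ≠ c + 1 := fun k => k2 (k ▸ ⟨2, by omega⟩)
    exact six h5 (e2 2 ⟨c + 1, by omega⟩) e3 (e1 a dvd_rfl) (e2 _ dvd_rfl) (e2 (c + 1) ⟨2, by omega⟩)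
      (by simp; omega)

/-- A non-abelian finite simple group on whose elements the full automorphism group has at most five orbits is isomorphic to the alternating group of degree 5 or 6, to PSL(2, 7) or to PSL(2, 8). -/
theorem result {G : Type*} [Group G] [Finite G] [IsSimpleGroup G] (hG : ¬ IsMulCommutative G)
    (h5 : Nat.card (MulAction.orbitRel.Quotient (MulAut G) G) ≤ 5) :
    Nonempty (G ≃* ↥(alternatingGroup (Fin 5))) ∨ Nonempty (G ≃* ↥(alternatingGroup (Fin 6))) ∨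
      (∃ (F : Type) (_ : Field F) (_ : Fintype F), (Fintype.card F = 7 ∨ Fintype.card F = 8) ∧
        Nonempty (G ≃* Matrix.ProjectiveSpecialLinearGroup (Fin 2) F)) := by
  have hns : ¬ Group.IsSolvable G := fun h => hG ⟨⟨IsSimpleGroup.comm_iff_isSolvable.2 h⟩⟩
  obtain ⟨p, q, hp, hq, p2, q2, pq, dp, dq⟩ := two_odd_primes hns
  have fin : ∀ (F : Type) [Field F] [Fintype F], (G ≃* PSL(2, F)) → Fintype.card F % 2 = 1 →
      3 < Fintype.card F → Nonempty (G ≃* ↥(alternatingGroup (Fin 5))) ∨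
      Nonempty (G ≃* ↥(alternatingGroup (Fin 6))) ∨
      (∃ (F : Type) (_ : Field F) (_ : Fintype F), (Fintype.card F = 7 ∨ Fintype.card F = 8) ∧
        Nonempty (G ≃* PSL(2, F))) := fun F i j e h1 h2 => by
    rcases odd_case h5 e h1 h2 with k | k | k
    · exact .inl ((S0253.result k).map e.trans)
    · exact .inr (.inr ⟨F, i, j, .inl k, ⟨e⟩⟩)
    · exact .inr (.inl ((S0254.result k).map e.trans))
  have o := fun {r : ℕ} (h : r.Prime) => h.eq_two_or_odd
  rcases dich hG (fun r hr r2 h h4 => six h5 (h4.dvd (by norm_num)) h4 (el_of_prime hp dp)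
      (el_of_prime hq dq) h (by
        have := o hp; have := o hq; have := o hr; have := hp.two_le; have := hq.two_le; have := hr.two_le
        simp; omega))
    (fun r s hr hs r2 s2 h k => by
      by_contra hne
      exact six h5 (h.dvd (by simp)) (h.dvd (m := r) (by simp)) (k.dvd (m := s) (by simp)) h k (by
        have := o hs; have := o hr; have := hs.two_le; have := hr.two_le
        simp; omega)) with ((⟨F, i, j, n, h1, h2, ⟨f⟩⟩ | ⟨F, i, j, n, h1, h2, ⟨f⟩⟩) |
      ⟨F, i, j, k, h1, h2, -, ⟨f⟩⟩ | ⟨⟨f⟩⟩) | ⟨F, i, j, h1, h2, ⟨f⟩⟩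
  · have key := fun m => (El.congr f (n := m)).trans (el_psl_even h1 h2)
    obtain rfl | h1 := h1.eq_or_lt
    · exact .inl ((S0252.result h2).map f.trans)
    obtain rfl | h1 := (Nat.succ_le_of_lt h1).eq_or_lt
    · exact .inr (.inr ⟨F, i, j, .inr h2, ⟨f⟩⟩)
    obtain ⟨m, rfl⟩ : ∃ m, n = m + 4 := ⟨n - 4, by omega⟩
    have := Nat.two_pow_pos m
    have e : 2 ^ (m + 4) = 16 * 2 ^ m := by ring
    rcases two_pow_mod_three (m + 4) with k | k
    · obtain ⟨c, hc⟩ : 3 ∣ 2 ^ (m + 4) - 1 := by omega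
      exact (six h5 ((key 2).2 (by simp)) ((key 3).2 (.inr (.inl ⟨c, hc⟩)))
        ((key c).2 (.inr (.inl ⟨3, by omega⟩))) ((key _).2 (.inr (.inl dvd_rfl)))
        ((key _).2 (.inr (.inr dvd_rfl))) (by simp; omega)).elim
    · obtain ⟨c, hc⟩ : 3 ∣ 2 ^ (m + 4) + 1 := by omega
      exact (six h5 ((key 2).2 (by simp)) ((key 3).2 (.inr (.inr ⟨c, hc⟩)))
        ((key c).2 (.inr (.inr ⟨3, by omega⟩))) ((key _).2 (.inr (.inl dvd_rfl)))
        ((key _).2 (.inr (.inr dvd_rfl))) (by simp; omega)).elim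
  · have key := fun k => (El.congr f (n := k)).trans (el_sz (H26.Sz.lieModel h1 h2) h2)
    obtain ⟨m, rfl⟩ : ∃ m, n = m + 1 := ⟨n - 1, by omega⟩
    have := Nat.two_pow_pos m
    have e1 : 2 ^ (2 * (m + 1) + 1) = 8 * (2 ^ m * 2 ^ m) := by ring
    have e2 : 2 ^ (m + 1 + 1) = 4 * 2 ^ m := by ring
    have e3 : 2 ^ m ≤ 2 ^ m * 2 ^ m := Nat.le_mul_self _
    exact (six h5 ((key 2).2 (by simp)) ((key 4).2 (by simp)) ((key _).2 (.inr (.inl dvd_rfl)))
      ((key _).2 (.inr (.inr (.inl dvd_rfl)))) ((key _).2 (.inr (.inr (.inr dvd_rfl))))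
      (by simp only [e1, e2]; simp; omega)).elim
  · obtain ⟨m, rfl⟩ : ∃ m, k = m + 3 := ⟨k - 3, by omega⟩
    have := Nat.two_pow_pos m
    have e : 2 ^ (m + 3) = 8 * 2 ^ m := by ring
    exact fin F f (by omega) (by omega)
  · have key := fun k => (El.congr f (n := k)).trans el_psl34
    exact (six h5 ((key 2).2 (by norm_num)) ((key 3).2 (by norm_num)) ((key 4).2 (by norm_num))
      ((key 5).2 (by norm_num)) ((key 7).2 (by norm_num)) (by simp)).elim
  · exact fin F f (by omega) h2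

end Cfsg.Agent.S3406
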