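import Mathlib
import Cfsg.Statements.S4084
import Cfsg.Agent.H8.Elt
import Cfsg.Agent.H7.Extra2

set_option autoImplicit false
open Cfsg

namespace Cfsg.Agent.S4084

open Subgroup in
theorem aux {G H : Type*} [Group G] [Finite G] [Group H] [Finite H] (e : G ≃ H)
    (he : ∀ x y : G, Commute x y ↔ Commute (e x) (e y))
    {p q : ℕ} (hp : p.Prime) (hq : q.Prime) (hpq : p ≠ q) (g : G) (hg : orderOf g = p * q) :
    ∃ h : H, orderOf h = p * q := by
  have : Fact p.Prime := ⟨hp⟩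
  have : Fact q.Prime := ⟨hq⟩
  obtain ⟨A, hA, hgA, -, hC⟩ := H7.exists_maximal_abelian_le (B := zpowers g) (Q := ⊤)
    inferInstance le_top
  rw [top_inf_eq] at hC
  set B := centralizer (e '' (A : Set G)) with hB
  have h1 : ∀ x : G, e x ∈ B ↔ x ∈ A := by
    intro x
    rw [← hC]
    simp only [hB, mem_centralizer_iff, Set.forall_mem_image]
    exact forall₂_congr fun a _ => (he a x).symm
  have h2 : Nat.card A = Nat.card B :=
    Nat.card_congr (e.subtypeEquiv fun x => (h1 x).symm)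
  have h3 : p * q ∣ Nat.card B := by
    rw [← h2, ← hg]; exact orderOf_dvd_natCard _ (hgA (mem_zpowers g))
  obtain ⟨a, ha⟩ := exists_prime_orderOf_dvd_card' p (dvd_of_mul_right_dvd h3)
  obtain ⟨b, hb⟩ := exists_prime_orderOf_dvd_card' q (dvd_of_mul_left_dvd h3)
  rw [← orderOf_coe] at ha hb
  have h4 : Commute (a : H) b := by
    have h5 : e.symm a ∈ A := (h1 _).1 (by simp)
    exact b.2 a ⟨_, h5, e.apply_symm_apply _⟩
  refine ⟨a * b, ?_⟩
  rw [h4.orderOf_mul_eq_mul_orderOf_of_coprime (by rw [ha, hb]; exact (Nat.coprime_primes hp hq).2 hpq),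
    ha, hb]

theorem result {G H : Type*} [Group G] [Finite G] [Group H] [Finite H] (e : G ≃ H)
    (he : ∀ x y : G, Commute x y ↔ Commute (e x) (e y))
    {p q : ℕ} (hp : p.Prime) (hq : q.Prime) (hpq : p ≠ q) :
    (∃ g : G, orderOf g = p * q) ↔ (∃ h : H, orderOf h = p * q) := by
  refine ⟨fun ⟨g, hg⟩ => aux e he hp hq hpq g hg, fun ⟨g, hg⟩ => aux e.symm ?_ hp hq hpq g hg⟩
  intro x y
  rw [he]; simp

end Cfsg.Agent.S4084
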