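import Cfsg.Statements.S3413
import Cfsg.Agent.H25.O7920
import Cfsg.Agent.H27.MSub
import Cfsg.Agent.S2490
import Cfsg.Agent.S4084

set_option autoImplicit false
open Cfsg

namespace Cfsg.Agent.S3413

/-- Let H be a finite group whose commuting graph (vertices the non-identity elements, two joined when they commute) is isomorphic to that of the Mathieu group M_11: there is a bijection between the non-identity elements of H and of M_11 under which two elements commute exactly when their images do. Then H ≅ M_11. -/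
theorem result {H : Type*} [Group H] [Finite H]
    (f : {h : H // h ≠ 1} ≃ {g : ↥Cfsg.Spor.M11 // g ≠ 1})
    (hf : ∀ x y : {h : H // h ≠ 1}, (x : H) * y = y * x ↔ ((f x) : ↥Cfsg.Spor.M11) * (f y) = (f y) * (f x)) :
    Nonempty (H ≃* ↥Cfsg.Spor.M11) := by
  classical
  have := H27.simple_H11
  have hM := H27.m11Equiv.symm.isSimpleGroup
  have c := (Nat.card_congr H27.m11Equiv.symm.toEquiv).trans H27.card_H11
  have : Finite Spor.M11 := Nat.finite_of_card_ne_zero (by omega)
  let e : H ≃ Spor.M11 := (Equiv.optionSubtypeNe (1 : H)).symm.trans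
    (f.optionCongr.trans (Equiv.optionSubtypeNe (1 : Spor.M11)))
  have e1 : e 1 = 1 := by simp [e]
  have e2 : ∀ (x : H) (h : x ≠ 1), e x = f ⟨x, h⟩ := fun x h => by simp [e, h]
  have he : ∀ x y : H, Commute x y ↔ Commute (e x) (e y) := fun x y => by
    by_cases hx : x = 1
    · simp [hx, e1]
    by_cases hy : y = 1
    · simp [hy, e1]
    rw [e2 x hx, e2 y hy]
    exact hf ⟨x, hx⟩ ⟨y, hy⟩
  have hord : Nat.card H = 7920 := (Nat.card_congr e).trans c
  suffices IsSimpleGroup H from H25.m11_unique hord c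
  refine S2490.result hord ⟨{11}, ⟨11, rfl, by norm_num, by rw [hord]; norm_num⟩,
    ⟨2, by simp, by norm_num, by rw [hord]; norm_num⟩, ?_⟩
  rintro _ rfl b hb - pb - - hg
  have hb' : 11 ≠ b := fun h => hb h.symm
  obtain ⟨g, hg⟩ := (S4084.result e he (by norm_num) pb hb').1 hg
  have o1 : orderOf (g ^ b) = 11 := by
    rw [orderOf_pow_of_dvd pb.ne_zero (hg ▸ dvd_mul_left _ _), hg, Nat.mul_div_cancel _ pb.pos]
  haveI : Fact (Nat.Prime 11) := ⟨by norm_num⟩
  obtain ⟨P, hP⟩ := (IsPGroup.of_card (p := 11) (n := 1) (G := Subgroup.zpowers (g ^ b))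
    (by rw [Nat.card_zpowers, o1]; rfl)).exists_le_sylow
  obtain ⟨h1, -, -, h4⟩ := H25.m11_par11 c P
  have hz : Subgroup.zpowers (g ^ b) = P :=
    Subgroup.eq_of_le_of_card_ge hP (by rw [h1, Nat.card_zpowers, o1])
  have hm : g ∈ (P : Subgroup Spor.M11) := h4 (by
    rw [← hz]
    rintro _ ⟨k, rfl⟩
    exact (((Commute.refl g).pow_left b).zpow_left k).eq)
  have := orderOf_dvd_natCard (⟨g, hm⟩ : (P : Subgroup Spor.M11))
  rw [h1, ← Subgroup.orderOf_coe, hg] at this
  have := Nat.le_of_dvd (by norm_num) this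
  have := pb.two_le
  omega

end Cfsg.Agent.S3413
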