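import Cfsg.Statements.S3433
import Cfsg.Agent.H1.CIT16

set_option autoImplicit false
open Cfsg

namespace Cfsg.Agent.S3433

open H1.CIT

/-- A finite group whose set of element orders is exactly {1, 2, 3, 4, 5} is isomorphic to the alternating group of degree 6, or has a normal elementary abelian 2-subgroup with quotient isomorphic to the alternating group of degree 5. -/
theorem result {G : Type*} [Group G] [Finite G] (h : Set.range (orderOf : G → ℕ) = {k : ℕ | 1 ≤ k ∧ k ≤ 5}) :
    Nonempty (G ≃* ↥(alternatingGroup (Fin 6))) ∨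
      ∃ (N : Subgroup G) (_ : N.Normal), Cfsg.IsElementaryAbelian 2 N ∧ Nonempty (G ⧸ N ≃* ↥(alternatingGroup (Fin 5))) := by
  obtain ⟨hG, e | ⟨⟨e⟩⟩⟩ := Cit.five (G := G) fun n => Set.ext_iff.1 h n
  · exact .inl e
  obtain ⟨x, hx⟩ : (3 : ℕ) ∈ Set.range (orderOf : G → ℕ) := by rw [h]; exact ⟨by decide, by decide⟩
  exact .inr ⟨_, inferInstance, H1.Hig.ea_a5 H10.isPGroup_pCore' e hx (hG.fpf3 H10.isPGroup_pCore' hx), ⟨e⟩⟩

end Cfsg.Agent.S3433
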