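import Cfsg.Statements.S3501
import Cfsg.Agent.H25.Socle
import Cfsg.Agent.H25.Subdirect
import Cfsg.Agent.H25.Derang
import Cfsg.Agent.H25.FrobPerm
import Cfsg.Agent.H3.Misc

set_option autoImplicit false
open Cfsg

namespace Cfsg.Agent.S3501

open MulAction Subgroup

theorem exists_two_orders {T : Type*} [Group T] [Finite T] [IsSimpleGroup T]
    (hT : ¬ IsMulCommutative T) : ∃ s t : T, s ≠ 1 ∧ t ≠ 1 ∧ orderOf s ≠ orderOf t := by
  obtain ⟨p, hp, hpd⟩ := Nat.exists_prime_and_dvd (Finite.one_lt_card (α := T)).ne'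
  have := Fact.mk hp
  obtain ⟨s, hs⟩ := exists_prime_orderOf_dvd_card' p hpd
  by_contra h
  push Not at h
  have hs1 : s ≠ 1 := by rintro rfl; rw [orderOf_one] at hs; exact hp.one_lt.ne hs
  have hP : IsPGroup p T := fun t => ⟨1, by
    by_cases ht : t = 1
    · simp [ht]
    · rw [pow_one, ← hs, h s t hs1 ht, pow_orderOf_eq_one]⟩
  exact (nontrivial_iff_ne_bot _).1 hP.center_nontrivial (H25.center_eq_bot_of_simple_nonab hT)

theorem exists_derang {G Ω : Type*} [Group G] [Finite G] [MulAction G Ω] [Nontrivial Ω]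
    [IsPretransitive G Ω] : ∃ g : G, ∀ ω : Ω, g • ω ≠ ω := by
  obtain ⟨a, b, hab⟩ := exists_pair_ne Ω
  obtain ⟨g, hg⟩ := H3.exists_forall_conj_not_mem (H := stabilizer G a) (fun h => by
    obtain ⟨k, hk⟩ := exists_smul_eq G a b
    exact hab ((h ▸ mem_top k : k ∈ stabilizer G a).symm.trans hk))
  refine ⟨g, fun ω hω => ?_⟩
  obtain ⟨k, rfl⟩ := exists_smul_eq G a ω
  apply hg k
  rw [mem_stabilizer_iff, mul_smul, mul_smul, hω, inv_smul_smul]

theorem two_trans_of {G Ω : Type*} [Group G] [MulAction G Ω] (N : Subgroup G) [IsPretransitive N Ω]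
    (h : ∀ x ∈ N, ∀ y ∈ N, x ≠ 1 → y ≠ 1 → IsConj x y) (hc : IsMulCommutative N) [N.Normal] :
    IsMultiplyPretransitive G Ω 2 := by
  rw [is_two_pretransitive_iff]
  intro a b c d hab hcd
  obtain ⟨x, rfl⟩ := exists_smul_eq N a b
  obtain ⟨y, rfl⟩ := exists_smul_eq N c d
  obtain ⟨g, hg⟩ := isConj_iff.1 (h x x.2 y y.2 (fun h => hab (by rw [Subgroup.smul_def, h, one_smul]))
    (fun h => hcd (by rw [Subgroup.smul_def, h, one_smul])))
  obtain ⟨n, hn⟩ := exists_smul_eq N (g • a) c
  refine ⟨n * g, by rw [mul_smul]; exact hn, ?_⟩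
  have e : (n : G) * y = y * n := congrArg Subtype.val (hc.is_comm.comm n y)
  change ((n : G) * g) • (x : G) • a = (y : G) • c
  rw [← hn, Subgroup.smul_def, ← mul_smul, ← mul_smul, ← mul_smul, ← e, ← hg]
  congr 1
  group

/-- Let a finite group G act faithfully and primitively on a finite set Ω with at least two points, and suppose G is not almost simple (it has no non-abelian simple normal subgroup with trivial centralizer). Then the derangements of G form a single conjugacy class if and only if G is sharply 2-transitive (2-transitive, and no non-identity element fixes two points). -/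
theorem result {G : Type*} [Group G] [Finite G] {Ω : Type*} [Fintype Ω] [MulAction G Ω] [FaithfulSMul G Ω] (hΩ : 2 ≤ Fintype.card Ω) (hprim : MulAction.IsPreprimitive G Ω) (hnas : ¬ ∃ T : Subgroup G, T.Normal ∧ IsSimpleGroup T ∧ ¬ IsMulCommutative T ∧ Subgroup.centralizer (T : Set G) = ⊥) :
    Nat.card {c : ConjClasses G // ∃ g : G, ConjClasses.mk g = c ∧ ∀ ω : Ω, g • ω ≠ ω} = 1 ↔ (MulAction.IsMultiplyPretransitive G Ω 2 ∧ ∀ g : G, g ≠ 1 → ∀ a b : Ω, a ≠ b → g • a = a → g • b ≠ b) := by
  classical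
  have hnt : Nontrivial Ω := Fintype.one_lt_card_iff_nontrivial.1 hΩ
  obtain ⟨a⟩ : Nonempty Ω := inferInstance
  rw [Nat.card_eq_one_iff_exists]
  constructor
  · rintro ⟨c, hc⟩
    have hconj : ∀ x y : G, (∀ ω : Ω, x • ω ≠ ω) → (∀ ω : Ω, y • ω ≠ ω) → IsConj x y := by
      intro x y hx hy
      exact ConjClasses.mk_eq_mk_iff_isConj.1
        (congrArg Subtype.val ((hc ⟨_, x, rfl, hx⟩).trans (hc ⟨_, y, rfl, hy⟩).symm))
    have hG0 : (⊤ : Subgroup G) ≠ ⊥ := by
      obtain ⟨g, hg⟩ := exists_derang (G := G) (Ω := Ω)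
      intro h
      exact hg a (by rw [mem_bot.1 (h.le (mem_top g)), one_smul])
    obtain ⟨N, hNn, hN0, -, hNmin⟩ := H1.exists_minimal_normal_le (⊤ : Subgroup G) hG0
    have hNtr := H25.normal_transitive_of_primitive (α := Ω) N hN0
    obtain ⟨n, hn⟩ := exists_derang (G := N) (Ω := Ω)
    have hDN : ∀ x : G, (∀ ω : Ω, x • ω ≠ ω) → x ∈ N := by
      intro x hx
      obtain ⟨g, rfl⟩ := isConj_iff.1 (hconj n x hn hx)
      exact hNn.conj_mem _ n.2 g
    have hsemi : ∀ x ∈ centralizer (N : Set G), x ≠ 1 → ∀ ω : Ω, x • ω ≠ ω := by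
      intro x hx hx1 ω hω
      apply hx1
      rw [← mem_bot, ← H1.centralizer_inf_corefree
        (IsPreprimitive.isCoatom_stabilizer_of_isPreprimitive G ω) (H25.corefree_stabilizer ω) hN0]
      exact ⟨hx, hω⟩
    by_cases hNc : IsMulCommutative N
    · refine ⟨two_trans_of N (fun x hx y hy hx1 hy1 => hconj x y
        (hsemi x (N.le_centralizer hx) hx1) (hsemi y (N.le_centralizer hy) hy1)) hNc, ?_⟩
      intro g hg1 x y hxy hx hy
      have := H25.derang_stab_le N (fun g hg => by
        by_contra h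
        push Not at h
        exact hg (hDN g h)) hxy hx hy
      exact hsemi g (N.le_centralizer this) hg1 x hx
    exfalso
    have hC : centralizer (N : Set G) = ⊥ := by
      have h1 : centralizer (N : Set G) ≤ N := fun x hx => by
        by_cases hx1 : x = 1
        · rw [hx1]; exact one_mem _
        · exact hDN x (hsemi x hx hx1)
      exact (hNmin _ inferInstance h1).resolve_right fun h =>
        hNc (le_centralizer_iff_isMulCommutative.1 h.ge)
    obtain ⟨T, _, m, e, hT, hm, -⟩ := H25.exists_pi_simple_decomp_minimal_normal N hN0 hNmin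
    have hTc : ¬ IsMulCommutative T := fun h => hNc (H25.comm_of_pi_comm e h)
    have hTf : Finite T := Finite.of_injective (fun t : T => e.symm fun _ => t) fun s t h =>
      congrFun (e.symm.injective h) ⟨0, hm⟩
    have hm2 : 2 ≤ m := by
      by_contra h
      obtain rfl : m = 1 := by omega
      exact hnas ⟨N, hNn, (e.trans (MulEquiv.funUnique (Fin 1) T)).isSimpleGroup, hNc, hC⟩
    set R := (stabilizer N a).map e.toMonoidHom with hR
    have hder : ∀ x : Fin m → T, (∀ y, y * x * y⁻¹ ∉ R) → ∀ ω : Ω, (e.symm x : G) • ω ≠ ω := by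
      intro x hx ω hω
      obtain ⟨k, rfl⟩ := exists_smul_eq N a ω
      refine hx (e k⁻¹) ⟨k⁻¹ * e.symm x * k, ?_, by simp⟩
      rw [SetLike.mem_coe, mem_stabilizer_iff, mul_smul, mul_smul, inv_smul_eq_iff]
      exact hω
    by_cases hproj : ∀ i, R.map (Pi.evalMonoidHom (fun _ => T) i) = ⊤
    · obtain ⟨i, hi⟩ : ∃ i, R.comap (MonoidHom.mulSingle (fun _ => T) i) ≠ ⊤ := by
        by_contra h
        push Not at h
        obtain ⟨r, hr, hr'⟩ : e n ∈ R := Subgroup.pi_mem_of_mulSingle_mem _ fun i =>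
          (h i).ge (mem_top (e n i))
        exact hn a ((e.injective hr' : r = n) ▸ hr)
      have hnorm : (R.comap (MonoidHom.mulSingle (fun _ => T) i)).Normal := ⟨fun t ht s => by
        obtain ⟨r, hr, rfl⟩ : s ∈ R.map (Pi.evalMonoidHom (fun _ => T) i) := hproj i ▸ mem_top s
        have := R.mul_mem (R.mul_mem hr ht) (R.inv_mem hr)
        rw [mem_comap]
        convert this using 1
        ext j
        by_cases hj : j = i
        · subst hj; simp
        · simp [hj]⟩
      have hbot := hnorm.eq_bot_or_eq_top.resolve_right hi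
      have key : ∀ t : T, t ≠ 1 → ∀ ω : Ω, (e.symm (Pi.mulSingle i t) : G) • ω ≠ ω := by
        intro t ht
        refine hder _ fun y hy => ht ?_
        have : y i * t * (y i)⁻¹ ∈ R.comap (MonoidHom.mulSingle (fun _ => T) i) := by
          rw [mem_comap]
          convert hy using 1
          ext j
          by_cases hj : j = i
          · subst hj; simp
          · simp [hj]
        rw [hbot, mem_bot] at this
        simpa using this
      obtain ⟨s, t, hs, ht, hst⟩ := exists_two_orders hTc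
      obtain ⟨g, hg⟩ := isConj_iff.1 (hconj _ _ (key s hs) (key t ht))
      apply hst
      have h1 : ∀ u : T, orderOf (e.symm (Pi.mulSingle i u) : G) = orderOf u := fun u => by
        rw [Subgroup.orderOf_coe, MulEquiv.orderOf_eq]
        exact orderOf_injective (MonoidHom.mulSingle (fun _ => T) i) (fun a b h => by simpa using congrFun h i) u
      rw [← h1, ← h1, ← hg]
      exact ((MulAut.conj g).orderOf_eq _).symm
    · push Not at hproj
      obtain ⟨i, hi⟩ := hproj
      obtain ⟨t, ht⟩ := H3.exists_forall_conj_not_mem hi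
      have ht1 : t ≠ 1 := by rintro rfl; exact ht 1 (by simp)
      have key : ∀ x : Fin m → T, x i = t → ∀ ω : Ω, (e.symm x : G) • ω ≠ ω := by
        intro x hx
        exact hder _ fun y hy => ht (y i)⁻¹ ⟨_, hy, by simp [hx]⟩
      obtain ⟨g, hg⟩ := isConj_iff.1 (hconj _ _ (key (Pi.mulSingle i t) (by simp)) (key (fun _ => t) rfl))
      let ψ : (Fin m → T) ≃* (Fin m → T) := (e.symm.trans (MulAut.conjNormal g)).trans e
      have hψ : ψ (Pi.mulSingle i t) = fun _ => t := by
        simp only [ψ, MulEquiv.trans_apply]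
        rw [← e.eq_symm_apply]
        exact Subtype.ext hg
      let M : Subgroup (Fin m → T) := (MonoidHom.mulSingle (fun _ => T) i).range.map ψ.toMonoidHom
      have hM0 : (MonoidHom.mulSingle (fun _ : Fin m => T) i).range.Normal := ⟨by
        rintro _ ⟨u, rfl⟩ y
        refine ⟨y i * u * (y i)⁻¹, ?_⟩
        ext j
        by_cases hj : j = i
        · subst hj; simp
        · simp [hj]⟩
      have hMn : M.Normal := hM0.map _ ψ.surjective
      have hMtop : ∀ x, x ∈ M := fun x => Subgroup.pi_mem_of_mulSingle_mem _ fun j =>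
        H25.mulSingle_mem_of_normal hTc M (x := fun _ => t) ⟨_, ⟨t, rfl⟩, hψ⟩ ht1 _
      obtain ⟨j, hj⟩ : ∃ j : Fin m, j ≠ i := by
        have : Nontrivial (Fin m) := Fin.nontrivial_iff_two_le.2 hm2
        exact exists_ne i
      obtain ⟨_, ⟨u, rfl⟩, hu⟩ := hMtop (ψ fun _ => t)
      have := congrFun (ψ.injective hu) j
      simp [hj] at this
      exact ht1 this.symm
  · rintro ⟨h2, hsharp⟩
    obtain ⟨N, hNn, hN, hNtr, hNreg⟩ := H25.frobenius_perm (G := G) a fun x y hxy g hx hy => by
      by_contra h1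
      exact hsharp g h1 x y hxy hx hy
    obtain ⟨g, hg⟩ := exists_derang (G := G) (Ω := Ω)
    refine ⟨⟨_, g, rfl, hg⟩, ?_⟩
    rintro ⟨_, k, rfl, hk⟩
    apply Subtype.ext
    simp only [ConjClasses.mk_eq_mk_iff_isConj]
    obtain ⟨x, hx1, hx2⟩ := is_two_pretransitive_iff.1 h2 (hk a).symm (hg a).symm
    refine isConj_iff.2 ⟨x, ?_⟩
    have := (H25.bijective_smul_of_regular a (hNreg a)).1
      (a₁ := ⟨_, hNn.conj_mem k ((hN k).2 (Or.inr hk)) x⟩) (a₂ := ⟨g, (hN g).2 (Or.inr hg)⟩) (by
        change (x * k * x⁻¹) • a = g • a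
        rw [mul_smul, mul_smul, inv_smul_eq_iff.2 hx1.symm, hx2])
    exact congrArg Subtype.val this

end Cfsg.Agent.S3501
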