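import Cfsg.Statements.S3520
import Cfsg.Agent.H25.ONS2
import Cfsg.Agent.H25.FrobPerm

set_option autoImplicit false
open Cfsg

namespace Cfsg.Agent.S3520

open MulAction Subgroup

/-- Let a finite group G act faithfully and primitively on a finite set Ω with at least two points, suppose G is not almost simple (no non-abelian simple normal subgroup with trivial centralizer), and suppose the derangements of G form exactly two conjugacy classes. Then either Ω has 3 points and G has order 3; or G has a non-trivial abelian normal subgroup N acting regularly, every non-identity element of G fixes at most one point (so, when n > 3, G is a Frobenius group with kernel N), the number n of points is odd and a point stabilizer has order (n − 1)/2; or G is 2-transitive with a non-trivial abelian regular normal subgroup and some non-identity element fixes at least two points (a non-Frobenius 2-transitive affine group). -/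
theorem result {G : Type*} [Group G] [Finite G] {Ω : Type*} [Fintype Ω] [MulAction G Ω] [FaithfulSMul G Ω] (hΩ : 2 ≤ Fintype.card Ω) (hprim : MulAction.IsPreprimitive G Ω) (hnas : ¬ ∃ T : Subgroup G, T.Normal ∧ IsSimpleGroup T ∧ ¬ IsMulCommutative T ∧ Subgroup.centralizer (T : Set G) = ⊥)
    (hκ : Nat.card {c : ConjClasses G // ∃ g : G, ConjClasses.mk g = c ∧ ∀ ω : Ω, g • ω ≠ ω} = 2) (α : Ω) :
    (Fintype.card Ω = 3 ∧ Nat.card G = 3) ∨
    ((∃ N : Subgroup G, N.Normal ∧ N ≠ ⊥ ∧ IsMulCommutative N ∧ ∀ ω : Ω, MulAction.stabilizer N ω = ⊥) ∧ (∀ g : G, g ≠ 1 → Nat.card (MulAction.fixedBy Ω g) ≤ 1) ∧ ¬ 2 ∣ Fintype.card Ω ∧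
        2 * Nat.card (MulAction.stabilizer G α) = Fintype.card Ω - 1) ∨
    ((∃ N : Subgroup G, N.Normal ∧ N ≠ ⊥ ∧ IsMulCommutative N ∧ ∀ ω : Ω, MulAction.stabilizer N ω = ⊥) ∧ MulAction.IsMultiplyPretransitive G Ω 2 ∧ ∃ g : G, g ≠ 1 ∧ 2 ≤ Nat.card (MulAction.fixedBy Ω g)) := by
  have : Nontrivial Ω := Fintype.one_lt_card_iff_nontrivial.1 hΩ
  obtain ⟨c, d, hcd, hall⟩ := Nat.card_eq_two_iff.1 hκ
  have three : ∀ x y z : G, (∀ ω : Ω, x • ω ≠ ω) → (∀ ω : Ω, y • ω ≠ ω) → (∀ ω : Ω, z • ω ≠ ω) →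
      ¬ IsConj x y → IsConj x z ∨ IsConj y z := by
    intro x y z hx hy hz hxy
    have key : ∀ w : G, (∀ ω : Ω, w • ω ≠ ω) → ConjClasses.mk w = c ∨ ConjClasses.mk w = d := by
      intro w hw
      have : (⟨ConjClasses.mk w, w, rfl, hw⟩ : {c : ConjClasses G // ∃ g : G,
        ConjClasses.mk g = c ∧ ∀ ω : Ω, g • ω ≠ ω}) ∈ ({c, d} : Set _) := hall ▸ Set.mem_univ _
      exact this.imp (congrArg Subtype.val) (congrArg Subtype.val)
    simp only [← ConjClasses.mk_eq_mk_iff_isConj] at hxy ⊢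
    rcases key x hx with h1 | h1 <;> rcases key y hy with h2 | h2 <;>
      rcases key z hz with h3 | h3 <;> simp_all
  rcases H25.ons_cases hprim with ⟨N, h1, h0, h2, h3, -, h5⟩ | h | ⟨N, m, T, h1, h2, h3, h4⟩
  rotate_left
  · exact absurd h hnas
  · obtain ⟨x, y, z, hx, hy, hz, a1, a2, a3⟩ := h3.three_derang hprim h4
    exact ((three x y z hx hy hz a1).elim a2 a3).elim
  right
  have hreg : ∀ n ∈ N, ∀ ω : Ω, n • ω = ω → n = 1 := by
    intro n hn ω h
    have : (⟨n, hn⟩ : N) ∈ stabilizer N ω := h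
    rw [h5, mem_bot] at this
    exact congrArg Subtype.val this
  have hconj : ∀ n ∈ N, ∀ n' ∈ N, ∀ g : G, g • α = α → g • n • α = n' • α → g * n * g⁻¹ = n' := by
    intro n hn n' hn' g g1 g2
    have := hreg _ (mul_mem (inv_mem hn') (h1.conj_mem n hn g)) α (by
      rw [mul_smul, mul_smul, mul_smul, inv_smul_eq_iff.2 g1.symm, g2, inv_smul_smul])
    exact (inv_mul_eq_one.1 this).symm
  by_cases h2t : IsMultiplyPretransitive G Ω 2
  · refine Or.inr ⟨⟨N, h1, h0, h2, h5⟩, h2t, ?_⟩
    by_contra hn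
    push Not at hn
    obtain ⟨K, -, hK, -, hK2⟩ := H25.frobenius_perm (G := G) α fun a b hab g ha hb => by
      by_contra hg
      have := hn g hg
      have : Nontrivial (fixedBy Ω g) := ⟨⟨a, ha⟩, ⟨b, hb⟩, fun h => hab (congrArg Subtype.val h)⟩
      have := Finite.one_lt_card (α := fixedBy Ω g)
      omega
    have hin : ∀ g : G, (∀ ω : Ω, g • ω ≠ ω) → g ∈ N := by
      intro g hg
      obtain ⟨n, hn⟩ := exists_smul_eq N α (g • α)
      have hn' : (n : G) ∈ K := (hK n).2 (by
        by_cases h : (n : G) = 1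
        · exact Or.inl h
        · exact Or.inr fun ω hω => h (hreg n n.2 ω hω))
      have : (⟨(n : G)⁻¹ * g, mul_mem (inv_mem hn') ((hK g).2 (Or.inr hg))⟩ : K) ∈
          stabilizer K α := by
        show ((n : G)⁻¹ * g) • α = α
        rw [mul_smul, inv_smul_eq_iff]; exact hn.symm
      rw [hK2, mem_bot] at this
      have : (n : G) = g := inv_mul_eq_one.1 (congrArg Subtype.val this)
      exact this ▸ n.2
    obtain ⟨c, x, rfl, hx⟩ := c
    obtain ⟨d, y, rfl, hy⟩ := d
    obtain ⟨g, g1, g2⟩ := is_two_pretransitive_iff.1 h2t (hx α).symm (hy α).symm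
    exact hcd (Subtype.ext (ConjClasses.mk_eq_mk_iff_isConj.2
      (isConj_iff.2 ⟨g, hconj x (hin x hx) y (hin y hy) g g1 g2⟩)))
  left
  obtain ⟨b, c, hb, hc, hbc⟩ : ∃ b c : Ω, b ≠ α ∧ c ≠ α ∧ ∀ g : G, g • α = α → g • b ≠ c := by
    by_contra hn
    push Not at hn
    apply h2t
    rw [is_two_pretransitive_iff]
    intro x y z w hxy hzw
    obtain ⟨g, rfl⟩ := exists_smul_eq G α x
    obtain ⟨k, rfl⟩ := exists_smul_eq G α z
    obtain ⟨u, u1, u2⟩ := hn (g⁻¹ • y) (k⁻¹ • w) (fun h => hxy (by rw [← h, smul_inv_smul]))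
      (fun h => hzw (by rw [← h, smul_inv_smul]))
    exact ⟨k * u * g⁻¹, by rw [mul_smul, mul_smul, inv_smul_smul, u1],
      by rw [mul_smul, mul_smul, u2, smul_inv_smul]⟩
  obtain ⟨⟨x, hx⟩, rfl⟩ := exists_smul_eq N α b
  obtain ⟨⟨y, hy⟩, rfl⟩ := exists_smul_eq N α c
  change x • α ≠ α at hb
  change y • α ≠ α at hc
  change ∀ g : G, g • α = α → g • x • α ≠ y • α at hbc
  have hder : ∀ n ∈ N, n • α ≠ α → ∀ ω : Ω, n • ω ≠ ω := by
    intro n hn h ω hω
    rw [hreg n hn ω hω, one_smul] at h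
    exact h rfl
  have hst : ∀ n ∈ N, ∀ n', IsConj n n' → ∃ g : G, g • α = α ∧ g • n • α = n' • α := by
    intro n hn n' h
    obtain ⟨g, rfl⟩ := isConj_iff.1 h
    obtain ⟨k, hk⟩ := exists_smul_eq N (g • α) α
    have hk' : (k : G) • g • α = α := hk
    refine ⟨k * g, by rw [mul_smul, hk'], ?_⟩
    have hc : (k : G) * (g * n * g⁻¹) = g * n * g⁻¹ * k :=
      congrArg Subtype.val (h2.1.1 k ⟨_, h1.conj_mem n hn g⟩)
    conv_rhs => rw [← hk', ← mul_smul, ← hc]
    simp [mul_smul]
  have hxy : ¬ IsConj x y := fun h => by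
    obtain ⟨g, g1, g2⟩ := hst x hx y h
    exact hbc g g1 g2
  have hfix : ∀ g : G, g ≠ 1 → Nat.card (fixedBy Ω g) ≤ 1 := by
    intro g hg
    by_cases hgN : g ∈ N
    · have : Subsingleton (fixedBy Ω g) := ⟨fun a => absurd (hreg g hgN a a.2) hg⟩
      exact Finite.card_le_one_iff_subsingleton.2 this
    refine ((H25.derang_trans (Ω := Ω) N fun g hg => ?_).2 g hgN).le
    by_contra hn
    push Not at hn
    rcases three x y g (hder x hx hb) (hder y hy hc) hn hxy with h | h <;>
      obtain ⟨k, rfl⟩ := isConj_iff.1 h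
    · exact hg (h1.conj_mem x hx k)
    · exact hg (h1.conj_mem y hy k)
  have horb : ∀ b : Ω, b ≠ α → (orbit (stabilizer G α) b).ncard = Nat.card (stabilizer G α) := by
    intro b hb
    have := H25.ncard_orbit_mul_card_stabilizer (G := stabilizer G α) b
    have h0 : stabilizer (stabilizer G α) b = ⊥ := by
      rw [eq_bot_iff]
      intro g hg
      by_contra hn
      have := hfix g fun h => hn (Subtype.ext h)
      have : Nontrivial (fixedBy Ω (g : G)) :=
        ⟨⟨b, hg⟩, ⟨α, g.2⟩, fun h => hb (congrArg Subtype.val h)⟩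
      have := Finite.one_lt_card (α := fixedBy Ω (g : G))
      omega
    rwa [h0, card_bot, mul_one] at this
  have hun : ({α}ᶜ : Set Ω) = orbit (stabilizer G α) (x • α) ∪ orbit (stabilizer G α) (y • α) := by
    ext w
    constructor
    · intro hw
      obtain ⟨⟨n, hn⟩, rfl⟩ := exists_smul_eq N α w
      rcases three x y n (hder x hx hb) (hder y hy hc) (hder n hn hw) hxy with h | h
      · obtain ⟨g, g1, g2⟩ := hst x hx n h
        exact Or.inl ⟨⟨g, g1⟩, g2⟩
      · obtain ⟨g, g1, g2⟩ := hst y hy n h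
        exact Or.inr ⟨⟨g, g1⟩, g2⟩
    · rintro (⟨g, rfl⟩ | ⟨g, rfl⟩) h
      · exact hb (smul_left_cancel g (h.trans g.2.symm))
      · exact hc (smul_left_cancel g (h.trans g.2.symm))
  have hd : Disjoint (orbit (stabilizer G α) (x • α)) (orbit (stabilizer G α) (y • α)) :=
    (orbit.eq_or_disjoint _ _).resolve_left fun h => by
      obtain ⟨g, hg⟩ : y • α ∈ orbit (stabilizer G α) (x • α) := h ▸ mem_orbit_self _
      exact hbc g g.2 hg
  have := congrArg Set.ncard hun
  rw [Set.ncard_compl, Set.ncard_union_eq hd, horb _ hb, horb _ hc, Set.ncard_singleton,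
    Nat.card_eq_fintype_card] at this
  exact ⟨⟨N, h1, h0, h2, h5⟩, hfix, by omega, by omega⟩

end Cfsg.Agent.S3520
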