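import Cfsg.Statements.S3554
import Cfsg.Agent.H1.Basic

set_option autoImplicit false
open Cfsg

namespace Cfsg.Agent.S3554

/-- Let G act faithfully and transitively on a finite set and suppose G has a non-trivial cyclic normal subgroup. Then some element of G of prime order fixes no point. -/
theorem result {G Ω : Type*} [Group G] [Finite G] [MulAction G Ω] [FaithfulSMul G Ω] [Finite Ω]
    (htrans : MulAction.IsPretransitive G Ω) (C : Subgroup G) (hC : C.Normal) (hC1 : C ≠ ⊥) (hcyc : IsCyclic ↥C) :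
    ∃ g : G, (orderOf g).Prime ∧ ∀ ω : Ω, g • ω ≠ ω := by
  obtain ⟨p, hp, hpd⟩ := H1.exists_prime_dvd_card hC1
  have := Fact.mk hp
  obtain ⟨x, hx⟩ := exists_prime_orderOf_dvd_card' p hpd
  have hx' : orderOf (x : G) = p := by rw [Subgroup.orderOf_coe, hx]
  refine ⟨x, hx' ▸ hp, fun ω hω => ?_⟩
  have hchar : (Subgroup.zpowers x).Characteristic := by
    obtain ⟨c, hc⟩ := hcyc.exists_generator
    rw [Subgroup.characteristic_iff_map_le]
    intro φ
    rw [MonoidHom.map_zpowers, Subgroup.zpowers_le]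
    obtain ⟨i, rfl⟩ := hc x
    obtain ⟨j, hj⟩ := hc (φ c)
    refine ⟨j, ?_⟩
    simp only at hj ⊢
    rw [map_zpow, MulEquiv.toMonoidHom_eq_coe, MonoidHom.coe_coe, ← hj, ← zpow_mul, ← zpow_mul, mul_comm]
  have hN := H1.normal_map_char C (Subgroup.zpowers x)
  have : (x : G) = 1 := by
    apply eq_of_smul_eq_smul (α := Ω)
    intro b
    obtain ⟨k, rfl⟩ := MulAction.exists_smul_eq G ω b
    have h1 : k⁻¹ * x * k⁻¹⁻¹ ∈ (Subgroup.zpowers x).map C.subtype :=
      hN.conj_mem _ ⟨x, Subgroup.mem_zpowers x, rfl⟩ _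
    have h2 : (Subgroup.zpowers x).map C.subtype ≤ MulAction.stabilizer G ω := by
      rw [MonoidHom.map_zpowers, Subgroup.zpowers_le]
      exact hω
    have h3 := h2 h1
    rw [MulAction.mem_stabilizer_iff, inv_inv, mul_smul, mul_smul, inv_smul_eq_iff] at h3
    rw [h3, one_smul]
  rw [this, orderOf_one] at hx'
  exact hp.one_lt.ne hx'

end Cfsg.Agent.S3554
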