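import Cfsg.Statements.S3555
import Mathlib

set_option autoImplicit false
open Cfsg

namespace Cfsg.Agent.S3555

open scoped Pointwise

open Finset in
theorem two_fix {G Ω : Type*} [Group G] [Finite G] [MulAction G Ω] [FaithfulSMul G Ω] [Finite Ω]
    [Nonempty Ω]
    (htrans : MulAction.IsPretransitive G Ω) (hinv : ∀ g : G, (∀ ω : Ω, g • ω ≠ ω) → g * g = 1)
    (g : G) (a b : Ω) (hab : a ≠ b) (ha : g • a = a) (hb : g • b = b) : g = 1 := by
  classical
  have := Fintype.ofFinite G
  have := Fintype.ofFinite Ω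
  set f : G → ℕ := fun x => #(univ.filter fun w : Ω => x • w = w) with hf
  have hsum : ∑ x : G, f x = Fintype.card G := by
    have h1 := MulAction.sum_card_fixedBy_eq_card_orbits_mul_card_group G Ω
    have h2 : Fintype.card (Quotient (MulAction.orbitRel G Ω)) = 1 := by
      rw [Fintype.card_eq_one_iff]
      refine ⟨Quotient.mk _ (Classical.arbitrary Ω), fun y => ?_⟩
      induction y using Quotient.inductionOn with
      | h y =>
        apply Quotient.sound
        exact MulAction.mem_orbit_iff.2 (htrans.exists_smul_eq _ _)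
    rw [h2, one_mul] at h1
    rw [← h1]
    refine Finset.sum_congr rfl fun x _ => ?_
    rw [hf, Fintype.card_subtype]
    congr 1
  set D : Finset G := univ.filter fun x => ∀ w : Ω, x • w ≠ w with hD
  have hf0 : ∀ x, x ∈ D ↔ f x = 0 := by
    intro x
    simp [hD, hf, Finset.filter_eq_empty_iff]
  set T : Finset (G × Ω × Ω) := univ.filter fun t => t.1 • t.2.1 = t.2.1 ∧ t.1 • t.2.2 = t.2.2 ∧ t.2.1 ≠ t.2.2 with hT
  have hTc : #T = ∑ x : G, (f x * f x - f x) := by
    rw [Finset.card_eq_sum_card_fiberwise (f := Prod.fst) (t := univ) (fun _ _ => Finset.mem_coe.2 (mem_univ _))]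
    refine Finset.sum_congr rfl fun x _ => ?_
    rw [hf, ← Finset.offDiag_card]
    refine Finset.card_bij (fun t _ => t.2) ?_ ?_ ?_
    · intro t ht
      simp only [hT, mem_filter, mem_univ, true_and] at ht
      obtain ⟨⟨h1, h2, h3⟩, rfl⟩ := ht
      simp [Finset.mem_offDiag, h1, h2, h3]
    · intro t ht s hs h
      simp only [mem_filter] at ht hs
      exact Prod.ext (ht.2.trans hs.2.symm) h
    · intro p hp
      simp only [Finset.mem_offDiag, mem_filter, mem_univ, true_and] at hp
      exact ⟨(x, p), by simp [hT, hp.1, hp.2.1, hp.2.2], rfl⟩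
  have hex : ∀ p : Ω × Ω, ∃ d : G, (∃ e : G, e • p.1 = p.2 ∧ e • p.2 = p.1) → d • p.1 = p.2 ∧ d • p.2 = p.1 := by
    intro p
    by_cases h : ∃ e : G, e • p.1 = p.2 ∧ e • p.2 = p.1
    · obtain ⟨e, he⟩ := h
      exact ⟨e, fun _ => he⟩
    · exact ⟨1, fun h' => absurd h' h⟩
  choose d0 hd0 using hex
  have hle : #(D ×ˢ (univ : Finset Ω)) ≤ #T := by
    refine Finset.card_le_card_of_injOn (fun p => (p.1 * d0 (p.2, p.1 • p.2), p.2, p.1 • p.2)) ?_ ?_
    · intro p hp
      simp only [hD, coe_product, Set.mem_prod, mem_coe, mem_filter, mem_univ, true_and, and_true] at hp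
      have h2 : p.1 • p.1 • p.2 = p.2 := by rw [← mul_smul, hinv _ hp, one_smul]
      obtain ⟨h3, h4⟩ := hd0 (p.2, p.1 • p.2) ⟨p.1, rfl, h2⟩
      simp only [hT, mem_coe, mem_filter, mem_univ, true_and, mul_smul]
      simp only at h3 h4
      refine ⟨by rw [h3, h2], by rw [h4], (hp _).symm⟩
    · intro p _ q _ h
      simp only [Prod.mk.injEq] at h
      obtain ⟨h1, h2, h3⟩ := h
      rw [h3, h2] at h1
      exact Prod.ext (mul_right_cancel h1) h2
  rw [card_product, card_univ, hTc] at hle
  set n := Fintype.card Ω with hn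
  have hfn : ∀ x, f x ≤ n := fun x => Finset.card_le_univ _
  -- integer form
  have hz : ∑ x : G, (if f x = 0 then (0:ℤ) else ((n:ℤ) - f x) * (f x - 1)) ≤ 0 := by
    have e1 : (#D : ℤ) = ∑ x : G, (if f x = 0 then (1:ℤ) else 0) := by
      rw [Finset.sum_boole]
      congr 2
      ext x
      simp [hf0]
    have e2 : ((∑ x : G, (f x * f x - f x) : ℕ) : ℤ) = ∑ x : G, ((f x : ℤ) * f x - f x) := by
      push_cast
      refine Finset.sum_congr rfl fun x _ => ?_
      rw [Nat.cast_sub (Nat.le_mul_self _)]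
      push_cast; rfl
    have e3 : ∑ x : G, ((f x : ℤ) - 1) = 0 := by
      rw [Finset.sum_sub_distrib, ← Nat.cast_sum, hsum]
      simp
    have e4 : (#D : ℤ) * n ≤ ∑ x : G, ((f x : ℤ) * f x - f x) := by
      rw [← e2]; exact_mod_cast hle
    have e5 : ∑ x : G, (if f x = 0 then (0:ℤ) else ((n:ℤ) - f x) * (f x - 1)) =
        n * ∑ x : G, ((f x : ℤ) - 1) + (∑ x : G, (if f x = 0 then (1:ℤ) else 0)) * n
          - ∑ x : G, ((f x : ℤ) * f x - f x) := by
      rw [Finset.mul_sum, Finset.sum_mul, ← Finset.sum_add_distrib, ← Finset.sum_sub_distrib]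
      refine Finset.sum_congr rfl fun x _ => ?_
      split_ifs with h
      · simp [h]
      · ring
    rw [e5, e3, ← e1]
    linarith
  have hnn : ∀ x ∈ (univ : Finset G), (0:ℤ) ≤ (if f x = 0 then (0:ℤ) else ((n:ℤ) - f x) * (f x - 1)) := by
    intro x _
    split_ifs with h
    · exact le_rfl
    · apply mul_nonneg
      · have := hfn x; omega
      · omega
  have hzero := (Finset.sum_eq_zero_iff_of_nonneg hnn).1 (le_antisymm hz (Finset.sum_nonneg hnn)) g (mem_univ _)
  have h2 : 2 ≤ f g := by
    have : ({a, b} : Finset Ω) ⊆ univ.filter fun w : Ω => g • w = w := by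
      intro w hw
      simp only [mem_insert, mem_singleton] at hw
      rcases hw with rfl | rfl <;> simp [ha, hb]
    have h := Finset.card_le_card this
    rwa [Finset.card_pair hab] at h
  rw [if_neg (by omega)] at hzero
  have h3 : f g = n := by
    rcases mul_eq_zero.1 hzero with h | h <;> omega
  have h4 : (univ.filter fun w : Ω => g • w = w) = univ := Finset.eq_univ_of_card _ h3
  apply eq_of_smul_eq_smul (α := Ω)
  intro w
  have : w ∈ univ.filter fun w : Ω => g • w = w := by rw [h4]; exact mem_univ _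
  simpa using this

/-- Let G act faithfully and transitively on a finite set and suppose every element of G fixing no point is an involution. Then either G is an elementary abelian 2-group, or G is a Frobenius group whose Frobenius kernel is an elementary abelian 2-group: G has a Frobenius complement H, and the elements lying in no conjugate of H, together with the identity, pairwise commute and square to the identity. -/
theorem result {G Ω : Type*} [Group G] [Finite G] [MulAction G Ω] [FaithfulSMul G Ω] [Finite Ω]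
    (htrans : MulAction.IsPretransitive G Ω) (hinv : ∀ g : G, (∀ ω : Ω, g • ω ≠ ω) → orderOf g = 2) :
    (IsMulCommutative G ∧ ∀ g : G, g ^ 2 = 1) ∨
    (∃ H : Subgroup G, Cfsg.IsFrobeniusComplement H ∧
      (∀ x ∈ Cfsg.frobeniusKernel H, x ^ 2 = 1) ∧
      ∀ x ∈ Cfsg.frobeniusKernel H, ∀ y ∈ Cfsg.frobeniusKernel H, x * y = y * x) := by
  classical
  rcases isEmpty_or_nonempty Ω with hE | hN
  · have := hinv 1 (fun w => hE.elim w)
    simp at this
  have hsq : ∀ g : G, (∀ ω : Ω, g • ω ≠ ω) → g * g = 1 := by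
    intro g hg
    rw [← sq, ← hinv g hg, pow_orderOf_eq_one]
  have key := two_fix htrans hsq
  -- the kernel
  have hK : ∀ x y : G, (x = 1 ∨ ∀ w : Ω, x • w ≠ w) → (y = 1 ∨ ∀ w : Ω, y • w ≠ w) →
      (x * y = 1 ∨ ∀ w : Ω, (x * y) • w ≠ w) := by
    rintro x y (rfl | hx) hy
    · simpa using hy
    rcases hy with rfl | hy
    · right; simpa using hx
    by_cases h : ∀ w : Ω, (x * y) • w ≠ w
    · exact Or.inr h
    left
    push Not at h
    obtain ⟨w, hw⟩ := h
    have h1 : y • w = x • w := by
      have := congrArg (x • ·) hw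
      simpa [← mul_smul, ← mul_assoc, hsq x hx] using this
    refine key _ w (y • w) (hy w).symm hw ?_
    rw [mul_smul, ← mul_smul y y, hsq y hy, one_smul, h1]
  have hK2 : ∀ x : G, (x = 1 ∨ ∀ w : Ω, x • w ≠ w) → x * x = 1 := by
    rintro x (rfl | hx)
    · simp
    · exact hsq x hx
  have hcomm : ∀ x y : G, (x = 1 ∨ ∀ w : Ω, x • w ≠ w) → (y = 1 ∨ ∀ w : Ω, y • w ≠ w) → x * y = y * x := by
    intro x y hx hy
    have h1 := hK2 _ (hK x y hx hy)
    have h2 := hK2 x hx
    have h3 := hK2 y hy
    calc x * y = (x * y)⁻¹ := (inv_eq_of_mul_eq_one_right h1).symm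
      _ = y⁻¹ * x⁻¹ := mul_inv_rev _ _
      _ = y * x := by rw [inv_eq_of_mul_eq_one_right h2, inv_eq_of_mul_eq_one_right h3]
  obtain ⟨a⟩ := hN
  have hconj : ∀ g x : G, x ∈ MulAut.conj g • MulAction.stabilizer G a ↔ x • g • a = g • a := by
    intro g x
    rw [Subgroup.mem_pointwise_smul_iff_inv_smul_mem, MulAction.mem_stabilizer_iff]
    simp only [MulAut.smul_def, MulAut.conj_inv_apply, mul_smul]
    rw [inv_smul_eq_iff]
  have hker : ∀ x ∈ frobeniusKernel (MulAction.stabilizer G a), (x = 1 ∨ ∀ w : Ω, x • w ≠ w) := by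
    rintro x (rfl | hx)
    · exact Or.inl rfl
    right
    intro w hw
    obtain ⟨g, rfl⟩ := htrans.exists_smul_eq a w
    exact hx g ((hconj g x).2 hw)
  by_cases hb : MulAction.stabilizer G a = ⊥
  · left
    have hall : ∀ x : G, (x = 1 ∨ ∀ w : Ω, x • w ≠ w) := by
      intro x
      apply hker
      by_cases hx : x = 1
      · exact Or.inl hx
      right
      intro g hg
      rw [hb] at hg
      simp only [Subgroup.smul_bot, Subgroup.mem_bot] at hg
      exact hx hg
    exact ⟨⟨⟨fun x y => hcomm x y (hall x) (hall y)⟩⟩, fun g => by rw [sq]; exact hK2 g (hall g)⟩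
  right
  refine ⟨MulAction.stabilizer G a, ⟨hb, ?_, ?_⟩, ?_, ?_⟩
  · intro ht
    apply hb
    rw [eq_bot_iff]
    intro x _
    rw [Subgroup.mem_bot]
    apply eq_of_smul_eq_smul (α := Ω)
    intro w
    obtain ⟨g, rfl⟩ := htrans.exists_smul_eq a w
    have h1 : ∀ y : G, y • a = a := fun y => by
      have : y ∈ MulAction.stabilizer G a := by rw [ht]; trivial
      exact this
    rw [← mul_smul, h1, one_smul, h1]
  · intro g hg
    rw [eq_bot_iff]
    rintro x ⟨h1, h2⟩
    rw [Subgroup.mem_bot]
    exact key x a (g • a) (fun h => hg h.symm) h1 ((hconj g x).1 h2)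
  · intro x hx
    rw [sq]; exact hK2 x (hker x hx)
  · intro x hx y hy
    exact hcomm x y (hker x hx) (hker y hy)

end Cfsg.Agent.S3555
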