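import Cfsg.Statements.S3556
import Cfsg.Agent.H25.ONS

set_option autoImplicit false
open Cfsg

namespace Cfsg.Agent.S3556

theorem not_pgroup {G : Type*} [Group G] [Finite G] {T : Subgroup G} [IsSimpleGroup T]
    (h : ¬ IsMulCommutative T) {p : ℕ} (hp : p.Prime) (hT : ∀ t ∈ T, ∃ k, t ^ p ^ k = 1) :
    False := by
  have := Fact.mk hp
  have h1 : IsPGroup p T := fun t => (hT t t.2).imp fun k hk => Subtype.ext hk
  have := h1.center_nontrivial
  rw [H25.center_eq_bot_of_simple_nonab h] at this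
  exact not_nontrivial _ this

/-- Let G act faithfully and primitively on a finite set with at least two points, and suppose that for some fixed prime p every element of G fixing no point has order a power of p. Then G is of affine type (it has a regular normal subgroup that is an elementary abelian r-group for some prime r) or almost simple (it has a non-abelian simple normal subgroup with trivial centralizer). -/
theorem result {G Ω : Type*} [Group G] [Finite G] [MulAction G Ω] [FaithfulSMul G Ω] [Finite Ω]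
    (hprim : MulAction.IsPreprimitive G Ω) (hΩ : 2 ≤ Nat.card Ω) (p : ℕ) (hp : p.Prime)
    (hder : ∀ g : G, (∀ ω : Ω, g • ω ≠ ω) → ∃ k : ℕ, orderOf g = p ^ k) :
    (∃ (N : Subgroup G) (r : ℕ), r.Prime ∧ N.Normal ∧ Cfsg.IsElementaryAbelian r N ∧
      MulAction.IsPretransitive N Ω ∧ ∀ a : Ω, MulAction.stabilizer N a = ⊥) ∨
    (∃ T : Subgroup G, T.Normal ∧ IsSimpleGroup ↥T ∧ ¬ IsMulCommutative ↥T ∧
      Subgroup.centralizer (T : Set G) = ⊥) := by
  have : Nontrivial Ω := Finite.one_lt_card_iff_nontrivial.1 hΩ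
  rcases H25.ons_cases hprim with ⟨N, h1, -, h2, h3, ⟨r, hr, h4⟩, h5⟩ | h | ⟨N, m, T, h1, h2, h3, h4⟩
  · exact Or.inl ⟨N, r, hr, h1, ⟨h2, h4⟩, h3, h5⟩
  · exact Or.inr h
  exfalso
  rcases h3.derang hprim h4 with ⟨i, hi⟩ | ⟨i, j, hij, x, hx, h⟩
  · have := h3.simple i
    refine not_pgroup (h3.nonab i) hp fun t ht => ?_
    by_cases h1 : t = 1
    · exact ⟨0, by simp [h1]⟩
    · obtain ⟨k, hk⟩ := hder t (hi t ht h1)
      exact ⟨k, hk ▸ pow_orderOf_eq_one t⟩
  · have := h3.simple j
    refine not_pgroup (h3.nonab j) hp fun t ht => ?_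
    obtain ⟨k, hk⟩ := hder _ (h t ht)
    have hc : Commute x t := h3.comm i j hij ht x hx
    have h5 := pow_orderOf_eq_one (x * t)
    rw [hk, hc.mul_pow, mul_eq_one_iff_inv_eq] at h5
    exact ⟨k, h3.eq_one hij (h5 ▸ inv_mem (pow_mem hx _)) (pow_mem ht _)⟩

end Cfsg.Agent.S3556
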