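import Cfsg.Statements.S3557
import Cfsg.Agent.H9.Basic

set_option autoImplicit false
open Cfsg

namespace Cfsg.Agent.S3557
open MulAction Subgroup

theorem cent_fpf {R Ω : Type*} [Group R] [MulAction R Ω] {z : R} {b : Ω}
    (hz : ∀ g : R, ∀ y ∈ orbit R b, z • g • y = g • z • y) {x : Ω} (hx : x ∈ orbit R b)
    (h : z • x = x) : ∀ y ∈ orbit R b, z • y = y := by
  intro y hy
  rw [← orbit_eq_iff.2 hx] at hy
  obtain ⟨g, rfl⟩ := hy
  simp only [hz g x hx, h]

theorem core {R Ω : Type*} [Group R] [Finite R] [MulAction R Ω] [FaithfulSMul R Ω] [Finite Ω]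
    {p : ℕ} [hp : Fact p.Prime] (hR : IsPGroup p R) {a b : Ω}
    (ha : (orbit R a).ncard = p ^ 2) (hb : (orbit R b).ncard = p ^ 2)
    (hab : ∀ x, x ∈ orbit R a ↔ x ∉ orbit R b)
    (hK : (toPermHom R (orbit R b)).ker ≠ ⊥) :
    ∃ σ : Equiv.Perm Ω, σ ^ p = 1 ∧ (∀ x, σ x ≠ x) ∧
      ∀ x y, ∃ g : R, σ x = g • x ∧ σ y = g • y := by
  classical
  set φ := toPermHom R (orbit R b) with hφ
  have hker : ∀ g : R, g ∈ φ.ker ↔ ∀ y ∈ orbit R b, g • y = y := by
    intro g
    rw [MonoidHom.mem_ker, Equiv.ext_iff]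
    exact ⟨fun h y hy => congrArg Subtype.val (h ⟨y, hy⟩), fun h y => Subtype.ext (h y.1 y.2)⟩
  obtain ⟨z, hzK, hzZ, hz⟩ := H9.exists_mem_center_orderOf_eq hR hK
  have hzc : ∀ g : R, ∀ y : Ω, z • g • y = g • z • y := fun g y => by
    rw [← mul_smul, ← mul_smul, mem_center_iff.1 hzZ g]
  have hz1 : ∀ x ∈ orbit R a, z • x ≠ x := fun x hx h => by
    have : z = 1 := eq_of_smul_eq_smul (α := Ω) fun y => by
      rw [one_smul]
      by_cases hy : y ∈ orbit R b
      · exact (hker z).1 hzK y hy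
      · exact cent_fpf (fun g y _ => hzc g y) hx h y ((hab y).2 hy)
    rw [this, orderOf_one] at hz
    exact hp.out.one_lt.ne hz
  set M := zpowers z ⊔ stabilizer R a with hM
  have hi : M.index ∣ p ^ 2 := by
    rw [← ha, ← index_stabilizer]; exact index_dvd_of_le le_sup_right
  have hi2 : M.index ≠ p ^ 2 := fun h => by
    have := relIndex_mul_index (le_sup_right : stabilizer R a ≤ M)
    rw [index_stabilizer, ha, h, mul_eq_right₀ (pow_ne_zero _ hp.out.ne_zero),
      relIndex_eq_one] at this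
    exact hz1 a (mem_orbit_self a) (this (mem_sup_left (mem_zpowers z)))
  have hMn : M.Normal := by
    obtain ⟨k, hk, e⟩ := (Nat.dvd_prime_pow hp.out).1 hi
    interval_cases k
    · exact normal_of_index_eq_one (by simpa using e)
    · obtain ⟨n, hn⟩ := hR.exists_card_eq
      have hn0 : n ≠ 0 := fun h => by
        have := orderOf_dvd_natCard z
        rw [hz, hn, h, pow_zero, Nat.dvd_one] at this
        exact hp.out.one_lt.ne' this
      exact normal_of_index_eq_minFac_card (by rw [e, hn, hp.out.pow_minFac hn0, pow_one])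
    · exact absurd e hi2
  have hMz : ∀ w ∈ M, ∀ x ∈ orbit R a, ∃ u ∈ zpowers z, w • x = u • x := by
    rintro w hw _ ⟨g, rfl⟩
    have : (zpowers z).Normal := ⟨fun u hu g => by
      rwa [mem_center_iff.1 (zpowers_le.2 hzZ hu) g, mul_inv_cancel_right]⟩
    have h1 := hMn.conj_mem w hw g⁻¹
    rw [hM, ← SetLike.mem_coe, normal_mul] at h1
    obtain ⟨u, hu, s, hs, e⟩ := h1
    refine ⟨u, hu, ?_⟩
    have e2 : w * g = g * u * s := by
      simp only [inv_inv] at e; rw [mul_assoc g, e]; group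
    change w • g • a = u • g • a
    rw [← mul_smul, e2, mul_smul, show s • a = a from hs, ← mul_smul u,
      mem_center_iff.1 (zpowers_le.2 hzZ hu) g]
  have hMK : M.map φ.rangeRestrict ≠ ⊥ := fun h => by
    rw [Subgroup.map_eq_bot_iff, MonoidHom.ker_rangeRestrict] at h
    have : M ≤ stabilizer R b := fun g hg => (hker g).1 (h hg) b (mem_orbit_self b)
    have := index_dvd_of_le this
    rw [index_stabilizer, hb] at this
    exact hi2 (Nat.dvd_antisymm hi this)
  have := hMn.map _ φ.rangeRestrict_surjective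
  obtain ⟨_, ⟨w, hw, rfl⟩, hwZ, hwo⟩ := H9.exists_mem_center_orderOf_eq
    (hR.of_surjective _ φ.rangeRestrict_surjective) hMK
  have hwc : ∀ g : R, ∀ y ∈ orbit R b, w • g • y = g • w • y := fun g y hy => by
    have := congrArg Subtype.val (mem_center_iff.1 hwZ (φ.rangeRestrict g))
    exact (congrArg Subtype.val (Equiv.ext_iff.1 this ⟨y, hy⟩)).symm
  have hwp : φ w ^ p = 1 := by
    have := pow_orderOf_eq_one (φ.rangeRestrict w)
    rw [hwo] at this
    exact congrArg Subtype.val this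
  have hw1 : ∀ x ∈ orbit R b, w • x ≠ x := fun x hx h => by
    have : φ.rangeRestrict w = 1 := Subtype.ext ((hker w).2 (cent_fpf hwc hx h))
    rw [this, orderOf_one] at hwo
    exact hp.out.one_lt.ne hwo
  let σ : Equiv.Perm Ω := toPerm z * Equiv.Perm.ofSubtype (φ w)
  have s1 : ∀ x ∈ orbit R b, σ x = w • x := fun x hx => by
    change z • Equiv.Perm.ofSubtype (φ w) x = _
    rw [Equiv.Perm.ofSubtype_apply_of_mem _ hx]
    exact (hker z).1 hzK _ (φ w ⟨x, hx⟩).2
  have s2 : ∀ x ∈ orbit R a, σ x = z • x := fun x hx => by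
    change z • Equiv.Perm.ofSubtype (φ w) x = _
    rw [Equiv.Perm.ofSubtype_apply_of_not_mem _ ((hab x).1 hx)]
  have pw : ∀ (c : Ω) (u : R), (∀ x ∈ orbit R c, σ x = u • x) → ∀ n : ℕ, ∀ x ∈ orbit R c,
      (σ ^ n) x = u ^ n • x := by
    intro c u h n
    induction n with
    | zero => simp
    | succ n ih =>
      intro x hx
      rw [pow_succ', Equiv.Perm.mul_apply, ih x hx, h _ (mapsTo_smul_orbit _ _ hx), pow_succ',
        mul_smul]
  have mix : ∀ x ∈ orbit R a, ∀ y ∈ orbit R b, ∃ g : R, σ x = g • x ∧ σ y = g • y := by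
    intro x hx y hy
    obtain ⟨u, hu, e⟩ := hMz w hw x hx
    refine ⟨z * u⁻¹ * w, ?_, ?_⟩
    · rw [s2 x hx, mul_smul, e, mul_smul, inv_smul_smul]
    · rw [s1 y hy, mul_smul]
      exact ((hker _).1 (mul_mem hzK (inv_mem (zpowers_le.2 hzK hu))) _
        (mapsTo_smul_orbit _ _ hy)).symm
  refine ⟨σ, Equiv.ext fun x => ?_, fun x => ?_, fun x y => ?_⟩
  · by_cases hx : x ∈ orbit R b
    · rw [pw b w s1 p x hx]
      exact (hker _).1 (by rw [MonoidHom.mem_ker, map_pow, hwp]) x hx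
    · rw [pw a z s2 p x ((hab x).2 hx), ← hz, pow_orderOf_eq_one, one_smul]; rfl
  · by_cases hx : x ∈ orbit R b
    · rw [s1 x hx]; exact hw1 x hx
    · rw [s2 x ((hab x).2 hx)]; exact hz1 x ((hab x).2 hx)
  · by_cases hx : x ∈ orbit R b <;> by_cases hy : y ∈ orbit R b
    · exact ⟨w, s1 x hx, s1 y hy⟩
    · obtain ⟨g, h1, h2⟩ := mix y ((hab y).2 hy) x hx
      exact ⟨g, h2, h1⟩
    · exact mix x ((hab x).2 hx) y hy
    · exact ⟨z, s2 x ((hab x).2 hx), s2 y ((hab y).2 hy)⟩

/-- Let G act faithfully and transitively on a finite set with 2p² points, p a prime, and suppose G is 2-closed: every permutation of the set which, on each ordered pair of points, agrees with some element of G, is itself induced by an element of G. Then some element of G of prime order fixes no point. -/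
theorem result {G Ω : Type*} [Group G] [Finite G] [MulAction G Ω] [FaithfulSMul G Ω] [Finite Ω]
    (htrans : MulAction.IsPretransitive G Ω) (p : ℕ) (hp : p.Prime) (hcard : Nat.card Ω = 2 * p ^ 2)
    (hcl : ∀ σ : Equiv.Perm Ω, (∀ a b : Ω, ∃ g : G, σ a = g • a ∧ σ b = g • b) → ∃ g : G, ∀ a : Ω, σ a = g • a) :
    ∃ g : G, (orderOf g).Prime ∧ ∀ ω : Ω, g • ω ≠ ω := by
  classical
  have := Fact.mk hp
  obtain ⟨P⟩ : Nonempty (Sylow p G) := inferInstance
  set R := (P : Subgroup G) with hR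
  have hp2 : 0 < p ^ 2 := pow_pos hp.pos 2
  have F1 : ∀ x : Ω, p ^ 2 ∣ (orbit R x).ncard := fun x => by
    have h1 := index_dvd_of_le (inf_le_left : stabilizer G x ⊓ R ≤ _)
    rw [index_stabilizer_of_transitive, hcard,
      ← relIndex_mul_index (inf_le_right : stabilizer G x ⊓ R ≤ R), inf_relIndex_right] at h1
    rw [← index_stabilizer]
    exact Nat.Coprime.dvd_of_dvd_mul_right
      (Nat.Coprime.pow_left _ (hp.coprime_iff_not_dvd.2 P.not_dvd_index))
      ((Dvd.intro_left _ rfl).trans h1)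
  obtain ⟨a⟩ : Nonempty Ω := (Nat.card_pos_iff.1 (by omega)).1
  -- a central element works when the action on every orbit is faithful
  have easy : (∀ x : Ω, (toPermHom R (orbit R x)).ker = ⊥) →
      ∃ g : G, (orderOf g).Prime ∧ ∀ ω : Ω, g • ω ≠ ω := fun h => by
    have : (⊤ : Subgroup R) ≠ ⊥ := fun e => by
      have h1 := F1 a
      rw [← index_stabilizer, eq_top_iff.2 (e.le.trans bot_le : ⊤ ≤ stabilizer R a), index_top,
        Nat.dvd_one] at h1
      exact (Nat.one_lt_pow two_ne_zero hp.one_lt).ne' h1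
    obtain ⟨z, -, hzZ, hz⟩ := H9.exists_mem_center_orderOf_eq P.isPGroup' this
    refine ⟨z, by rw [orderOf_coe, hz]; exact hp, fun ω hω => ?_⟩
    have := cent_fpf (z := z) (b := ω) (fun g y _ => by
      rw [← mul_smul, ← mul_smul, mem_center_iff.1 hzZ g]) (mem_orbit_self ω) hω
    have : z ∈ (toPermHom R (orbit R ω)).ker := Equiv.ext fun y => Subtype.ext (this y.1 y.2)
    rw [h, mem_bot] at this
    rw [this, orderOf_one] at hz
    exact hp.one_lt.ne hz
  by_cases h : ∀ x : Ω, (toPermHom R (orbit R x)).ker = ⊥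
  · exact easy h
  push Not at h
  obtain ⟨b, hb⟩ := h
  obtain ⟨c, hc⟩ : ∃ c, c ∉ orbit R b := by
    by_contra h; push Not at h
    refine hb (eq_bot_iff.2 fun g hg => mem_bot.2 (eq_of_smul_eq_smul (α := Ω) fun y => ?_))
    rw [one_smul]
    exact congrArg Subtype.val (Equiv.ext_iff.1 (MonoidHom.mem_ker.1 hg) ⟨y, h y⟩)
  have hd : Disjoint (orbit R c) (orbit R b) := Set.disjoint_left.2 fun x h1 h2 => hc (by
    rw [← orbit_eq_iff.2 h2, orbit_eq_iff.2 h1]; exact mem_orbit_self c)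
  have hu := Set.ncard_union_eq hd
  have hle := Set.ncard_le_card (orbit R c ∪ orbit R b)
  have h1 := Nat.le_of_dvd ((Set.ncard_pos (Set.toFinite _)).2 ⟨c, mem_orbit_self c⟩) (F1 c)
  have h2 := Nat.le_of_dvd ((Set.ncard_pos (Set.toFinite _)).2 ⟨b, mem_orbit_self b⟩) (F1 b)
  have hun : orbit R c ∪ orbit R b = Set.univ :=
    Set.eq_of_subset_of_ncard_le (Set.subset_univ _) (by rw [Set.ncard_univ]; omega)
  obtain ⟨σ, s1, s2, s3⟩ := core (R := R) (a := c) (b := b) P.isPGroup' (by omega) (by omega)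
    (fun x => ⟨fun h => Set.disjoint_left.1 hd h, fun h => ((hun ▸ Set.mem_univ x :
      x ∈ orbit R c ∪ orbit R b)).resolve_right h⟩) hb
  obtain ⟨g, hg⟩ := hcl σ fun x y => by
    obtain ⟨g, h⟩ := s3 x y
    exact ⟨g.1, h⟩
  have e : toPermHom G Ω g = σ := Equiv.ext fun x => (hg x).symm
  refine ⟨g, ?_, fun ω => hg ω ▸ s2 ω⟩
  rw [← orderOf_injective (toPermHom G Ω) toPerm_injective, e,
    orderOf_eq_prime s1 fun h => s2 a (by rw [h]; rfl)]
  exact hp

end Cfsg.Agent.S3557
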