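import Cfsg.Statements.S3600
import Cfsg.Agent.H1.CIT16
import Cfsg.Agent.H25.SL25
import Cfsg.Agent.H4.Dk6

set_option autoImplicit false
open Cfsg

namespace Cfsg.Agent.S3600

open H1.CIT H1.Hig Subgroup H10
open scoped MatrixGroups

theorem a5_inv {a : alternatingGroup (Fin 5)} (ha : orderOf a = 2) :
    ∃ u v : alternatingGroup (Fin 5), orderOf u = 3 ∧ orderOf v = 5 ∧ u * v = a := by
  have h2 : (2 : ZMod 5) ≠ 0 := by decide
  have := Fact.mk Nat.prime_five
  obtain ⟨e⟩ := H18.psl_a5 (F := ZMod 5) (.inr (ZMod.card 5))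
  obtain ⟨u, v, hu, hv, h⟩ : ∃ u v : alternatingGroup (Fin 5), orderOf u = 3 ∧ orderOf v = 5 ∧
      orderOf (u * v) = 2 :=
    ⟨⟨Equiv.swap 0 4 * Equiv.swap 4 2, Equiv.Perm.mem_alternatingGroup.2 (by decide)⟩,
      ⟨finRotate 5, Equiv.Perm.mem_alternatingGroup.2 (by decide)⟩, orderOf_eq_prime (by decide) (by decide),
      orderOf_eq_prime (by decide) (by decide), orderOf_eq_prime (by decide) (by decide)⟩
  obtain ⟨c, hc⟩ := isConj_iff.1 (e.toMonoidHom.map_isConj (H4.psl_isConj_of_ord2 h2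
    ((e.symm.orderOf_eq _).trans h) ((e.symm.orderOf_eq _).trans ha)))
  exact ⟨c * u * c⁻¹, c * v * c⁻¹, ((MulAut.conj c).orderOf_eq u).trans hu,
    ((MulAut.conj c).orderOf_eq v).trans hv, by simpa [mul_assoc] using hc⟩

theorem a5_top {H : Subgroup (alternatingGroup (Fin 5))} (h : 30 ∣ Nat.card H) : H = ⊤ := by
  have e := H.card_mul_index
  rw [show Nat.card (alternatingGroup (Fin 5)) = 60 by rw [nat_card_alternatingGroup]; simp [Nat.factorial]] at e
  obtain ⟨k, hk⟩ := h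
  rw [hk, mul_assoc] at e
  rcases (Nat.dvd_prime Nat.prime_two).1 (Dvd.intro_left k (by omega : k * H.index = 2)) with h | h
  · exact index_eq_one.1 h
  rcases (normal_of_index_eq_two h).eq_bot_or_eq_top with rfl | h
  · rw [card_bot] at hk; omega
  · exact h

theorem exists_compl {G : Type*} [Group G] [Finite G] (h : ∀ n, El G n ↔ 1 ≤ n ∧ n ≤ 5) (hG : Cit G)
    (e : G ⧸ pCore 2 G ≃* alternatingGroup (Fin 5)) : ∃ H : Subgroup G, H ⊓ pCore 2 G = ⊥ ∧
      H.map (QuotientGroup.mk' (pCore 2 G)) = ⊤ := by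
  let π := e.toMonoidHom.comp (QuotientGroup.mk' (pCore 2 G))
  have hk : π.ker = pCore 2 G := ker_eq e
  have hs : Function.Surjective π := e.surjective.comp (QuotientGroup.mk'_surjective _)
  have c60 : Nat.card (alternatingGroup (Fin 5)) = 60 := by
    rw [nat_card_alternatingGroup]; simp [Nat.factorial]
  obtain ⟨a, ha⟩ := el_of_prime (G := alternatingGroup (Fin 5)) Nat.prime_two (by rw [c60]; decide)
  obtain ⟨a, rfl⟩ := hs a
  obtain ⟨t, ot, ht⟩ := hG.exists_inv_top (a := a) (hk ▸ H6.ord2_ne_one ha)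
    (hk ▸ (map_mul π a a).trans (H6.ord2_mul_self ha))
  have pt : orderOf (π t) = 2 := H6.ord2_of (by rw [← map_mul, H6.ord2_mul_self ot, map_one])
    fun h1 => ht (hk ▸ h1)
  obtain ⟨u, v, hu, hv, huv⟩ := a5_inv pt
  obtain ⟨u, rfl⟩ := hs u
  obtain rfl : π (u⁻¹ * t) = v := by simp [← huv]
  have key : ∀ x : G, 3 ≤ orderOf (π x) → orderOf x = orderOf (π x) := fun x hx => by
    obtain ⟨k, hk⟩ := orderOf_map_dvd π x
    obtain ⟨h1, h5⟩ := (h _).1 ⟨x, rfl⟩
    obtain _ | _ | k := k <;> nlinarith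
  have ou := (key u hu.ge).trans hu
  have ov := (key _ (by omega)).trans hv
  generalize hw : u⁻¹ * t = w at *
  obtain rfl : t = u * w := by simp [← hw]
  set H := closure {u, w}
  have mu : u ∈ H := subset_closure (by simp)
  have mw : w ∈ H := subset_closure (by simp)
  have h1 : H.map π = ⊤ := a5_top (by
    have d := fun x (hx : x ∈ H) => orderOf_dvd_natCard (⟨π x, mem_map_of_mem π hx⟩ : H.map π)
    have d2 := d _ (mul_mem mu mw)
    have d3 := d _ mu
    have d5 := d _ mw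
    rw [Subgroup.orderOf_mk] at d2 d3 d5
    rw [pt] at d2; rw [hu] at d3; rw [hv] at d5
    omega)
  have h2 := (H25.card_le_of_235 (⟨u, mu⟩ : H) ⟨w, mw⟩ 1 (Subtype.ext (ou ▸ pow_orderOf_eq_one u))
    (Subtype.ext (ov ▸ pow_orderOf_eq_one w)) (one_pow 2) (.one_left _) (.one_left _)
    (Subtype.ext (ot ▸ pow_orderOf_eq_one (u * w))) (map_injective H.subtype_injective (by
      rw [MonoidHom.map_closure, Set.image_pair, ← MonoidHom.range_eq_map, range_subtype]; rfl))).2
  have h3 := hG.mod_three (isPGroup_pCore'.to_le (inf_le_right (a := H))) ou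
    (mem_NN_inf (le_normalizer mu) (le_NN_of_normal _ _ (mem_top u)))
  have h4 := (π.comp H.subtype).ker.card_mul_index
  rw [index_ker, MonoidHom.range_comp, range_subtype, h1, card_top, c60, ← MonoidHom.comap_ker, hk,
    ← card_map_subtype, comap_subtype, subgroupOf_map_subtype, inf_comm] at h4
  refine ⟨H, card_eq_one.1 (by omega), map_injective (f := e.toMonoidHom) e.injective ?_⟩
  rw [map_map, map_top_of_surjective _ e.surjective]
  exact h1

/-- A finite group is critical with respect to a set Ω of natural numbers when its set of element orders is Ω while no proper section has Ω as its set of element orders. A finite group critical with respect to {1, 2, 3, 4, 5} (the set of element orders of the alternating group of degree 6) is isomorphic either to the alternating group of degree 6 or to the affine group F² ⋊ SL(2,F) over the field F with four elements (realised as the matrices of SL(3,F) with last row (0, 0, 1)). -/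
theorem result {G : Type*} [Group G] [Finite G]
    (hcrit : Set.range (orderOf : G → ℕ) = ({1, 2, 3, 4, 5} : Set ℕ) ∧
      ∀ (H : Subgroup G) (N : Subgroup ↥H) [N.Normal], (H ≠ ⊤ ∨ N ≠ ⊥) → Set.range (orderOf : (↥H ⧸ N) → ℕ) ≠ ({1, 2, 3, 4, 5} : Set ℕ)) :
    Nonempty (G ≃* alternatingGroup (Fin 6)) ∨
      ∃ (F : Type) (_ : Field F) (_ : Fintype F), Fintype.card F = 4 ∧
        Nonempty (G ≃* ↥(Subgroup.closure {M : Matrix.SpecialLinearGroup (Fin 3) F |
          (M : Matrix (Fin 3) (Fin 3) F) 2 0 = 0 ∧ (M : Matrix (Fin 3) (Fin 3) F) 2 1 = 0 ∧ (M : Matrix (Fin 3) (Fin 3) F) 2 2 = 1})) := by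
  have h : ∀ n, El G n ↔ 1 ≤ n ∧ n ≤ 5 := fun n => (Set.ext_iff.1 hcrit.1 n).trans (by simp; omega)
  obtain ⟨hG, e | ⟨⟨e⟩⟩⟩ := Cit.five h
  · exact .inl e
  obtain ⟨H, h1, h2⟩ := exists_compl h hG e
  obtain ⟨F, _, _, _, hF, ⟨f⟩⟩ := sl_a5
  obtain ⟨x, hx⟩ := (h 3).2 (by decide)
  have hy := hy_of isPGroup_pCore' (e.trans f) (by rw [Nat.card_eq_fintype_card, hF]; decide) hx
    (hG.fpf3 isPGroup_pCore' hx)
  have hk := ker_eq (e.trans f)
  have h3 : H.map ((e.trans f).toMonoidHom.comp (QuotientGroup.mk' _)) = ⊤ := by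
    rw [← map_map, h2, map_top_of_surjective _ (e.trans f).surjective]
  obtain ⟨q, hq, q1⟩ : ∃ q ∈ pCore 2 G, q ≠ 1 := by
    by_contra! hb
    obtain ⟨g⟩ := equiv_of_bot ((eq_bot_iff_forall _).2 hb)
    obtain ⟨a, ha⟩ := (El.congr (g.trans e)).1 ((h 4).2 (by decide))
    rcases H4.a5_pow a with h | h | h <;> exact absurd (ha ▸ orderOf_dvd_of_pow_eq_one h) (by decide)
  generalize (e.trans f).toMonoidHom.comp (QuotientGroup.mk' _) = π at *
  rw [← hk] at h1 hq
  obtain ⟨τ, hτ, hi⟩ : ∃ τ, NatEmb π τ ∧ Function.Injective τ := by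
    obtain ⟨τ, τ', a, b, v, w, rfl⟩ := hy.emb.2 q hq
    by_cases hb : τ.range = ⊥
    · refine ⟨τ', b, b.inj hy.surj fun hb' => q1 ?_⟩
      rw [mem_bot.1 (hb.le ⟨v, rfl⟩), mem_bot.1 (hb'.le ⟨w, rfl⟩), one_mul]
    · exact ⟨τ, a, a.inj hy.surj hb⟩
  let σ := MulEquiv.ofBijective (π.comp H.subtype) ⟨(injective_iff_map_eq_one _).2 fun a ha =>
    Subtype.ext (h1.le ⟨a.2, ha⟩), MonoidHom.range_eq_top.1 (by rw [MonoidHom.range_comp, range_subtype, h3])⟩
  have hσ : ∀ M, π (σ.symm M) = M := σ.apply_symm_apply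
  let Φ : qdOver F →* G := MonoidHom.mk'
    (fun X => τ (.ofAdd (H12.afEquiv.symm X).2) * σ.symm (H12.afEquiv.symm X).1) fun X Y => by
      obtain ⟨M, v, rfl⟩ := H12.af_surj X
      obtain ⟨N, w, rfl⟩ := H12.af_surj Y
      have := hτ.2 (σ.symm M) w
      rw [hσ] at this
      simp only [H12.af_mul, H12.afEquiv_symm, ofAdd_add, map_mul, this, coe_mul]
      group
  have hΦ : ∀ M v, Φ (H12.af M v) = τ (.ofAdd v) * σ.symm M := fun M v => by
    simp only [Φ, MonoidHom.mk'_apply, H12.afEquiv_symm]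
  have πτ : ∀ v, π (τ v) = 1 := fun v => hτ.1 ⟨v, rfl⟩
  have iΦ : Function.Injective Φ := (injective_iff_map_eq_one _).2 fun X hX => by
    obtain ⟨M, v, rfl⟩ := H12.af_surj X
    rw [hΦ] at hX
    obtain rfl : M = 1 := by simpa [πτ, hσ] using congrArg π hX
    obtain rfl : v = 0 := hi (a₁ := .ofAdd v) (a₂ := 1) (by simpa using hX)
    exact H12.af_one
  refine .inr ⟨F, _, _, hF, ⟨(MulEquiv.ofBijective Φ ⟨iΦ, ?_⟩).symm⟩⟩
  by_contra hr
  refine hcrit.2 Φ.range ⊥ (.inl fun e => hr (MonoidHom.range_eq_top.1 e)) (Set.ext fun n => ?_)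
  refine (El.congr QuotientGroup.quotientBot).trans ⟨fun hn => hcrit.1.le (hn.inj Φ.range.subtype_injective),
    fun hn => ?_⟩
  have hH : ∀ {p}, p.Prime → p ∣ 60 → El H p := fun hp hd => (El.congr (f.trans σ.symm)).1
    (el_of_prime hp (by rw [nat_card_alternatingGroup]; simpa [Nat.factorial] using hd))
  have le : H ≤ Φ.range := fun a ha => ⟨H12.af (σ ⟨a, ha⟩) 0, by simp [hΦ]⟩
  have hR : ∀ {p}, p.Prime → p ∣ 60 → El Φ.range p := fun hp hd => (hH hp hd).inj (inclusion_injective le)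
  rcases hn with rfl | rfl | rfl | rfl | rfl
  · exact ⟨1, orderOf_one⟩
  · exact hR (by decide) (by decide)
  · exact hR (by decide) (by decide)
  swap
  · exact hR (by decide) (by decide)
  obtain ⟨t, ot⟩ := (El.congr σ).1 (hH Nat.prime_two (by decide))
  obtain ⟨v, hv⟩ := not_forall.1 fun h => H6.ord2_ne_one ot (H12.sl2_eq_one_of_smul h)
  refine ⟨⟨_, H12.af t v, rfl⟩, (Subgroup.orderOf_mk _ _).trans ?_⟩
  obtain ⟨k, hk⟩ := orderOf_map_dvd π (Φ (H12.af t v))
  rw [hΦ, map_mul, πτ, one_mul, hσ, ot, ← hΦ] at hk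
  have h5 := (h _).1 ⟨Φ (H12.af t v), rfl⟩
  have h6 : orderOf (Φ (H12.af t v)) ≠ 2 := fun h2 => hv (by
    have := H6.ord2_mul_self h2
    rw [← map_mul, H12.af_mul, ← map_one Φ, ← H12.af_one] at this
    rw [eq_neg_of_add_eq_zero_right (H12.af_inj.1 (iΦ this)).2]
    ext i; exact CharTwo.neg_eq _)
  omega

end Cfsg.Agent.S3600
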