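import Cfsg.Statements.S3634
import Cfsg.Agent.H2.FrobCompl

set_option autoImplicit false
open Cfsg

namespace Cfsg.Agent.S3634

open Subgroup

theorem exists_pow_order {G : Type*} [Group G] [Finite G] (a : G) {s : ℕ} (h : s ∣ orderOf a) :
    ∃ k : ℕ, orderOf (a ^ k) = s := by
  obtain ⟨c, hc⟩ := h
  have hc0 : c ≠ 0 := by rintro rfl; exact (orderOf_pos a).ne' (by simpa using hc)
  exact ⟨c, by rw [orderOf_pow' a hc0, hc, Nat.gcd_eq_right (Dvd.intro_left _ rfl),
    Nat.mul_div_cancel _ (Nat.pos_of_ne_zero hc0)]⟩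

theorem fpf {G : Type*} [Group G] [Finite G] {p : ℕ} (hp : p.Prime) {P : Subgroup G}
    (hP : IsPGroup p P) {a : G} (ha : a ≠ 1)
    (h : ∀ s, s.Prime → s ∣ orderOf a → s ≠ p ∧ ¬ ∃ x : G, orderOf x = p * s) :
    P ⊓ centralizer {a} = ⊥ := by
  have := Fact.mk hp
  rw [eq_bot_iff]
  rintro v ⟨hv, hva⟩
  rw [mem_bot]
  by_contra hv1
  obtain ⟨s, hs, hsa⟩ := Nat.exists_prime_and_dvd (mt orderOf_eq_one_iff.1 ha)
  obtain ⟨k, hk⟩ := exists_pow_order a hsa
  have hpv : p ∣ orderOf v := by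
    obtain ⟨n, hn⟩ := IsPGroup.iff_orderOf.1 hP ⟨v, hv⟩
    rw [← Subgroup.orderOf_coe] at hn
    change orderOf v = _ at hn
    rw [hn]
    refine dvd_pow_self p ?_
    rintro rfl
    exact hv1 (orderOf_eq_one_iff.1 (by simpa using hn))
  obtain ⟨j, hj⟩ := exists_pow_order v hpv
  have hc : Commute v a := mem_centralizer_singleton_iff.1 hva
  refine (h s hs hsa).2 ⟨v ^ j * a ^ k, ?_⟩
  rw [(hc.pow_pow j k).orderOf_mul_eq_mul_orderOf_of_coprime
    (by rw [hj, hk]; exact (Nat.coprime_primes hp hs).2 (h s hs hsa).1.symm), hj, hk]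

theorem step {G : Type*} [Group G] [Finite G] (P M : Subgroup G) [P.Normal] [M.Normal]
    (p q r : ℕ) (hp : p.Prime) (hq : q.Prime) (hr : r.Prime) (hpq : p ≠ q) (hpr : p ≠ r)
    (hqr : q ≠ r) (hP : IsPGroup p P) (hP0 : P ≠ ⊥) (hqM : q ∣ Nat.card M) (hrG : r ∣ M.index)
    (h1 : ¬ ∃ x : G, orderOf x = p * q) (h2 : ¬ ∃ x : G, orderOf x = p * r) :
    ∃ x : G, orderOf x = q * r := by
  have := Fact.mk hq
  have := Fact.mk hr
  obtain ⟨Q'⟩ : Nonempty (Sylow q M) := inferInstance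
  set Q := (Q' : Subgroup M).map M.subtype with hQ
  have hQq : IsPGroup q Q := Q'.isPGroup'.map _
  have hQ0 : Q ≠ ⊥ := by
    rw [hQ, Ne, map_eq_bot_iff_of_injective _ M.subtype_injective]
    exact Q'.ne_bot_of_dvd_card hqM
  have hfr := Q'.normalizer_sup_eq_top
  rw [← hQ] at hfr
  obtain ⟨x, hx⟩ : ∃ x : normalizer (Q : Set G), orderOf x = r := by
    apply exists_prime_orderOf_dvd_card'
    rw [← relIndex_top_right, ← hfr, relIndex_sup_right] at hrG
    exact hrG.trans (relIndex_dvd_card _ _)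
  set Z := (center Q).map Q.subtype with hZ
  have hZQ : Z ≤ Q := map_subtype_le _
  have hZ0 : Z ≠ ⊥ := by
    rw [hZ, Ne, map_eq_bot_iff_of_injective _ Q.subtype_injective]
    have : Nontrivial Q := (nontrivial_iff_ne_bot Q).2 hQ0
    exact (nontrivial_iff_ne_bot _).1 hQq.center_nontrivial
  have hfpf : ∀ a : G, a ≠ 1 → (∀ s, s.Prime → s ∣ orderOf a → s = q ∨ s = r) →
      P ⊓ centralizer {a} = ⊥ := by
    intro a ha h
    refine fpf hp hP ha fun s hs hsa => ?_
    rcases h s hs hsa with rfl | rfl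
    · exact ⟨hpq.symm, h1⟩
    · exact ⟨hpr.symm, h2⟩
  have hZc : IsCyclic Z := H2.isCyclic_of_fpf_comm' Z P hP0 le_normalizer_of_normal (by
    intro a ha ha1
    refine hfpf a ha1 fun s hs hsa => Or.inl ?_
    obtain ⟨n, hn⟩ := IsPGroup.iff_orderOf.1 hQq ⟨a, hZQ ha⟩
    rw [← Subgroup.orderOf_coe] at hn
    change orderOf a = _ at hn
    rw [hn] at hsa
    exact (Nat.prime_dvd_prime_iff_eq hs hq).1 (hs.dvd_of_dvd_pow hsa))
  obtain ⟨y, hy⟩ : ∃ y : Z, orderOf y = q := by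
    apply exists_prime_orderOf_dvd_card'
    have : Nontrivial Z := (nontrivial_iff_ne_bot Z).2 hZ0
    obtain ⟨n, hn0, hn⟩ := (hQq.to_le hZQ).nontrivial_iff_card.1 this
    rw [hn]; exact dvd_pow_self q hn0.ne'
  have hxy : zpowers (x : G) ≤ normalizer (zpowers (y : G) : Set G) :=
    zpowers_le.2 (H2.normalizer_le_normalizer_of_isCyclic hZc (zpowers_le.2 y.2)
      (H1.normalizer_le_normalizer_map_char Q (center Q) x.2))
  have hcard : Nat.card (zpowers (x : G) ⊔ zpowers (y : G) : Subgroup G) = r * q := by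
    rw [H1.card_sup_of_disjoint hxy (H1.inf_eq_bot_of_coprime' (by
      rw [Nat.card_zpowers, Nat.card_zpowers, Subgroup.orderOf_coe, Subgroup.orderOf_coe, hx, hy]
      exact (Nat.coprime_primes hr hq).2 hqr.symm)), Nat.card_zpowers, Nat.card_zpowers,
      Subgroup.orderOf_coe, Subgroup.orderOf_coe, hx, hy]
  have hA := H2.isCyclic_of_fpf_card_pq' _ P hP0 le_normalizer_of_normal (by
    intro a ha ha1
    refine hfpf a ha1 fun s hs hsa => ?_
    have := hsa.trans (orderOf_dvd_natCard _ ha)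
    rw [hcard, hs.dvd_mul, Nat.prime_dvd_prime_iff_eq hs hr, Nat.prime_dvd_prime_iff_eq hs hq] at this
    exact this.symm) hr hq hcard
  obtain ⟨z, hz⟩ := hA.exists_ofOrder_eq_natCard
  exact ⟨z, by rw [Subgroup.orderOf_coe, hz, hcard, mul_comm]⟩

/-- Let G be a finite group with normal subgroups K ≤ M, and let p, q, r be distinct primes with p dividing the order of K, q dividing the order of M/K and r dividing the order of G/M. Then p, q, r are not pairwise non-adjacent in the prime graph of G: G has an element of order pq, pr or qr. -/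
theorem result {G : Type*} [Group G] [Finite G] (K M : Subgroup G) [K.Normal] [M.Normal] (hKM : K ≤ M)
    (p q r : ℕ) (hp : p.Prime) (hq : q.Prime) (hr : r.Prime) (hpq : p ≠ q) (hpr : p ≠ r) (hqr : q ≠ r)
    (hpK : p ∣ Nat.card ↥K) (hqM : q ∣ Nat.card ↥M / Nat.card ↥K) (hrG : r ∣ Nat.card G / Nat.card ↥M) :
    (∃ x : G, orderOf x = p * q) ∨ (∃ x : G, orderOf x = p * r) ∨ (∃ x : G, orderOf x = q * r) := by
  have := Fact.mk hp
  obtain ⟨P'⟩ : Nonempty (Sylow p K) := inferInstance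
  set P := (P' : Subgroup K).map K.subtype with hP
  have hPp : IsPGroup p P := P'.isPGroup'.map _
  have hP0 : P ≠ ⊥ := by
    rw [hP, Ne, map_eq_bot_iff_of_injective _ K.subtype_injective]
    exact P'.ne_bot_of_dvd_card hpK
  have hfr := P'.normalizer_sup_eq_top
  rw [← hP] at hfr
  set N := normalizer (P : Set G)
  by_contra hcon
  rw [not_or, not_or] at hcon
  have lift : ∀ n, (∃ x : N, orderOf x = n) → ∃ x : G, orderOf x = n :=
    fun n ⟨x, hx⟩ => ⟨x, by rw [Subgroup.orderOf_coe, hx]⟩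
  refine hcon.2.2 (lift _ (step (P.subgroupOf N) (M.subgroupOf N) p q r hp hq hr hpq hpr hqr
    (hPp.comap_subtype) ?_ ?_ ?_ (mt (lift _) hcon.1) (mt (lift _) hcon.2.1)))
  · rw [Ne, subgroupOf_eq_bot, disjoint_iff, inf_eq_left.2 le_normalizer]; exact hP0
  · rw [← H1.card_mul_relIndex hKM, Nat.mul_div_cancel_left _ Nat.card_pos] at hqM
    have e : K ⊔ (N ⊓ M) = M := by
      rw [← H1.sup_inf_assoc_of_le_normalizer hKM (Or.inr le_normalizer_of_normal), sup_comm, hfr, top_inf_eq]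
    rw [← e, relIndex_sup_left] at hqM
    rw [H1.card_subgroupOf, inf_comm]
    exact hqM.trans (relIndex_dvd_card _ _)
  · rw [← M.card_mul_index, Nat.mul_div_cancel_left _ Nat.card_pos, ← relIndex_top_right] at hrG
    have e : N ⊔ M = ⊤ := eq_top_iff.2 (hfr ▸ sup_le_sup_left hKM N)
    rwa [← e, relIndex_sup_right] at hrG

end Cfsg.Agent.S3634
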