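import Cfsg.Statements.S3633
import Cfsg.Agent.S3634
import Cfsg.Agent.H1.Solvable

set_option autoImplicit false
open Cfsg

namespace Cfsg.Agent.S3633

open Subgroup

universe u

theorem dvd_quot {G : Type*} [Group G] [Finite G] {V : Subgroup G} [V.Normal] {u : ℕ}
    (hu : u.Prime) (hV : IsPGroup u V) {b : ℕ} (hb : b.Prime) (hbu : b ≠ u) (K : Subgroup G)
    (hVK : V ≤ K) (h : b ∣ Nat.card K) : b ∣ Nat.card (K.map (QuotientGroup.mk' V)) := by
  have := Fact.mk hu
  rw [← H1.card_map_mk'_mul K V, inf_eq_right.2 hVK] at h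
  obtain ⟨n, hn⟩ := IsPGroup.iff_card.1 hV
  refine ((hb.dvd_mul).1 h).resolve_right fun h' => hbu ?_
  rw [hn] at h'
  exact (Nat.prime_dvd_prime_iff_eq hb hu).1 (hb.dvd_of_dvd_pow h')

theorem dvd_quot' {G : Type*} [Group G] [Finite G] {V : Subgroup G} [V.Normal] {u : ℕ}
    (hu : u.Prime) (hV : IsPGroup u V) {b : ℕ} (hb : b.Prime) (hbu : b ≠ u)
    (h : b ∣ Nat.card G) : b ∣ Nat.card (G ⧸ V) := by
  have := dvd_quot hu hV hb hbu ⊤ le_top (by rwa [card_top])
  rwa [map_top_of_surjective _ (QuotientGroup.mk'_surjective V), card_top] at this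

theorem dvd_card_of_ne_bot {G : Type*} [Group G] [Finite G] {V : Subgroup G} {u : ℕ}
    (hu : u.Prime) (hV : IsPGroup u V) (hV0 : V ≠ ⊥) : u ∣ Nat.card V := by
  have := Fact.mk hu
  have : Nontrivial V := (nontrivial_iff_ne_bot V).2 hV0
  obtain ⟨n, hn0, hn⟩ := hV.nontrivial_iff_card.1 this
  rw [hn]; exact dvd_pow_self u hn0.ne'

theorem two (b c : ℕ) (hb : b.Prime) (hc : c.Prime) (hbc : b ≠ c) (n : ℕ) :
    ∀ (G : Type u) [Group G] [Finite G], Nat.card G = n → ∀ (K : Subgroup G) [K.Normal],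
      Group.IsSolvable K → b ∣ Nat.card K → c ∣ Nat.card G →
      ∃ M : Subgroup G, M.Normal ∧
        ((b ∣ Nat.card M ∧ c ∣ M.index) ∨ (c ∣ Nat.card M ∧ b ∣ M.index)) := by
  induction n using Nat.strong_induction_on with
  | _ n ih =>
  intro G _ _ hn K _ hs hbK hcG
  have hK0 : K ≠ ⊥ := by
    rintro rfl
    rw [card_bot, Nat.dvd_one] at hbK
    exact hb.ne_one hbK
  obtain ⟨V, u, hVn, hV0, hVK, hu, -, -, hV, -⟩ := H1.exists_minimal_normal_elementary K hs hK0
  by_cases h1 : b = u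
  · subst h1
    exact ⟨V, hVn, Or.inl ⟨dvd_card_of_ne_bot hb hV hV0, dvd_quot' hb hV hc hbc.symm hcG⟩⟩
  by_cases h2 : c = u
  · subst h2
    exact ⟨V, hVn, Or.inr ⟨dvd_card_of_ne_bot hc hV hV0,
      dvd_quot' hc hV hb hbc (hbK.trans (card_subgroup_dvd_card K))⟩⟩
  have : (K.map (QuotientGroup.mk' V)).Normal := Normal.map inferInstance _ (QuotientGroup.mk'_surjective V)
  obtain ⟨M, hMn, hM⟩ := ih _ (hn ▸ H1.card_quotient_lt hV0) (G ⧸ V) rfl (K.map (QuotientGroup.mk' V))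
    (H1.isSolvable_map hs _) (dvd_quot hu hV hb h1 K hVK hbK) (dvd_quot' hu hV hc h2 hcG)
  refine ⟨M.comap (QuotientGroup.mk' V), inferInstance, ?_⟩
  rw [H1.card_comap_mk', index_comap_of_surjective _ (QuotientGroup.mk'_surjective V)]
  exact hM.imp (fun h => ⟨h.1.mul_right _, h.2⟩) (fun h => ⟨h.1.mul_right _, h.2⟩)

theorem three (a b c : ℕ) (ha : a.Prime) (hb : b.Prime) (hc : c.Prime) (hab : a ≠ b) (hac : a ≠ c)
    (hbc : b ≠ c) (n : ℕ) :
    ∀ (G : Type u) [Group G] [Finite G], Nat.card G = n → ∀ (K : Subgroup G) [K.Normal],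
      Group.IsSolvable K → a ∣ Nat.card K → b ∣ Nat.card K → c ∣ Nat.card G →
      (∃ x : G, orderOf x = a * b) ∨ (∃ x : G, orderOf x = a * c) ∨ (∃ x : G, orderOf x = b * c) := by
  induction n using Nat.strong_induction_on with
  | _ n ih =>
  intro G _ _ hn K _ hs haK hbK hcG
  have hK0 : K ≠ ⊥ := by
    rintro rfl
    rw [card_bot, Nat.dvd_one] at hbK
    exact hb.ne_one hbK
  obtain ⟨V, u, hVn, hV0, hVK, hu, -, -, hV, -⟩ := H1.exists_minimal_normal_elementary K hs hK0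
  have : (K.map (QuotientGroup.mk' V)).Normal := Normal.map inferInstance _ (QuotientGroup.mk'_surjective V)
  have key : ∀ y z : ℕ, y.Prime → z.Prime → y ≠ z → u ≠ y → u ≠ z → y ∣ Nat.card K →
      z ∣ Nat.card G → (∃ x : G, orderOf x = u * y) ∨ (∃ x : G, orderOf x = u * z) ∨
        (∃ x : G, orderOf x = y * z) := by
    intro y z hy hz hyz huy huz hyK hzG
    obtain ⟨M, hMn, hM⟩ := two y z hy hz hyz _ (G ⧸ V) rfl (K.map (QuotientGroup.mk' V))
      (H1.isSolvable_map hs _) (dvd_quot hu hV hy huy.symm K hVK hyK) (dvd_quot' hu hV hz huz.symm hzG)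
    have hVM : V ≤ M.comap (QuotientGroup.mk' V) := by
      conv_lhs => rw [← QuotientGroup.ker_mk' V]
      exact ker_le_comap _ _
    have e1 : Nat.card (M.comap (QuotientGroup.mk' V)) / Nat.card V = Nat.card M := by
      rw [H1.card_comap_mk', Nat.mul_div_cancel _ Nat.card_pos]
    have e2 : Nat.card G / Nat.card (M.comap (QuotientGroup.mk' V)) = M.index := by
      rw [← (M.comap (QuotientGroup.mk' V)).card_mul_index, Nat.mul_div_cancel_left _ Nat.card_pos,
        index_comap_of_surjective _ (QuotientGroup.mk'_surjective V)]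
    rcases hM with hM | hM
    · exact S3634.result V _ hVM u y z hu hy hz huy huz hyz (dvd_card_of_ne_bot hu hV hV0)
        (e1 ▸ hM.1) (e2 ▸ hM.2)
    · have := S3634.result V _ hVM u z y hu hz hy huz huy hyz.symm (dvd_card_of_ne_bot hu hV hV0)
        (e1 ▸ hM.1) (e2 ▸ hM.2)
      rw [mul_comm z y] at this
      tauto
  by_cases h1 : a = u
  · subst h1
    exact key b c hb hc hbc hab hac hbK hcG
  by_cases h2 : b = u
  · subst h2
    have := key a c ha hc hac hab.symm hbc haK hcG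
    rw [mul_comm b a] at this
    tauto
  by_cases h3 : c = u
  · subst h3
    have := key a b ha hb hab hac.symm hbc.symm haK (hbK.trans (card_subgroup_dvd_card K))
    rw [mul_comm c a, mul_comm c b] at this
    tauto
  have lift : ∀ n, (∃ x : G ⧸ V, orderOf x = n) → ∃ x : G, orderOf x = n := by
    rintro _ ⟨x, rfl⟩
    obtain ⟨g, rfl⟩ := QuotientGroup.mk'_surjective V x
    obtain ⟨k, hk⟩ := S3634.exists_pow_order g (orderOf_map_dvd (QuotientGroup.mk' V) g)
    exact ⟨_, hk⟩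
  exact (ih _ (hn ▸ H1.card_quotient_lt hV0) (G ⧸ V) rfl (K.map (QuotientGroup.mk' V))
    (H1.isSolvable_map hs _) (dvd_quot hu hV ha h1 K hVK haK) (dvd_quot hu hV hb h2 K hVK hbK)
    (dvd_quot' hu hV hc h3 hcG)).imp (lift _) (Or.imp (lift _) (lift _))

/-- Let G be a finite group and ρ a set of at least three prime divisors of the order of G that are pairwise non-adjacent in the prime graph (no element of order rs for distinct r, s ∈ ρ). Then at most one prime of ρ divides the order of any given solvable normal subgroup of G; in particular G is not solvable. -/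
theorem result {G : Type*} [Group G] [Finite G] (ρ : Finset ℕ) (hρ : 3 ≤ ρ.card) (hc : ((∀ r ∈ ρ, r.Prime ∧ r ∣ Nat.card G) ∧ (∀ r ∈ ρ, ∀ s ∈ ρ, r ≠ s → ¬ ∃ x : G, orderOf x = r * s)))
    (K : Subgroup G) [K.Normal] (hK : Group.IsSolvable ↥K) :
    (∀ r ∈ ρ, ∀ s ∈ ρ, r ∣ Nat.card ↥K → s ∣ Nat.card ↥K → r = s) ∧ ¬ Group.IsSolvable G := by
  have key : ∀ (K : Subgroup G) [K.Normal], Group.IsSolvable K →
      ∀ r ∈ ρ, ∀ s ∈ ρ, r ∣ Nat.card ↥K → s ∣ Nat.card ↥K → r = s := by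
    intro K _ hK r hr s hs hrK hsK
    by_contra hrs
    obtain ⟨t, ht, htr⟩ : ∃ t ∈ ρ, t ∉ ({r, s} : Finset ℕ) :=
      Finset.exists_mem_notMem_of_card_lt_card (lt_of_le_of_lt Finset.card_le_two hρ)
    simp only [Finset.mem_insert, Finset.mem_singleton, not_or] at htr
    rcases three r s t (hc.1 r hr).1 (hc.1 s hs).1 (hc.1 t ht).1 hrs (Ne.symm htr.1) (Ne.symm htr.2)
      _ G rfl K hK hrK hsK (hc.1 t ht).2 with h | h | h
    · exact hc.2 r hr s hs hrs h
    · exact hc.2 r hr t ht (Ne.symm htr.1) h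
    · exact hc.2 s hs t ht (Ne.symm htr.2) h
  refine ⟨key K hK, fun hG => ?_⟩
  obtain ⟨r, hr, s, hs, hrs⟩ := Finset.one_lt_card.1 (by omega : 1 < ρ.card)
  exact hrs (key ⊤ inferInstance r hr s hs (by rw [card_top]; exact (hc.1 r hr).2)
    (by rw [card_top]; exact (hc.1 s hs).2))

end Cfsg.Agent.S3633
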