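import Cfsg.Statements.S3641
import Cfsg.Agent.H2.Z2
import Cfsg.Agent.H2.Sm4
import Cfsg.Agent.H25.PrimeSyl
import Cfsg.Agent.H1.Fitting
import Cfsg.Agent.S0732
import Cfsg.Agent.S0989
import Cfsg.Agent.H4.Tor3
import Cfsg.Agent.H1.SylNum
import Cfsg.Agent.H8.Elt

set_option autoImplicit false
open Cfsg

namespace Cfsg.Agent.S3641

open Subgroup MulAction
open scoped MatrixGroups

theorem syl_le {K G : Type*} [Group K] [Group G] [Finite G] (p : ℕ) {f : K →* G}
    (hf : Function.Injective f) : Nat.card (Sylow p K) ≤ Nat.card (Sylow p G) := by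
  choose Q hQ using fun P : Sylow p K => P.exists_comap_eq_of_injective hf
  exact Nat.card_le_card_of_injective Q fun P R e => Sylow.ext (by rw [← hQ P, ← hQ R, e])

theorem psl17 : 153 ≤ Nat.card (Sylow 2 PSL(2, ZMod 17)) ∧ 136 ≤ Nat.card (Sylow 3 PSL(2, ZMod 17)) := by
  haveI : Fact (Nat.Prime 17) := ⟨by decide⟩
  have hc := H4.card_psl (F := ZMod 17)
  rw [ZMod.card] at hc
  change 2 * _ = 4896 at hc
  replace hc : Nat.card PSL(2, ZMod 17) = 2448 := by omega
  constructor
  · obtain ⟨g, h1, h2⟩ := H4.exists_pT_sp (F := ZMod 17) (by rw [ZMod.card]; decide)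
    obtain ⟨y, -, hy⟩ := H4.exists_psl_gen h1
    rw [h2, ZMod.card] at hy
    replace hy : orderOf y = 8 := hy
    have h3 : orderOf (y ^ 4) = 2 := by rw [orderOf_pow, hy]; rfl
    have h4 := H4.card_cent_inv (H4.two_ne_zero_of_odd (by rw [ZMod.card]; decide)) h3
    rw [ZMod.card] at h4
    obtain ⟨S, hS⟩ := (IsPGroup.of_card (p := 2) (n := 3)
      ((Nat.card_zpowers y).trans hy)).exists_le_sylow
    have h5 := H10.card_mul_relIndex hS
    rw [H2.sm_card_sylow_eq S (k := 4) (m := 153) hc (by decide), Nat.card_zpowers, hy] at h5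
    have h6 : normalizer ((S : Subgroup PSL(2, ZMod 17)) : Set PSL(2, ZMod 17)) ≤
        centralizer {y ^ 4} := fun g hg => by
      obtain ⟨k, hk⟩ := (mem_powers_iff_mem_zpowers ..).2 (show (g * y * g⁻¹) ^ 2 ∈ zpowers y from
        sq_mem_of_index_two (H := (zpowers y).subgroupOf S) (by change (zpowers y).relIndex S = 2; omega)
          ⟨_, (mem_normalizer_iff.1 hg y).1 (hS (mem_zpowers y))⟩)
      have h7 : g * y ^ 4 * g⁻¹ = y ^ (k * 2) := by
        rw [pow_mul, show y ^ k = _ from hk, ← pow_mul, conj_pow]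
      have h8 := H2.sm_ord_conj g (y ^ 4)
      rw [h7, h3, ← pow_mod_orderOf, hy] at h8
      rw [mem_centralizer_singleton_iff, ← mul_inv_eq_iff_eq_mul, h7, ← pow_mod_orderOf, hy]
      obtain h | h | h | h : k * 2 % 8 = 0 ∨ k * 2 % 8 = 2 ∨ k * 2 % 8 = 4 ∨ k * 2 % 8 = 6 := by omega
      all_goals rw [h] at h8 ⊢
      all_goals rw [orderOf_pow, hy] at h8; norm_num at h8
    have h7 := H2.sm_sylow_mul S
    have := card_le_of_le h6
    rw [hc] at h7
    by_contra h8
    have := Nat.mul_le_mul (Nat.le_of_lt_succ (not_le.1 h8)) this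
    omega
  · obtain ⟨g, h1, h2⟩ := H4.exists_pT_ell (F := ZMod 17)
    obtain ⟨y, h0, hy⟩ := H4.exists_psl_gen h1
    rw [h2, ZMod.card] at hy
    replace hy : orderOf y = 9 := hy
    have h3 : orderOf (y ^ 3) = 3 := by rw [orderOf_pow, hy]; rfl
    have h4 := H4.card_cent_tor h1 (x := y ^ 3) (by rw [map_pow]; exact pow_mem h0 3)
      (fun e => by simp [e] at h3) (.inr fun e => by
        have := h3 ▸ orderOf_dvd_of_pow_eq_one ((sq _).trans e)
        omega)
    rw [h2, ZMod.card] at h4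
    obtain ⟨S, hS⟩ := (IsPGroup.of_card (p := 3) (n := 2)
      ((Nat.card_zpowers y).trans hy)).exists_le_sylow
    replace hS := eq_of_le_of_card_ge hS (by
      rw [H2.sm_card_sylow_eq S (k := 2) (m := 272) hc (by decide), Nat.card_zpowers, hy]; rfl)
    have h6 : normalizer ((S : Subgroup PSL(2, ZMod 17)) : Set PSL(2, ZMod 17)) ≤
        normalizer (zpowers (y ^ 3) : Subgroup _) := fun g hg => H2.sm_mem_normalizer_zpowers (by
      obtain ⟨k, hk⟩ : g * y * g⁻¹ ∈ zpowers y :=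
        hS ▸ (mem_normalizer_iff.1 hg y).1 (hS ▸ mem_zpowers y)
      exact ⟨k, by simp only at hk ⊢; rw [← conj_pow, ← hk, ← zpow_natCast, ← zpow_natCast,
        ← zpow_mul, ← zpow_mul, mul_comm]⟩)
    obtain ⟨d, h8, h9⟩ := H25.card_normalizer_of_prime Nat.prime_three _
      ((Nat.card_zpowers _).trans h3)
    rw [H2.sm_cent_zpowers] at h9
    have h7 := H2.sm_sylow_mul S
    have h10 := card_le_of_le h6
    have := Nat.le_of_dvd two_pos h8
    rw [hc] at h7
    norm_num at h4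
    by_contra h11
    have := Nat.mul_le_mul (Nat.le_of_lt_succ (not_le.1 h11)) (h10.trans (show _ ≤ 18 by nlinarith))
    omega

/-- Let G be a finite group with trivial centre whose set of Sylow numbers (numbers of Sylow r-subgroups, r over the prime divisors of its order) is exactly {18, 136, 153}. Then G is isomorphic to PSL(2, 17) or to PGL(2, 17). -/
theorem result {G : Type*} [Group G] [Finite G] (hZ : Subgroup.center G = ⊥) (hNS : {c : ℕ | ∃ r : ℕ, r.Prime ∧ r ∣ Nat.card G ∧ c = Nat.card (Sylow r G)} = ({18, 136, 153} : Set ℕ))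
    {F : Type*} [Field F] [Fintype F] (hF : Fintype.card F = 17) :
    Nonempty (G ≃* Matrix.ProjectiveSpecialLinearGroup (Fin 2) F) ∨ Nonempty (G ≃* (GL (Fin 2) F ⧸ Subgroup.center (GL (Fin 2) F))) := by
  classical
  haveI : Fact (Nat.Prime 17) := ⟨by decide⟩
  have h1 : ∀ r : ℕ, r.Prime → r ∣ Nat.card G → Nat.card (Sylow r G) = 18 ∨
      Nat.card (Sylow r G) = 136 ∨ Nat.card (Sylow r G) = 153 := fun r hr h =>
    (Set.ext_iff.1 hNS _).1 ⟨r, hr, h, rfl⟩
  have h2 : ∀ r : ℕ, r.Prime → Nat.card (Sylow r G) % r = 1 := fun r hr => by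
    haveI := Fact.mk hr
    exact Eq.trans (card_sylow_modEq_one r G) (Nat.mod_eq_of_lt hr.one_lt)
  obtain ⟨r, hr, h17, h18⟩ := (Set.ext_iff.1 hNS 18).2 (by simp)
  obtain rfl : r = 17 := (Nat.prime_dvd_prime_iff_eq hr (by decide)).1
    ((Nat.modEq_iff_dvd' (by decide)).1 (show 1 ≡ 18 [MOD r] from
      (Nat.mod_eq_of_lt hr.one_lt).trans (h18 ▸ h2 r hr).symm))
  obtain ⟨P⟩ : Nonempty (Sylow 17 G) := inferInstance
  have h3 : 18 ∣ Nat.card G := h18 ▸ Dvd.intro _ (H2.sm_sylow_mul P)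
  have n2 : Nat.card (Sylow 2 G) = 153 := by
    have := h1 2 (by decide) (by omega); have := h2 2 (by decide); omega
  have n3 : Nat.card (Sylow 3 G) = 136 := by
    have := h1 3 (by decide) (by omega); have := h2 3 (by decide); omega
  haveI := Fintype.ofFinite (Sylow 17 G)
  have hΩ : Fintype.card (Sylow 17 G) = 17 + 1 := Nat.card_eq_fintype_card.symm.trans h18.symm
  let φ := toPermHom G (Sylow 17 G)
  obtain ⟨Q, hQ⟩ := (P.2.map φ).exists_le_sylow
  have h4 : Nat.card ((P : Subgroup G).map φ) = 17 ∧ (P : Subgroup G).map φ = Q := by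
    have h4 : Nat.card (Q : Subgroup (Equiv.Perm (Sylow 17 G))) = 17 := H25.card_sylow_eq_prime
      (by rw [Nat.card_perm, ← h18]; decide) (by rw [Nat.card_perm, ← h18]; decide) Q
    refine ((Nat.dvd_prime hr).1 ((card_dvd_of_le hQ).trans h4.dvd)).elim (fun h => ?_)
      fun h => ⟨h, eq_of_le_of_card_ge hQ (by omega)⟩
    haveI : Nontrivial (Sylow 17 G) := Fintype.one_lt_card_iff_nontrivial.1 (by omega)
    obtain ⟨R, hR⟩ := exists_ne P
    exact (hR (Sylow.ext (P.3 R.2 fun u hu => H2.z_mem_of_smul_eq hu (congrArg (· R)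
      (mem_bot.1 ((card_eq_one.1 h).le (mem_map_of_mem φ hu))))))).elim
  haveI : IsPretransitive φ.range (Sylow 17 G) := ⟨fun a b =>
    let ⟨g, hg⟩ := exists_smul_eq G a b; ⟨⟨φ g, g, rfl⟩, hg⟩⟩
  have h5 := (stabilizer φ.range P).index_mul_card
  rw [index_stabilizer_of_transitive, ← h18, ← card_map_of_injective φ.range.subtype_injective] at h5
  obtain ⟨d, hd⟩ : 17 ∣ Nat.card ((stabilizer φ.range P).map φ.range.subtype) :=
    h4.1.symm.dvd.trans <| card_dvd_of_le (by
      rintro _ ⟨u, hu, rfl⟩; exact ⟨⟨φ u, u, rfl⟩, H2.z_smul_self hu, rfl⟩)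
  have h6 : Nat.card ((stabilizer φ.range P).map φ.range.subtype) ≤ 17 * 16 :=
    S0989.result 17 (.inr hΩ) Q ▸ card_le_of_le (by
      rintro _ ⟨⟨_, g, rfl⟩, hg, rfl⟩
      exact h4.2 ▸ le_normalizer_map φ (mem_map_of_mem φ (Sylow.smul_eq_iff_mem_normalizer.1 hg)))
  have h7 := S0732.result hr hΩ φ.range (d := d) (by rw [← h5, hd, mul_assoc]) (by omega)
  have h8 : d ∣ 16 ∧ ∃ f : PSL(2, ZMod 17) →* φ.range, Function.Injective f := by
    rcases h7 with ⟨rfl, ⟨e⟩⟩ | ⟨h, ⟨e⟩⟩ | ⟨q, -, h, -⟩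
    · exact ⟨dvd_rfl, e.symm.toMonoidHom.comp H4.psl2pgl, e.symm.injective.comp H4.psl2pgl_injective⟩
    · exact ⟨Dvd.intro_left 2 h, e.symm.toMonoidHom, e.symm.injective⟩
    · exact absurd (Nat.prime_three.dvd_of_dvd_pow (h ▸ (by decide : 3 ∣ 17 + 1))) (by decide)
  obtain ⟨h8, f, hf⟩ := h8
  have h9 : ∀ r : ℕ, r = 2 ∨ r = 3 ∨ r = 17 → ∀ R : Sylow r G,
      φ.ker ≤ normalizer ((R : Subgroup G) : Set G) := fun r h R k hk => by
    have h9 : ∀ r : ℕ, r.Prime → Nat.card (Sylow r G) ≤ Nat.card (Sylow r PSL(2, ZMod 17)) →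
        ∀ R : Sylow r G, k • R = R := fun r hr h R => by
      haveI := Fact.mk hr
      refine ((Nat.bijective_iff_surjective_and_card _).2 ⟨Sylow.mapSurjective_surjective
        φ.rangeRestrict_surjective r, le_antisymm (h.trans (syl_le r hf))
          (Nat.card_le_card_of_surjective _ (Sylow.mapSurjective_surjective
            φ.rangeRestrict_surjective r))⟩).1 (Sylow.ext ?_)
      have h10 : φ.rangeRestrict.comp (MulAut.conj k).toMonoidHom = φ.rangeRestrict :=
        MonoidHom.ext fun x => Subtype.ext (by simp [MonoidHom.mem_ker.1 hk])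
      exact (map_map _ _ _).trans (congrArg (fun f => (R : Subgroup G).map f) h10)
    rcases h with rfl | rfl | rfl
    exacts [Sylow.smul_eq_iff_mem_normalizer.1 (h9 2 (by decide) (n2 ▸ psl17.1) R),
      Sylow.smul_eq_iff_mem_normalizer.1 (h9 3 (by decide) (n3 ▸ psl17.2) R),
      Sylow.smul_eq_iff_mem_normalizer.1 (congrArg (· R) (MonoidHom.mem_ker.1 hk))]
  have h10 : ∀ r : ℕ, r.Prime → r ∣ Nat.card G → r = 2 ∨ r = 3 ∨ r = 17 := fun r hr h => by
    by_contra h10
    haveI := Fact.mk hr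
    obtain ⟨R⟩ : Nonempty (Sylow r G) := inferInstance
    have h11 : (R : Subgroup G) ≤ φ.ker := H2.sm_le_of_not_dvd_index R.2 fun h11 => by
      rw [index_ker, ← h5, hd] at h11
      have h12 := hr.dvd_of_dvd_pow (n := 5) (m := 102) (h11.trans ((mul_dvd_mul_left _
        (mul_dvd_mul_left _ h8)).trans (by decide)))
      rw [show 102 = 2 * (3 * 17) from rfl, hr.dvd_mul, hr.dvd_mul] at h12
      simp only [Nat.prime_dvd_prime_iff_eq hr, Nat.prime_two, Nat.prime_three,
        show Nat.Prime 17 from Fact.out] at h12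
      exact h10 h12
    obtain ⟨X⟩ : Nonempty (Sylow 17 (normalizer ((R : Subgroup G) : Set G))) := inferInstance
    obtain ⟨P, hP⟩ := X.exists_comap_subtype_eq
    have h12 := H1.relIndex_centralizer_modEq_one R.2 (h11.trans (h9 17 (by simp) P))
      (IsPGroup.coprime_card_of_ne 17 r (fun e => h10 (by simp [e])) _ _ P.2 R.2 |>.coprime_dvd_right
        (R.dvd_card_of_dvd_card h))
    have h13 : centralizer ((R : Subgroup G) : Set G) ⊓ P = normalizer ((R : Subgroup G) : Set G) ⊓ P :=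
      le_antisymm (inf_le_inf_right _ (centralizer_le_normalizer _)) fun x hx =>
        ⟨mem_centralizer_iff.2 fun y hy => by
          have : y * x * y⁻¹ * x⁻¹ ∈ ⊥ :=
            (IsPGroup.disjoint_of_ne 17 r (fun e => h10 (by simp [e])) _ _ P.2 R.2).le_bot ⟨mul_mem ((mem_normalizer_iff.1 (h9 17 (by simp) P (h11 hy)) x).1
              hx.2) ((P : Subgroup G).inv_mem hx.2), by
              rw [mul_assoc, mul_assoc, ← mul_assoc x]
              exact mul_mem hy ((mem_normalizer_iff.1 hx.1 _).1 (inv_mem hy))⟩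
          rwa [mem_bot, mul_inv_eq_one, mul_inv_eq_iff_eq_mul] at this, hx.2⟩
    rw [← inf_relIndex_right, h13, inf_relIndex_right] at h12
    have h14 := relIndex_inf_mul_relIndex (normalizer ((R : Subgroup G) : Set G)) P ⊤
    have h15 := relIndex_inf_mul_relIndex P (normalizer ((R : Subgroup G) : Set G)) ⊤
    simp only [inf_top_eq, relIndex_top_right] at h14 h15
    rw [inf_comm, ← h14, ← H2.sm_card_sylow] at h15
    have h16 := X.not_dvd_index
    rw [← hP] at h16
    change ¬ 17 ∣ (P : Subgroup G).relIndex _ at h16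
    obtain ⟨k, hk⟩ := P.2.index ((normalizer ((R : Subgroup G) : Set G)).subgroupOf P)
    change relIndex _ _ = _ at hk
    have h17 := P.not_dvd_index
    have h19 := h1 r hr h
    have h20 := h2 r hr
    have h21 : r = 5 ∧ Nat.card (Sylow r G) = 17 * 8 ∨ r = 19 ∧ Nat.card (Sylow r G) = 17 * 9 := by
      have h21 : ∀ n, Nat.card (Sylow r G) = n + 1 → r ∣ n := fun n e =>
        (Nat.modEq_iff_dvd' (Nat.le_add_left 1 n)).1 (show 1 ≡ n + 1 [MOD r] from
          (Nat.mod_eq_of_lt hr.one_lt).trans (e ▸ h20).symm)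
      rcases h19 with e | e | e <;> have := h21 _ e <;> have := Nat.le_of_dvd (by decide) this <;>
        interval_cases r <;> first | omega | norm_num at hr
    rw [hk] at h12 h15
    unfold Nat.ModEq at h12
    obtain _ | _ | k := k
    · rcases h21 with ⟨-, e⟩ | ⟨-, e⟩ <;> rw [e] at h15 <;> omega
    · rcases h21 with ⟨rfl, -⟩ | ⟨rfl, -⟩ <;> norm_num at h12
    · rw [pow_succ, pow_succ, mul_comm _ 17, mul_comm _ 17, mul_assoc, mul_assoc] at h15
      rcases h21 with ⟨-, e⟩ | ⟨-, e⟩ <;> rw [e] at h15 <;> omega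
  have h11 : φ.ker = ⊥ := by
    by_contra h11
    obtain ⟨r, hr, h12⟩ := Nat.exists_prime_and_dvd (card_eq_one.not.2 h11)
    haveI := Fact.mk hr
    obtain ⟨x, hx⟩ := exists_prime_orderOf_dvd_card' r h12
    rw [← orderOf_coe] at hx
    have h13 : ∀ s : ℕ, s.Prime → ∀ S : Sylow s G, φ.ker ≤ normalizer ((S : Subgroup G) : Set G) :=
      fun s hs S => by
        by_cases h : s ∣ Nat.card G
        · exact h9 s (h10 s hs h) S
        · haveI := Fact.mk hs
          rw [card_eq_one.1 (S.2.card_eq_or_dvd.resolve_right fun e =>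
            h (e.trans (card_subgroup_dvd_card _))), normalizer_eq_top]
          exact le_top
    obtain ⟨R⟩ : Nonempty (Sylow r G) := inferInstance
    have h14 : normalClosure {(x : G)} ≤ (R : Subgroup G) ⊓ φ.ker := by
      refine (closure_le _).2 fun y hy => ?_
      obtain ⟨z, rfl, h14⟩ := Group.mem_conjugatesOfSet_iff.1 hy
      obtain ⟨g, rfl⟩ := isConj_iff.1 h14
      have h15 := φ.normal_ker.conj_mem _ x.2 g
      obtain ⟨T, hT⟩ := (IsPGroup.of_card (p := r) (n := 1) ((Nat.card_zpowers _).trans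
        (((H2.sm_ord_conj g x).trans hx).trans (pow_one r).symm))).exists_le_sylow
      exact ⟨H2.z_mem_of_smul_eq (hT (mem_zpowers _))
        (Sylow.smul_eq_iff_mem_normalizer.2 (h13 r hr R h15)), h15⟩
    obtain ⟨a, ha, h15, h16⟩ : ∃ a ∈ normalClosure {(x : G)}, a ≠ 1 ∧
        (R : Subgroup G) ≤ centralizer {a} := by
      obtain ⟨⟨a, h15, h16⟩, h17⟩ := ne_bot_iff_exists_ne_one.1 (H1.inf_centralizer_ne_bot_of_isPGroup
        (R.2.to_le (h14.trans inf_le_left)) R.2 (by simp [normalizer_eq_top]) fun e => by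
          rw [mem_bot.1 (e.le (subset_normalClosure rfl)), orderOf_one] at hx
          exact hr.one_lt.ne hx)
      exact ⟨a, h15, fun e => h17 (Subtype.ext e), fun y hy =>
        mem_centralizer_singleton_iff.2 (mem_centralizer_iff.1 h16 y hy)⟩
    refine h15 (mem_bot.1 (hZ ▸ mem_center_iff.2 fun g => mem_centralizer_singleton_iff.1 ?_))
    rw [H8.eq_top_of_forall_sylow (K := centralizer {a}) fun s hs => ?_]
    · trivial
    by_cases h : s = r
    · subst h
      exact ⟨R, h16⟩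
    haveI := Fact.mk hs
    obtain ⟨S⟩ : Nonempty (Sylow s G) := inferInstance
    refine ⟨S, fun y hy => mem_centralizer_singleton_iff.2 ?_⟩
    have : y * a * y⁻¹ * a⁻¹ ∈ ⊥ := (IsPGroup.disjoint_of_ne s r h _ _ S.2 R.2).le_bot ⟨by
      rw [mul_assoc, mul_assoc, ← mul_assoc a]
      exact mul_mem hy ((mem_normalizer_iff.1 (h13 s hs S (h14 ha).2) _).1 (inv_mem hy)),
      (h14 (mul_mem (normalClosure_normal.conj_mem _ ha y) (inv_mem ha))).1⟩
    rwa [mem_bot, mul_inv_eq_one, mul_inv_eq_iff_eq_mul] at this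
  have e₀ := MonoidHom.ofInjective ((MonoidHom.ker_eq_bot_iff φ).1 h11)
  have h12 : Fintype.card (ZMod 17) = Fintype.card F := by rw [ZMod.card, hF]
  rcases h7 with ⟨-, ⟨e⟩⟩ | ⟨-, ⟨e⟩⟩ | ⟨q, -, h, -⟩
  · exact .inr ⟨(e₀.trans e).trans (MulEquiv.ofBijective (Matrix.ProjGenLinGroup.map
      (FiniteField.ringEquivOfCardEq h12 : ZMod 17 →+* F)) ((Nat.bijective_iff_injective_and_card _).2
        ⟨H4.pgl_map_injective _, H4.card_pgl.trans (h12 ▸ H4.card_pgl.symm)⟩))⟩
  · obtain ⟨e'⟩ := H2.z_psl_congr h12 2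
    exact .inl ⟨(e₀.trans e).trans e'⟩
  · exact absurd (Nat.prime_three.dvd_of_dvd_pow (h ▸ (by decide : 3 ∣ 17 + 1))) (by decide)

end Cfsg.Agent.S3641
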