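import Cfsg.Statements.S3718
import Cfsg.Agent.H25.EO1

set_option autoImplicit false
open Cfsg

namespace Cfsg.Agent.S3718

open H1.CIT H25.EO
open scoped MatrixGroups

section
variable {U : ℕ → Prop} (hd : ∀ {m n}, U n → m ∣ n → U m)
  (hu : ∀ {a b}, U a → U b → 1 < a → ¬ a.Prime → 1 < b → ¬ b.Prime → a = b)
include hd hu

theorem prime_of_mul {p r : ℕ} (hp : 1 < p) (hr : 1 < r) (h : U (p * r)) : r.Prime := by
  by_contra hn
  have := hu (hd h (Dvd.intro_left _ rfl)) h hr hn (by nlinarith) (Nat.not_prime_mul (by omega) (by omega))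
  nlinarith

theorem prime_of_ne {p r a : ℕ} (hp : 1 < p) (hr : 1 < r) (h : U (p * r)) (ha : U a) (h1 : 1 < a)
    (hne : a ≠ p * r) : a.Prime := by
  by_contra hn
  exact hne (hu ha h h1 hn (by nlinarith) (Nat.not_prime_mul (by omega) (by omega)))

theorem odd_case {p n q a : ℕ} (hp : p.Prime) (hq : q = p ^ n) (ha : q = 2 * a + 1) (h4 : 4 ≤ q)
    (h1 : U a) (h2 : U (a + 1)) : (q = 5 ∨ q = 7 ∨ q = 9 ∨ q = 11 ∨ q = 13) ∨
      ∃ r s : ℕ, r.Prime ∧ s.Prime ∧ p = 3 ∧ q - 1 = 2 * r ∧ q + 1 = 4 * s := by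
  have h3 : p ≠ 3 → 3 ∣ a ∨ 3 ∣ a + 1 := fun p3 => by
    have : ¬ 3 ∣ q := fun e => p3 ((Nat.prime_dvd_prime_iff_eq Nat.prime_three hp).1
      (Nat.prime_three.dvd_of_dvd_pow (hq ▸ e))).symm
    rw [ha] at this
    have k : a % 3 = 0 ∨ a % 3 = 1 ∨ a % 3 = 2 := by omega
    rcases k with k | k | k <;> omega
  have eq3 : ∀ {r : ℕ}, r.Prime → 3 ∣ r → r = 3 := fun hr e =>
    ((Nat.prime_dvd_prime_iff_eq Nat.prime_three hr).1 e).symm
  rcases Nat.even_or_odd' a with ⟨e, rfl | rfl⟩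
  · by_cases e1 : e = 1
    · omega
    have he := prime_of_mul @hd @hu one_lt_two (by omega) h1
    have ho := prime_of_ne @hd @hu one_lt_two (by omega) h1 h2 (by omega) (by omega)
    by_cases p3 : p = 3
    · subst p3
      have : 2 ∣ e := by
        have k : ∀ n : ℕ, 3 ^ n % 8 = 1 ∨ 3 ^ n % 8 = 3 := fun n => by
          induction n with
          | zero => simp
          | succ n ih => rw [pow_succ]; omega
        have := k n
        omega
      have := (Nat.prime_dvd_prime_iff_eq Nat.prime_two he).1 this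
      omega
    · rcases h3 p3 with k | k
      · have := eq3 he (by omega); omega
      · have := eq3 ho k; omega
  · by_cases e1 : e = 0
    · omega
    have h2' : U (2 * (e + 1)) := by rwa [show 2 * (e + 1) = 2 * e + 1 + 1 by ring]
    have he := prime_of_mul @hd @hu one_lt_two (by omega) h2'
    have ho := prime_of_ne @hd @hu one_lt_two (by omega) h2' h1 (by omega) (by omega)
    by_cases p3 : p = 3
    · exact .inr ⟨_, _, ho, he, p3, by omega, by omega⟩
    · rcases h3 p3 with k | k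
      · have := eq3 ho k; omega
      · have := eq3 he (by omega); omega

theorem even_case {n : ℕ} (hn : 3 ≤ n) (h1 : U (2 ^ n - 1)) (h2 : U (2 ^ n + 1)) :
    n = 4 ∨ ∃ r : ℕ, (2 ^ n - 1).Prime ∧ r.Prime ∧ 2 ^ n + 1 = 3 * r := by
  have h8 := eight_le_pow hn
  rcases Nat.even_or_odd' n with ⟨m, rfl | rfl⟩
  · left
    have h4 := four_le_pow (n := m) (by omega)
    have e : 2 ^ (2 * m) - 1 = (2 ^ m - 1) * (2 ^ m + 1) := by
      rw [mul_comm 2 m, pow_mul, sq_sub_one, mul_comm]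
    rw [e] at h1
    have k1 := prime_of_mul @hd @hu (by omega) (by omega) h1
    rw [mul_comm] at h1
    have k2 := prime_of_mul @hd @hu (by omega) (by omega) h1
    rcases two_pow_mod_three m with k | k
    · have := (Nat.prime_dvd_prime_iff_eq Nat.prime_three k2).1 (by omega)
      have : 2 ^ m = 2 ^ 2 := by omega
      have := Nat.pow_right_injective le_rfl this
      omega
    · have := (Nat.prime_dvd_prime_iff_eq Nat.prime_three k1).1 (by omega)
      omega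
  · right
    have : 2 ^ (2 * m + 1) % 3 = 2 := by
      rw [pow_succ, pow_mul, Nat.mul_mod, Nat.pow_mod]; simp
    obtain ⟨r, hr⟩ : 3 ∣ 2 ^ (2 * m + 1) + 1 := by omega
    rw [hr] at h2
    exact ⟨r, prime_of_ne @hd @hu (by norm_num) (by omega) h2 h1 (by omega) (by omega),
      prime_of_mul @hd @hu (by norm_num) (by omega) h2, hr⟩

theorem sz_case {m : ℕ} (hm : 1 ≤ m) (h4 : U 4) (h1 : U (2 ^ (2 * m + 1) + 2 ^ (m + 1) + 1))
    (h2 : U (2 ^ (2 * m + 1) - 2 ^ (m + 1) + 1)) : m = 1 := by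
  have e : 2 ^ (2 * m + 1) = 2 ^ m * 2 ^ (m + 1) := by ring
  have h5 : 2 ≤ 2 ^ m := by simpa using Nat.pow_le_pow_right (n := 2) two_pos hm
  have h6 : 2 ^ (m + 1) = 2 * 2 ^ m := by ring
  rw [e, h6] at h1 h2
  have k := five_dvd_sz m
  rw [e, h6] at k
  generalize hx : 2 ^ m = x at *
  have h7 : 2 * (2 * x) ≤ x * (2 * x) := Nat.mul_le_mul_right _ h5
  have h4' : U (2 * 2) := h4
  rcases k with k | k
  · have := prime_of_ne @hd @hu one_lt_two one_lt_two h4' h1 (by omega) (by omega)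
    have := (Nat.prime_dvd_prime_iff_eq Nat.prime_five this).1 k
    omega
  · have := prime_of_ne @hd @hu one_lt_two one_lt_two h4' h2 (by omega) (by omega)
    have := (Nat.prime_dvd_prime_iff_eq Nat.prime_five this).1 k
    have h8 : x = 2 := by
      by_contra hn
      have : 3 * (2 * x) ≤ x * (2 * x) := Nat.mul_le_mul_right _ (by omega)
      omega
    rw [h8] at hx
    exact Nat.pow_right_injective le_rfl (show 2 ^ m = 2 ^ 1 from hx)
end

/-- Let G be a finite simple group whose set of element orders contains at most one composite number (at most one element order that is neither 1 nor a prime). Then G is cyclic of prime order, or isomorphic to PSL₂(q) for q ∈ {5, 7, 8, 9, 11, 13, 16}, to PSL₃(4), to the Suzuki group Sz(8), to PSL₂(3ⁿ) with (3ⁿ − 1)/2 and (3ⁿ + 1)/4 both prime, or to PSL₂(2ⁿ) with 2ⁿ − 1 and (2ⁿ + 1)/3 both prime. -/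
theorem result {G : Type*} [Group G] [Finite G] [IsSimpleGroup G]
    (h1 : {n : ℕ | n ∈ Set.range (orderOf : G → ℕ) ∧ 1 < n ∧ ¬ n.Prime}.Subsingleton) :
    (Nat.card G).Prime ∨
    (∃ (F : Type) (_ : Field F) (_ : Fintype F), (Fintype.card F = 5 ∨ Fintype.card F = 7 ∨ Fintype.card F = 8 ∨ Fintype.card F = 9 ∨
        Fintype.card F = 11 ∨ Fintype.card F = 13 ∨ Fintype.card F = 16) ∧ Nonempty (G ≃* Matrix.ProjectiveSpecialLinearGroup (Fin 2) F)) ∨
    (∃ (F : Type) (_ : Field F) (_ : Fintype F), Fintype.card F = 4 ∧ Nonempty (G ≃* Matrix.ProjectiveSpecialLinearGroup (Fin 3) F)) ∨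
    (∃ (F : Type) (_ : Field F) (_ : Fintype F), Fintype.card F = 8 ∧ Nonempty (G ≃* ↥(Cfsg.Lie.Sz F 4))) ∨
    (∃ (F : Type) (_ : Field F) (_ : Fintype F), ∃ n r s : ℕ, r.Prime ∧ s.Prime ∧ 3 ^ n - 1 = 2 * r ∧ 3 ^ n + 1 = 4 * s ∧
        Fintype.card F = 3 ^ n ∧ Nonempty (G ≃* Matrix.ProjectiveSpecialLinearGroup (Fin 2) F)) ∨
    (∃ (F : Type) (_ : Field F) (_ : Fintype F), ∃ n r : ℕ, (2 ^ n - 1).Prime ∧ r.Prime ∧ 2 ^ n + 1 = 3 * r ∧
        Fintype.card F = 2 ^ n ∧ Nonempty (G ≃* Matrix.ProjectiveSpecialLinearGroup (Fin 2) F)) := by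
  by_cases hn : IsMulCommutative G
  · letI : CommGroup G := ⟨hn.1.1⟩
    exact .inl IsSimpleGroup.prime_card
  right
  have hu : ∀ {a b}, El G a → El G b → 1 < a → ¬ a.Prime → 1 < b → ¬ b.Prime → a = b :=
    fun ha hb a1 a2 b1 b2 => h1 ⟨ha, a1, a2⟩ ⟨hb, b1, b2⟩
  have hd : ∀ {m n}, El G n → m ∣ n → El G m := fun h e => h.dvd e
  have c2 : ∀ {r : ℕ}, r.Prime → 1 < 2 * r ∧ ¬ (2 * r).Prime := fun hr =>
    ⟨by have := hr.two_le; omega, Nat.not_prime_mul (by norm_num) hr.one_lt.ne'⟩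
  have odd : ∀ (F : Type) (_ : Field F) (_ : Fintype F), Odd (Fintype.card F) → 4 ≤ Fintype.card F →
      Nonempty (G ≃* PSL(2, F)) → (Fintype.card F = 5 ∨ Fintype.card F = 7 ∨ Fintype.card F = 9 ∨
        Fintype.card F = 11 ∨ Fintype.card F = 13) ∨ ∃ n r s : ℕ, r.Prime ∧ s.Prime ∧
          3 ^ n - 1 = 2 * r ∧ 3 ^ n + 1 = 4 * s ∧ Fintype.card F = 3 ^ n := by
    rintro F _ _ ⟨a, ha⟩ h4 ⟨f⟩
    obtain ⟨p, -, n, hp, hq⟩ := FiniteField.card' F
    have p2 : p ≠ 2 := by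
      rintro rfl
      have : 2 ∣ Fintype.card F := hq ▸ dvd_pow_self 2 n.pos.ne'
      omega
    have key := fun m => (El.congr f (n := m)).trans (el_psl_odd hp p2 hq h4)
    refine (odd_case @hd @hu hp hq ha h4 ((key _).2 (.inr (.inl (by rw [ha]; simp))))
      ((key _).2 (.inr (.inr (by rw [ha]; exact ⟨1, by ring⟩))))).imp_right ?_
    rintro ⟨r, s, hr, hs, rfl, e1, e2⟩
    exact ⟨n, r, s, hr, hs, hq ▸ e1, hq ▸ e2, hq⟩
  rcases dich hn (fun r hr r2 e e4 => by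
      have := hu e e4 (c2 hr).1 (c2 hr).2 (by norm_num) (by norm_num); omega)
    (fun r s hr hs _ _ e1 e2 => by
      have := hu e1 e2 (c2 hr).1 (c2 hr).2 (c2 hs).1 (c2 hs).2; omega) with
    ((⟨F, i, j, n, h2, h3, ⟨f⟩⟩ | ⟨F, i, j, m, h2, h3, ⟨f⟩⟩) | ⟨F, i, j, k, h2, h3, -, f⟩ | h) |
      ⟨F, i, j, h2, h3, f⟩
  · obtain rfl | h4 := h2.eq_or_lt
    · obtain ⟨e1⟩ := H18.psl_a5 (F := F) (.inl h3)
      haveI : Fact (Nat.Prime 5) := ⟨Nat.prime_five⟩
      obtain ⟨e2⟩ := H18.psl_a5 (F := ZMod 5) (.inr (ZMod.card 5))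
      exact .inl ⟨ZMod 5, inferInstance, inferInstance, .inl (ZMod.card 5), ⟨(f.trans e1).trans e2.symm⟩⟩
    have key := fun m => (El.congr f (n := m)).trans (el_psl_even h2 h3)
    rcases even_case @hd @hu h4 ((key _).2 (by simp)) ((key _).2 (by simp)) with rfl | ⟨r, k1, k2, k3⟩
    · exact .inl ⟨F, i, j, by omega, ⟨f⟩⟩
    · exact .inr (.inr (.inr (.inr ⟨F, i, j, n, r, k1, k2, k3, h3, ⟨f⟩⟩)))
  · have key := fun k => (El.congr f (n := k)).trans (el_sz (H26.Sz.lieModel h2 h3) h3)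
    obtain rfl := sz_case @hd @hu h2 ((key _).2 (by simp)) ((key _).2 (by simp)) ((key _).2 (by simp))
    exact .inr (.inr (.inl ⟨F, i, j, h3, ⟨f⟩⟩))
  · obtain ⟨k, rfl⟩ : ∃ j, k = j + 1 := ⟨k - 1, by omega⟩
    have := four_le_pow (n := k) (by omega)
    rw [pow_succ] at h3
    rcases odd F i j (Nat.odd_iff.2 (by omega)) (by omega) f with h | ⟨n, r, s, k1, k2, k3, k4, k5⟩
    · exact .inl ⟨F, i, j, by omega, f⟩
    · exact .inr (.inr (.inr (.inl ⟨F, i, j, n, r, s, k1, k2, k3, k4, k5, f⟩)))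
  · exact .inr (.inl ⟨_, inferInstance, inferInstance, card_F4, h⟩)
  · rcases odd F i j (Nat.odd_iff.2 (by omega)) h3 f with h | ⟨n, r, s, k1, k2, k3, k4, k5⟩
    · exact .inl ⟨F, i, j, by omega, f⟩
    · exact .inr (.inr (.inr (.inl ⟨F, i, j, n, r, s, k1, k2, k3, k4, k5, f⟩)))

end Cfsg.Agent.S3718
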