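import Cfsg.Statements.S3728
import Cfsg.Agent.H26.SzMax
import Cfsg.Agent.H26.Gen1
import Cfsg.Agent.H17.T3b

set_option autoImplicit false
open Cfsg

namespace Cfsg.Agent.S3728

open Subgroup H16 H26

theorem two_adic {a b : ℕ} (h : Odd b) : (2 ^ a * b).factorization 2 = a := by
  rw [Nat.factorization_mul (by positivity) h.pos.ne', Nat.Prime.factorization_pow Nat.prime_two,
    Finsupp.add_apply, Finsupp.single_eq_same,
    Nat.factorization_eq_zero_of_not_dvd (by rwa [← even_iff_two_dvd, Nat.not_even_iff_odd]), add_zero]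

theorem o1 (k : ℕ) : Odd (2 ^ (2 * k + 1) - 1) :=
  Nat.Even.sub_odd (Nat.two_pow_pos _) ((Nat.even_pow' (by omega)).2 even_two) odd_one

theorem o2 (k : ℕ) : Odd ((2 ^ (2 * k + 1)) ^ 2 + 1) :=
  ((Nat.even_pow' (by omega)).2 ((Nat.even_pow' (by omega)).2 even_two)).add_one

theorem o3 (k : ℕ) : Odd (2 ^ (2 * k + 1) + 2 ^ (k + 1) + 1) :=
  Odd.of_dvd_nat (o2 k) ⟨_, (np_mul_nm k).symm⟩

theorem o4 (k : ℕ) : Odd (2 ^ (2 * k + 1) - 2 ^ (k + 1) + 1) :=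
  Odd.of_dvd_nat (o2 k) ⟨_, ((mul_comm _ _).trans (np_mul_nm k)).symm⟩

theorem cop (k : ℕ) : (2 ^ (2 * k + 1) - 1).Coprime ((2 ^ (2 * k + 1)) ^ 2 + 1) := by
  obtain ⟨c, hc⟩ := o1 k
  have h : 2 ^ (2 * k + 1) = 2 * c + 2 := by have := Nat.two_pow_pos (2 * k + 1); omega
  rw [hc, h, show (2 * c + 2) ^ 2 + 1 = 2 + (2 * c + 1) * (2 * c + 3) by ring,
    Nat.coprime_add_mul_left_right]
  simp

theorem not3 (m : ℕ) :
    ¬ 3 ∣ (2 ^ (2 * m + 1)) ^ 2 * ((2 ^ (2 * m + 1)) ^ 2 + 1) * (2 ^ (2 * m + 1) - 1) := by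
  have h1 : 2 ^ (2 * m + 1) % 3 = 2 := by rw [pow_succ, pow_mul, Nat.mul_mod, Nat.pow_mod]; simp
  generalize 2 ^ (2 * m + 1) = q at h1
  obtain ⟨k, rfl⟩ : ∃ k, q = 3 * k + 2 := ⟨q / 3, by omega⟩
  rw [Nat.Prime.dvd_mul Nat.prime_three, Nat.Prime.dvd_mul Nat.prime_three,
    show (3 * k + 2) ^ 2 = 3 * (3 * k ^ 2 + 4 * k + 1) + 1 by ring]
  omega

/-- the possible orders of maximal subgroups -/
def LL (m n : ℕ) : Prop := n = 2 * (2 ^ (2 * m + 1) - 1) ∨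
  (∃ b, b ∣ (2 ^ (2 * m + 1)) ^ 2 + 1 ∧ n = 4 * b ∧ (b = 2 ^ (2 * m + 1) + 2 ^ (m + 1) + 1 ∨
    b = 2 ^ (2 * m + 1) - 2 ^ (m + 1) + 1)) ∨ ∃ k, 1 ≤ k ∧ n.factorization 2 = 4 * k + 2 ∧
      (k < m ∨ n = (2 ^ (2 * m + 1)) ^ 2 * (2 ^ (2 * m + 1) - 1))

theorem ll {G F : Type*} [Group G] [Field F] [Fintype F] {m : ℕ} (M : SzModel G F m)
    {S : Subgroup G} (hS : IsCoatom S) : LL m (Nat.card S) := by
  rcases M.coatom_cases hS with e | e | e | e | ⟨k, h1, h2, e⟩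
  · exact Or.inr (Or.inr ⟨m, M.hm, by rw [e, ← pow_mul, two_adic (o1 m)]; ring, Or.inr e⟩)
  · exact Or.inl e
  · exact Or.inr (Or.inl ⟨_, ⟨_, (np_mul_nm m).symm⟩, e, Or.inl rfl⟩)
  · exact Or.inr (Or.inl ⟨_, ⟨_, ((mul_comm _ _).trans (np_mul_nm m)).symm⟩, e, Or.inr rfl⟩)
  · exact Or.inr (Or.inr ⟨k, h1, by
      rw [e, mul_assoc]; nth_rw 1 [← pow_mul]; rw [two_adic ((o2 k).mul (o1 k))]; ring, Or.inl h2⟩)

theorem arith {m k a b : ℕ} (hk : k ≠ 0) (ha : Odd a) (hb : Odd b) (h1 : LL m (k * (2 * a)))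
    (h2 : LL m (k * (4 * b))) : k = 1 ∧ a = 2 ^ (2 * m + 1) - 1 := by
  obtain ⟨e, c, hc, rfl⟩ := Nat.exists_eq_two_pow_mul_odd hk
  have v1 : (2 ^ e * c * (2 * a)).factorization 2 = e + 1 := by
    rw [← two_adic (a := e + 1) (hc.mul ha)]; congr 2; ring
  have v2 : (2 ^ e * c * (4 * b)).factorization 2 = e + 2 := by
    rw [← two_adic (a := e + 2) (hc.mul hb)]; congr 2; ring
  have w1 : ∀ {n}, n = 2 * (2 ^ (2 * m + 1) - 1) → n.factorization 2 = 1 := by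
    rintro _ rfl; exact two_adic (a := 1) (o1 m)
  have w2 : ∀ {n b}, b ∣ (2 ^ (2 * m + 1)) ^ 2 + 1 → n = 4 * b → n.factorization 2 = 2 := by
    rintro _ b h rfl; exact two_adic (a := 2) (Odd.of_dvd_nat (o2 m) h)
  rcases h2 with h2 | ⟨d, hd, h2, -⟩ | ⟨j, k1, k2, -⟩
  · have := w1 h2; omega
  · obtain rfl : e = 0 := by have := w2 hd h2; omega
    rcases h1 with h1 | ⟨d, hd, h1, -⟩ | ⟨j, k1, k2, -⟩
    · obtain rfl : c = 1 := Nat.eq_one_of_dvd_coprimes (cop m) ⟨a, by nlinarith⟩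
        (Dvd.dvd.trans ⟨b, by nlinarith⟩ hd)
      omega
    · have := w2 hd h1; omega
    · omega
  · rcases h1 with h1 | ⟨d, hd, h1, -⟩ | ⟨j, k1, k2, -⟩
    · have := w1 h1; omega
    · have := w2 hd h1; omega
    · omega

theorem arith2 {m k p : ℕ} (hm : 1 ≤ m) (hp : p.Prime) (h : LL m k)
    (hd : (2 ^ (2 * m + 1)) ^ 2 * ((2 ^ (2 * m + 1)) ^ 2 + 1) * (2 ^ (2 * m + 1) - 1) ∣ k * p)
    (hk : k ≠ 0) : False := by
  have v : (2 * m + 1) * 2 ≤ k.factorization 2 + 1 := by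
    have h1 := (Nat.factorization_le_iff_dvd (by positivity) (mul_ne_zero hk hp.ne_zero)).2
      (((Dvd.intro _ rfl).trans (Dvd.intro _ rfl)).trans hd) 2
    rw [← pow_mul, Nat.Prime.factorization_pow Nat.prime_two, Finsupp.single_eq_same,
      Nat.factorization_mul hk hp.ne_zero, hp.factorization, Finsupp.add_apply,
      Finsupp.single_apply] at h1
    split_ifs at h1 <;> omega
  rcases h with rfl | ⟨b, hb, rfl, -⟩ | ⟨j, -, h1, h2 | rfl⟩
  · have := two_adic (a := 1) (o1 m); rw [pow_one] at this; omega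
  · have := two_adic (a := 2) (Odd.of_dvd_nat (o2 m) hb); norm_num at this; omega
  · omega
  rw [mul_right_comm, Nat.mul_dvd_mul_iff_left (Nat.pos_of_ne_zero hk), ← np_mul_nm] at hd
  have h2 := one_lt_nm hm
  have h3 := (Nat.dvd_prime hp).1 ((Dvd.intro _ rfl).trans hd)
  have h4 := (Nat.dvd_prime hp).1 ((Dvd.intro_left _ rfl).trans hd)
  have h5 := Nat.two_pow_pos (m + 1)
  have h6 := Nat.two_pow_pos (2 * m + 1)
  generalize 2 ^ (m + 1) = a at *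
  generalize 2 ^ (2 * m + 1) = b at *
  omega


/-- Let q = 2^(2m+1) with m ≥ 1 and let G be a finite group whose set of orders of maximal subgroups equals that of the Suzuki group Sz(q). Then G is isomorphic to Sz(q). -/
theorem result {G : Type*} [Group G] [Finite G] {F : Type*} [Field F] [Fintype F] (m : ℕ) (hm : 1 ≤ m)
    (hF : Fintype.card F = 2 ^ (2 * m + 1))
    (h : {k : ℕ | ∃ M : Subgroup G, IsCoatom M ∧ k = Nat.card ↥M} = {k : ℕ | ∃ M : Subgroup ↥(Cfsg.Lie.Sz F (2 ^ (m + 1))), IsCoatom M ∧ k = Nat.card ↥M}) :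
    Nonempty (G ≃* ↥(Cfsg.Lie.Sz F (2 ^ (m + 1)))) := by
  have M := Sz.lieModel hm hF
  have := M.finite
  have h1 : ∀ S : Subgroup G, IsCoatom S → ∃ T : Subgroup (Lie.Sz F (2 ^ (m + 1))), IsCoatom T ∧
      Nat.card S = Nat.card T := fun S hS => Set.ext_iff.1 h _ |>.1 ⟨S, hS, rfl⟩
  have h2 : ∀ U : Subgroup (Lie.Sz F (2 ^ (m + 1))), M.IsPart U → Nat.card U ∣ Nat.card G := by
    intro U hU
    obtain ⟨T, hT, k⟩ := (eq_top_or_exists_le_coatom N[U]).resolve_left hU.normalizer_ne_top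
    obtain ⟨S, -, e⟩ := Set.ext_iff.1 h _ |>.2 ⟨T, hT, rfl⟩
    exact (card_dvd_of_le ((le_norm U).trans k)).trans (e ▸ card_subgroup_dvd_card S)
  have h3 : (2 ^ (2 * m + 1)) ^ 2 * ((2 ^ (2 * m + 1)) ^ 2 + 1) * (2 ^ (2 * m + 1) - 1) ∣
      Nat.card G := by
    obtain ⟨x, hx, k1, -⟩ := M.exists_torus (Or.inl rfl)
    obtain ⟨y, hy, k2, -⟩ := M.exists_torus (Or.inr rfl)
    have a1 := h2 _ (Or.inl ⟨1, rfl⟩)
    have a2 := h2 _ (Or.inr (Or.inl ⟨1, rfl⟩))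
    have a3 := (coprime_np_nm m).mul_dvd_of_dvd_of_dvd (k1 ▸ h2 _ (Or.inr (Or.inr ⟨x, hx, rfl⟩)))
      (k2 ▸ h2 _ (Or.inr (Or.inr ⟨y, hy, rfl⟩)))
    rw [SzModel.card_Q, hF] at a1
    rw [SzModel.card_H, hF] at a2
    rw [np_mul_nm] at a3
    rw [mul_assoc, mul_comm (_ + 1)]
    refine Nat.Coprime.mul_dvd_of_dvd_of_dvd ?_ a1 ((cop m).mul_dvd_of_dvd_of_dvd a2 a3)
    exact ((Nat.coprime_two_left.2 ((o1 m).mul (o2 m))).pow_left _).pow_left _
  have h4 : 4 ∣ Nat.card G := Dvd.dvd.trans (Dvd.dvd.mul_right (Dvd.dvd.mul_right (by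
    rw [← pow_mul]; exact pow_dvd_pow 2 (m := 2) (by omega)) _) _) h3
  have h5 : ¬ 3 ∣ Nat.card G := fun k => by
    have : Fact (Nat.Prime 3) := ⟨Nat.prime_three⟩
    obtain ⟨x, hx⟩ := exists_prime_orderOf_dvd_card' 3 k
    rcases eq_top_or_exists_le_coatom (zpowers x) with e | ⟨S, hS, e⟩
    · rw [← card_top, ← e, Nat.card_zpowers, hx] at h4; omega
    obtain ⟨T, -, k⟩ := h1 S hS
    have := card_dvd_of_le e
    rw [Nat.card_zpowers, hx, k] at this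
    have k := this.trans (card_subgroup_dvd_card T)
    rw [M.card_G, hF] at k
    exact not3 m k
  have : Nontrivial G := Finite.one_lt_card_iff_nontrivial.1 (by
    have := Nat.le_of_dvd Nat.card_pos h4; omega)
  obtain ⟨K, _, hs⟩ := exists_simple_quot G
  have h6 : ∀ S : Subgroup (G ⧸ K), IsCoatom S → LL m (Nat.card K * Nat.card S) := fun S hS => by
    obtain ⟨T, hT, e⟩ := h1 _ (isCoatom_comap_of_surjective (QuotientGroup.mk'_surjective K) hS)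
    rw [card_comap_surj (QuotientGroup.mk'_surjective K), QuotientGroup.ker_mk'] at e
    exact e ▸ ll M hT
  by_cases hc : IsMulCommutative (G ⧸ K)
  · have hp : (Nat.card (G ⧸ K)).Prime := by
      open scoped IsMulCommutative in exact IsSimpleGroup.prime_card
    have : Fact (Nat.card (G ⧸ K)).Prime := ⟨hp⟩
    have k := h6 ⊥ ⟨bot_ne_top, fun S hS => (S.eq_bot_or_eq_top_of_prime_card).resolve_left hS.ne'⟩
    rw [card_bot, mul_one] at k
    exact (arith2 hm hp k (by rwa [mul_comm (Nat.card K), ← card_eq_card_quotient_mul_card_subgroup])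
      Nat.card_pos.ne').elim
  obtain ⟨F₀, _, _, j, ⟨M₀⟩⟩ := H17.T3.exists_model (H17.T3.isoSuzuki hs hc fun k =>
    h5 (k.trans (card_quotient_dvd_card K)))
  obtain ⟨⟨S, hS, e1⟩, T, hT, e2⟩ := M₀.exists_coatom
  obtain ⟨k1, k2⟩ := arith Nat.card_pos.ne' (o1 j) (o3 j) (e1 ▸ h6 S hS) (e2 ▸ h6 T hT)
  obtain rfl := card_eq_one.1 k1
  obtain ⟨e⟩ := M.nonempty_sub_equiv M₀ (E := ⊤) (by
    have := Nat.two_pow_pos (2 * j + 1)
    have := Nat.two_pow_pos (2 * m + 1)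
    rw [Nat.card_congr Subfield.topEquiv.toEquiv, Nat.card_eq_fintype_card, hF, M₀.hF]; omega)
  rw [M.sub_top] at e
  exact ⟨QuotientGroup.quotientBot.symm.trans (e.symm.trans topEquiv)⟩

end Cfsg.Agent.S3728
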