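import Cfsg.Statements.S3755
import Cfsg.Agent.H10.RO5

set_option autoImplicit false
open Cfsg H10

namespace Cfsg.Agent.S3755

/-- Let M and V be subgroups of a finite group with V an elementary abelian 2-group, M normalizing V and acting faithfully on it (M ∩ C(V) = 1), and C_M(O_{2'}(M)) ≤ O_{2'}(M). If some elementary abelian 2-subgroup A of M satisfies |V : C_V(A)| < |A|², then M has a section isomorphic to the symmetric group of degree 3. -/
theorem result {X : Type*} [Group X] [Finite X] (M V : Subgroup X) (hV : Cfsg.IsElementaryAbelian 2 V) (hMV : M ≤ Subgroup.normalizer (V : Set X)) (hfaith : M ⊓ Subgroup.centralizer (V : Set X) = ⊥) (hcon : Subgroup.centralizer (Cfsg.pPrimeCore 2 ↥M : Set ↥M) ≤ Cfsg.pPrimeCore 2 ↥M) (A : Subgroup X) (hAM : A ≤ M) (hA : Cfsg.IsElementaryAbelian 2 A) (hsmall : (V ⊓ Subgroup.centralizer (A : Set X)).relIndex V < Nat.card A ^ 2) : Cfsg.Involves (Equiv.Perm (Fin 3)) ↥M := by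
  by_contra h3
  set Y := (pPrimeCore 2 M).map M.subtype with hY
  have hYM : Y ≤ M := Subgroup.map_subtype_le _
  have hn : M ≤ NN(Y) := le_NN_map_subtype _
  have hc : (Nat.card Y).Coprime 2 := by rw [card_map_subtype]; exact H1.coprime_card_pPrimeCore 2
  have hL : A ⊔ Y ≤ M := sup_le hAM hYM
  have hk := kro_of_free (L := A ⊔ Y) (Or.inl fun e => h3 (involves_iff_sub.2 (e.mono hL)))
    (ks_of_solvable (H5.isSolvable_sup (hAM.trans hn) (isSolvable_of_isPGroup (elab_isPGroup hA))
      (FT.odd_solvable _ (Nat.coprime_two_right.1 hc))))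
  have hr : RedOn 2 CC(V) (A ⊔ Y) := fun N h1 h2 h4 => by
    have h5 := isPGroup_of_resOf_eq_bot
      (eq_bot_iff.2 (hfaith.le.trans' (le_inf ((resOf_le N).trans (h1.trans hL)) h4)))
    have h6 : N ≤ CC(Y) := comm_eq_bot.1 (eq_bot_of_isPGroup_of_not_dvd
      (h5.to_le (comm_le_left (le_sup_right.trans h2))) (comm_le_right ((h1.trans hL).trans hn))
      (not_dvd_of_coprime hc))
    rw [eq_bot_of_isPGroup_of_not_dvd h5 (L := Y) (fun x hx => ⟨⟨x, hL (h1 hx)⟩, hcon (mem_CC.2
      fun y hy => Subtype.ext (mem_CC.1 (h6 hx) _ ⟨y, hy, rfl⟩)), rfl⟩) (not_dvd_of_coprime hc)]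
    exact bot_le
  have h1 := (hk.bound' hV (hL.trans hMV) hr le_sup_left (elab_isPGroup hA) (elMod_of_elab hA _)).1
  have h3 := card_inf_mul_relIndex CC(V) A
  rw [show CC(V) ⊓ A = ⊥ from eq_bot_iff.2 (hfaith.le.trans' (le_inf (inf_le_right.trans hAM) inf_le_left)),
    Subgroup.card_bot, one_mul] at h3
  rw [h3] at h1
  rw [Subgroup.inf_relIndex_left] at hsmall
  omega

end Cfsg.Agent.S3755
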