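import Cfsg.Statements.S3758
import Cfsg.Agent.H10.ZC2
import Cfsg.Agent.H10.JC5
import Cfsg.Agent.S0518
import Cfsg.Agent.S2759
import Cfsg.Agent.S3224
import Cfsg.Agent.H6.QG

set_option autoImplicit false
open Cfsg H10

namespace Cfsg.Agent.S3758

open Subgroup H10.Sg in
theorem dih {Y : Type*} [Group Y] [Finite Y] {V R : Subgroup Y} (hV : IsElementaryAbelian 2 V)
    (h4 : Nat.card V = 4) (hC : CC(V) ≤ V) (hR : IsPGroup 2 R) (hVR : V ≤ R) :
    (∃ n : ℕ, 2 ≤ n ∧ Nonempty (R ≃* DihedralGroup n)) ∨ IsQuasiDihedral R := by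
  have k : Nat.card R = 4 → ∃ n : ℕ, 2 ≤ n ∧ Nonempty (R ≃* DihedralGroup n) := fun e => by
    obtain rfl := H5.eq_of_le_of_card_le hVR (by rw [e, h4])
    have := klein_of_elab hV h4
    exact ⟨2, le_rfl, IsKleinFour.nonempty_mulEquiv⟩
  by_cases h1 : V ≤ CC(R)
  · exact Or.inl (k (by rw [le_antisymm ((le_CC_symm h1).trans hC) hVR, h4]))
  obtain ⟨x, hx, hx'⟩ := SetLike.not_le_iff_exists.1 h1
  obtain ⟨z, hz, oz⟩ := exists_orderOf_eq_of_ne_bot (isPGroup_ZO (p := 2) R) (ZO_ne_bot hR (by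
    rintro rfl; exact h1 (by rw [CC_bot]; exact le_top)))
  have hE : EA 2 V := ⟨hV, h4.ge⟩
  have x1 : x ≠ 1 := fun e => hx' (e ▸ one_mem _)
  have hzV := hC (CC_anti hVR (ZO_le_CC R hz))
  have h2 : R ⊓ centralizer {x} = V := by
    refine le_antisymm (fun g hg => hC (mem_CC.2 fun v hv => ?_)) (le_inf hVR (hE.le_C1 hx))
    have a := mem_C1.1 hg.2
    have b := mem_CC.1 (ZO_le_CC R hz) g hg.1
    rcases four_cases hE h4 hzV hx hv (H6.ord2_ne_one oz) x1 (fun e => hx' (e ▸ ZO_le_CC R hz))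
      with e | e | e | e <;> rw [e]
    exacts [by simp, b.symm, a.symm, by rw [mul_assoc, ← a, ← mul_assoc, ← b, mul_assoc]]
  rcases Cfsg.Agent.S3224.result hR ⟨x, hVR hx⟩ (by rw [orderOf_mk, hE.ord hx x1]) (by
    rw [← card_map_subtype, ← CC_zpowers, map_CC_subtype, MonoidHom.map_zpowers, CC_zpowers]
    exact h2.symm ▸ h4) with ⟨n, ⟨e⟩⟩ | h | h
  · refine Or.inl ⟨n, ?_, ⟨e⟩⟩
    have a := Nat.card_congr e.toEquiv
    have b := card_le_of_le hVR
    rw [DihedralGroup.nat_card] at a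
    omega
  exacts [Or.inr h, Or.inl (k h)]

theorem four {Y : Type*} [Group Y] [Finite Y] {M : Subgroup Y} (hM : IsMaximalTwoLocal M)
    (e : M ≃* Equiv.Perm (Fin 4)) :
    ∃ V : Subgroup Y, IsElementaryAbelian 2 V ∧ Nat.card V = 4 ∧ CC(V) ≤ V := by
  have h1 : IsElementaryAbelian 2 S2759.V := isElementaryAbelian_iff.2
    ⟨le_CC_iff.2 fun a ha b hb => H4.a4_comm' b a hb.1 ha.1 hb.2 ha.2, fun a ha => by rw [sq, ha.2]⟩
  have h2 : Nat.card S2759.V = 4 := by
    change Nat.card {g : Equiv.Perm (Fin 4) // Equiv.Perm.sign g = 1 ∧ g * g = 1} = 4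
    rw [Nat.card_eq_fintype_card]; decide
  have : (S2759.V.map e.symm.toMonoidHom).Normal := Subgroup.Normal.map inferInstance _ e.symm.surjective
  have h3 := elab_map M.subtype (elab_map e.symm.toMonoidHom h1)
  have h4 : Nat.card ((S2759.V.map e.symm.toMonoidHom).map M.subtype) = 4 := by
    rw [card_map_subtype, Subgroup.card_map_of_injective e.symm.injective, h2]
  refine ⟨_, h3, h4, fun x hx => ?_⟩
  have h5 := hM.2 _ ⟨_, elab_isPGroup h3, fun e => by rw [e, Subgroup.card_bot] at h4; omega, rfl⟩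
    (le_NN_map_subtype _)
  have hxM : x ∈ M := h5 ▸ CC_le_NN _ hx
  have k : ∀ a ∈ S2759.V, a * e ⟨x, hxM⟩ = e ⟨x, hxM⟩ * a := fun a ha => by
    rw [← e.apply_symm_apply a, ← map_mul, ← map_mul]
    exact congrArg e (Subtype.ext (mem_CC.1 hx _ ⟨_, ⟨a, ha, rfl⟩, rfl⟩))
  have k1 := k (Equiv.swap 0 1 * Equiv.swap 2 3) ⟨by decide, by decide⟩
  have k2 := k (Equiv.swap 0 2 * Equiv.swap 1 3) ⟨by decide, by decide⟩
  refine ⟨⟨x, hxM⟩, ⟨e ⟨x, hxM⟩, ?_, e.symm_apply_apply _⟩, rfl⟩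
  change Equiv.Perm.sign _ = 1 ∧ _ * _ = 1
  clear k
  generalize e ⟨x, hxM⟩ = g at *
  revert g; decide

/-- Let G be a finite group of even order in which every 2-local subgroup is solvable and C_G(Ω₁(Z(S))) ≤ N_G(S) for every Sylow 2-subgroup S, and suppose O_{2'}(G) = 1 = O₂(G). Fix a Sylow 2-subgroup S, put Z = Ω₁(Z(S)), H = O²(G) (generated by the elements of odd order) and R = S ∩ H. Then one of the following holds: H has a strongly embedded subgroup; R is dihedral (of order at least 4) or semidihedral; Z ∩ R has order 2 and is weakly closed in R with respect to H; or Z has order 4 and is exactly the subgroup generated by the involutions of R. -/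
theorem result {G : Type*} [Group G] [Finite G] (heven : Even (Nat.card G)) (hN : ∀ L : Subgroup G, Cfsg.IsTwoLocal L → Group.IsSolvable L) (hZ : ∀ S : Sylow 2 G, Subgroup.centralizer (Cfsg.omegaOne 2 ((S : Subgroup G) ⊓ Subgroup.centralizer ((S : Subgroup G) : Set G)) : Set G) ≤ Subgroup.normalizer ((S : Subgroup G) : Set G)) (hO' : Cfsg.pPrimeCore 2 G = ⊥) (hO : Cfsg.pCore 2 G = ⊥) (S : Sylow 2 G) : (∃ M : Subgroup ↥(Cfsg.pResidual 2 G), Cfsg.IsStronglyEmbedded M) ∨ ((∃ n : ℕ, 2 ≤ n ∧ Nonempty (↥((S : Subgroup G) ⊓ Cfsg.pResidual 2 G) ≃* DihedralGroup n)) ∨ Cfsg.IsQuasiDihedral ↥((S : Subgroup G) ⊓ Cfsg.pResidual 2 G)) ∨ (Nat.card ↥(Cfsg.omegaOne 2 ((S : Subgroup G) ⊓ Subgroup.centralizer ((S : Subgroup G) : Set G)) ⊓ Cfsg.pResidual 2 G) = 2 ∧ ∀ h ∈ Cfsg.pResidual 2 G, ∀ z ∈ Cfsg.omegaOne 2 ((S : Subgroup G) ⊓ Subgroup.centralizer ((S : Subgroup G) : Set G)) ⊓ Cfsg.pResidual 2 G, h * z * h⁻¹ ∈ (S : Subgroup G) → h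 * z * h⁻¹ ∈ Cfsg.omegaOne 2 ((S : Subgroup G) ⊓ Subgroup.centralizer ((S : Subgroup G) : Set G))) ∨ (Nat.card ↥(Cfsg.omegaOne 2 ((S : Subgroup G) ⊓ Subgroup.centralizer ((S : Subgroup G) : Set G))) = 4 ∧ Cfsg.omegaOne 2 ((S : Subgroup G) ⊓ Cfsg.pResidual 2 G) = Cfsg.omegaOne 2 ((S : Subgroup G) ⊓ Subgroup.centralizer ((S : Subgroup G) : Set G))) := by
  have hS := isSylowIn_top S
  refine (Sg.zc_main heven (fun t ht => H5.isSolvable_of_le (hN _ ⟨_, (Sg.ea_one ht).two,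
    mt Subgroup.zpowers_eq_bot.1 (H6.ord2_ne_one ht), rfl⟩) (CC_zpowers t ▸ CC_le_NN _)) hS (hZ S)
    hO' hO).elim Or.inl fun h => ?_
  rcases h with h | h | h
  · exact Or.inr (Or.inr (Or.inl h))
  · exact Or.inr (Or.inr (Or.inr h))
  have hHn := pResidual_normal' (p := 2) (G := G)
  have hXn := Sg.res_sup_normal hS (le_NN_ZO (p := 2) (le_NN_self (S : Subgroup G)))
  have hR := Sg.inf_res_ne_bot heven hO' hO hS
  have hZX : ZO 2 (S : Subgroup G) ≤ pResidual 2 G ⊔ ZO 2 (S : Subgroup G) := le_sup_right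
  have hHX : pResidual 2 G ≤ pResidual 2 G ⊔ ZO 2 (S : Subgroup G) := le_sup_left
  have hres : resOf 2 (pResidual 2 G ⊔ ZO 2 (S : Subgroup G)) = pResidual 2 G := by
    exact (resOf_eq_of_le (resOf_top.le.trans hHX) le_top).trans resOf_top
  generalize pResidual 2 G ⊔ ZO 2 (S : Subgroup G) = X at *
  generalize pResidual 2 G = H at *
  have hres' : resOf 2 (⊤ : Subgroup X) = H.subgroupOf X := by
    rw [resOf_top, ← resOf_subgroupOf, hres]
  have f := Subgroup.subgroupOfEquivOfLe hHX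
  rcases Cfsg.Agent.S0518.result h (pCoreOf_eq_bot_iff.1 (eq_bot_iff.2
      ((pCoreOf_le_of_normal le_top (le_NN_of_normal _ _)).trans (pCoreOf_top.trans hO).le)))
    (fun N ⟨T, a, b, c⟩ => c ▸ (H5.isSolvable_map_iff X.subtype_injective).1 (H5.isSolvable_of_le
      (hN _ ⟨T.map X.subtype, a.map _, mt (Subgroup.map_eq_bot_iff_of_injective _
        X.subtype_injective).1 b, rfl⟩) (map_NN_le _ _)))
    (fun T x hx => by
      obtain ⟨P, hP, hTP⟩ := exists_isSylowIn_ge (T.isPGroup'.map X.subtype) le_top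
      obtain ⟨g, -, hg⟩ := hS.exists_cj hP
      have a : ZO 2 P ≤ X := by rw [← hg, ← cj_ZO]; exact cj_le_of_mem_NN (le_NN_of_normal ⊤ X trivial) hZX
      have b := (isSylowIn_map_subtype T).eq_of_le (hP.isPGroup.to_le inf_le_left)
        (le_inf hTP (Subgroup.map_subtype_le _)) inf_le_right
      obtain ⟨P, rfl⟩ := hP.exists_sylow_top
      have c : (x : G) ∈ NN((P : Subgroup G)) := hZ P (mem_CC.2 fun z hz => by
        obtain ⟨w, hw, e⟩ := b.le (⟨ZO_le _ hz, a hz⟩ : z ∈ (P : Subgroup G) ⊓ X)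
        have e' : (w : G) = z := e
        subst e'
        exact congrArg Subtype.val (hx w ⟨hw, Subtype.ext (mem_ZO.1 hz).2.2, fun s hs =>
          Subtype.ext (mem_CC.1 (mem_ZO.1 hz).2.1 s (hTP ⟨s, hs, rfl⟩))⟩))
      rw [← subgroupOf_map_subtype' (T : Subgroup X), NN_subgroupOf (Subgroup.map_subtype_le _), ← b]
      exact mem_NN_inf c (le_NN_self X x.2))
    (H.subgroupOf X) (by rw [← hres', ← closure_odd_eq]; simp) with ⟨K, hK⟩ | ⟨M, -, -, h1, -, ⟨e⟩, -⟩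
  · rw [se_iff_spe] at hK
    obtain ⟨T, hT⟩ := exists_isSylowIn 2 K
    have h1 := spe_sylow hK hT
    have h2 : 2 ∣ Nat.card (H.subgroupOf X ⊓ K : Subgroup X) := by
      have a := h1.inf_normal (N := H.subgroupOf X) le_top (le_NN_of_normal _ _)
      refine dvd_card_of_le a.isPGroup (a.ne_bot ?_) (le_inf inf_le_right (inf_le_left.trans hT.le))
      rw [card_subgroupOf_of_le hHX]
      exact dvd_card_of_le (hS.isPGroup.to_le inf_le_left) hR inf_le_right
    have h3 := spe_subgroupOf hK (fun e => (spe_iff.1 hK).1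
      (eq_top_iff.2 (h1.le_of_resOf_le (hres'.le.trans e) hT.le))) h2
    refine Or.inl ⟨_, se_iff_spe.2 (spe_map (f := f.toMonoidHom) f.surjective ?_ h3 ?_)⟩ <;>
      rw [(MonoidHom.ker_eq_bot_iff _).2 f.injective]
    · simp
    · rw [sup_bot_eq]; exact (spe_iff.1 h3).1
  · obtain ⟨V, a, b, c⟩ := four h1 e
    obtain ⟨g, -, hg⟩ := ((Sg.sylow_sub (X := H) hS).map_top (f := f.symm.toMonoidHom)
      f.symm.surjective).exists_cj_le (elab_isPGroup a) le_top
    have d := (Subgroup.subgroupOfEquivOfLe (inf_le_right : (S : Subgroup G) ⊓ H ≤ H)).symm.trans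
      (Subgroup.equivMapOfInjective _ f.symm.toMonoidHom f.symm.injective)
    exact Or.inr (Or.inl ((dih (elab_cj g a) (by rw [card_cj, b]) (by
      rw [← cj_centralizer]; exact cj_mono g c) ((Sg.sylow_sub hS).isPGroup.map _) hg).imp
      (fun ⟨n, x, ⟨y⟩⟩ => ⟨n, x, ⟨d.trans y⟩⟩) (H6.isQuasiDihedral_congr d.symm)))

end Cfsg.Agent.S3758
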