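import Cfsg.Statements.S3763
import Cfsg.Agent.H7.ESRank

set_option autoImplicit false
open Cfsg

namespace Cfsg.Agent.S3763

theorem aux {E : Type*} [Group E] [Finite E] (hE : IsExtraspecial 2 E) : ∃ (z : E) (n : ℕ)
    (x y : Fin n → E) (ε : ℕ), ε ≤ 1 ∧ 1 ≤ n ∧ H3.IsES 2 z ⊤ ∧ H3.IsSympBasis z ⊤ x y ∧
    Nat.card E = 2 ^ (2 * n + 1) ∧ (∀ i : Fin n, x i ^ 2 = z ^ (if i.val + 1 = n then ε else 0) ∧
      y i ^ 2 = z ^ (if i.val + 1 = n then ε else 0)) ∧ ∀ k, PRankLE 2 k E ↔ n + 1 - ε ≤ k := by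
  obtain ⟨z, hz, hc⟩ := H3.isES_of_isExtraspecial hE
  obtain ⟨n, x, y, ε, e, b, c, d⟩ := hz.exists_basis_two
  have hn : 1 ≤ n := by
    by_contra h
    obtain rfl : n = 0 := by omega
    have h1 : Subgroup.center E = ⊤ := Subgroup.eq_top_of_card_eq _ (by
      rw [hE.2, ← Subgroup.card_top, c]; rfl)
    have h2 : commutator E = ⊥ := (commutator_eq_bot_iff_center_eq_top E).2 h1
    have := hE.2
    rw [← hE.1.2.2, h2, Subgroup.card_bot] at this
    omega
  refine ⟨z, n, x, y, ε, e, hn, hz, b, Subgroup.card_top (G := E) ▸ c, d, fun k => ?_⟩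
  rw [← H9.prank_top]
  exact H7.es_rank_of_basis e n hz b.memx b.memy b.xy b.xx (fun i j _ => b.yy i j) b.xy' c d
    (Or.inr hn) k

/-- Let E be an extraspecial 2-group of order 2^(2n+1). Then the largest elementary abelian subgroups of E have order 2^n or 2^(n+1); and two extraspecial 2-groups of the same order whose largest elementary abelian subgroups have the same order are isomorphic. -/
theorem result {E : Type*} [Group E] [Finite E] (hE : Cfsg.IsExtraspecial 2 E) (n : ℕ) (hn : Nat.card E = 2 ^ (2 * n + 1)) : ((Cfsg.PRankLE 2 n E ∧ ¬ Cfsg.PRankLE 2 (n - 1) E) ∨ (Cfsg.PRankLE 2 (n + 1) E ∧ ¬ Cfsg.PRankLE 2 n E)) ∧ ∀ (E' : Type*) [Group E'] [Finite E'], Cfsg.IsExtraspecial 2 E' → Nat.card E' = Nat.card E → (∀ k : ℕ, Cfsg.PRankLE 2 k E ↔ Cfsg.PRankLE 2 k E') → Nonempty (E ≃* E') := by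
  obtain ⟨z, m, x, y, ε, e, hm, hz, b, c, d, r⟩ := aux hE
  obtain rfl : n = m := by
    have := Nat.pow_right_injective le_rfl (hn.symm.trans c)
    omega
  refine ⟨by simp only [r]; omega, fun E' _ _ hE' hc hk => ?_⟩
  obtain ⟨z', m', x', y', ε', e', hm', hz', b', c', d', r'⟩ := aux hE'
  obtain rfl : n = m' := by
    have := Nat.pow_right_injective le_rfl (hn.symm.trans (hc.symm.trans c'))
    omega
  obtain rfl : ε = ε' := by
    have := hk n
    rw [r, r'] at this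
    omega
  exact H3.nonempty_mulEquiv_of_sympBasis hz hz' b b' c c'
    (fun i => ⟨(if i.val + 1 = n then ε else 0 : ℕ), by rw [zpow_natCast, (d i).1],
      by rw [zpow_natCast, (d' i).1]⟩)
    (fun i => ⟨(if i.val + 1 = n then ε else 0 : ℕ), by rw [zpow_natCast, (d i).2],
      by rw [zpow_natCast, (d' i).2]⟩)

end Cfsg.Agent.S3763
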