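import Cfsg.Statements.S3806
import Cfsg.Agent.H13.Pearl2

set_option autoImplicit false
open Cfsg

namespace Cfsg.Agent.S3806

open H13 Equiv Cfsg.FusionSystem

/-- Let p be a prime and S a finite p-group of order pⁿ (n ≥ 2) of maximal nilpotency class n − 1 whose sectional p-rank is exactly k (every section has p-rank at most k, and some section has p-rank k). If p ≥ k + 2 then the order of S is at most p^(2k). -/
theorem result {S : Type*} [Group S] [Finite S] (p : ℕ) [Fact p.Prime] (hS : IsPGroup p S) [Group.IsNilpotent S]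
    (n : ℕ) (hn : 2 ≤ n) (hcard : Nat.card S = p ^ n) (hmax : Group.nilpotencyClass S = n - 1)
    (k : ℕ) (hk : 1 ≤ k) (hsr : Cfsg.SectionalPRankLE p k S ∧ ¬ Cfsg.SectionalPRankLE p (k - 1) S)
    (hpk : k + 2 ≤ p) : Nat.card S ≤ p ^ (2 * k) := by
  by_contra h1
  rw [hcard, Nat.pow_le_pow_iff_right (Fact.out : p.Prime).one_lt] at h1
  obtain ⟨h, hc⟩ := MC.of_class hcard hn fun e => by
    have := Subgroup.lowerCentralSeries_eq_bot_iff_nilpotencyClass_le.1 e
    omega
  have key : ∀ H N : Subgroup S, N.Normal → N ≤ H → ⁅H, H⁆ ≤ N → (∀ x ∈ H, x ^ p ∈ N) →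
      Nat.card H ≤ p ^ k * Nat.card N := fun H N _ h2 h3 h4 => by
    have := hsr.1 H (N.subgroupOf H) ⊤ ⟨⟨fun x y => Subtype.ext ?_⟩⟩ fun x _ => ?_
    · rw [relIndex_card h2]
      exact Nat.mul_le_mul_right _ (by rwa [Subgroup.card_top] at this)
    · obtain ⟨⟨a⟩, -⟩ := x
      obtain ⟨⟨b⟩, -⟩ := y
      exact (H9.commute_mk_of_mem (N := N.subgroupOf H) (a := a) (b := b) (h3 (Subgroup.commutator_mem_commutator a.2 b.2))).eq
    · obtain ⟨a⟩ := x
      exact (QuotientGroup.eq_one_iff (a ^ p)).2 (h4 a a.2)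
  have h0 : 0 < p := (Fact.out : p.Prime).pos
  rcases hk.eq_or_lt with rfl | h2
  · have h3 : lc S 1 ≠ ⊥ := fun e => by
      have := hc 1 le_rfl
      rw [e, Subgroup.card_bot] at this
      exact (Nat.one_lt_pow (by omega) (Fact.out : p.Prime).one_lt).ne this
    have := key ⊤ (lc S 1) inferInstance le_top le_rfl fun x _ => h.pow_mem_lc_one h3 x
    rw [Subgroup.card_top, hcard, hc 1 le_rfl, ← pow_add, Nat.pow_le_pow_iff_right (Fact.out : p.Prime).one_lt] at this
    omega
  have := key (lc S (k - 1)) (lc S (2 * k)) inferInstance (lc_anti (by omega)) ?_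
    fun x hx => lc_anti (by omega) (h.pow_mem (by omega) hx)
  · rw [hc _ (by omega), hc _ (by omega), ← pow_add, Nat.pow_le_pow_iff_right (Fact.out : p.Prime).one_lt] at this
    omega
  have h3 : lc S (k - 1 + 1) ≤ H9.centMod (lc S (2 * k)) (lc S (k - 1)) := fun x hx y hy =>
    lc_anti (by omega) (comm_mem_lc hx hy)
  have h4 : ∀ x ∈ lc S (k - 1), lc S (k - 1) ≤ H9.centMod (lc S (2 * k)) {x} := fun x hx => by
    by_cases h5 : x ∈ lc S (k - 1 + 1)
    · rintro y hy _ rfl
      rw [← commutatorElement_inv]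
      exact Subgroup.inv_mem _ (h3 h5 y hy)
    · exact (eq_or_eq_of_card_le hS (K := lc S (k - 1) ⊓ H9.centMod (lc S (2 * k)) {x}) (fun y hy =>
        ⟨lc_anti (by omega) hy, by rintro _ rfl; exact h3 hy _ hx⟩) inf_le_left (h.step _ (by omega))).elim
        (fun e => absurd (e.le ⟨hx, by rintro _ rfl; simp⟩) h5) fun e => e.ge.trans inf_le_right
  exact Subgroup.commutator_le.2 fun x hx y hy => h4 y hy hx y rfl

end Cfsg.Agent.S3806
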