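import Cfsg.Statements.S3808
import Cfsg.Agent.H7.Extra1

set_option autoImplicit false
open Cfsg

namespace Cfsg.Agent.S3808



/-- Let S be a finite p-group with an extraspecial subgroup Q of index p. Then either Z(S) = Z(Q), or S = Q·Z(S) and Z(S) has order p². -/
theorem result {S : Type*} [Group S] [Finite S] (p : ℕ) [Fact p.Prime] (hS : IsPGroup p S) (Q : Subgroup S) (hQ : Cfsg.IsExtraspecial p ↥Q) (hQi : Q.index = p) :
    Subgroup.center S = (Subgroup.center ↥Q).map Q.subtype ∨
      (Q ⊔ Subgroup.center S = ⊤ ∧ Nat.card (Subgroup.center S) = p ^ 2) := by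
  haveI := H7.normal_of_index_prime hS hQi
  rw [H5.map_center_subtype]
  have h1 : Q ⊓ Subgroup.centralizer (Q : Set S) ≤ Subgroup.center S :=
    H7.le_center_of_card_prime hS (H7.extraspecial_card_center hQ)
  by_cases h : Subgroup.center S ≤ Q
  · exact Or.inl (le_antisymm (le_inf h (Subgroup.center_le_centralizer _)) h1)
  · right
    have h2 : Q ⊔ Subgroup.center S = ⊤ := (H7.isCoatom_of_index_prime hQi).2 _
      (lt_of_le_of_ne le_sup_left fun e => h (e ▸ le_sup_right))
    refine ⟨h2, ?_⟩
    have h3 : Q ⊓ Subgroup.center S = Q ⊓ Subgroup.centralizer (Q : Set S) :=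
      le_antisymm (inf_le_inf_left _ (Subgroup.center_le_centralizer _)) (le_inf inf_le_left h1)
    have h4 := H7.card_sup_mul_card_inf Q (Subgroup.center S)
    rw [h2, h3, H7.extraspecial_card_center hQ, Subgroup.card_top, ← Q.card_mul_index, hQi,
      mul_assoc] at h4
    rw [pow_two]
    exact (Nat.eq_of_mul_eq_mul_left Nat.card_pos h4).symm

end Cfsg.Agent.S3808
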