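import Cfsg.Statements.S3809
import Cfsg.Agent.H7.Extra2

set_option autoImplicit false
open Cfsg

namespace Cfsg.Agent.S3809



/-- Let S be a finite p-group with an extraspecial subgroup of index p. Then S has order p^(2+2n) for some n ≥ 1, derived length at most 3, and exponent dividing p³. -/
theorem result {S : Type*} [Group S] [Finite S] (p : ℕ) [Fact p.Prime] (hS : IsPGroup p S) (Q : Subgroup S) (hQ : Cfsg.IsExtraspecial p ↥Q) (hQi : Q.index = p) :
    (∃ n : ℕ, 1 ≤ n ∧ Nat.card S = p ^ (2 + 2 * n)) ∧ derivedSeries S 3 = ⊥ ∧ ∀ x : S, x ^ (p ^ 3) = 1 := by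
  haveI := H7.normal_of_index_prime hS hQi
  haveI := hS.isNilpotent
  refine ⟨?_, ?_, fun x => ?_⟩
  · obtain ⟨n, hn, h⟩ := H7.extraspecial_card hQ
    refine ⟨n, hn, ?_⟩
    rw [← Q.card_mul_index, h, hQi]; ring
  · have h1 : derivedSeries S 1 ≤ Q := H9.commutator_le_coatom (H7.isCoatom_of_index_prime hQi)
    have h2 : derivedSeries S 2 ≤ Q ⊓ Subgroup.centralizer (Q : Set S) :=
      (Subgroup.commutator_mono h1 h1).trans (H7.extraspecial_commutator hQ).le
    rw [derivedSeries_succ, Subgroup.commutator_eq_bot_iff_le_centralizer]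
    exact (h2.trans inf_le_right).trans (Subgroup.centralizer_le (h2.trans inf_le_left))
  · have := H7.extraspecial_pow_pow hQ (H9.pow_mem_coatom hS (H7.isCoatom_of_index_prime hQi) x)
    rw [← pow_mul, ← pow_mul] at this
    rw [← this]; congr 1; ring

end Cfsg.Agent.S3809
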