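import Cfsg.Statements.S3810
import Cfsg.Agent.H7.Extra1

set_option autoImplicit false
open Cfsg

namespace Cfsg.Agent.S3810



/-- Let S be a finite p-group with an extraspecial subgroup of index p. Then S has an abelian subgroup of index p if and only if S has order p⁴. -/
theorem result {S : Type*} [Group S] [Finite S] (p : ℕ) [Fact p.Prime] (hS : IsPGroup p S) (Q : Subgroup S) (hQ : Cfsg.IsExtraspecial p ↥Q) (hQi : Q.index = p) :
    (∃ A : Subgroup S, IsMulCommutative ↥A ∧ A.index = p) ↔ Nat.card S = p ^ 4 := by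
  have hp : p.Prime := Fact.out
  refine ⟨?_, fun h => ?_⟩
  · rintro ⟨A, hA, hAi⟩
    have h1 := H7.extraspecial_relIndex_centralizer hQ (inf_le_right : A ⊓ Q ≤ Q)
    have h2 : (Subgroup.centralizer ((A ⊓ Q : Subgroup S) : Set S)).relIndex Q ≤ p := by
      refine (Subgroup.relIndex_le_of_le_left (H := A) ?_ Subgroup.index_ne_zero_of_finite).trans ?_
      · exact A.le_centralizer.trans (Subgroup.centralizer_le (inf_le_left : A ⊓ Q ≤ A))
      · rw [← hAi, ← Subgroup.relIndex_top_right]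
        exact Subgroup.relIndex_le_of_le_right le_top Subgroup.index_ne_zero_of_finite
    have h3 := H7.card_inf_mul_relIndex (Subgroup.centralizer (Q : Set S)) (A ⊓ Q)
    have h4 : Nat.card ↥(Subgroup.centralizer (Q : Set S) ⊓ (A ⊓ Q)) ≤ p := by
      rw [← H7.extraspecial_card_center hQ]
      exact Subgroup.card_le_of_le (le_inf (inf_le_right.trans inf_le_right) inf_le_left)
    have h5 : Nat.card ↥(A ⊓ Q) ≤ p * p := h3 ▸ Nat.mul_le_mul h4 (h1 ▸ h2)
    have h6 : (A ⊓ Q).index ≤ p * p := Subgroup.index_inf_le.trans (by rw [hAi, hQi])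
    have h7 : Nat.card S ≤ p ^ 4 := by
      rw [← (A ⊓ Q).card_mul_index, show p ^ 4 = p * p * (p * p) by ring]
      exact Nat.mul_le_mul h5 h6
    have h8 : ¬ Nat.card Q ≤ p ^ 2 := fun h =>
      H7.extraspecial_not_comm hQ (H7.isMulCommutative_of_card_le_sq hQ.1.1 h)
    obtain ⟨n, hn⟩ := IsPGroup.iff_card.1 hQ.1.1
    have h9 := Q.card_mul_index
    rw [hn, hQi, ← pow_succ] at h9
    rw [← h9, Nat.pow_le_pow_iff_right hp.one_lt] at h7
    rw [hn, Nat.pow_le_pow_iff_right hp.one_lt] at h8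
    rw [← h9]; congr 1; omega
  · obtain ⟨A, -, h1, h2⟩ := H7.exists_abelian_index_of_card_pow_four h
    exact ⟨A, h1, h2⟩

end Cfsg.Agent.S3810
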