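import Cfsg.Statements.S3811
import Cfsg.Agent.H16.QNil
import Cfsg.Agent.H16.Misc

set_option autoImplicit false
open Cfsg

namespace Cfsg.Agent.S3811

open Subgroup H16
open scoped commutatorElement

universe u
set_option linter.unusedSectionVars false

structure Soft {P : Type*} [Group P] (p : ℕ) (E : Subgroup P) : Prop where
  comm : E ≤ C[E]
  cent : C[E] ≤ E
  idx : E.relIndex N[E] = p

theorem cls_congr {A B : Type*} [Group A] [Group B] [Group.IsNilpotent A] (e : A ≃* B) :
    Group.nilpotencyClass A = Group.nilpotencyClass B :=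
  have := Group.nilpotent_of_mulEquiv e
  le_antisymm (Group.nilpotencyClass_le_of_surjective e.symm.toMonoidHom e.symm.surjective)
    (Group.nilpotencyClass_le_of_surjective e.toMonoidHom e.surjective)

variable {P : Type u} [Group P] [Finite P] {p : ℕ} [hp : Fact p.Prime] {E K : Subgroup P}

theorem lt_norm (hP : IsPGroup p P) (h : K ≠ ⊤) : K < N[K] := by
  simpa using pg_lt_norm (pg_iff.2 (hP.to_subgroup ⊤)) h.lt_top

theorem Soft.lt (h : Soft p E) : E < N[E] := (le_norm E).lt_of_ne fun e => by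
  have := h.idx; rw [← e, relIndex_self] at this; exact hp.out.one_lt.ne this

theorem Soft.eq (h : Soft p E) (h1 : E ≤ K) (h2 : K ≤ N[E]) : K = E ∨ K = N[E] :=
  H1.eq_or_eq_of_relIndex_prime (h.idx ▸ hp.out) h1 h2

theorem Soft.le (h : Soft p E) (hP : IsPGroup p P) (h1 : E ≤ K) (h2 : K ≠ E) : N[E] ≤ K := by
  have := pg_lt_norm (pg_iff.2 (hP.to_subgroup K)) (h1.lt_of_ne h2.symm)
  exact ((h.eq this.le inf_le_right).resolve_left this.ne').ge.trans inf_le_left

theorem Soft.idx2 (h : Soft p E) (hP : IsPGroup p P) (h1 : N[E] ≠ ⊤) : N[E].relIndex N[N[E]] = p := by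
  obtain ⟨x, hx, h2⟩ := SetLike.exists_of_lt (lt_norm hP h1)
  set Z := N[E] ⊓ C[N[E]]
  have nZ : N[N[E]] ≤ N[Z] := norm_inf le_rfl (norm_cent le_rfl)
  have ZE : Z ≤ E := inf_le_right.trans ((cent_anti (le_norm E)).trans h.cent)
  have a1 : E :^ x ≤ N[E] := cj_le_of_norm hx (le_norm E)
  have a2 : E ⊔ E :^ x = N[E] := (h.eq le_sup_left (sup_le (le_norm E) a1)).resolve_left fun e =>
    h2 (mem_norm_of_cj_le (le_sup_right.trans e.le))
  have a3 : E :^ x ⊓ E ≤ Z := le_inf (inf_le_left.trans a1) (by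
    rw [← a2]; exact le_cent_sup (inf_le_right.trans h.comm) (inf_le_left.trans (cent_cj_le h.comm x)))
  have a4 : Z.relIndex E ∣ p := by
    refine (relIndex_dvd_of_le_left E a3).trans ?_
    rw [inf_relIndex_right, ← h.idx, ← relIndex_cj E N[E] x, cj_norm hx]
    exact relIndex_dvd_of_norm (le_norm E) (by rw [norm_cj, cj_norm hx])
  have a5 : ¬ E ≤ Z := fun e => h.lt.not_ge ((cent_symm (e.trans inf_le_right)).trans h.cent)
  have a6 := ((Nat.dvd_prime hp.out).1 a4).resolve_left fun e => a5 (relIndex_eq_one.1 e)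
  obtain ⟨a, ha, a7⟩ := SetLike.not_le_iff_exists.1 a5
  have a8 : Z ⊔ zpowers a = E := (H1.eq_or_eq_of_relIndex_prime (a6 ▸ hp.out) le_sup_left
    (sup_le ZE (zpowers_le.2 ha))).resolve_left fun e => a7 (e.le (mem_sup_right (mem_zpowers a)))
  have a9 : Z.relIndex N[E] = p ^ 2 := by rw [← relIndex_mul_relIndex _ _ _ ZE (le_norm E), a6, h.idx, pow_two]
  let f : N[N[E]] ⧸ N[E].subgroupOf N[N[E]] → N[E] ⧸ Z.subgroupOf N[E] := fun q =>
    QuotientGroup.mk ⟨(q.out : P) * a * (q.out : P)⁻¹, conj_mem q.out.2 (le_norm E ha)⟩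
  have f1 : Function.Injective f := fun q r e => by
    rw [← q.out_eq, ← r.out_eq]
    refine QuotientGroup.eq.2 (mem_subgroupOf.2 (mem_norm_of_cj_le ?_))
    have e1 := mul_mem ha (ZE (conj_mem' (nZ q.out.2) (mem_subgroupOf.1 (QuotientGroup.eq.1 e))))
    refine (cj_mono _ a8.ge).trans ?_
    rw [cj_sup, cj_norm (nZ (q.out⁻¹ * r.out).2), ← zpowers_cj]
    exact sup_le ZE (zpowers_le.2 (by simpa [mul_assoc] using e1))
  have f2 : ¬ Function.Surjective f := fun e => by
    obtain ⟨q, e1⟩ := e (QuotientGroup.mk 1)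
    have := conj_mem' (nZ q.out.2) (mem_subgroupOf.1 (QuotientGroup.eq.1 e1.symm))
    exact a7 (by simpa [mul_assoc] using this)
  have b1 : N[E].relIndex N[N[E]] < p ^ 2 := by
    rw [← a9]
    have := Fintype.ofFinite (N[N[E]] ⧸ N[E].subgroupOf N[N[E]])
    have := Fintype.ofFinite (N[E] ⧸ Z.subgroupOf N[E])
    simpa only [relIndex, index, Nat.card_eq_fintype_card] using Fintype.card_lt_of_injective_not_surjective f f1 f2
  obtain ⟨k, hk⟩ := IsPGroup.index (hP.to_subgroup N[N[E]]) (N[E].subgroupOf N[N[E]])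
  rw [relIndex, hk] at b1 ⊢
  have := (Nat.pow_lt_pow_iff_right hp.out.one_lt).1 b1
  interval_cases k
  · exact absurd (relIndex_eq_one.1 hk hx) h2
  · simp

theorem comap_norm {Q : Type*} [Group Q] {f : P →* Q} (hf : Function.Surjective f) (h : f.ker ≤ K) :
    N[K.map f].comap f = N[K] := by
  rw [comap_normalizer_eq_of_surjective _ hf, comap_map_eq_self h]

theorem idx_map {Q : Type*} [Group Q] {f : P →* Q} (hf : Function.Surjective f) (h : f.ker ≤ K) :
    (K.map f).relIndex N[K.map f] = K.relIndex N[K] := by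
  rw [← comap_norm hf h, ← map_comap_eq_self_of_surjective hf N[K.map f], ← relIndex_comap, comap_map_eq_self h,
    map_comap_eq_self_of_surjective hf]

theorem Soft.quot (h : Soft p E) (hP : IsPGroup p P) (h1 : N[E] ≠ ⊤) {M : Subgroup P} (hM : M = normalClosure E)
    {Q : Type*} [Group Q] {f : P →* Q} (hf : Function.Surjective f) (hk : f.ker = M ⊓ C[M]) :
    Soft p (N[E].map f) := by
  have EM : E ≤ M := hM ▸ le_normalClosure
  have nM : M.Normal := hM ▸ normalClosure_normal
  have ZE : f.ker ≤ E := hk ▸ inf_le_right.trans ((cent_anti EM).trans h.cent)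
  have key : ∀ x : P, f x ∈ C[E.map f] → x ∈ N[E] := fun x hx => mem_norm_of_cj_le (cj_le_forall.2 fun e he => by
    have : x * e * x⁻¹ * e⁻¹ ∈ f.ker := by
      rw [MonoidHom.mem_ker]; simp [← mem_cent.1 hx _ (mem_map_of_mem f he)]
    simpa using mul_mem (ZE this) he)
  have a1 : N[E] ≤ C[E.map f].comap f := by
    refine ((h.eq (K := C[E.map f].comap f) (fun x hx => mem_cent.2 ?_) key).resolve_left fun e => ?_).ge
    · rintro _ ⟨y, hy, rfl⟩; rw [← map_mul, mem_cent.1 (h.comm hx) y hy, map_mul]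
    have : Finite Q := .of_surjective f hf
    have nq : (M.map f).Normal := nM.map f hf
    have b1 : (M.map f ⊓ C[M.map f]).comap f ≤ E := e ▸ comap_mono (inf_le_right.trans (cent_anti (map_mono EM)))
    have : (M.map f ⊓ C[M.map f]).Normal := normalizer_eq_top_iff.1 (top_unique (norm_inf le_normalizer_of_normal
      (norm_cent le_normalizer_of_normal)))
    have b2 : M ≤ C[(M.map f ⊓ C[M.map f]).comap f] := by
      have : (C[(M.map f ⊓ C[M.map f]).comap f]).Normal := normalizer_eq_top_iff.1 (top_unique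
        (norm_cent le_normalizer_of_normal))
      exact hM.le.trans (normalClosure_le_normal (h.comm.trans (cent_anti b1)))
    have b3 : M.map f = ⊥ := by_contra fun e => pg_inf_cent_ne_bot hp.out (pg_iff.2 ((hP.of_surjective f hf).to_subgroup _))
      (pg_iff.2 ((hP.of_surjective f hf).to_subgroup _)) (le_norm _) e (by
        rw [← map_comap_eq_self_of_surjective hf (M.map f ⊓ C[M.map f]), Subgroup.map_eq_bot_iff, hk]
        exact le_inf (b1.trans EM) (cent_symm b2))
    rw [Subgroup.map_eq_bot_iff] at b3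
    exact h1 (normalizer_eq_top_iff.2 (le_antisymm EM (b3.trans ZE) ▸ nM))
  refine ⟨?_, fun y hy => ?_, (idx_map hf (ZE.trans (le_norm E))).trans (h.idx2 hP h1)⟩
  · obtain ⟨s, hs, h2⟩ := SetLike.exists_of_lt h.lt
    have a2 : E ⊔ zpowers s = N[E] := (h.eq le_sup_left (sup_le (le_norm E) (zpowers_le.2 hs))).resolve_left fun e =>
      h2 (e.le (mem_sup_right (mem_zpowers s)))
    have a3 := map_le_iff_le_comap.2 a1
    rw [← a2, Subgroup.map_sup, MonoidHom.map_zpowers] at a3 ⊢
    exact le_cent_sup a3 (sup_le (cent_symm (le_sup_right.trans a3)) (comm_iff.1 (comm_of_cyclic (cyclic_zpowers _))))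
  · obtain ⟨x, rfl⟩ := hf y
    exact mem_map_of_mem f (key x (cent_anti (map_mono (le_norm E)) hy))

theorem aux (n : ℕ) : ∀ (P : Type u) [Group P] [Finite P], Nat.card P = n → IsPGroup p P → ∀ E : Subgroup P,
    Soft p E → (∀ K L : Subgroup P, E ≤ K → E ≤ L → K ≤ L ∨ L ≤ K) ∧
    (∀ K : Subgroup P, E ≤ K → K ≠ ⊤ → K.relIndex N[K] = p) ∧
    ∀ (i : ℕ) (K : Subgroup P), E ≤ K → K ≠ ⊤ → E.relIndex K = p ^ i → Group.nilpotencyClass K = i + 1 := by
  induction n using Nat.strong_induction_on with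
  | _ n ih =>
  intro P _ _ hn hP E h
  have nil : ∀ K : Subgroup P, Group.IsNilpotent K := fun K => (hP.to_subgroup K).isNilpotent
  have E0 : E ≠ ⊥ := fun e => h.lt.not_ge (by rw [e] at h ⊢; exact le_top.trans (cent_bot.ge.trans h.cent))
  have c0 : ∀ i, E.relIndex E = p ^ i → Group.nilpotencyClass E = i + 1 := fun i hi => by
    rw [relIndex_self, eq_comm, Nat.pow_eq_one, or_iff_right hp.out.one_lt.ne'] at hi
    have h1 := Group.IsNilpotent.nilpotencyClass_le_one_iff.2 (comm_iff.2 h.comm)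
    have h2 : Group.nilpotencyClass E ≠ 0 := fun e =>
      E0 (by have := Group.nilpotencyClass_zero_iff_subsingleton.1 e; exact eq_bot_of_subsingleton E)
    omega
  by_cases h1 : N[E] = ⊤
  · have k : ∀ K, E ≤ K → K = E ∨ K = ⊤ := fun K hK => h1 ▸ h.eq hK (h1 ▸ le_top)
    refine ⟨fun K L hK hL => ?_, fun K hK e => ?_, fun i K hK e hi => ?_⟩
    · rcases k K hK with rfl | rfl
      exacts [Or.inl hL, Or.inr le_top]
    · rw [(k K hK).resolve_right e, h.idx]
    · obtain rfl := (k K hK).resolve_right e; exact c0 i hi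
  set M := normalClosure (E : Set P) with hM
  have EM : E ≤ M := le_normalClosure
  have : (M ⊓ C[M]).Normal := normalizer_eq_top_iff.1 (top_unique (norm_inf le_normalizer_of_normal
      (norm_cent le_normalizer_of_normal)))
  let f := QuotientGroup.mk' (M ⊓ C[M])
  have hf : Function.Surjective f := QuotientGroup.mk'_surjective _
  have hk : f.ker = M ⊓ C[M] := QuotientGroup.ker_mk' _
  have ZN : f.ker ≤ N[E] := hk.le.trans <| inf_le_right.trans ((cent_anti EM).trans (cent_le_norm E))
  have Z0 : M ⊓ C[M] ≠ ⊥ := pg_inf_cent_ne_bot hp.out (pg_iff.2 (hP.to_subgroup _)) (pg_iff.2 (hP.to_subgroup _))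
    (le_norm _) (ne_bot_of_le E0 EM)
  obtain ⟨i1, i2, i3⟩ := ih _ (hn ▸ H1.card_quotient_lt Z0) _ rfl (hP.of_surjective f hf) _ (h.quot hP h1 hM hf hk)
  have ne : ∀ K, N[E] ≤ K → K ≠ ⊤ → K.map f ≠ ⊤ := fun K hK e e' => e (by
    rw [← comap_map_eq_self (ZN.trans hK), e', comap_top])
  have j2 : ∀ K : Subgroup P, E ≤ K → K ≠ ⊤ → K.relIndex N[K] = p := fun K hK e => by
    by_cases e1 : K = E
    · rw [e1, h.idx]
    have := h.le hP hK e1
    rw [← idx_map hf (ZN.trans this), i2 _ (map_mono this) (ne K this e)]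
  refine ⟨fun K L hK hL => ?_, j2, fun i K hK e hi => ?_⟩
  · by_cases e1 : K = E
    · exact Or.inl (e1 ▸ hL)
    by_cases e2 : L = E
    · exact Or.inr (e2 ▸ hK)
    have a := h.le hP hK e1
    have b := h.le hP hL e2
    exact (i1 _ _ (map_mono a) (map_mono b)).imp
      (fun e => (map_le_iff_le_comap.1 e).trans (comap_map_eq_self (ZN.trans b)).le)
      (fun e => (map_le_iff_le_comap.1 e).trans (comap_map_eq_self (ZN.trans a)).le)
  by_cases e1 : K = E
  · subst e1; exact c0 i hi
  have a := h.le hP hK e1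
  by_cases e2 : N[K] = ⊤
  · have := normalizer_eq_top_iff.1 e2
    have MK : M ≤ K := normalClosure_le_normal hK
    have a1 := j2 M EM (ne_top_of_le_ne_top e MK)
    rw [normalizer_eq_top_iff.2 inferInstance] at a1
    obtain rfl := (H1.eq_or_eq_of_relIndex_prime (a1 ▸ hp.out) MK le_top).resolve_right e
    rw [← relIndex_mul_relIndex _ _ _ (le_norm E) a, h.idx] at hi
    obtain _ | i := i
    · exact absurd (Nat.eq_one_of_mul_eq_one_right hi) hp.out.one_lt.ne'
    rw [pow_succ', Nat.mul_right_inj hp.out.ne_zero] at hi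
    have a2 := i3 i _ (map_mono a) (ne _ a e) (by rw [← relIndex_comap, comap_map_eq_self ZN, hi])
    have : Nontrivial M := (nontrivial_iff_ne_bot M).2 (ne_bot_of_le E0 EM)
    rw [Group.nilpotencyClass_eq_quotient_center_plus_one, ← a2]
    refine congrArg (· + 1) (cls_congr ((QuotientGroup.quotientMulEquivOfEq ?_).trans
      (QuotientGroup.quotientKerEquivOfSurjective _ (f.subgroupMap_surjective M))))
    ext x
    rw [ker_subgroupMap, hk, mem_subgroupOf, mem_inf, mem_cent, mem_center_iff]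
    simp [Subtype.ext_iff]
  have b := a.trans (le_norm K)
  have s : Soft p (E.subgroupOf N[K]) := ⟨fun x hx => mem_cent.2 fun y hy => Subtype.ext (mem_cent.1 (h.comm hx) y hy),
    fun x hx => h.cent (mem_cent.2 fun y hy => congrArg Subtype.val (mem_cent.1 hx ⟨y, b (le_norm E hy)⟩ hy)), by
      rw [← subgroupOf_normalizer_eq ((le_norm E).trans b), relIndex_subgroupOf b, h.idx]⟩
  have := (ih _ (by rw [← hn]; simpa using card_lt (Ne.lt_top e2)) _ rfl (hP.to_subgroup _) _ s).2.2 i
    (K.subgroupOf N[K]) (fun x hx => hK hx) (fun e' => (lt_norm hP e).not_ge (subgroupOf_eq_top.1 e'))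
    (by rw [relIndex_subgroupOf (le_norm K), hi])
  rw [← this]
  exact cls_congr (subgroupOfEquivOfLe (le_norm K)).symm


/-- Let P be a finite p-group and E an abelian subgroup of P that contains its centralizer, has index p in its normalizer, and has index at least p² in P. Then the subgroups of P containing E are totally ordered by inclusion, each proper one has index p in its normalizer (so they form the normalizer tower of E, with all steps of index p), and the i-th member of the tower above E has nilpotency class i + 1 whenever it is a proper subgroup of P. -/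
theorem result {P : Type*} [Group P] [Finite P] (p : ℕ) [Fact p.Prime] (hP : IsPGroup p P)
    (E : Subgroup P) (hEab : IsMulCommutative ↥E) (hC : Subgroup.centralizer (E : Set P) ≤ E)
    (hN : (E.subgroupOf (Subgroup.normalizer (E : Set P))).index = p) (hidx : p ^ 2 ≤ E.index) :
    (∀ K L : Subgroup P, E ≤ K → E ≤ L → K ≤ L ∨ L ≤ K) ∧
      (∀ K : Subgroup P, E ≤ K → K ≠ ⊤ → (K.subgroupOf (Subgroup.normalizer (K : Set P))).index = p) ∧
      ∀ (i : ℕ) (K : Subgroup P) [Group.IsNilpotent ↥K], E ≤ K → K ≠ ⊤ → K.index * p ^ i = E.index →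
        Group.nilpotencyClass ↥K = i + 1 := by
  obtain ⟨h1, h2, h3⟩ := aux _ P rfl hP E ⟨comm_iff.1 hEab, hC, hN⟩
  refine ⟨h1, h2, fun i K _ hK e hi => h3 i K hK e ?_⟩
  rw [← relIndex_mul_index hK, mul_comm] at hi
  exact (Nat.mul_left_inj K.index_ne_zero_of_finite).1 hi.symm

end Cfsg.Agent.S3811
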