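import Cfsg.Statements.S3824
import Cfsg.Agent.H17.Central
import Cfsg.Agent.H7.Basic
import Cfsg.Agent.H1.Solvable

set_option autoImplicit false
open Cfsg

namespace Cfsg.Agent.S3824

universe u
theorem relIndex_dvd {G : Type*} [Group G] [Finite G] (A N : Subgroup G) [N.Normal] :
    A.relIndex N ∣ A.index := by
  have h1 := H7.card_sup_mul_card_inf A N
  rw [← H7.card_mul_relIndex (le_sup_left : A ≤ A ⊔ N), ← H7.card_inf_mul_relIndex A N, mul_assoc,
    mul_right_inj' Nat.card_pos.ne', mul_comm, mul_right_inj' Nat.card_pos.ne'] at h1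
  exact h1 ▸ Subgroup.relIndex_dvd_index_of_le le_sup_left

theorem aux (n : ℕ) : ∀ (G : Type u) [Group G] [Finite G], Nat.card G = n → ∀ A : Subgroup G,
    IsMulCommutative A → (∃ k : ℕ, A.index = 2 ^ k) → Group.IsSolvable G := by
  induction n using Nat.strong_induction_on with
  | h n ih =>
  rintro G _ _ hn A hA ⟨k, hk⟩
  rcases subsingleton_or_nontrivial G with h | h
  · infer_instance
  by_cases hs : IsSimpleGroup G
  · by_cases h0 : A = ⊥
    · rw [h0, Subgroup.index_bot] at hk
      haveI := (IsPGroup.of_card (p := 2) hk).isNilpotent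
      infer_instance
    obtain ⟨⟨a, ha⟩, h1⟩ := Subgroup.ne_bot_iff_exists_ne_one.1 h0
    obtain ⟨j, -, hj⟩ := (Nat.dvd_prime_pow Nat.prime_two).1 (hk ▸ Subgroup.index_dvd_of_le
      (show A ≤ Subgroup.centralizer {a} from fun b hb => by
        rintro _ rfl
        exact congrArg Subtype.val (hA.is_comm.comm ⟨_, ha⟩ ⟨b, hb⟩)))
    haveI := Fact.mk (H17.card_prime_of_simple_of_prime_pow_class Nat.prime_two
      (fun e => h1 (Subtype.ext e)) hj)
    haveI := isCyclic_of_prime_card (p := Nat.card G) (α := G) rfl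
    exact H1.isSolvable_of_comm' inferInstance
  obtain ⟨N, hN, h0, h1⟩ : ∃ N : Subgroup G, N.Normal ∧ N ≠ ⊥ ∧ N ≠ ⊤ := by
    by_contra hc
    push Not at hc
    exact hs ⟨fun N hN => or_iff_not_imp_left.2 (hc N hN)⟩
  haveI : Group.IsSolvable N := by
    refine ih _ (hn ▸ Subgroup.card_top (G := G) ▸ H7.card_lt_of_lt (lt_top_iff_ne_top.2 h1)) N rfl
      (A.subgroupOf N) inferInstance ?_
    obtain ⟨j, -, hj⟩ := (Nat.dvd_prime_pow Nat.prime_two).1 (hk ▸ relIndex_dvd A N)
    exact ⟨j, hj⟩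
  haveI : Group.IsSolvable (G ⧸ N) := by
    refine ih _ (hn ▸ H1.card_quotient_lt h0) (G ⧸ N) rfl (A.map (QuotientGroup.mk' N))
      inferInstance ?_
    obtain ⟨j, -, hj⟩ := (Nat.dvd_prime_pow Nat.prime_two).1
      (hk ▸ Subgroup.index_map_dvd A (QuotientGroup.mk'_surjective N))
    exact ⟨j, hj⟩
  exact solvable_of_ker_le_range N.subtype (QuotientGroup.mk' N) (by simp)

/-- Every finite group having an abelian subgroup whose index is a power of 2 is solvable. -/
theorem result {G : Type*} [Group G] [Finite G]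
    (A : Subgroup G) (hA : IsMulCommutative A) (hidx : ∃ k : ℕ, A.index = 2 ^ k) : Group.IsSolvable G := by
  exact aux _ G rfl A hA hidx

end Cfsg.Agent.S3824
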