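import Cfsg.Statements.S3868
import Cfsg.Agent.H7.IrrCyc
import Cfsg.Agent.H1.HallTop
import Cfsg.Agent.H3.SylowIn
import Cfsg.Agent.H10.SylowIn

set_option autoImplicit false
open Cfsg

namespace Cfsg.Agent.S3868



/-- Structure of the non-simple minimal non-p-closed groups. Call a finite group p-closed when its Sylow p-subgroups are normal, and minimal non-p-closed when it is not p-closed but every proper subgroup and every proper quotient is. If such a group G is not simple, then there is a prime q ≠ p such that G has order p · q^e, where e is the multiplicative order of q modulo p, and G has a normal subgroup A of order q^e that is elementary abelian and is a minimal normal subgroup of G (so G is the semidirect product of A by a group of order p acting irreducibly). -/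
theorem result {G : Type*} [Group G] [Finite G] {p : ℕ} [Fact p.Prime]
    (hnc : ¬ Cfsg.IsPClosed p G) (hsub : ∀ H : Subgroup G, H ≠ ⊤ → Cfsg.IsPClosed p ↥H)
    (hquo : ∀ (N : Subgroup G) [N.Normal], N ≠ ⊥ → Cfsg.IsPClosed p (G ⧸ N)) (hns : ¬ IsSimpleGroup G) :
    ∃ q : ℕ, q.Prime ∧ q ≠ p ∧ Nat.card G = p * q ^ orderOf (q : ZMod p) ∧
      ∃ A : Subgroup G, A.Normal ∧ Nat.card ↥A = q ^ orderOf (q : ZMod p) ∧ Cfsg.IsElementaryAbelian q A ∧
        ∀ B : Subgroup G, B.Normal → B ≤ A → B = ⊥ ∨ B = A := by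
  have hp : p.Prime := Fact.out
  obtain ⟨P⟩ : Nonempty (Sylow p G) := inferInstance
  have hPn : ¬ (P : Subgroup G).Normal := fun h => hnc fun Q => by
    haveI := P.unique_of_normal h
    rw [Subsingleton.elim Q P]; exact h
  have hP0 : (P : Subgroup G) ≠ ⊥ := fun h => hPn (h ▸ inferInstance)
  have hP1 : (P : Subgroup G) ≠ ⊤ := fun h => hPn (h ▸ inferInstance)
  haveI : Nontrivial G := by
    by_contra h
    rw [not_nontrivial_iff_subsingleton] at h
    exact hP0 (Subsingleton.elim _ _)
  obtain ⟨N, hN, hN1, hN2⟩ : ∃ N : Subgroup G, N.Normal ∧ N ≠ ⊥ ∧ N ≠ ⊤ := by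
    by_contra h
    push Not at h
    exact hns ⟨fun N hN => or_iff_not_imp_left.2 (h N hN)⟩
  obtain ⟨A, hA, hA0, hAN, hmin⟩ := H1.exists_minimal_normal_le N hN1
  have hA1 : A ≠ ⊤ := fun h => hN2 (top_le_iff.1 (h ▸ hAN))
  have hcl : ∀ H : Subgroup G, H ≠ ⊤ → (P : Subgroup G) ≤ H →
      Subgroup.normalizer (H : Set G) ≤ Subgroup.normalizer ((P : Subgroup G) : Set G) :=
    fun H h1 h2 => H7.normalizer_le_of_isPClosed (hsub H h1) h2 P.2 (H3.sylow_not_dvd_relIndex P h2)
  have hkey : ∀ M : Subgroup G, M.Normal → M ≠ ⊥ → (P : Subgroup G) ⊔ M = ⊤ := by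
    intro M hM h0
    by_contra h1
    have h2 := hquo M h0 (P.mapSurjective (QuotientGroup.mk'_surjective M))
    have h3 := h2.comap (QuotientGroup.mk' M)
    rw [Sylow.coe_mapSurjective, Subgroup.comap_map_eq, QuotientGroup.ker_mk'] at h3
    exact hPn (H5.normal_iff_top_le_normalizer.2
      ((H5.normal_iff_top_le_normalizer.1 h3).trans (hcl _ h1 le_sup_left)))
  have hPA := hkey A hA hA0
  have hinf : (P : Subgroup G) ⊓ A = ⊥ := by
    have h1 := H7.normalizer_le_of_isPClosed (hsub A hA1) (P := (P : Subgroup G) ⊓ A) inf_le_right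
      P.2.to_inf_left (by rw [Subgroup.inf_relIndex_right]; exact H3.not_dvd_relIndex_of_normal P A)
    refine (hmin _ (H5.normal_iff_top_le_normalizer.2
      ((H5.normal_iff_top_le_normalizer.1 hA).trans h1)) inf_le_right).resolve_right fun h => hP1 ?_
    rw [← hPA, eq_comm, sup_eq_left, ← h]
    exact inf_le_left
  have hpA : ¬ p ∣ Nat.card A := by
    have h1 := H3.not_dvd_relIndex_of_normal P A
    rwa [← Subgroup.inf_relIndex_right, hinf, Subgroup.relIndex_bot_left] at h1
  have hcop : (Nat.card (P : Subgroup G)).Coprime (Nat.card A) := by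
    obtain ⟨k, hk⟩ := P.2.exists_card_eq
    rw [hk]
    exact Nat.Coprime.pow_left _ ((Nat.Prime.coprime_iff_not_dvd hp).2 hpA)
  obtain ⟨q, hq, hqA⟩ : ∃ q : ℕ, q.Prime ∧ IsPGroup q A := by
    by_contra h
    push Not at h
    apply hPn
    rw [H5.normal_iff_top_le_normalizer, ← hPA]
    refine sup_le Subgroup.le_normalizer (H1.le_of_forall_sylowOf_le fun q _ hq => ?_)
    obtain ⟨Q, hQ, hPQ⟩ := H1.exists_invariant_sylowOf q (A := (P : Subgroup G)) (K := A)
      Subgroup.le_normalizer_of_normal hcop (Or.inl (by haveI := P.2.isNilpotent; infer_instance))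
    refine ⟨Q, hQ, le_trans (le_sup_right.trans Subgroup.le_normalizer)
      (hcl ((P : Subgroup G) ⊔ Q) (fun h1 => h q Fact.out ?_) le_sup_left)⟩
    have h2 : Q.Normal := H5.normal_iff_top_le_normalizer.2
      (h1 ▸ sup_le hPQ Subgroup.le_normalizer)
    rcases hmin Q h2 (H1.IsPiHallOf.le' hQ) with h3 | h3
    · exfalso
      have := (H1.isPiHallOf_singleton_iff.1 hQ).2.2
      rw [h3, Subgroup.relIndex_bot_left] at this
      exact this hq
    · rw [← h3]; exact H1.IsPiHallOf.isPGroup hQ
  haveI : Fact q.Prime := ⟨hq⟩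
  obtain ⟨hcomm, r, hr, hrA⟩ := H1.elementary_of_minimal_normal A
    (by haveI := hqA.isNilpotent; infer_instance) hA0 hmin
  haveI : Fact r.Prime := ⟨hr⟩
  have hrp : r ≠ p := by
    rintro rfl
    exact hpA (H10.dvd_card_of_isPGroup_ne_bot (H1.isPGroup_of_pow_eq_one hrA) hA0)
  have hC : (P : Subgroup G) ⊓ Subgroup.centralizer (A : Set G) = ⊥ := by
    by_contra h
    have h1 : ((P : Subgroup G) ⊓ Subgroup.centralizer (A : Set G)).Normal := by
      rw [H5.normal_iff_top_le_normalizer, ← hPA]
      refine sup_le (H5.le_normalizer_inf Subgroup.le_normalizer Subgroup.le_normalizer_of_normal)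
        (H5.le_normalizer_of_le_centralizer (Subgroup.le_centralizer_iff.1 inf_le_right))
    have h2 := hkey _ h1 h
    rw [sup_eq_left.2 inf_le_left] at h2
    exact hP1 h2
  have hprop : ∀ R : Subgroup G, R < P → R = ⊥ := by
    intro R hR
    have h0 : R ⊓ A = ⊥ := by rw [eq_bot_iff, ← hinf]; exact inf_le_inf_right _ hR.le
    have h1 : R ⊔ A ≠ ⊤ := by
      intro h
      have := H1.sup_inf_assoc_of_le_normalizer (B := A) hR.le (Or.inl Subgroup.le_normalizer_of_normal)
      rw [h, top_inf_eq, inf_comm, hinf, sup_bot_eq] at this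
      exact hR.ne this.symm
    have h2 := H7.normalizer_le_of_isPClosed (hsub _ h1) le_sup_left (P.2.to_le hR.le) (by
      have h3 := H1.card_mul_relIndex (le_sup_left : R ≤ R ⊔ A)
      rw [H1.card_sup_of_disjoint Subgroup.le_normalizer_of_normal h0] at h3
      rwa [Nat.eq_of_mul_eq_mul_left Nat.card_pos h3])
    rw [eq_bot_iff, ← hC]
    refine le_inf hR.le ?_
    rw [← Subgroup.commutator_eq_bot_iff_le_centralizer, eq_bot_iff, ← h0]
    refine le_inf ?_ (Subgroup.commutator_le_right _ _)
    rw [Subgroup.commutator_comm, ← Subgroup.le_normalizer_iff_commutator_le_right]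
    exact (le_sup_right.trans Subgroup.le_normalizer).trans h2
  obtain ⟨x, hxP, hx⟩ := H10.exists_orderOf_eq_of_ne_bot P.2 hP0
  have hxe : Subgroup.zpowers x = P := by
    by_contra h
    have := hprop _ (lt_of_le_of_ne (Subgroup.zpowers_le.2 hxP) h)
    rw [Subgroup.zpowers_eq_bot] at this
    exact H10.ne_one_of_orderOf_eq hx this
  have hcard : Nat.card A = r ^ orderOf (r : ZMod p) := by
    refine H7.card_irr_amb hp hr hrp hrA (x := x)
      (Subgroup.le_normalizer_of_normal (Subgroup.mem_top x)) ?_ ?_ ?_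
    · rw [← hx, pow_orderOf_eq_one]; exact one_mem _
    · intro h
      have : x ∈ (P : Subgroup G) ⊓ Subgroup.centralizer (A : Set G) := ⟨hxP, h⟩
      rw [hC, Subgroup.mem_bot] at this
      exact H10.ne_one_of_orderOf_eq hx this
    · intro W hW hxW
      refine hmin W (H5.normal_iff_top_le_normalizer.2 ?_) hW
      rw [← hPA, ← hxe, sup_le_iff, Subgroup.zpowers_le]
      exact ⟨hxW, H5.le_normalizer_of_le_centralizer (A.le_centralizer.trans (H5.centralizer_anti hW))⟩
  refine ⟨r, hr, hrp, ?_, A, hA, hcard, ⟨hcomm, hrA⟩, hmin⟩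
  rw [← hcard, ← Subgroup.card_top, ← hPA,
    H1.card_sup_of_disjoint Subgroup.le_normalizer_of_normal hinf, ← hxe, Nat.card_zpowers, hx]

end Cfsg.Agent.S3868
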