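import Cfsg.Statements.S3869
import Cfsg.Agent.H7.IrrCyc

set_option autoImplicit false
open Cfsg

namespace Cfsg.Agent.S3869



/-- Let p and q be distinct primes and G a finite non-abelian group with a normal elementary abelian q-subgroup A that is a minimal normal subgroup of G and has index p. Then A has order q^e with e the multiplicative order of q modulo p, and G is minimal non-p-closed: its Sylow p-subgroups are not normal, while in every proper subgroup and in every proper quotient of G the Sylow p-subgroups are normal. -/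
theorem result {G : Type*} [Group G] [Finite G] {p q : ℕ} [Fact p.Prime] (hq : q.Prime) (hpq : q ≠ p)
    (hna : ¬ IsMulCommutative G) (A : Subgroup G) [A.Normal] (hA : Cfsg.IsElementaryAbelian q A) (hidx : A.index = p)
    (hmin : ∀ B : Subgroup G, B.Normal → B ≤ A → B = ⊥ ∨ B = A) :
    Nat.card ↥A = q ^ orderOf (q : ZMod p) ∧ ¬ Cfsg.IsPClosed p G ∧ (∀ H : Subgroup G, H ≠ ⊤ → Cfsg.IsPClosed p ↥H) ∧
      ∀ (N : Subgroup G) [N.Normal], N ≠ ⊥ → Cfsg.IsPClosed p (G ⧸ N) := by
  have hp : p.Prime := Fact.out
  haveI := hA.1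
  haveI : Fact q.Prime := ⟨hq⟩
  have hco : IsCoatom A := H7.isCoatom_of_index_prime hidx
  have hQ : IsMulCommutative (G ⧸ A) := by
    haveI := isCyclic_of_prime_card (p := p) (α := G ⧸ A) hidx
    infer_instance
  have hsup : ∀ H : Subgroup G, ¬ H ≤ A → A ⊔ H = ⊤ := fun H h =>
    hco.2 _ (left_lt_sup.2 h)
  have hnn : ∀ N : Subgroup G, N.Normal → N ⊓ A = ⊥ → N = ⊥ := by
    intro N hN h
    by_contra h1
    have h2 : ¬ N ≤ A := fun h3 => h1 (by rwa [inf_eq_left.2 h3] at h)
    apply hna
    apply H7.isMulCommutative_of_top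
    rw [← hsup N h2]
    refine H7.isMulCommutative_sup hA.1 (H7.isMulCommutative_of_inf_eq_bot hQ h) ?_
    rw [← Subgroup.commutator_eq_bot_iff_le_centralizer, eq_bot_iff, ← h, inf_comm]
    exact Subgroup.commutator_le_inf _ _
  refine ⟨?_, ?_, ?_, ?_⟩
  · obtain ⟨x, hx, hx2⟩ := H7.exists_zpowers_sup_eq_top_of_isCoatom hco
    refine H7.card_irr_amb hp hq hpq hA.2 (x := x) (Subgroup.le_normalizer_of_normal (Subgroup.mem_top x)) ?_ ?_ ?_
    · have : x ^ p ∈ A := hidx ▸ A.pow_index_mem x
      exact A.le_centralizer this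
    · intro h
      apply hna
      apply H7.isMulCommutative_of_top
      rw [← hx2]
      refine H7.isMulCommutative_sup hA.1 inferInstance ?_
      rw [Subgroup.le_centralizer_iff, Subgroup.zpowers_le]
      exact h
    · intro W hW hxW
      refine hmin W (H5.normal_iff_top_le_normalizer.2 ?_) hW
      rw [← hx2, sup_le_iff, Subgroup.zpowers_le]
      exact ⟨H5.le_normalizer_of_le_centralizer (A.le_centralizer.trans (H5.centralizer_anti hW)), hxW⟩
  · intro h
    obtain ⟨P⟩ : Nonempty (Sylow p G) := inferInstance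
    have h1 := hnn P (h P) (IsPGroup.disjoint_of_ne p q hpq.symm _ _ P.2 (H1.isPGroup_of_pow_eq_one hA.2)).eq_bot
    apply P.not_dvd_index
    rw [h1, Subgroup.index_bot, ← hidx]
    exact A.index_dvd_card
  · intro H hH
    apply H7.isPClosed_of_comm
    by_cases h : H ≤ A
    · exact H1.isMulCommutative_of_le h
    · haveI := H1.normal_inf_of_sup_eq_top (hsup H h)
      rcases hmin (A ⊓ H) inferInstance inf_le_left with h1 | h1
      · exact H7.isMulCommutative_of_inf_eq_bot hQ (by rwa [inf_comm])
      · exfalso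
        apply hH
        rw [← hsup H h, eq_comm, sup_eq_right, ← inf_eq_left, h1]
  · intro N _ hN
    apply H7.isPClosed_of_comm
    rcases hmin (N ⊓ A) inferInstance inf_le_right with h1 | h1
    · exact absurd (hnn N inferInstance h1) hN
    · have h2 : A ≤ N := by rw [← h1]; exact inf_le_left
      refine ⟨⟨fun a b => ?_⟩⟩
      obtain ⟨a, rfl⟩ := QuotientGroup.mk_surjective a
      obtain ⟨b, rfl⟩ := QuotientGroup.mk_surjective b
      rw [← QuotientGroup.mk_mul, ← QuotientGroup.mk_mul, QuotientGroup.eq]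
      apply h2
      rw [← QuotientGroup.eq, QuotientGroup.mk_mul, QuotientGroup.mk_mul]
      exact mul_comm' _ _

end Cfsg.Agent.S3869
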