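import Cfsg.Statements.S3870
import Cfsg.Agent.H7.PGrp

set_option autoImplicit false
open Cfsg

namespace Cfsg.Agent.S3870



/-- Let G be a finite simple group whose Sylow p-subgroups are not normal but such that every proper subgroup of G has a normal Sylow p-subgroup. Then any two distinct Sylow p-subgroups of G intersect trivially, and for every Sylow p-subgroup P the normalizer of every non-identity subgroup of P lies in the normalizer of P. -/
theorem result {G : Type*} [Group G] [Finite G] [IsSimpleGroup G] {p : ℕ} [Fact p.Prime]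
    (hnc : ¬ Cfsg.IsPClosed p G) (hsub : ∀ H : Subgroup G, H ≠ ⊤ → Cfsg.IsPClosed p ↥H) :
    (∀ P Q : Sylow p G, P ≠ Q → (P : Subgroup G) ⊓ (Q : Subgroup G) = ⊥) ∧
      ∀ (P : Sylow p G) (R : Subgroup G), R ≤ P → R ≠ ⊥ →
        Subgroup.normalizer (R : Set G) ≤ Subgroup.normalizer ((P : Subgroup G) : Set G) := by
  have TI : ∀ P Q : Sylow p G, P ≠ Q → (P : Subgroup G) ⊓ (Q : Subgroup G) = ⊥ := by
    by_contra hcon
    push Not at hcon
    obtain ⟨P0, Q0, h0, h0'⟩ := hcon
    obtain ⟨D, ⟨P, Q, hPQ, rfl⟩, hle, hmax⟩ := H1.exists_maximal_ge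
      (fun D : Subgroup G => ∃ P Q : Sylow p G, P ≠ Q ∧ D = (P : Subgroup G) ⊓ (Q : Subgroup G))
      ⟨P0, Q0, h0, rfl⟩
    set D := (P : Subgroup G) ⊓ (Q : Subgroup G) with hD
    have hD1 : D ≠ ⊥ := fun e => h0' (le_bot_iff.1 (e ▸ hle))
    have hlt : ∀ P Q : Sylow p G, P ≠ Q → (P : Subgroup G) ⊓ (Q : Subgroup G) < P := by
      intro P Q h
      refine lt_of_le_of_ne inf_le_left fun e => h ?_
      exact Sylow.ext (P.is_maximal' Q.isPGroup' (inf_eq_left.1 e)).symm
    have hN : Subgroup.normalizer (D : Set G) ≠ ⊤ := by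
      rw [Ne, Subgroup.normalizer_eq_top_iff]
      intro hn
      rcases hn.eq_bot_or_eq_top with h | h
      · exact hD1 h
      · exact (hlt P Q hPQ).not_ge (le_top.trans (le_of_eq h.symm))
    obtain ⟨R0⟩ : Nonempty (Sylow p (Subgroup.normalizer (D : Set G))) := inferInstance
    haveI := hsub _ hN R0
    haveI := Sylow.unique_of_normal R0 this
    obtain ⟨R, hR⟩ := R0.exists_comap_subtype_eq
    have key : ∀ S : Sylow p G, D < S → R = S := by
      intro S hS
      by_contra hne
      have h1 := H7.lt_normalizer_inf S.isPGroup' hS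
      have h2 : Subgroup.normalizer (D : Set G) ⊓ S ≤ R := by
        rintro x ⟨hx, hxS⟩
        obtain ⟨T, hT⟩ := (S.isPGroup'.comap_subtype (K := Subgroup.normalizer (D : Set G))).exists_le_sylow
        have : (⟨x, hx⟩ : Subgroup.normalizer (D : Set G)) ∈ (T : Subgroup _) := hT hxS
        rw [Subsingleton.elim T R0, ← hR] at this
        exact this
      have h3 := hmax _ ⟨R, S, hne, rfl⟩ (h1.le.trans (le_inf h2 inf_le_right))
      exact h1.not_ge ((le_inf h2 inf_le_right).trans h3.le)
    have e1 := key P (hlt P Q hPQ)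
    have e2 := key Q (by rw [hD, inf_comm]; exact hlt Q P hPQ.symm)
    exact hPQ (e1.symm.trans e2)
  refine ⟨TI, fun P R hR hR1 g hg => ?_⟩
  refine Sylow.smul_eq_iff_mem_normalizer.1 ?_
  by_contra hne
  apply hR1
  rw [eq_bot_iff, ← TI _ _ hne]
  refine le_inf ?_ hR
  rw [H7.sylow_coe_smul, ← H7.cj_eq_self_iff.2 hg]
  exact H7.cj_mono g hR

end Cfsg.Agent.S3870
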