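import Cfsg.Statements.S3872
import Cfsg.Agent.H9.Rank
import Cfsg.Agent.H9.Regular
import Cfsg.Agent.H9.NormalCyc
import Cfsg.Agent.H7.PGrp2
import Cfsg.Agent.H10.SylowIn

set_option autoImplicit false
open Cfsg

namespace Cfsg.Agent.S3872



/-- Say that a finite group is p-exponent closed when its elements of order dividing p form a subgroup. Let G be a finite p-group that is not p-exponent closed, but all of whose proper subgroups and proper quotients are. Then G is generated by two elements, has nilpotency class at least p, has exponent p², has cyclic center, and has order at least p^(p+1). -/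
theorem result {G : Type*} [Group G] [Finite G] {p : ℕ} [Fact p.Prime] (hG : IsPGroup p G)
    (hnc : ¬ (∃ H : Subgroup G, (H : Set G) = {g : G | g ^ p = 1})) (hsub : ∀ K : Subgroup G, K ≠ ⊤ → (∃ H : Subgroup ↥K, (H : Set ↥K) = {g : ↥K | g ^ p = 1}))
    (hquo : ∀ (N : Subgroup G) [N.Normal], N ≠ ⊥ → (∃ H : Subgroup (G ⧸ N), (H : Set (G ⧸ N)) = {g : (G ⧸ N) | g ^ p = 1})) :
    (∃ x y : G, Subgroup.closure ({x, y} : Set G) = ⊤) ∧ (⊤ : Subgroup G).lowerCentralSeries (p - 1) ≠ ⊥ ∧
      Monoid.exponent G = p ^ 2 ∧ IsCyclic ↥(Subgroup.center G) ∧ p ^ (p + 1) ≤ Nat.card G := by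
  have hp : p.Prime := Fact.out
  have hex : ∃ x y : G, x ^ p = 1 ∧ y ^ p = 1 ∧ (x * y) ^ p ≠ 1 := by
    by_contra h
    push Not at h
    exact hnc ⟨{ carrier := {g | g ^ p = 1}
                 one_mem' := one_pow p
                 mul_mem' := fun {a b} ha hb => h a b ha hb
                 inv_mem' := fun {a} ha => by
                   show a⁻¹ ^ p = 1
                   rw [inv_pow, show a ^ p = 1 from ha, inv_one] }, rfl⟩
  obtain ⟨x, y, hx, hy, hxy⟩ := hex
  have hgen : Subgroup.closure ({x, y} : Set G) = ⊤ := by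
    by_contra h
    obtain ⟨H, hH⟩ := hsub _ h
    have hm : ∀ z, z ∈ H ↔ z ^ p = 1 := fun z => by rw [← SetLike.mem_coe, hH]; rfl
    have h1 := (hm _).1 (mul_mem ((hm ⟨x, Subgroup.subset_closure (by simp)⟩).2 (Subtype.ext hx))
      ((hm ⟨y, Subgroup.subset_closure (by simp)⟩).2 (Subtype.ext hy)))
    exact hxy (congrArg Subtype.val h1)
  have hq : ∀ N : Subgroup G, N.Normal → N ≠ ⊥ → ∀ g : G, g ^ p ∈ N := by
    intro N _ hN g
    obtain ⟨H, hH⟩ := hquo N hN
    have hm : ∀ z, z ∈ H ↔ z ^ p = 1 := fun z => by rw [← SetLike.mem_coe, hH]; rfl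
    have h1 : (⊤ : Subgroup G) ≤ H.comap (QuotientGroup.mk' N) := by
      rw [← hgen, Subgroup.closure_le]
      rintro z (rfl | rfl)
      · show _ ∈ H
        rw [hm, ← map_pow, hx, map_one]
      · show _ ∈ H
        rw [hm, ← map_pow, hy, map_one]
    have h2 := (hm _).1 (h1 (Subgroup.mem_top g))
    rwa [← map_pow, QuotientGroup.mk'_apply, QuotientGroup.eq_one_iff] at h2
  have hlcs : (⊤ : Subgroup G).lowerCentralSeries (p - 1) ≠ ⊥ := fun h =>
    hxy ((H9.wreg_of_class_lt hG h).pow_eq_one_of_mem_closure hG (S := {x, y})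
      (by rintro z (rfl | rfl) <;> assumption) (hgen ▸ Subgroup.mem_top _))
  have hcen : ∀ z ∈ Subgroup.center G, orderOf z = p → ∀ g : G, g ^ p ∈ Subgroup.zpowers z := by
    intro z hz hz1
    refine hq _ ⟨fun a ha g => ?_⟩ fun e => H10.ne_one_of_orderOf_eq hz1 (Subgroup.zpowers_eq_bot.1 e)
    rw [Subgroup.mem_center_iff.1 (Subgroup.zpowers_le.2 hz ha) g]
    simpa using ha
  obtain ⟨z, -, hz, hz1⟩ := H9.exists_mem_center_orderOf_eq hG (M := ⊤) (fun e => hxy (by
    have : (x * y) ^ p ∈ (⊥ : Subgroup G) := e ▸ Subgroup.mem_top _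
    exact this))
  have hpp : ∀ g : G, g ^ p ^ 2 = 1 := fun g => by
    obtain ⟨k, hk⟩ := Subgroup.mem_zpowers_iff.1 (hcen z hz hz1 g)
    rw [pow_two, pow_mul, ← hk, ← zpow_natCast, ← zpow_mul, mul_comm, zpow_mul, zpow_natCast,
      ← hz1, pow_orderOf_eq_one, one_zpow]
  refine ⟨⟨x, y, hgen⟩, hlcs, ?_, ?_, ?_⟩
  · obtain ⟨k, hk, e⟩ := (Nat.dvd_prime_pow hp).1 (Monoid.exponent_dvd_of_forall_pow_eq_one hpp)
    rw [e]
    congr 1
    by_contra h
    apply hxy
    have h1 : Monoid.exponent G ∣ p := by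
      rw [e]
      have : k ≤ 1 := by omega
      simpa using pow_dvd_pow p this
    exact Monoid.exponent_dvd_iff_forall_pow_eq_one.1 h1 _
  · refine H9.isCyclic_of_abelian_unique hG inferInstance fun a ha b hb h1 h2 => ?_
    by_cases hb1 : b = 1
    · rw [hb1]; exact one_mem _
    have h3 : orderOf b = p := orderOf_eq_prime h2 hb1
    have h4 : Subgroup.zpowers a ⊓ Subgroup.zpowers b ≠ ⊥ := fun e => hxy (by
      rw [← Subgroup.mem_bot, ← e]
      exact ⟨hcen a ha h1 _, hcen b hb h3 _⟩)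
    have h5 := (H7.eq_or_eq_bot_of_card_prime (Z := Subgroup.zpowers b)
      (by rw [Nat.card_zpowers, h3]) inf_le_right).resolve_left h4
    exact inf_eq_right.1 h5 (Subgroup.mem_zpowers b)
  · refine H9.pow_lt_of_not_le (A := ⊤) (k := p) (hG.to_subgroup _) (fun h => hlcs ?_) |>.trans
      (by rw [Subgroup.card_top])
    obtain ⟨q, rfl⟩ : ∃ q, p = q + 2 := ⟨p - 2, by have := hp.two_le; omega⟩
    rw [Subgroup.card_top] at h
    exact H9.lcs_eq_bot_of_card_le q hG h

end Cfsg.Agent.S3872
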