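import Cfsg.Statements.S3873
import Cfsg.Agent.S3868

set_option autoImplicit false
open Cfsg

namespace Cfsg.Agent.S3873

theorem H7.isPClosed_of_exponent {X : Type*} [Group X] [Finite X] {p : ℕ} [Fact p.Prime]
    (h : ∃ H : Subgroup X, (H : Set X) = {g : X | g ^ p = 1}) (P : Sylow p X)
    (hP : ∀ x ∈ (P : Subgroup X), x ^ p = 1) : Cfsg.IsPClosed p X := by
  obtain ⟨H, hH⟩ := h
  have hm : ∀ x, x ∈ H ↔ x ^ p = 1 := fun x => by
    rw [← SetLike.mem_coe, hH]; rfl
  have hn : H.Normal := ⟨fun x hx g => by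
    rw [hm] at hx ⊢
    rw [conj_pow, hx]; simp⟩
  have h1 : H = P := P.3 (H1.isPGroup_of_pow_eq_one fun x hx => (hm x).1 hx)
    fun x hx => (hm x).2 (hP x hx)
  intro Q
  haveI := P.unique_of_normal (h1 ▸ hn)
  rw [Subsingleton.elim Q P, ← h1]; exact hn

/-- Say that a finite group is p-exponent closed when its elements of order dividing p form a subgroup. Let G be a finite group that is not p-exponent closed, but all of whose proper subgroups and proper quotients are, and suppose G is neither simple nor a p-group. Then there is a prime q ≠ p such that G has order p · q^e, where e is the multiplicative order of q modulo p, and G has a normal elementary abelian subgroup of order q^e that is a minimal normal subgroup of G. -/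
theorem result {G : Type*} [Group G] [Finite G] {p : ℕ} [Fact p.Prime]
    (hnc : ¬ (∃ H : Subgroup G, (H : Set G) = {g : G | g ^ p = 1})) (hsub : ∀ K : Subgroup G, K ≠ ⊤ → (∃ H : Subgroup ↥K, (H : Set ↥K) = {g : ↥K | g ^ p = 1}))
    (hquo : ∀ (N : Subgroup G) [N.Normal], N ≠ ⊥ → (∃ H : Subgroup (G ⧸ N), (H : Set (G ⧸ N)) = {g : (G ⧸ N) | g ^ p = 1}))
    (hns : ¬ IsSimpleGroup G) (hnp : ¬ IsPGroup p G) :
    ∃ q : ℕ, q.Prime ∧ q ≠ p ∧ Nat.card G = p * q ^ orderOf (q : ZMod p) ∧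
      ∃ A : Subgroup G, A.Normal ∧ Nat.card ↥A = q ^ orderOf (q : ZMod p) ∧ Cfsg.IsElementaryAbelian q A ∧
        ∀ B : Subgroup G, B.Normal → B ≤ A → B = ⊥ ∨ B = A := by
  have hp : p.Prime := Fact.out
  haveI : Nontrivial G := by
    by_contra h
    rw [not_nontrivial_iff_subsingleton] at h
    exact hnp fun g => ⟨0, Subsingleton.elim _ _⟩
  obtain ⟨N, hN, hN1, hN2⟩ : ∃ N : Subgroup G, N.Normal ∧ N ≠ ⊥ ∧ N ≠ ⊤ := by
    by_contra h
    push Not at h
    exact hns ⟨fun N hN => or_iff_not_imp_left.2 (h N hN)⟩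
  obtain ⟨A, hA, hA0, hAN, hmin⟩ := H1.exists_minimal_normal_le N hN1
  have hA1 : A ≠ ⊤ := fun h => hN2 (top_le_iff.1 (h ▸ hAN))
  have hsub' : ∀ K : Subgroup G, K ≠ ⊤ → ∃ H : Subgroup G, ∀ x, x ∈ H ↔ x ∈ K ∧ x ^ p = 1 := by
    intro K hK
    obtain ⟨H, hH⟩ := hsub K hK
    have hm : ∀ x, x ∈ H ↔ x ^ p = 1 := fun x => by
      rw [← SetLike.mem_coe, hH]; rfl
    refine ⟨H.map K.subtype, fun x => ⟨?_, fun h => ⟨⟨x, h.1⟩, (hm _).2 (Subtype.ext h.2), rfl⟩⟩⟩
    rintro ⟨y, hy, rfl⟩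
    exact ⟨y.2, congrArg Subtype.val ((hm y).1 hy)⟩
  have hq : ∀ g : G, g ^ p ∈ A := by
    obtain ⟨H, hH⟩ := hquo A hA0
    have hm : ∀ x, x ∈ H ↔ x ^ p = 1 := fun x => by
      rw [← SetLike.mem_coe, hH]; rfl
    by_cases h1 : H.comap (QuotientGroup.mk' A) = ⊤
    · intro g
      have : g ∈ H.comap (QuotientGroup.mk' A) := h1 ▸ Subgroup.mem_top g
      rw [Subgroup.mem_comap, hm, ← map_pow] at this
      exact (QuotientGroup.eq_one_iff _).1 this
    · exfalso
      obtain ⟨L, hL⟩ := hsub' _ h1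
      refine hnc ⟨L, Set.ext fun x => ⟨fun h => ((hL x).1 h).2, fun h => (hL x).2 ⟨?_, h⟩⟩⟩
      rw [Subgroup.mem_comap, hm, ← map_pow, show x ^ p = 1 from h, map_one]
  have hA2 : ∀ x ∈ A, x ^ p = 1 → x = 1 := by
    obtain ⟨L, hL⟩ := hsub' _ hA1
    have hn : L.Normal := ⟨fun x hx g => by
      rw [hL] at hx ⊢
      exact ⟨hA.conj_mem _ hx.1 g, by rw [conj_pow, hx.2]; simp⟩⟩
    rcases hmin L hn (fun x hx => ((hL x).1 hx).1) with h | h
    · intro x h1 h2
      rw [← Subgroup.mem_bot, ← h, hL]; exact ⟨h1, h2⟩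
    · exfalso
      refine hnp fun g => ⟨2, ?_⟩
      rw [pow_two, pow_mul]
      exact ((hL _).1 (h ▸ hq g)).2
  have hexp : ∀ (g : G) (k : ℕ), g ^ p ^ k = 1 → g ^ p = 1 := by
    intro g k
    induction k generalizing g with
    | zero => intro h; rw [pow_zero, pow_one] at h; rw [h, one_pow]
    | succ k ih =>
      intro h
      refine hA2 _ (hq g) (ih _ ?_)
      rwa [← pow_mul, ← pow_succ']
  obtain ⟨P⟩ : Nonempty (Sylow p G) := inferInstance
  have hP : ∀ x ∈ (P : Subgroup G), x ^ p = 1 := fun x hx => by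
    obtain ⟨k, hk⟩ := P.2 ⟨x, hx⟩
    exact hexp x k (congrArg Subtype.val hk)
  refine Cfsg.Agent.S3868.result (fun h => hnc ⟨P, Set.ext fun x => ⟨hP x, fun hx => ?_⟩⟩)
    (fun H hH => ?_) (fun M _ hM => ?_) hns
  · haveI := h P
    have h1 : IsPGroup p (Subgroup.zpowers x) := H10.isPGroup_zpowers (k := 1) (by simpa using hx)
    obtain ⟨Q, hQ⟩ := h1.exists_le_sylow
    haveI := P.unique_of_normal (h P)
    rw [Subsingleton.elim Q P] at hQ
    exact hQ (Subgroup.mem_zpowers x)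
  · obtain ⟨Q⟩ : Nonempty (Sylow p H) := inferInstance
    refine H7.isPClosed_of_exponent (hsub H hH) Q fun x hx => ?_
    obtain ⟨k, hk⟩ := Q.2 ⟨x, hx⟩
    exact Subtype.ext (hexp x k (congrArg (fun y : Q => ((y : H) : G)) hk))
  · refine H7.isPClosed_of_exponent (hquo M hM) (P.mapSurjective (QuotientGroup.mk'_surjective M)) ?_
    rintro _ ⟨x, hx, rfl⟩
    rw [← map_pow, hP x hx, map_one]

end Cfsg.Agent.S3873
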