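import Cfsg.Statements.S3875
import Cfsg.Agent.H2.Br4
import Cfsg.Agent.S4303
import Cfsg.Agent.H4.Dk1
import Cfsg.Agent.H22.Linear

set_option autoImplicit false
open Cfsg

namespace Cfsg.Agent.S3875

open Subgroup

theorem closed_of {G : Type*} [Group G] [Finite G] {p : ℕ} [Fact p.Prime] (P : Sylow p G)
    (h : (P : Subgroup G).Normal) : IsPClosed p G := fun Q => by
  haveI := P.unique_of_normal h
  exact Subsingleton.elim P Q ▸ h

theorem lower {p : ℕ} [hp : Fact p.Prime] {m : ℕ}
    (hleast : ∀ k : ℕ, IsPrimePow k → k % p = 1 → m ≤ k) (n : ℕ) :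
    ∀ (H : Type) [Group H] [Finite H], Nat.card H = n → ¬ IsPClosed p H →
      p * m ≤ n ∨ p * (p ^ 2 - 1) ≤ 2 * n := by
  induction n using Nat.strong_induction_on with | _ n ih =>
  rintro H _ _ rfl h
  have h2 := hp.out.two_le
  obtain ⟨P⟩ : Nonempty (Sylow p H) := inferInstance
  have hn : ¬ (P : Subgroup H).Normal := fun e => h (closed_of P e)
  by_cases hbig : Nat.card H < p ^ 3
  swap
  · have : p * (p ^ 2 - 1) ≤ p ^ 3 := by
      rw [pow_succ' p 2]; exact Nat.mul_le_mul_left p (Nat.sub_le _ _)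
    omega
  have hdvd : p ∣ Nat.card H := by_contra fun e => hn (by
    rw [card_eq_one.1 (P.2.card_eq_or_dvd.resolve_right fun h =>
      e (h.trans (card_subgroup_dvd_card _)))]; infer_instance)
  have hP := H2.br_card_of_cube hdvd hbig P fun e => hn (normalizer_eq_top_iff.1 (index_eq_one.1
    (P.card_eq_index_normalizer.symm.trans e)))
  by_cases hG : commutator H = ⊤
  · obtain ⟨k, hk⟩ := H2.exists_card_sylow p H
    have h3 := Nat.le_of_dvd Nat.card_pos (card_quotient_dvd_card (pPrimeCore p H))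
    obtain ⟨h4, h5 | h5⟩ := H2.br_core hG P hP hk (H2.br_not_rep_of_cube hG hbig P hP hk)
    · omega
    · obtain ⟨a, -, -, -, -, h6, -⟩ := h5.2
      obtain ⟨c, rfl⟩ : ∃ c, p = c + 5 := ⟨p - 5, by
        have : p ≠ 4 := fun e => absurd (e ▸ hp.out) (by decide)
        omega⟩
      rw [h5.1, show c + 5 - 1 = c + 4 from rfl, show c + 5 - 2 = c + 3 from rfl] at h3
      rw [show (c + 5) ^ 2 - 1 = (c + 4) * (c + 6) from Nat.sub_eq_of_eq_add (by ring)]
      right
      nlinarith [Nat.zero_le (c * c), Nat.zero_le (c * c * c)]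
  have h3 := (commutator H).card_mul_index
  by_cases h4 : IsPClosed p (commutator H)
  swap
  · have := index_eq_one.not.2 hG
    have := (commutator H).index_ne_zero_of_finite
    have h5 : Nat.card (commutator H) < Nat.card H := by
      rw [← h3]; exact lt_mul_of_one_lt_right Nat.card_pos (by omega)
    have := ih _ h5 _ rfl h4
    omega
  have h5 : ∀ K : Subgroup H, K.Normal → (P : Subgroup H) ≤ K → ¬ K ≤ normalizer (P : Set H) :=
    fun K _ h5 h6 => hn (normalizer_eq_top_iff.1 ((sup_eq_left.2 h6).symm.trans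
      (P.normalizer_sup_eq_top' h5)))
  have h6 : ¬ p ∣ Nat.card (commutator H) := fun e => by
    have h6 := H2.br_le_of_normal P hP _ e
    exact h5 _ inferInstance h6 ((normal_subgroupOf_iff_le_normalizer h6).1 (h4 (P.subtype h6)))
  have h7 : (centralizer (P : Set H)).relIndex (commutator H) ≠ 1 := fun e =>
    h5 (P ⊔ commutator H) (Normal.of_commutator_le H le_sup_right) le_sup_left (sup_le le_normalizer
      ((relIndex_eq_one.1 e).trans (centralizer_le_normalizer _)))
  obtain ⟨q, hq, h8⟩ := Nat.exists_prime_and_dvd h7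
  have h9 := S4303.part P.2 (K := commutator H) (by simp [normalizer_eq_top])
    ((hp.out.coprime_iff_not_dvd.2 h6).symm) hq
  have h10 := hleast _ (hq.isPrimePow.pow
    (hq.factorization_pos_of_dvd index_ne_zero_of_finite h8).ne') (Eq.trans h9 (Nat.mod_eq_of_lt h2))
  have h11 := Nat.le_of_dvd Nat.card_pos ((Nat.ordProj_dvd _ q).trans
    (relIndex_dvd_card (centralizer (P : Set H)) (commutator H)))
  have h12 := Nat.le_of_dvd (Nat.pos_of_ne_zero (commutator H).index_ne_zero_of_finite)
    ((hp.out.dvd_mul.1 (h3 ▸ hdvd)).resolve_left h6)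
  exact .inl (by rw [← h3, mul_comm]; exact Nat.mul_le_mul (h10.trans h11) h12)

theorem affine {p : ℕ} [hp : Fact p.Prime] {m : ℕ} (hm : IsPrimePow m) (hm1 : m % p = 1) :
    ∃ (H : Type) (_ : Group H) (_ : Finite H), Nat.card H = p * m ∧ ¬ IsPClosed p H := by
  obtain ⟨q, k, hq, hk, rfl⟩ := (isPrimePow_nat_iff _).1 hm
  haveI := Fact.mk hq
  have hF := GaloisField.card q k hk.ne'
  obtain ⟨u, hu⟩ := exists_prime_orderOf_dvd_card' (G := (GaloisField q k)ˣ) p (by
    rw [Nat.card_units, hF]; exact Nat.dvd_sub_mod _ |>.trans (by rw [hm1]))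
  let φ : zpowers u →* MulAut (Multiplicative (GaloisField q k)) :=
    (MulAutMultiplicative _).symm.toMonoidHom.comp (AddAut.mulLeft.comp (zpowers u).subtype)
  haveI : Finite (Multiplicative (GaloisField q k) ⋊[φ] zpowers u) :=
    Finite.of_equiv _ SemidirectProduct.equivProd.symm
  refine ⟨Multiplicative (GaloisField q k) ⋊[φ] zpowers u, inferInstance, inferInstance, by
    rw [SemidirectProduct.card, Nat.card_zpowers, hu, mul_comm, ← hF]; rfl, fun h => ?_⟩
  obtain ⟨P, hP⟩ := ((IsPGroup.of_card (G := zpowers u) (n := 1) (by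
    rw [Nat.card_zpowers, hu, pow_one])).to_subgroup ⊤).map
      (SemidirectProduct.inr (φ := φ)) |>.exists_le_sylow
  have h1 := hP (mem_map_of_mem _ (mem_top ⟨u, mem_zpowers u⟩))
  have h2 := mul_mem ((h P).conj_mem _ h1 (SemidirectProduct.inl (Multiplicative.ofAdd 1))) (inv_mem h1)
  rw [mul_assoc, mul_assoc, ← map_inv SemidirectProduct.inl, ← map_inv SemidirectProduct.inr,
    ← mul_assoc (SemidirectProduct.inr _),
    ← SemidirectProduct.inl_aut, ← map_mul] at h2
  obtain ⟨j, hj⟩ := P.2 ⟨_, h2⟩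
  have h3 := congrArg Subtype.val hj
  rw [coe_pow, ← map_pow, coe_one, map_eq_one_iff _ SemidirectProduct.inl_injective] at h3
  replace h3 : p ^ j • ((1 : GaloisField q k) + u * -1) = 0 := h3
  rw [nsmul_eq_mul, Nat.cast_pow, mul_eq_zero, mul_neg_one, add_neg_eq_zero] at h3
  rcases h3 with h3 | h3
  · have h4 := (CharP.cast_eq_zero_iff _ q p).1 (pow_eq_zero_iff'.1 h3).1
    obtain rfl := (Nat.prime_dvd_prime_iff_eq hq hp.out).1 h4
    rw [Nat.mod_eq_zero_of_dvd (dvd_pow_self q hk.ne')] at hm1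
    omega
  · rw [show u = 1 from Units.ext h3.symm, orderOf_one] at hu
    exact hp.out.one_lt.ne hu

/-- Let p be an odd prime and let m be the least prime power congruent to 1 modulo p. Then the least order of a finite group whose Sylow p-subgroups are not normal is the smaller of p · m and p(p² − 1)/2: every finite group whose Sylow p-subgroups are not normal has at least that order, and some group of exactly that order has non-normal Sylow p-subgroups. -/
theorem result (p : ℕ) [Fact p.Prime] (hp : p ≠ 2) (m : ℕ) (hm : IsPrimePow m) (hm1 : m % p = 1)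
    (hleast : ∀ k : ℕ, IsPrimePow k → k % p = 1 → m ≤ k) :
    (∀ (H : Type) [Group H] [Finite H], ¬ Cfsg.IsPClosed p H → min (p * m) (p * (p ^ 2 - 1) / 2) ≤ Nat.card H) ∧
      ∃ (H : Type) (_ : Group H) (_ : Finite H), Nat.card H = min (p * m) (p * (p ^ 2 - 1) / 2) ∧ ¬ Cfsg.IsPClosed p H := by
  refine ⟨fun H _ _ h => by have := lower hleast _ H rfl h; omega, ?_⟩
  by_cases h : p * m ≤ p * (p ^ 2 - 1) / 2
  · rw [min_eq_left h]
    exact affine hm hm1
  have hp' : p.Prime := Fact.out
  have h3 : p ≠ 3 := by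
    rintro rfl
    have := hleast 4 (by decide) rfl
    omega
  have h2 := hp'.two_le
  have h4 := H4.card_psl (F := ZMod p)
  rw [ZMod.card, Nat.gcd_eq_left (by have := hp'.eq_two_or_odd; omega)] at h4
  haveI := H22.PSL_fin_isSimpleGroup (F := ZMod p) 2 le_rfl fun _ => by rw [ZMod.card]; omega
  refine ⟨Matrix.ProjectiveSpecialLinearGroup (Fin 2) (ZMod p), inferInstance, inferInstance,
    by omega, fun h5 => ?_⟩
  obtain ⟨P⟩ : Nonempty (Sylow p (Matrix.ProjectiveSpecialLinearGroup (Fin 2) (ZMod p))) :=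
    inferInstance
  have h6 : p.Coprime (p ^ 2 - 1) := by
    rw [Nat.coprime_comm, ← Nat.coprime_pow_right_iff two_pos]
    exact (Nat.coprime_self_sub_left (Nat.one_le_pow _ _ hp'.pos)).2 (Nat.coprime_one_left _)
  rcases (h5 P).eq_bot_or_eq_top with h7 | h7
  · exact P.ne_bot_of_dvd_card (((Nat.coprime_primes hp' Nat.prime_two).2 hp).dvd_of_dvd_mul_left
      (h4 ▸ dvd_mul_right _ _)) h7
  · obtain ⟨k, hk⟩ := P.2.exists_card_eq
    rw [h7, card_top] at hk
    have h8 := (h6.symm.pow_right k).dvd_of_dvd_mul_right (m := 2) 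
      (by rw [← hk, h4]; exact dvd_mul_left _ _)
    have := Nat.le_of_dvd two_pos h8
    have : 2 ^ 2 ≤ p ^ 2 := by gcongr
    omega

end Cfsg.Agent.S3875
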