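import Cfsg.Statements.S3890
import Cfsg.Agent.H7.Cover

set_option autoImplicit false
open Cfsg

namespace Cfsg.Agent.S3890



/-- A cover of a group is a finite set of proper subgroups whose union is the whole group; it is minimal when no cover has fewer members, and nilpotent when all its members are nilpotent. Let G be a finite group with trivial center admitting a nilpotent minimal cover 𝓐, and let P be an abelian Sylow p-subgroup of G that is not normal. Then either P is elementary abelian of order greater than p, or P is a Sylow p-subgroup of some member A of 𝓐, the normalizer N of P is a maximal subgroup of G, N meets each of its conjugates by elements outside N in a subgroup of order prime to p, and the centralizer of P equals A. -/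
theorem result {G : Type*} [Group G] [Finite G] (hZ : Subgroup.center G = ⊥) (𝓐 : Finset (Subgroup G))
    (h𝓐 : ((∀ A ∈ 𝓐, A ≠ ⊤) ∧ (∀ g : G, ∃ A ∈ 𝓐, g ∈ A)) ∧ (∀ 𝓑 : Finset (Subgroup G), (∀ A ∈ 𝓑, A ≠ ⊤) ∧ (∀ g : G, ∃ A ∈ 𝓑, g ∈ A) → 𝓐.card ≤ 𝓑.card) ∧ (∀ A ∈ 𝓐, Group.IsNilpotent ↥A)) {p : ℕ} [Fact p.Prime] (P : Sylow p G) (hab : IsMulCommutative ↥(P : Subgroup G))
    (hnn : ¬ (P : Subgroup G).Normal) :
    (Cfsg.IsElementaryAbelian p (P : Subgroup G) ∧ p < Nat.card ↥(P : Subgroup G)) ∨
    (∃ A ∈ 𝓐, (P : Subgroup G) ≤ A ∧ ¬ p ∣ ((P : Subgroup G).subgroupOf A).index ∧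
      IsCoatom (Subgroup.normalizer ((P : Subgroup G) : Set G)) ∧
      (∀ g : G, g ∉ Subgroup.normalizer ((P : Subgroup G) : Set G) →
        ¬ p ∣ Nat.card ↥(Subgroup.normalizer ((P : Subgroup G) : Set G) ⊓
          (Subgroup.normalizer ((P : Subgroup G) : Set G)).map (MulAut.conj g).toMonoidHom)) ∧
      Subgroup.centralizer ((P : Subgroup G) : Set G) = A) := by
  have h : H7.NilMinCover 𝓐 := h𝓐
  by_cases he : Cfsg.IsElementaryAbelian p (P : Subgroup G) ∧ p < Nat.card (P : Subgroup G)
  · exact Or.inl he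
  have hc : IsCyclic (P : Subgroup G) ∨ ¬ IsElementaryAbelian p (P : Subgroup G) := by
    by_contra hc
    push Not at hc he
    exact hc.1 (H7.isCyclic_of_card_le_prime P.2 (he hc.2))
  have hP0 : (P : Subgroup G) ≠ ⊥ := fun e => hnn (e ▸ inferInstance)
  refine Or.inr ⟨_, (h.centralizer_mem hZ P hab hc hP0 P).1, Subgroup.le_centralizer _,
    H3.sylow_not_dvd_relIndex P (Subgroup.le_centralizer _),
    h.isCoatom_normalizer hZ P hab hc hnn, fun g hg hd => hg ?_, rfl⟩
  obtain ⟨⟨u, hu1, hu2⟩, hu⟩ := exists_prime_orderOf_dvd_card' p hd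
  have hu' : orderOf u = p := (Subgroup.orderOf_coe _).trans hu
  have hup : IsPGroup p (Subgroup.zpowers u) := IsPGroup.of_card (n := 1) (by simpa using hu')
  have hu0 : u ≠ 1 := fun e => by
    rw [e, orderOf_one] at hu'
    exact (Fact.out : p.Prime).one_lt.ne hu'
  have key : ∀ Q : Sylow p G, u ∈ Subgroup.normalizer ((Q : Subgroup G) : Set G) →
      Subgroup.centralizer {u} = Subgroup.centralizer ((Q : Subgroup G) : Set G) := by
    intro Q hQ
    refine (h.centralizer_mem hZ P hab hc hP0 Q).2 u ?_ hu0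
    have h1 := IsPGroup.to_sup_of_normal_right' hup Q.2 (Subgroup.zpowers_le.2 hQ)
    rw [← Q.3 h1 le_sup_right]
    exact Subgroup.mem_sup_left (Subgroup.mem_zpowers u)
  have h1 := key P hu1
  have h2 := key (g • P) (by rwa [H7.sylow_coe_smul, H7.normalizer_cj])
  refine Sylow.smul_eq_iff_mem_normalizer.1 (H7.smul_eq_of_le_centralizer ?_)
  rw [← h1, h2]
  haveI := H7.comm_of_isPGroup_of_sylow_comm P hab (g • P).2
  exact Subgroup.le_centralizer _

end Cfsg.Agent.S3890
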