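import Mathlib
import Cfsg.Statements.S3892
import Cfsg.Agent.H8.SymP
import Cfsg.Agent.H10.SylowIn

set_option autoImplicit false
open Cfsg

namespace Cfsg.Agent.S3892

open Subgroup Equiv Equiv.Perm

theorem nil {G : Type*} [Group G] [Finite G] {p : ℕ} (hp : p.Prime) (h2 : ¬ p ^ 2 ∣ Nat.card G)
    {x : G} (hx : orderOf x = p) {A : Subgroup G} (hA : Group.IsNilpotent A) (xA : x ∈ A) :
    A ≤ centralizer {x} ∧ ∀ y ∈ A, orderOf y = p → y ∈ zpowers x := by
  have := Fact.mk hp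
  have ox : orderOf (⟨x, xA⟩ : A) = p := by rw [← hx, orderOf_mk]
  obtain ⟨S, hS⟩ := (H10.isPGroup_zpowers_of_orderOf_eq ox).exists_le_sylow
  have e : zpowers (⟨x, xA⟩ : A) = S := by
    obtain ⟨k, hk⟩ := IsPGroup.iff_card.1 S.isPGroup'
    refine eq_of_le_of_card_ge hS ?_
    rw [Nat.card_zpowers, ox, hk]
    have : k ≤ 1 := by
      by_contra c
      exact h2 ((pow_dvd_pow p (by omega)).trans
        (hk ▸ (card_subgroup_dvd_card _).trans (card_subgroup_dvd_card A)))
    exact (Nat.pow_le_pow_right hp.pos this).trans (pow_one p).le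
  have hN : (S : Subgroup A).Normal := Sylow.normal_of_normalizerCondition normalizerCondition_of_isNilpotent S
  refine ⟨fun a ha => ?_, fun y hy oy => ?_⟩
  · obtain ⟨z, hz, z1, zc⟩ := H9.exists_mem_center_ne_one (M := (S : Subgroup A)) (by
      rw [← e, ne_eq, zpowers_eq_bot]; exact H10.ne_one_of_orderOf_eq ox)
    rw [← e] at hz
    have : (⟨x, xA⟩ : A) ∈ zpowers z := by
      have c := card_dvd_of_le (zpowers_le.2 hz)
      rw [Nat.card_zpowers, Nat.card_zpowers, ox] at c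
      rw [eq_of_le_of_card_ge (zpowers_le.2 hz) (by
        rw [Nat.card_zpowers, Nat.card_zpowers, ox,
          ((Nat.dvd_prime hp).1 c).resolve_left (by simpa using z1)])]
      exact mem_zpowers _
    have := mem_center_iff.1 (zpowers_le.2 zc this) ⟨a, ha⟩
    exact mem_centralizer_singleton_iff.2 (congrArg Subtype.val this)
  · have oy' : orderOf (⟨y, hy⟩ : A) = p := by rw [← oy, orderOf_mk]
    obtain ⟨T, hT⟩ := (H10.isPGroup_zpowers_of_orderOf_eq oy').exists_le_sylow
    have := Sylow.unique_of_normal S hN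
    rw [Subsingleton.elim T S, ← e] at hT
    obtain ⟨k, hk⟩ := mem_zpowers_iff.1 (hT (mem_zpowers _))
    exact ⟨k, congrArg Subtype.val hk⟩

theorem key {G : Type*} [Group G] [Finite G] {p : ℕ} (hp : p.Prime) (h2 : ¬ p ^ 2 ∣ Nat.card G)
    {x y : G} (hx : orderOf x = p) (hy : orderOf y = p) (hxy : y ∉ zpowers x) {K : Subgroup G}
    (hK : K ≠ ⊤) (h1 : centralizer {x} ≤ K) (h3 : centralizer {y} ≤ K) :
    ¬ ∃ 𝓐 : Finset (Subgroup G), ((∀ A ∈ 𝓐, A ≠ ⊤) ∧ (∀ g : G, ∃ A ∈ 𝓐, g ∈ A)) ∧ (∀ 𝓑 : Finset (Subgroup G), (∀ A ∈ 𝓑, A ≠ ⊤) ∧ (∀ g : G, ∃ A ∈ 𝓑, g ∈ A) → 𝓐.card ≤ 𝓑.card) ∧ (∀ A ∈ 𝓐, Group.IsNilpotent ↥A) := by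
  classical
  rintro ⟨𝓐, ⟨k1, k2⟩, k3, k4⟩
  obtain ⟨A, hA, xA⟩ := k2 x
  obtain ⟨B, hB, yB⟩ := k2 y
  have n1 := nil hp h2 hx (k4 A hA) xA
  have n2 := nil hp h2 hy (k4 B hB) yB
  have ne : B ≠ A := fun e => hxy (n1.2 y (e ▸ yB) hy)
  have := k3 (insert K ((𝓐.erase A).erase B)) ⟨fun C hC => ?_, fun g => ?_⟩
  · have c1 := Finset.card_insert_le K ((𝓐.erase A).erase B)
    have c2 := Finset.card_erase_lt_of_mem (Finset.mem_erase.2 ⟨ne, hB⟩)
    have c3 := Finset.card_erase_lt_of_mem hA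
    omega
  · rcases Finset.mem_insert.1 hC with rfl | h
    exacts [hK, k1 C (Finset.mem_of_mem_erase (Finset.mem_of_mem_erase h))]
  · obtain ⟨C, hC, hg⟩ := k2 g
    by_cases e1 : C = A
    · exact ⟨K, Finset.mem_insert_self _ _, h1 (n1.1 (e1 ▸ hg))⟩
    by_cases e2 : C = B
    · exact ⟨K, Finset.mem_insert_self _ _, h3 (n2.1 (e2 ▸ hg))⟩
    exact ⟨C, Finset.mem_insert_of_mem (by simp [e1, e2, hC]), hg⟩

open Pointwise in
theorem big {n : ℕ} (hn : 6 ≤ n) : ∃ p : ℕ, p.Prime ∧ ¬ p ^ 2 ∣ Nat.card (Perm (Fin n)) ∧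
    ∃ x y z : Perm (Fin n), x ∈ alternatingGroup (Fin n) ∧ y ∈ alternatingGroup (Fin n) ∧
      z ∈ alternatingGroup (Fin n) ∧ orderOf x = p ∧ orderOf y = p ∧ y ∉ zpowers x ∧
      ∃ K : Subgroup (Perm (Fin n)), z ∉ K ∧ centralizer {x} ≤ K ∧ centralizer {y} ≤ K := by
  obtain ⟨p, hp, h1, h2⟩ := Nat.exists_prime_lt_and_le_two_mul (n / 2) (by omega)
  have h3 : p ≠ 2 * (n / 2) := fun e => by
    have := (e ▸ hp : (2 * (n / 2)).Prime).eq_one_or_self_of_dvd 2 ⟨_, rfl⟩
    omega
  have h4 : p ≠ 4 := fun e => by rw [e] at hp; norm_num at hp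
  obtain ⟨x, hx⟩ := (exists_with_cycleType_iff (Fin n) (m := {p})).2
    ⟨by simp; omega, by simp [hp.two_le]⟩
  have c : x.IsCycle := card_cycleType_eq_one.1 (by rw [hx]; rfl)
  have sx : x.support.card = p := by rw [← sum_cycleType, hx]; rfl
  have ox : orderOf x = p := c.orderOf.trans sx
  have ax : x ∈ alternatingGroup (Fin n) := by
    rw [mem_alternatingGroup, c.sign, sx, (hp.odd_of_ne_two (by omega)).neg_one_pow, neg_neg]
  obtain ⟨a, ha⟩ : x.support.Nonempty := Finset.card_pos.1 (by omega)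
  have ha' := mem_support.1 ha
  obtain ⟨w, hw⟩ : x.supportᶜ.Nonempty := Finset.card_pos.1 (by
    rw [Finset.card_compl, Fintype.card_fin]; omega)
  have hw' : x w = w := notMem_support.1 (Finset.mem_compl.1 hw)
  have xa : x a ∈ x.support := apply_mem_support.2 ha
  have sg : ∀ b, swap a (x a) b ∈ x.support ↔ b ∈ x.support := fun b => by
    rw [swap_apply_def]; split_ifs with e1 e2
    · rw [e1]; exact iff_of_true xa ha
    · rw [e2]; exact iff_of_true ha xa
    · rfl
  have sy : ∀ b, b ∈ (swap a (x a) * x * (swap a (x a))⁻¹).support ↔ b ∈ x.support := fun b => by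
    rw [support_conj, Finset.mem_map_equiv, symm_swap, sg]
  refine ⟨p, hp, ?_, x, swap a (x a) * x * (swap a (x a))⁻¹, swap a w * swap a (x a), ax,
    (alternatingGroup.normal).conj_mem _ ax _, ?_, ox, by rw [← lcm_cycleType, cycleType_conj, lcm_cycleType, ox], fun m => ?_,
    MulAction.stabilizer _ x.support, fun m => ?_, fun g hg => ?_, fun g hg => ?_⟩
  · rw [Nat.card_perm, Nat.card_eq_fintype_card, Fintype.card_fin]
    exact H8.Sy.not_sq_dvd_factorial hp (by omega)
  · have : a ≠ w := fun e => ha' (e ▸ hw')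
    rw [mem_alternatingGroup, Perm.sign_mul, sign_swap this, sign_swap ha'.symm]; simp
  · obtain ⟨k, hk, ek⟩ := (mem_zpowers_iff_mem_range_orderOf.1 (mul_mem m (inv_mem (mem_zpowers x)))
      |> Finset.mem_image.1)
    have e : x ^ k = swap a (x a) * swap (x a) (x (x a)) := by
      rw [ek, swap_apply_apply, swap_inv]; group
    have x2 : x (x a) ≠ a := fun h => by
      have := (c.pow_eq_one_iff' ha' (n := 2)).2 (by simpa [pow_two] using h)
      have := Nat.le_of_dvd two_pos (orderOf_dvd_of_pow_eq_one this)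
      omega
    rcases Nat.eq_zero_or_pos k with rfl | k0
    · have := DFunLike.congr_fun e a
      rw [mul_apply, swap_apply_of_ne_of_ne ha'.symm x2.symm, swap_apply_left] at this
      exact ha' this.symm
    · have s := c.support_pow_of_pos_of_lt_orderOf k0 (Finset.mem_range.1 hk)
      have := Finset.card_le_card (support_mul_le (swap a (x a)) (swap (x a) (x (x a))))
      have l := Finset.card_union_le (swap a (x a)).support (swap (x a) (x (x a))).support
      rw [← e, s, sx, Finset.sup_eq_union] at this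
      rw [card_support_swap ha'.symm, card_support_swap (mem_support.1 xa).symm] at l
      omega
  · have := (MulAction.mem_stabilizer_finset.1 m (x a)).2 xa
    rw [Perm.smul_def, mul_apply, swap_apply_right, swap_apply_left] at this
    exact Finset.mem_compl.1 hw this
  · exact MulAction.mem_stabilizer_finset.2 fun b =>
      mem_support_iff_of_commute (mem_centralizer_singleton_iff.1 hg) b
  · refine MulAction.mem_stabilizer_finset.2 fun b => ?_
    rw [← sy, ← sy]
    exact mem_support_iff_of_commute (mem_centralizer_singleton_iff.1 hg) b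

theorem result (n : ℕ) :
    (5 ≤ n → ¬ ∃ 𝓐 : Finset (Subgroup ↥(alternatingGroup (Fin n))), ((∀ A ∈ 𝓐, A ≠ ⊤) ∧ (∀ g : ↥(alternatingGroup (Fin n)), ∃ A ∈ 𝓐, g ∈ A)) ∧ (∀ 𝓑 : Finset (Subgroup ↥(alternatingGroup (Fin n))), (∀ A ∈ 𝓑, A ≠ ⊤) ∧ (∀ g : ↥(alternatingGroup (Fin n)), ∃ A ∈ 𝓑, g ∈ A) → 𝓐.card ≤ 𝓑.card) ∧ (∀ A ∈ 𝓐, Group.IsNilpotent ↥A)) ∧
    (4 ≤ n → ¬ ∃ 𝓐 : Finset (Subgroup (Equiv.Perm (Fin n))), ((∀ A ∈ 𝓐, A ≠ ⊤) ∧ (∀ g : (Equiv.Perm (Fin n)), ∃ A ∈ 𝓐, g ∈ A)) ∧ (∀ 𝓑 : Finset (Subgroup (Equiv.Perm (Fin n))), (∀ A ∈ 𝓑, A ≠ ⊤) ∧ (∀ g : (Equiv.Perm (Fin n)), ∃ A ∈ 𝓑, g ∈ A) → 𝓐.card ≤ 𝓑.card) ∧ (∀ A ∈ 𝓐, Group.IsNilpotent ↥A)) := by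
  refine ⟨fun hn => ?_, fun hn => ?_⟩
  · by_cases h : 6 ≤ n
    · obtain ⟨p, hp, h2, x, y, z, hx, hy, hz, ox, oy, hxy, K, hK, h1, h3⟩ := big h
      refine key hp (fun c => h2 (c.trans (card_subgroup_dvd_card _))) (x := ⟨x, hx⟩) (y := ⟨y, hy⟩)
        (by rw [orderOf_mk, ox]) (by rw [orderOf_mk, oy])
        (fun ⟨k, hk⟩ => hxy ⟨k, congrArg Subtype.val hk⟩) (K := K.subgroupOf _)
        (fun e => hK (show (⟨z, hz⟩ : alternatingGroup (Fin n)) ∈ K.subgroupOf _ from e ▸ mem_top _))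
        (fun g hg => h1 ?_) (fun g hg => h3 ?_) <;>
      exact mem_centralizer_singleton_iff.2 (congrArg Subtype.val (mem_centralizer_singleton_iff.1 hg))
    obtain rfl : n = 5 := by omega
    have m1 : swap (0 : Fin 5) 1 * swap 1 2 ∈ alternatingGroup (Fin 5) := mem_alternatingGroup.2 (by decide)
    have m2 : swap (0 : Fin 5) 1 * swap 1 3 ∈ alternatingGroup (Fin 5) := mem_alternatingGroup.2 (by decide)
    refine key (G := alternatingGroup (Fin 5)) Nat.prime_three (by rw [nat_card_alternatingGroup]; simp [Nat.factorial])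
      (x := ⟨swap (0 : Fin 5) 1 * swap 1 2, m1⟩)
      (y := ⟨swap (0 : Fin 5) 1 * swap 1 3, m2⟩)
      (by rw [orderOf_mk]; exact orderOf_eq_prime (by decide) (by decide))
      (by rw [orderOf_mk]; exact orderOf_eq_prime (by decide) (by decide))
      (fun ⟨k, hk⟩ => ?_) (K := MulAction.stabilizer _ (4 : Fin 5)) (fun e => ?_) (fun g hg => ?_)
      (fun g hg => ?_)
    · have := DFunLike.congr_fun (congrArg Subtype.val hk) 3
      simp only [SubgroupClass.coe_zpow] at this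
      rw [zpow_apply_eq_self_of_apply_eq_self (by decide)] at this
      revert this; decide
    · have : (⟨swap 0 1 * swap 1 4, mem_alternatingGroup.2 (by decide)⟩ : alternatingGroup (Fin 5)) ∈
        MulAction.stabilizer _ (4 : Fin 5) := e ▸ mem_top _
      revert this; rw [MulAction.mem_stabilizer_iff]; decide
    · exact (by decide +kernel : ∀ g : Perm (Fin 5), sign g = 1 →
        g * (swap 0 1 * swap 1 2) = swap 0 1 * swap 1 2 * g → g 4 = 4) g g.2
        (congrArg Subtype.val (mem_centralizer_singleton_iff.1 hg))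
    · exact (by decide +kernel : ∀ g : Perm (Fin 5), sign g = 1 →
        g * (swap 0 1 * swap 1 3) = swap 0 1 * swap 1 3 * g → g 4 = 4) g g.2
        (congrArg Subtype.val (mem_centralizer_singleton_iff.1 hg))
  by_cases h : 6 ≤ n
  · obtain ⟨p, hp, h2, x, y, z, hx, hy, hz, ox, oy, hxy, K, hK, h1, h3⟩ := big h
    exact key hp h2 ox oy hxy (K := K) (fun e => hK (e ▸ mem_top _)) h1 h3
  have : n = 4 ∨ n = 5 := by omega
  rcases this with rfl | rfl
  · refine key Nat.prime_three (by simp [Fintype.card_perm, Nat.factorial])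
      (x := swap 0 1 * swap 1 2) (y := swap 0 1 * swap 1 3)
      (orderOf_eq_prime (by decide) (by decide)) (orderOf_eq_prime (by decide) (by decide))
      (fun ⟨k, hk⟩ => ?_) (K := alternatingGroup _) (fun e => ?_) (fun g hg => ?_) (fun g hg => ?_)
    · have := DFunLike.congr_fun hk 3
      rw [zpow_apply_eq_self_of_apply_eq_self (by decide)] at this
      revert this; decide
    · have : swap 0 1 ∈ alternatingGroup (Fin 4) := e ▸ mem_top _
      revert this; rw [mem_alternatingGroup]; decide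
    · exact (by decide +kernel : ∀ g : Perm (Fin 4),
        g * (swap 0 1 * swap 1 2) = swap 0 1 * swap 1 2 * g → sign g = 1) g
        (mem_centralizer_singleton_iff.1 hg)
    · exact (by decide +kernel : ∀ g : Perm (Fin 4),
        g * (swap 0 1 * swap 1 3) = swap 0 1 * swap 1 3 * g → sign g = 1) g
        (mem_centralizer_singleton_iff.1 hg)
  · have := Fact.mk Nat.prime_five
    have k := (by decide +kernel : ∀ g : Perm (Fin 5), g * finRotate 5 = finRotate 5 * g →
      sign g = 1 ∧ g ≠ swap 0 1 * finRotate 5 * swap 0 1)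
    refine key Nat.prime_five (by simp [Fintype.card_perm, Nat.factorial])
      (x := finRotate 5) (y := swap 0 1 * finRotate 5 * swap 0 1)
      (orderOf_eq_prime (by decide) (by decide)) (orderOf_eq_prime (by decide) (by decide))
      (fun ⟨j, hk⟩ => ?_) (K := alternatingGroup _) (fun e => ?_) (fun g hg => ?_) (fun g hg => ?_)
    · exact (k _ (Commute.zpow_self _ j)).2 hk
    · have : swap 0 1 ∈ alternatingGroup (Fin 5) := e ▸ mem_top _
      revert this; rw [mem_alternatingGroup]; decide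
    · exact (k g (mem_centralizer_singleton_iff.1 hg)).1
    · exact (by decide +kernel : ∀ g : Perm (Fin 5), g * (swap 0 1 * finRotate 5 * swap 0 1) =
        swap 0 1 * finRotate 5 * swap 0 1 * g → sign g = 1) g (mem_centralizer_singleton_iff.1 hg)

end Cfsg.Agent.S3892
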