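import Cfsg.Statements.S3893
import Cfsg.Agent.H26.SzSub2

set_option autoImplicit false
open Cfsg

namespace Cfsg.Agent.S3893

theorem aux {G : Type*} [Group G] {F : Type*} [Field F] [Fintype F] {m : ℕ} (N : H26.SzModel G F m)
    {A : Subgroup G} (hA : Group.IsNilpotent A) {x : G} (hx : x ∈ A) (h1 : x ≠ 1) {U : Subgroup G}
    (hU : N.IsPart U) (hxU : x ∈ U) : A ≤ U := by
  have : Nontrivial A := ⟨⟨⟨x, hx⟩, 1, fun e => h1 (congrArg Subtype.val e)⟩⟩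
  obtain ⟨⟨z, hz⟩, hz1⟩ := Subgroup.ne_bot_iff_exists_ne_one.1 (Group.IsNilpotent.center_ne_bot A)
  have hz1' : (z : G) ≠ 1 := fun e => hz1 (Subtype.ext (Subtype.ext e))
  have hc : ∀ y ∈ A, y * z = z * y := fun y hy =>
    congrArg Subtype.val (Subgroup.mem_center_iff.1 hz ⟨y, hy⟩)
  exact fun y hy => hU.mem_of_comm (hU.mem_of_comm hxU h1 (hc x hx).symm) hz1' (hc y hy)


/-- A cover of a group is a finite set of proper subgroups whose union is the whole group; it is minimal when no cover has fewer members, and nilpotent when all its members are nilpotent. The Suzuki groups Sz(q), q = 2^(2m+1) with m ≥ 1, have no nilpotent minimal cover. -/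
theorem result {F : Type*} [Field F] [Fintype F] (m : ℕ) (hm : 1 ≤ m) (hF : Fintype.card F = 2 ^ (2 * m + 1)) :
    ¬ ∃ 𝓐 : Finset (Subgroup ↥(Cfsg.Lie.Sz F (2 ^ (m + 1)))), ((∀ A ∈ 𝓐, A ≠ ⊤) ∧ (∀ g : ↥(Cfsg.Lie.Sz F (2 ^ (m + 1))), ∃ A ∈ 𝓐, g ∈ A)) ∧ (∀ 𝓑 : Finset (Subgroup ↥(Cfsg.Lie.Sz F (2 ^ (m + 1)))), (∀ A ∈ 𝓑, A ≠ ⊤) ∧ (∀ g : ↥(Cfsg.Lie.Sz F (2 ^ (m + 1))), ∃ A ∈ 𝓑, g ∈ A) → 𝓐.card ≤ 𝓑.card) ∧ (∀ A ∈ 𝓐, Group.IsNilpotent ↥A) := by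
  classical
  let N := H26.Sz.lieModel hm hF
  have := N.finite
  rintro ⟨𝓐, ⟨-, hcov⟩, hmin, hnil⟩
  choose f hf hf' using hcov
  have : Fintype (Subgroup ↥(Cfsg.Lie.Sz F (2 ^ (m + 1)))) := Fintype.ofFinite _
  let 𝓟 : Finset (Subgroup ↥(Cfsg.Lie.Sz F (2 ^ (m + 1)))) := Finset.univ.filter N.IsPart
  let 𝓟' : Finset (Subgroup ↥(Cfsg.Lie.Sz F (2 ^ (m + 1)))) := 𝓟.filter fun U => ∀ k, U ≠ (N.conj k).H
  have hP : ∀ U, U ∈ 𝓟 ↔ N.IsPart U := by simp [𝓟]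
  have h1 : 𝓟.card ≤ 𝓐.card := by
    have : ∀ U : Subgroup ↥(Cfsg.Lie.Sz F (2 ^ (m + 1))), ∃ x, N.IsPart U → x ∈ U ∧ x ≠ 1 := by
      intro U
      by_cases hU : N.IsPart U
      · obtain ⟨⟨x, hx⟩, h1⟩ := Subgroup.ne_bot_iff_exists_ne_one.1 hU.ne_bot
        exact ⟨x, fun _ => ⟨hx, fun e => h1 (Subtype.ext e)⟩⟩
      · exact ⟨1, fun h => absurd h hU⟩
    choose x hx using this
    refine Finset.card_le_card_of_injOn (fun U => f (x U)) (fun U _ => hf _) fun U hU V hV e => ?_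
    have hU' : N.IsPart U := by simpa [𝓟] using hU
    have hV' : N.IsPart V := by simpa [𝓟] using hV
    have e' : f (x U) = f (x V) := e
    exact hU'.unique hV' (hx U hU').2 (hx U hU').1
      (aux N (hnil _ (hf _)) (hf' (x V)) (hx V hV').2 hV' (hx V hV').1 (e' ▸ hf' (x U)))
  have h2 : 𝓟'.card < 𝓟.card := by
    apply Finset.card_lt_card
    refine ⟨Finset.filter_subset _ _, fun h => ?_⟩
    have : (N.conj 1).H ∈ 𝓟 := (hP _).2 (Or.inr (Or.inl ⟨1, rfl⟩))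
    exact (Finset.mem_filter.1 (h this)).2 1 rfl
  have h3 := hmin (𝓟'.image fun U : Subgroup _ => Subgroup.normalizer (U : Set ↥(Cfsg.Lie.Sz F (2 ^ (m + 1))))) ⟨?_, ?_⟩
  · have := Finset.card_image_le (s := 𝓟')
      (f := fun U : Subgroup _ => Subgroup.normalizer (U : Set ↥(Cfsg.Lie.Sz F (2 ^ (m + 1)))))
    omega
  · intro A hA
    obtain ⟨U, hU, rfl⟩ := Finset.mem_image.1 hA
    exact H26.SzModel.IsPart.normalizer_ne_top (M := N) (by simpa [𝓟] using (Finset.mem_filter.1 hU).1)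
  · intro g
    have hQ : ∀ k, (N.conj k).Q ∈ 𝓟' := fun k => Finset.mem_filter.2
      ⟨(hP _).2 (Or.inl ⟨k, rfl⟩), fun l e => (N.conj k).not_mem_H_of_mem_Q (N.conj l)
        (x := (N.conj k).u 0 1) (by simp [H26.SzModel.u_eq_one_iff]) ((N.conj k).u_mem_Q _ _)
        (e ▸ (N.conj k).u_mem_Q _ _)⟩
    rcases N.elt_cases g with h | ⟨k, h⟩ | ⟨k, h⟩
    · have hg : g ∈ Subgroup.centralizer {g} := Subgroup.mem_centralizer_singleton_iff.2 rfl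
      exact ⟨_, Finset.mem_image_of_mem _ (Finset.mem_filter.2 ⟨(hP _).2 (Or.inr (Or.inr ⟨g, h, rfl⟩)),
        fun l e => N.not_fpf_of_mem_conj_B ((N.conj l).H_le_B (e ▸ hg)) h⟩), Subgroup.le_normalizer hg⟩
    · exact ⟨_, Finset.mem_image_of_mem _ (hQ k), Subgroup.le_normalizer h⟩
    · exact ⟨_, Finset.mem_image_of_mem _ (hQ k), by
        rw [H26.SzModel.normalizer_Q]; exact (N.conj k).H_le_B h⟩

end Cfsg.Agent.S3893
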