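import Cfsg.Statements.S3894
import Cfsg.Agent.Lead.NC

set_option autoImplicit false
open Cfsg

namespace Cfsg.Agent.S3894
open Lead.NC Matrix in


/-- A cover of a group is a finite set of proper subgroups whose union is the whole group; it is minimal when no cover has fewer members, and nilpotent when all its members are nilpotent. Let F be a finite field with q elements and n ≥ 3, or n = 2 and q ≥ 4. Then no subgroup of PGL_n(F) = GL_n(F)/Z(GL_n(F)) containing the image of SL_n(F) has a nilpotent minimal cover. -/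
theorem result {F : Type*} [Field F] [Fintype F] (n : ℕ) (hn : 3 ≤ n ∨ (n = 2 ∧ 4 ≤ Fintype.card F))
    (G : Subgroup (GL (Fin n) F ⧸ Subgroup.center (GL (Fin n) F)))
    (hG : ((Matrix.SpecialLinearGroup.toGL : Matrix.SpecialLinearGroup (Fin n) F →* GL (Fin n) F).range).map
      (QuotientGroup.mk' (Subgroup.center (GL (Fin n) F))) ≤ G) :
    ¬ ∃ 𝓐 : Finset (Subgroup ↥G), ((∀ A ∈ 𝓐, A ≠ ⊤) ∧ (∀ g : ↥G, ∃ A ∈ 𝓐, g ∈ A)) ∧ (∀ 𝓑 : Finset (Subgroup ↥G), (∀ A ∈ 𝓑, A ≠ ⊤) ∧ (∀ g : ↥G, ∃ A ∈ 𝓑, g ∈ A) → 𝓐.card ≤ 𝓑.card) ∧ (∀ A ∈ 𝓐, Group.IsNilpotent ↥A) := by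
  classical
  rintro ⟨𝓐, ⟨hp, hc⟩, hm, hnil⟩
  obtain ⟨p, _, _⟩ : ∃ p, Fact p.Prime ∧ CharP F p := ⟨_, ⟨CharP.char_is_prime F (ringChar F)⟩, inferInstance⟩
  haveI : Nontrivial (Fin n) := Fin.nontrivial_iff_two_le.2 (by omega)
  have hS : ∀ u : SpecialLinearGroup (Fin n) F, ∃ A ∈ 𝓐, u.toGL ∈ up A := fun u => by
    obtain ⟨A, h, h'⟩ := hc ⟨_, hG ⟨_, ⟨u, rfl⟩, rfl⟩⟩
    exact ⟨A, h, mem_up.1 h'⟩
  have hB : ∀ v, v ≠ 0 → B G v ≠ ⊤ := fun v hv e => by
    obtain ⟨g, hg⟩ := exists_not_mem hv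
    exact hg ((mem_B (h := hG ⟨_, ⟨g, rfl⟩, rfl⟩)).1 (e ▸ Subgroup.mem_top _))
  rcases hn with hn | ⟨rfl, hq⟩
  · have key : ∀ e : Fin n ≃ Fin n, e ⟨0, by omega⟩ = ⟨0, by omega⟩ → ∃ A ∈ 𝓐, A ≤ B G (Pi.single ⟨0, by omega⟩ 1) ∧
        ∃ u ∈ up A, (∃ k, u ^ p ^ k = 1) ∧ ∀ w, w ᵥ* u.1 = w → ∀ i, (e i : ℕ) + 1 < n → w i = 0 := fun e he => by
      obtain ⟨u, h1, k, h2⟩ := exists_unip (p := p) (J_nil (F := F) e)
      obtain ⟨A, hA, h3⟩ := hS u
      haveI := up_nil (hnil A hA)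
      refine ⟨A, hA, le_B.2 (le_St h3 h2 fun w hw => ⟨w ⟨0, by omega⟩, funext fun j => ?_⟩), _, h3, ⟨k, h2⟩,
        fun w hw i hi => ?_⟩
      · change u.1 *ᵥ w = w at hw
        rw [h1, add_mulVec, one_mulVec, add_eq_left] at hw
        by_cases hj : j = ⟨0, by omega⟩
        · simp [hj]
        · have : (e j : ℕ) ≠ 0 := fun h => hj (e.injective ((Fin.ext h).trans he.symm))
          rw [← J_col e w (i := e.symm ⟨e j - 1, by omega⟩) (j := j) (by simp; omega), hw]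
          simp [hj]
      · change w ᵥ* u.1 = w at hw
        rw [h1, vecMul_add, vecMul_one, add_eq_left] at hw
        rw [← J_row e w (i := i) (j := e.symm ⟨_, hi⟩) (by simp), hw]; rfl
    obtain ⟨A, hA, h1, u, h2, ⟨k, h3⟩, h4⟩ := key (Equiv.refl _) rfl
    obtain ⟨A', hA', h1', u', h2', ⟨k', h3'⟩, h4'⟩ := key (Equiv.swap ⟨n - 2, by omega⟩ ⟨n - 1, by omega⟩)
      (Equiv.swap_apply_of_ne_of_ne (Fin.ne_of_val_ne (by simp; omega)) (Fin.ne_of_val_ne (by simp; omega)))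
    have hne : A ≠ A' := by
      rintro rfl
      haveI := up_nil (hnil A hA)
      obtain ⟨w, hw, e, e'⟩ := dual h2 h2' h3 h3'
      refine hw (funext fun i => ?_)
      by_cases hi : (i : ℕ) + 1 < n
      · exact h4 w e i hi
      · refine h4' w e' i ?_
        rw [show i = ⟨n - 1, by omega⟩ from Fin.ext (by have := i.2; simp; omega), Equiv.swap_apply_right]
        simp; omega
    refine shrink hm (fun X => if X = A then B G (Pi.single ⟨0, by omega⟩ 1) else X) (fun X hX => ?_) hA' fun g => ?_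
    · split_ifs
      exacts [hB _ (by simp), hp X hX]
    · obtain ⟨X, hX, hg⟩ := hc g
      by_cases h : X = A' ∨ X = A
      · refine ⟨A, hA, hne, ?_⟩
        rw [if_pos rfl]
        rcases h with rfl | rfl
        exacts [h1' hg, h1 hg]
      · exact ⟨X, hX, fun e => h (Or.inl e), by rwa [if_neg fun e => h (Or.inr e)]⟩
  · obtain ⟨r, s, hr, hs, hr', ⟨m, hm'⟩, hrs⟩ := primes hq
    obtain ⟨d, hd, hd'⟩ := split (F := F) hr hr'
    obtain ⟨S, hS1, hS2⟩ := hS d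
    haveI := up_nil (hnil S hS1)
    have hcm : ∀ x ∈ up S, ∀ t, x ^ t = 1 → r.Coprime t → x.1 0 1 = 0 ∧ x.1 1 0 = 0 := fun x hx t h1 h2 => by
      have := H1.commute_of_coprime_orderOf (a := (⟨_, hS2⟩ : up S)) (b := ⟨x, hx⟩)
        ((h2.coprime_dvd_left (orderOf_dvd_of_pow_eq_one (Subtype.ext hd))).coprime_dvd_right
          (orderOf_dvd_of_pow_eq_one (Subtype.ext h1)))
      exact hd' x (congrArg Subtype.val this.eq)
    refine shrink hm (fun X => if h : ∃ v, v ≠ 0 ∧ X ≤ B G v then B G h.choose else X) (fun X hX => ?_) hS1 ?_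
    · split_ifs with h
      exacts [hB _ h.choose_spec.1, hp X hX]
    rintro ⟨g, hg⟩
    obtain ⟨g, rfl⟩ := QuotientGroup.mk_surjective g
    by_cases h : ∃ v, v ≠ 0 ∧ g ∈ St v
    · obtain ⟨v, hv, h⟩ := h
      obtain ⟨u, ⟨k, h1⟩, h2, h3⟩ := transv (p := p) hv
      obtain ⟨A, hA, h4⟩ := hS u
      haveI := up_nil (hnil A hA)
      have h5 : ∃ v, v ≠ 0 ∧ A ≤ B G v := ⟨v, hv, le_B.2 (le_St h4 h1 fun w hw => h3 w 1 (hw.trans (one_smul _ _).symm))⟩
      refine ⟨A, hA, ?_, ?_⟩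
      · rintro rfl
        have := hcm _ h4 _ h1 (by
          obtain ⟨j, hj, e⟩ := FiniteField.card F p
          refine Nat.Coprime.pow_right _ (Nat.Coprime.coprime_dvd_left hr' (Nat.Coprime.coprime_dvd_right
            (e ▸ dvd_pow_self p j.ne_zero) ?_))
          obtain ⟨t, ht⟩ : ∃ t, Fintype.card F = t + 1 := ⟨Fintype.card F - 1, by omega⟩
          simp [ht])
        exact h2.elim (fun h => h this.1) fun h => h this.2
      · rw [dif_pos h5, mem_B]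
        obtain ⟨c, hc⟩ := le_B.1 h5.choose_spec.2 h4
        obtain ⟨t, ht⟩ := h3 _ c hc
        rw [ht, St_smul fun e => h5.choose_spec.1 (by rw [ht, e, zero_smul])]
        exact h
    · obtain ⟨y, h1, h2, z, h3, h4, h5⟩ := ell (fun v hv hg => h ⟨v, hv, hg⟩) (hm'.trans (mul_comm _ _))
      have hz : z ∈ G.comap (QuotientGroup.mk' _) := (Subgroup.closure_le _).2 (by
        rintro _ (rfl | rfl)
        exacts [hg, hG ⟨_, ⟨y, rfl⟩, rfl⟩]) h3
      obtain ⟨A, hA, h6⟩ := hc ⟨_, hz⟩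
      have h7 := Subgroup.zpowers_le.2 (mem_up.1 h6)
      refine ⟨A, hA, ?_, ?_⟩
      · rintro rfl
        have := h2 (hcm _ (h7 h5) s (h1 ▸ pow_orderOf_eq_one _) hrs).2
        exact absurd (Nat.le_of_dvd two_pos (h1 ▸ orderOf_dvd_of_pow_eq_one this)) (by omega)
      · rw [dif_neg fun ⟨v, hv, e⟩ => h ⟨v, hv, le_B.1 e (h7 h4)⟩]
        exact mem_up.2 (h7 h4)

end Cfsg.Agent.S3894
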