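import Cfsg.Statements.S3914
import Cfsg.Agent.H15.CJ2
import Cfsg.Agent.H26.JRc
import Cfsg.Agent.H26.JRU

set_option autoImplicit false
open Cfsg

namespace Cfsg.Agent.S3914

/-- Let G be a finite group in which any two abelian subgroups of the same order are conjugate. If M is a non-abelian simple normal subgroup of G, then M is isomorphic to SL₂(2^f) with f ∈ {2, 3, 5}, or to PSL₂(q) for a prime power q ≥ 5 with q ≡ 3 or 5 (mod 8), or to the first Janko group J₁. -/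
theorem result {G : Type*} [Group G] [Finite G] (hB : ∀ A B : Subgroup G, IsMulCommutative ↥A → IsMulCommutative ↥B → Nat.card ↥A = Nat.card ↥B → ∃ g : G, B = A.map (MulAut.conj g).toMonoidHom) (M : Subgroup G) [M.Normal] (hs : IsSimpleGroup ↥M) (hna : ¬ IsMulCommutative ↥M) :
    (∃ (F : Type) (_ : Field F) (_ : Fintype F), (Fintype.card F = 2 ^ 2 ∨ Fintype.card F = 2 ^ 3 ∨ Fintype.card F = 2 ^ 5) ∧
        Nonempty (↥M ≃* Matrix.SpecialLinearGroup (Fin 2) F)) ∨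
    (∃ (F : Type) (_ : Field F) (_ : Fintype F), 5 ≤ Fintype.card F ∧ (Fintype.card F % 8 = 3 ∨ Fintype.card F % 8 = 5) ∧
        Nonempty (↥M ≃* Matrix.ProjectiveSpecialLinearGroup (Fin 2) F)) ∨
    Cfsg.Spor.IsoJ1 ↥M := by
  have h : H15.CJ.AJ (H15.CJ.Inn G) := fun p hp A B h1 h2 =>
    let ⟨g, e⟩ := hB A B (H15.CJ.comm_of_card hp h2) (H15.CJ.comm_of_card hp (h1 ▸ h2)) h1
    ⟨_, ⟨g, rfl⟩, e⟩
  rcases (h.normal M).simple hs hna with ⟨F, _, _, h1, ⟨e⟩⟩ |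
    ⟨F, _, _, p, n, -, h1, h2, h3, h4, e⟩ | ⟨S, p, n, ρ, τ, f, j, k⟩
  · obtain ⟨n, hn, h2⟩ : ∃ n, n ≠ 0 ∧ Fintype.card F = 2 ^ n :=
      h1.elim (fun k => ⟨3, by decide, k⟩) fun k => ⟨5, by decide, k.1⟩
    obtain ⟨f⟩ := H15.CJ.psl_sl h2 hn
    exact Or.inl ⟨F, _, _, Or.inr (h1.imp_right And.left), ⟨e.trans f⟩⟩
  · refine Or.inr (Or.inl ⟨F, _, inferInstance, h1 ▸ h4, ?_, e⟩)
    rw [h1, Nat.pow_mod]
    rcases h2 with rfl | rfl <;> rcases h3 with k | k <;> simp [k]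
  · obtain rfl := j.three_or.resolve_left k
    exact Or.inr (Or.inr j.isoJ1)

end Cfsg.Agent.S3914
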