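import Cfsg.Statements.S3918
import Cfsg.Agent.H7.PGrp2

set_option autoImplicit false
open Cfsg

namespace Cfsg.Agent.S3918



/-- Say that a group has self-centralizing non-cyclic subgroups when every non-cyclic subgroup H satisfies C_G(H) ≤ H. For an odd prime p, a finite non-abelian p-group has self-centralizing non-cyclic subgroups if and only if it has order p³. -/
theorem result {G : Type*} [Group G] [Finite G] {p : ℕ} [Fact p.Prime] (hp : p ≠ 2) (hG : IsPGroup p G) (hna : ¬ IsMulCommutative G) :
    (∀ H : Subgroup G, ¬ IsCyclic ↥H → Subgroup.centralizer (H : Set G) ≤ H) ↔ Nat.card G = p ^ 3 := by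
  have hp0 := (Fact.out : p.Prime)
  constructor
  · intro h
    have hnc : ¬ IsCyclic (⊤ : Subgroup G) := fun h => by
      rw [H9.isCyclic_iff_top] at h
      exact hna inferInstance
    obtain ⟨V, -, hVn, hV, hc⟩ := H9.exists_normal_rank_two hp hG ⊤ hnc
    have h1 := h V (H9.not_isCyclic_of_elementary hV.2 (by
      rw [hc, sq]; exact lt_mul_of_one_lt_left hp0.pos hp0.one_lt))
    have h2 := H7.index_centralizer_le_of_card_sq hG V hc
    refine le_antisymm ?_ (H7.cube_le_card_of_not_comm hG hna)
    rw [← Subgroup.card_mul_index (Subgroup.centralizer (V : Set G)), pow_succ, ← hc]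
    exact Nat.mul_le_mul (Subgroup.card_le_of_le h1) h2
  · intro h H hH
    by_contra hle
    have h1 := H7.sq_le_card_of_not_isCyclic (hG.to_subgroup H) hH
    have h2 : H < H ⊔ Subgroup.centralizer (H : Set G) :=
      left_lt_sup.2 hle
    have h3 := H7.mul_card_le_of_lt (hG.to_subgroup _) h2
    have h4 := Subgroup.card_le_card_group (H ⊔ Subgroup.centralizer (H : Set G))
    have h5 : Nat.card H ≤ p ^ 2 := by
      refine Nat.le_of_mul_le_mul_left (h3.trans (h4.trans ?_)) hp0.pos
      rw [h, pow_succ']
    haveI := H7.isMulCommutative_of_card_le_sq (hG.to_subgroup H) h5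
    rw [sup_eq_right.2 H.le_centralizer] at h3
    have h6 : Subgroup.centralizer (H : Set G) = ⊤ := by
      refine Subgroup.eq_top_of_le_card _ (le_trans ?_ h3)
      rw [h, pow_succ']
      exact Nat.mul_le_mul_left _ h1
    have h7 := Subgroup.card_le_of_le (Subgroup.centralizer_eq_top_iff_subset.1 h6 : H ≤ Subgroup.center G)
    have h8 := Nat.mul_le_mul (h1.trans h7) (H7.sq_le_index_center hG hna)
    rw [Subgroup.card_mul_index, h, ← pow_add, Nat.pow_le_pow_iff_right hp0.one_lt] at h8
    omega

end Cfsg.Agent.S3918
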