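import Cfsg.Statements.S3921
import Cfsg.Agent.H1.CIT15

set_option autoImplicit false
open Cfsg

namespace Cfsg.Agent.S3921

open H1.CIT

theorem aux {q k r : ℕ} (hq : q.Prime) (h : q = 2 ^ k + 1 ∨ q = 2 ^ k - 1) (hr : r.Prime) (r2 : r ≠ 2) :
    ¬ (2 * r ∣ q ∨ 2 * r ∣ (q - 1) / Nat.gcd 2 (q - 1) ∨ 2 * r ∣ (q + 1) / Nat.gcd 2 (q - 1)) := by
  have h1 : ¬ r ∣ 2 ^ k := fun e =>
    r2 ((Nat.prime_dvd_prime_iff_eq hr Nat.prime_two).1 (hr.dvd_of_dvd_pow e))
  have h2 := hr.two_le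
  rcases hq.eq_two_or_odd with rfl | ho
  · rintro (e | e | e) <;> have := Nat.le_of_dvd (by norm_num) e <;> norm_num at this <;> omega
  have h3 := hq.two_le
  rw [H4.gcd_eq_two ho, Nat.dvd_div_iff_mul_dvd (by omega), Nat.dvd_div_iff_mul_dvd (by omega)]
  have h4 : k ≤ 1 ∨ 4 ∣ 2 ^ k := (le_or_gt k 1).imp_right (pow_dvd_pow 2 (n := k) (m := 2))
  have h5 : 2 ^ k ≤ 2 ∨ 4 ∣ 2 ^ k := h4.imp_left (Nat.pow_le_pow_right (n := 2) (j := 1) (by norm_num))
  rintro (e | e | e)
  · have := (dvd_mul_right _ _).trans e; omega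
  all_goals
    rw [← mul_assoc] at e
    have h6 := (dvd_mul_right _ _).trans e
    have h7 := (dvd_mul_left _ _).trans e
    have h8 := Nat.le_of_dvd (by omega) e
  · rcases h with h | h
    · exact h1 ((show q - 1 = 2 ^ k by omega) ▸ h7)
    · omega
  · rcases h with h | h
    · omega
    · exact h1 ((show q + 1 = 2 ^ k by omega) ▸ h7)

/-- Say that a group has self-centralizing non-cyclic subgroups when every non-cyclic subgroup H satisfies C_G(H) ≤ H. A non-abelian finite simple group has self-centralizing non-cyclic subgroups if and only if it is isomorphic to PSL₂(q) with q = 4, q = 9, or q a prime of the form 2^k + 1 or 2^k − 1. -/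
theorem result {G : Type*} [Group G] [Finite G] [IsSimpleGroup G] (hna : ¬ IsMulCommutative G) :
    (∀ H : Subgroup G, ¬ IsCyclic ↥H → Subgroup.centralizer (H : Set G) ≤ H) ↔ ∃ (F : Type) (_ : Field F) (_ : Fintype F),
      (Fintype.card F = 4 ∨ Fintype.card F = 9 ∨ ((Fintype.card F).Prime ∧ ∃ k : ℕ, Fintype.card F = 2 ^ k + 1 ∨ Fintype.card F = 2 ^ k - 1)) ∧
      Nonempty (G ≃* Matrix.ProjectiveSpecialLinearGroup (Fin 2) F) := by
  refine ⟨fun h => ?_, ?_⟩
  · have key : ∀ {k : ℕ}, 2 ≤ k → 2 ^ (k + 1) ∣ Nat.card G → El G (2 ^ k) := fun hk e =>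
      SCy.el_four h (H8.exists_four_of_simple hna) ((pow_dvd_pow 2 (show 3 ≤ _ by omega)).trans e) e
    rcases (SCy.cit h hna).simple hna with (⟨F, i1, i2, n, h1, h2, ⟨f⟩⟩ | ⟨F, i1, i2, n, h1, h2, ⟨f⟩⟩) |
      ⟨F, i1, i2, k, h1, h2, h3, hf⟩ | ⟨⟨f⟩⟩
    · refine ⟨F, i1, i2, .inl ?_, ⟨f⟩⟩
      obtain rfl | h3 := h1.eq_or_lt
      · exact h2
      have := (el_psl_even h1 h2).1 ((El.congr f).1 (key le_rfl (by
        rw [Nat.card_congr f.toEquiv, card_psl_even (by omega) h2]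
        exact (pow_dvd_pow 2 h3).mul_right _)))
      have := four_le_pow h1
      have : 4 ∣ 2 ^ n := pow_dvd_pow 2 h1
      omega
    · have M := H26.Sz.lieModel h1 h2
      have := (el_sz M h2).1 ((El.congr f).1 (key (k := 3) (by norm_num) (by
        rw [Nat.card_congr f.toEquiv, M.card_G, h2, ← pow_mul]
        exact ((pow_dvd_pow 2 (by omega)).mul_right _).mul_right _)))
      have e1 : 2 ^ (n + 1) < 2 ^ (2 * n + 1) := Nat.pow_lt_pow_right (by norm_num) (by omega)
      have e2 : 2 ∣ 2 ^ (n + 1) := dvd_pow_self 2 (by omega)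
      have e3 : 2 ∣ 2 ^ (2 * n + 1) := dvd_pow_self 2 (by omega)
      have e4 : 0 < 2 ^ (n + 1) := by positivity
      omega
    · exact ⟨F, i1, i2, .inr (h3.imp_right fun h3 => ⟨h3, k, by omega⟩), hf⟩
    · have := el_psl34.1 ((El.congr f).1 (key (k := 3) (by norm_num) (by
        rw [Nat.card_congr f.toEquiv, card_psl34]; norm_num)))
      norm_num at this
  rintro ⟨F, i1, i2, h, ⟨f⟩⟩
  refine SCy.inj (f := f.toMonoidHom) ?_ f.injective
  rcases h with h | h | ⟨h, k, hk⟩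
  · refine scy_psl (cit_of_el fun r hr r2 e => ?_) Nat.prime_two (by simp [h])
    have := hr.two_le
    rcases (el_psl_even (n := 2) le_rfl h).1 e with e | e | e <;>
      have := Nat.le_of_dvd (by norm_num) e <;> omega
  · refine scy_psl (cit_of_el fun r hr r2 e => ?_) Nat.prime_three (by simp [h])
    have := hr.two_le
    rcases (el_psl_odd (n := 2) Nat.prime_three (by norm_num) h (by omega)).1 e with e | e | e <;>
      have := Nat.le_of_dvd (by omega) e <;> omega
  · refine scy_psl (cit_of_el fun r hr r2 ⟨x, e⟩ => ?_) h (dvd_pow_self _ two_ne_zero)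
    have := Fact.mk h
    have := charP_of_card_eq_prime_pow (R := F) (pow_one _).symm
    exact aux h hk hr r2 (e ▸ H4.orderOf_psl_cases _ x)

end Cfsg.Agent.S3921
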