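import Cfsg.Statements.S3940
import Cfsg.Agent.H12.PNil
import Cfsg.Agent.H10.GSF
import Cfsg.Agent.H8.FTc

set_option autoImplicit false
open Cfsg

namespace Cfsg.Agent.S3940

open Cfsg Subgroup H10 H4 H12

universe u

theorem small {G : Type*} [Group G] [Finite G] {p : ℕ} (hp : p.Prime) (hp3 : 3 < p) (h : PNil p G)
    (h8 : ¬ 8 ∣ Nat.card G) : Group.IsSolvable G := by
  haveI := Fact.mk Nat.prime_two
  obtain ⟨T, hT⟩ := exists_isSylowIn 2 (⊤ : Subgroup G)
  obtain ⟨k, hk⟩ := IsPGroup.iff_card.1 hT.isPGroup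
  have hk2 : k ≤ 2 := by
    by_contra hk2
    exact h8 (((pow_dvd_pow 2 (show 3 ≤ k by omega)).trans hk.symm.dvd).trans (card_subgroup_dvd_card T))
  have hT4 : Nat.card T ≤ 4 := hk ▸ (Nat.pow_le_pow_right two_pos hk2)
  have hTC : T ≤ CC(T) := by
    rw [le_centralizer_iff_isMulCommutative]
    interval_cases k
    · haveI := (Nat.card_eq_one_iff_unique.1 hk).1
      exact ⟨⟨fun a b => Subsingleton.elim _ _⟩⟩
    · haveI := isCyclic_of_prime_card (p := 2) hk
      infer_instance
    · exact IsPGroup.isMulCommutative_of_card_eq_prime_sq (p := 2) hk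
  suffices hs : ⊤ ⊓ NN(T) ≤ CC(T) from
    haveI := solv_of_burnside hT hs
    Group.isSolvable_of_surjective (f := (topEquiv (G := G)).toMonoidHom) topEquiv.surjective
  rw [top_inf_eq, ← relIndex_eq_one]
  by_contra hne
  obtain ⟨r, hr, hd⟩ := Nat.exists_prime_and_dvd hne
  haveI := Fact.mk hr
  have h24 : r ∣ (Nat.card T).factorial := by
    classical
    refine (hd.trans (relIndex_CC_dvd le_rfl)).trans ?_
    haveI := Fintype.ofFinite T
    rw [Nat.card_eq_fintype_card (α := T), ← Fintype.card_perm, ← Nat.card_eq_fintype_card]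
    exact card_dvd_of_injective (MulAut.toPerm T) fun a b e => MulEquiv.toEquiv_injective e
  have hr4 : r ≤ 4 := (hr.dvd_factorial.1 h24).trans hT4
  obtain ⟨R, hR⟩ := exists_isSylowIn r NN(T)
  have hRC : R ≤ CC(T) := by
    by_cases h2 : r = 2
    · subst h2
      exact (hT.le_of_le_NN hR.isPGroup le_top hR.le).trans hTC
    obtain ⟨l, hl⟩ := IsPGroup.iff_card.1 hR.isPGroup
    have hr3 : r = 3 := by
      have := hr.two_le
      interval_cases r
      · exact absurd rfl h2
      · rfl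
      · exact absurd hr (by norm_num)
    subst hr3
    refine h.le_CC hR.le ?_ ?_ ?_
    · rw [hl]; exact Nat.Coprime.pow_left _ ((Nat.coprime_primes hr hp).2 (by omega))
    · rw [hk]; exact Nat.Coprime.pow_left _ ((Nat.coprime_primes Nat.prime_two hp).2 (by omega))
    · rw [hk, hl]; exact Nat.Coprime.pow _ _ (by norm_num)
  exact hR.not_dvd_relIndex (hd.trans (relIndex_dvd_of_le_left _ hRC))

theorem simple {G : Type u} [Group G] [Finite G] [IsSimpleGroup G] {p : ℕ} (hp : p.Prime) (hp3 : 3 < p)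
    (h : PNil p G) : Group.IsSolvable G := by
  by_contra hs
  have hn : ¬ IsMulCommutative G := fun hc => hs (Group.isSolvable_of_comm hc.is_comm.comm)
  have h3 : ¬ IsSec (Equiv.Perm (Fin 3)) (⊤ : Subgroup G) := fun e => by
    have := (h.sec hp e).inv ((Nat.coprime_primes Nat.prime_two hp).2 (by omega))
      (t := Equiv.swap 0 1) (x := Equiv.swap 0 1 * Equiv.swap 1 2) (by decide)
      (Odd.of_dvd_nat (by decide) (orderOf_dvd_of_pow_eq_one (n := 3) (by decide)))
      (Nat.Coprime.coprime_dvd_left (orderOf_dvd_of_pow_eq_one (n := 3) (by decide))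
        ((Nat.coprime_primes Nat.prime_three hp).2 (by omega))) (by decide)
    exact absurd this (by decide)
  rcases gs.types' hn (fun e => h3 (e.trans isSec_s3_s4)) with ⟨⟨M, hM⟩, -⟩ | hD | hR
  · obtain ⟨F, _, _, m, ⟨M⟩⟩ := szT_of_iso (tri_sz (H17.Be.bender_simple hM hn).1 h3)
    exact h.not_sz hp hp3 M
  · exact hs (small hp hp3 h hD.1)
  · obtain ⟨V, h1, -, h2, -, h5⟩ := hR
    haveI := Fact.mk Nat.prime_two
    obtain ⟨t, -, ht⟩ := exists_orderOf_eq_of_dvd (p := 2) (L := V) (h2 ▸ by norm_num)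
    obtain ⟨E, L, -, -, -, -, -, hL⟩ := h5 t ht
    haveI := hL.simple
    have := small hp hp3 (h.sec hp ⟨L, MonoidHom.id L, le_top, Function.surjective_id⟩) hL.1
    exact hL.nab ⟨⟨IsSimpleGroup.comm_iff_isSolvable.2 this⟩⟩

/-- Let p > 3 be a prime and G a finite group in which every subgroup of order prime to p is nilpotent. Then G is solvable. -/
theorem result {G : Type*} [Group G] [Finite G] (p : ℕ) (hp : p.Prime) (hp3 : 3 < p)
    (h : ∀ H : Subgroup G, (Nat.card ↥H).Coprime p → Group.IsNilpotent ↥H) : Group.IsSolvable G := by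
  exact H8.isSolvable_of_simple_cases (fun X _ _ => PNil p X)
    (fun X _ _ N _ hX => hX.sec hp ⟨N, MonoidHom.id N, le_top, Function.surjective_id⟩)
    (fun X _ _ N _ hX => hX.sec hp ⟨⊤, (QuotientGroup.mk' N).comp (Subgroup.subtype ⊤), le_top,
      fun y => by
        obtain ⟨x, rfl⟩ := QuotientGroup.mk'_surjective N y
        exact ⟨⟨x, trivial⟩, rfl⟩⟩)
    (fun X _ _ _ hX => simple hp hp3 hX) _ G rfl h

end Cfsg.Agent.S3940
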