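import Cfsg.Statements.S4005
import Cfsg.Agent.H1.Ord2

set_option autoImplicit false
open Cfsg

namespace Cfsg.Agent.S4005

open H1.Ord Subgroup

/-- A finite group whose set of element orders is exactly {1, 2, 3} has either a normal elementary abelian 3-subgroup of index 2 or a normal elementary abelian 2-subgroup of index 3. -/
theorem result {G : Type*} [Group G] [Finite G] (h : Set.range (orderOf : G → ℕ) = {k : ℕ | 1 ≤ k ∧ k ≤ 3}) :
    (∃ N : Subgroup G, N.Normal ∧ Cfsg.IsElementaryAbelian 3 N ∧ N.index = 2) ∨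
      (∃ N : Subgroup G, N.Normal ∧ Cfsg.IsElementaryAbelian 2 N ∧ N.index = 3) := by
  by_cases h0 : fittingHall G = ⊥
  · exact absurd (sm_three_step (by decide) le_rfl h h0).1 (by decide)
  obtain ⟨K, hK, ⟨h1, -, h2⟩ | ⟨h1, ⟨-, h2⟩ | h2⟩⟩ := sm_frob (by decide) le_rfl h h0
  · have : ∀ x ∈ K, x ^ 2 = 1 := fun x hx => by
      haveI : Fact (Nat.Prime 2) := ⟨Nat.prime_two⟩
      obtain ⟨k, hk⟩ := H10.orderOf_eq_pow_of_mem h1 hx
      exact pow_p Nat.prime_two (s0 h (by decide)) hk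
    refine Or.inr ⟨K, hK, ⟨⟨⟨fun a b => Subtype.ext ?_⟩⟩, this⟩, h2⟩
    exact (Commute.of_orderOf_dvd_two (fun g : K => orderOf_dvd_of_pow_eq_one
      (Subtype.ext (this g g.2))) a b).eq ▸ rfl
  · exact Or.inl ⟨K, hK, h1, by omega⟩
  · omega

end Cfsg.Agent.S4005
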