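import Cfsg.Statements.S4006
import Cfsg.Agent.H1.Ord2

set_option autoImplicit false
open Cfsg

namespace Cfsg.Agent.S4006

open H1.Ord Subgroup

/-- A finite group whose set of element orders is exactly {1, 2, 3, 4} has a normal subgroup N such that either N is a 2-group of exponent 4 and nilpotency class at most 2 with G/N of order 3, or N is an elementary abelian 2-group with G/N isomorphic to the symmetric group of degree 3, or N is an elementary abelian 3-group with G/N cyclic of order 4 or quaternion of order 8. -/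
theorem result {G : Type*} [Group G] [Finite G] (h : Set.range (orderOf : G → ℕ) = {k : ℕ | 1 ≤ k ∧ k ≤ 4}) :
    ∃ (N : Subgroup G) (_ : N.Normal),
      (IsPGroup 2 ↥N ∧ Monoid.exponent ↥N = 4 ∧ Group.nilpotencyClass ↥N ≤ 2 ∧ N.index = 3) ∨
      (Cfsg.IsElementaryAbelian 2 N ∧ Nonempty (G ⧸ N ≃* Equiv.Perm (Fin 3))) ∨
      (Cfsg.IsElementaryAbelian 3 N ∧ ((IsCyclic (G ⧸ N) ∧ N.index = 4) ∨ Nonempty (G ⧸ N ≃* QuaternionGroup 2))) := by
  by_cases h0 : fittingHall G = ⊥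
  · exact ⟨pCore 2 G, inferInstance, Or.inr (Or.inl (sm_step le_rfl h
      (sm_three_step le_rfl (by decide) h h0).2))⟩
  obtain ⟨g, hg⟩ : 4 ∈ Set.range (orderOf : G → ℕ) := h.ge ⟨by decide, le_rfl⟩
  obtain ⟨K, hK, ⟨h1, h3, h2⟩ | ⟨h1, ⟨h3, h2⟩ | h2⟩⟩ := sm_frob le_rfl (by decide) h h0
  · refine ⟨K, hK, Or.inl ⟨h1, Nat.dvd_antisymm (Monoid.exponent_dvd_of_forall_pow_eq_one fun x =>
      Subtype.ext (sm_two le_rfl h fun hd => ?_)) ?_, h3, h2⟩⟩
    · haveI : Fact (Nat.Prime 2) := ⟨Nat.prime_two⟩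
      obtain ⟨k, hk⟩ := H10.orderOf_eq_pow_of_mem h1 x.2
      exact absurd (Nat.prime_three.dvd_of_dvd_pow (hk ▸ hd)) (by decide)
    · have : g ∈ K := zpowers_le.2 (h2 ▸ K.pow_index_mem g)
        (mem_zpowers_pow_iff.2 (by rw [hg]; rfl))
      rw [← hg, ← orderOf_mk g this]
      exact Monoid.order_dvd_exponent _
  · refine ⟨K, hK, Or.inr (Or.inr ⟨h1, Or.inl ⟨h3, (h2.resolve_left fun h2 => ?_).1⟩⟩)⟩
    have := orderOf_dvd_of_pow_eq_one ((pow_mul g 2 3).trans (h1.2 _ (h2 ▸ K.pow_index_mem g)))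
    rw [hg] at this; omega
  · exact ⟨K, hK, Or.inr (Or.inr ⟨h1, Or.inr h2.2⟩)⟩

end Cfsg.Agent.S4006
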