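import Cfsg.Statements.S4017
import Cfsg.Agent.H15.Mx

set_option autoImplicit false
open Cfsg

namespace Cfsg.Agent.S4017

/-- Let G be a finite group and let p and q be distinct primes dividing the order of G, with p odd. Suppose that p divides the order of every proper subgroup of G that is neither a q-group nor of order prime to q. Let q^a be the q-part of the order of G. If p > q^a − 1, or if p = q^a − 1 and the Sylow p-subgroups of G are abelian, then p and q are the only primes dividing the order of G. -/
theorem result {G : Type*} [Group G] [Finite G]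
    {p q : ℕ} (hp : p.Prime) (hq : q.Prime) (hpq : p ≠ q) (hp2 : p ≠ 2)
    (hpG : p ∣ Nat.card G) (hqG : q ∣ Nat.card G)
    (hmix : ∀ H : Subgroup G, H ≠ ⊤ → ¬ IsPGroup q H → q ∣ Nat.card H → p ∣ Nat.card H)
    (hlarge : q ^ (Nat.card G).factorization q - 1 < p ∨
      (p = q ^ (Nat.card G).factorization q - 1 ∧ ∀ P : Sylow p G, IsMulCommutative P)) :
    ∀ r : ℕ, r.Prime → r ∣ Nat.card G → r = p ∨ r = q := by
  intro r hr hd
  by_contra! k
  refine k.1 (H15.Mx.main hp hq hr hpq hp2 k.2 G (fun H a s b c d => ?_) (fun m e => ?_) hqG hd)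
  · by_cases e : H = ⊤
    · rwa [e, Subgroup.card_top]
    refine hmix H e (fun h => d ?_) a
    have := Fact.mk hq
    obtain ⟨n, hn⟩ := h.exists_card_eq
    exact (Nat.prime_dvd_prime_iff_eq b hq).1 (b.dvd_of_dvd_pow (hn ▸ c))
  · have := Nat.pow_le_pow_right hq.pos ((hq.pow_dvd_iff_le_factorization Nat.card_pos.ne').1 e)
    omega

end Cfsg.Agent.S4017
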