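import Mathlib
import Cfsg.Statements.S4018
import Cfsg.Agent.H8.Idx
import Cfsg.Agent.H6.Klein
import Cfsg.Agent.H6.Count

set_option autoImplicit false
open Cfsg

namespace Cfsg.Agent.S4018

theorem friendship {I : Type*} [Fintype I] [Nonempty I] (r : I → I → Prop)
    (hs : ∀ a b, r a b → r b a) (hi : ∀ a, ¬ r a a) {k : ℕ} (hk : 3 ≤ k)
    (hdeg : ∀ a, {b | r a b}.ncard = k) (hu : ∀ a b, a ≠ b → ∃! c, r a c ∧ r c b) : False := by
  classical
  obtain ⟨p, hp, hpk⟩ := Nat.exists_prime_and_dvd (n := k - 1) (by omega)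
  have := Fact.mk hp
  have hk1 : (k : ZMod p) = 1 := by
    have := (ZMod.natCast_eq_zero_iff _ _).2 hpk
    rw [Nat.cast_sub (by omega), Nat.cast_one, sub_eq_zero] at this
    exact this
  let A : Matrix I I (ZMod p) := Matrix.of fun a b => if r a b then 1 else 0
  let J : Matrix I I (ZMod p) := Matrix.of fun _ _ => 1
  have hd : ∀ a, (Finset.univ.filter (r a)).card = k := fun a => by
    rw [← hdeg a, ← Set.ncard_coe_finset]; congr 1; ext; simp
  have h1 : A * J = J := by
    ext a b
    simp [A, J, Matrix.mul_apply, hd, hk1]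
  have h2 : A * A = J := by
    ext a b
    have : (A * A) a b = ((Finset.univ.filter fun c => r a c ∧ r c b).card : ZMod p) := by
      simp only [A, Matrix.mul_apply, Matrix.of_apply, ← ite_and, mul_ite, mul_one, mul_zero, Finset.sum_boole]
      congr 2; ext c; simp [and_comm]
    rw [this]
    by_cases hab : a = b
    · subst hab
      rw [show (Finset.univ.filter fun c => r a c ∧ r c a) = Finset.univ.filter (r a) by
        ext c; simp only [Finset.mem_filter, Finset.mem_univ, true_and]
        exact ⟨fun h => h.1, fun h => ⟨h, hs _ _ h⟩⟩, hd, hk1]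
      rfl
    · obtain ⟨c, hc, hc'⟩ := hu a b hab
      rw [show (Finset.univ.filter fun c => r a c ∧ r c b) = {c} by
        ext d; simp only [Finset.mem_filter, Finset.mem_univ, true_and, Finset.mem_singleton]
        exact ⟨hc' d, fun h => h ▸ hc⟩]
      simp [J]
  have h3 : ∀ j, A ^ (j + 2) = J := fun j => by
    induction j with
    | zero => rw [zero_add, pow_two, h2]
    | succ j ih => rw [add_right_comm, pow_succ', ih, h1]
  have h4 : J * J = J := by
    conv_lhs => enter [1]; rw [← h2]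
    rw [Matrix.mul_assoc, h1, h1]
  obtain ⟨a⟩ := ‹Nonempty I›
  have h5 : (Fintype.card I : ZMod p) = 1 := by
    simpa [J, Matrix.mul_apply] using congrFun (congrFun h4 a) a
  have h6 := ZMod.trace_pow_card A
  obtain ⟨j, hj⟩ : ∃ j, p = j + 2 := ⟨p - 2, by have := hp.two_le; omega⟩
  have h7 : A ^ p = J := by rw [← h3 j, ← hj]
  rw [h7] at h6
  simp [Matrix.trace, A, J, hi, h5, hp.ne_zero] at h6

open Subgroup H6 in

theorem result {G : Type*} [Group G] [Finite G]
    (P : Sylow 3 G) (hab : IsMulCommutative P)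
    (hN : Nat.card (Subgroup.normalizer ((P : Subgroup G) : Set G)) = 4 * Nat.card P)
    (hC : Nat.card (Subgroup.centralizer (P : Set G)) = 2 * Nat.card P)
    (hTI : Cfsg.IsTISubset (Subgroup.centralizer (P : Set G) : Set G))
    (heven : ∀ H : Subgroup G, H ≠ ⊤ → 2 ∣ Nat.card H → Nat.card H ∣ 4 * Nat.card P) :
    ¬ IsSimpleGroup G := by
  intro hsimp
  set N := normalizer ((P : Subgroup G) : Set G) with hNdef
  set C := centralizer (P : Set G) with hCdef
  have hcomm := H1.isMulCommutative_iff'.1 hab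
  have hPC : (P : Subgroup G) ≤ C := fun x hx y hy => hcomm y hy x hx
  have hCN : C ≤ N := centralizer_le_normalizer _
  obtain ⟨a, ha⟩ := IsPGroup.iff_card.1 P.2
  have hm0 : 0 < Nat.card P := Nat.card_pos
  have h4G : 4 ∣ Nat.card G := (Dvd.intro _ hN.symm).trans (card_subgroup_dvd_card N)
  have hG2 : Nat.card G ≠ 2 := fun h => by rw [h] at h4G; omega
  have ha0 : a ≠ 0 := by
    rintro rfl
    have h1 : (P : Subgroup G) = ⊥ := card_eq_one.1 ha
    have h2 : N ≤ C := fun x _ y hy => by
      have : y = 1 := mem_bot.1 (h1 ▸ hy)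
      simp [this]
    have := card_le_of_le h2
    omega
  have hodd : ∀ u ∈ (P : Subgroup G), Odd (orderOf u) := fun u hu =>
    odd_orderOf_of_odd_card (by rw [ha]; exact Odd.pow (by decide)) hu
  obtain ⟨z, hzC, hz⟩ := exists_ord2_mem_of_even (H := C) (by rw [hC]; exact even_two_mul _)
  have hzP : z ∉ (P : Subgroup G) := fun h => absurd (hz ▸ hodd z h) (by decide)
  have hidx : ∀ {A B : Subgroup G}, A ≤ B → Nat.card B = 2 * Nat.card A → ∀ x ∈ B, ∀ y ∈ B,
      x ∉ A → y ∉ A → x * y ∈ A := by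
    intro A B h1 h2 x hx y hy h3 h4
    have h5 : (A.subgroupOf B).index = 2 := by
      have := H1.card_mul_relIndex h1
      rw [h2, mul_comm] at this
      exact Nat.eq_of_mul_eq_mul_right Nat.card_pos this
    exact (mul_mem_iff_of_index_two h5 (a := ⟨x, hx⟩) (b := ⟨y, hy⟩)).2 (iff_of_false h3 h4)
  have hzc : ∀ c ∈ C, Commute c z := by
    intro c hc
    by_cases h : c ∈ (P : Subgroup G)
    · exact hzC c h
    have h1 : Commute (c * z) z := hzC _ (hidx hPC hC c hc z hzC h hzP)
    simpa using h1.mul_left (Commute.refl z).inv_left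
  have huniq : ∀ c ∈ C, orderOf c = 2 → c = z := by
    intro c hc h2
    have h1 := hidx hPC hC c hc z hzC (fun h => absurd (h2 ▸ hodd c h) (by decide)) hzP
    have h3 := eq_one_of_odd_of_sq (hodd _ h1) (by
      rw [← pow_two, (hzc c hc).mul_pow, pow_two, pow_two, ord2_mul_self h2, ord2_mul_self hz, one_mul])
    rw [mul_eq_one_iff_eq_inv, ord2_inv hz] at h3
    exact h3
  have hNC : normalizer (C : Set G) ≤ centralizer {z} := fun g hg =>
    H8.mem_centralizer_singleton_iff'.2
      (huniq _ (H1.conj_mem_of_mem_normalizer hg hzC) (ord2_conj hz g))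
  have hN1 : N ≤ normalizer (C : Set G) := H1.normalizer_le_normalizer_centralizer _
  have hCz : centralizer {z} = N := by
    symm
    refine eq_of_le_of_card_ge (hN1.trans hNC) (Nat.le_of_dvd Nat.card_pos ?_)
    rw [hN]
    refine heven _ (fun h => ?_) (even_iff_two_dvd.1 (even_card_of_ord2_mem
      (mem_centralizer_singleton_iff.2 rfl) hz))
    have hn : (zpowers z).Normal := ⟨by
      rintro _ ⟨k, rfl⟩ g
      have : Commute g z := mem_centralizer_singleton_iff.1 (h ▸ mem_top g)
      rw [(this.zpow_right k).eq, mul_inv_cancel_right]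
      exact ⟨k, rfl⟩⟩
    rcases hn.eq_bot_or_eq_top with h | h
    · exact ord2_ne_one hz (zpowers_eq_bot.1 h)
    · exact hG2 (by rw [← card_top, ← h, Nat.card_zpowers, hz])
  have hti : ∀ g x : G, x ∈ C → x ≠ 1 → g * x * g⁻¹ ∈ C → g ∈ N := by
    intro g x h1 h2 h3
    by_contra h
    exact h2 (hTI g (fun h' => h (hCz ▸ hNC h')) x h1 h3)
  have hmemN : ∀ {g : G}, g ∈ N ↔ Commute g z := by
    intro g; rw [← hCz]; exact mem_centralizer_singleton_iff
  -- Sylow 2-subgroups
  obtain ⟨T, hzT⟩ := (isPGroup_zpowers_ord2 (ord2_mul_self hz)).exists_le_sylow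
  have hzT' : z ∈ (T : Subgroup G) := hzT (mem_zpowers z)
  obtain ⟨b, hb⟩ := IsPGroup.iff_card.1 T.2
  have hT4 : Nat.card T = 4 := by
    have h1 : (T : Subgroup G) ≠ ⊤ := fun h => by
      have h2 := card_subgroup_dvd_card (P : Subgroup G)
      rw [← card_top (G := G), ← h, hb, ha] at h2
      have := Nat.prime_three.dvd_of_dvd_pow ((dvd_pow_self 3 ha0).trans h2)
      omega
    have h2 := heven _ h1 (even_iff_two_dvd.1 (even_card_of_ord2_mem hzT' hz))
    rw [hb, ha] at h2
    refine Nat.dvd_antisymm ?_ ?_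
    · rw [hb]; exact (Nat.Coprime.pow b a (by decide)).dvd_of_dvd_mul_right h2
    · rw [← (T : Subgroup G).index_mul_card] at h4G
      refine Nat.Coprime.dvd_of_dvd_mul_left ?_ h4G
      exact (Nat.coprime_two_left.2 (odd_index_sylow T)).pow_left 2
  have hK : IsKleinFour (T : Subgroup G) := by
    refine isKleinFour_of_card hT4 fun x hx => ?_
    by_contra h
    have hc : IsCyclic (T : Subgroup G) := by
      refine isCyclic_of_orderOf_eq_card (⟨x, hx⟩ : (T : Subgroup G)) ?_
      rw [hT4, ← orderOf_coe]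
      refine orderOf_eq_prime_pow (p := 2) (n := 1) (by rwa [pow_one, pow_two]) ?_
      have := pow_card_eq_one' (x := (⟨x, hx⟩ : (T : Subgroup G)))
      rw [hT4] at this
      exact congrArg Subtype.val this
    obtain ⟨H, hH⟩ := exists_index_two_of_cyclic_sylow
      (even_iff_two_dvd.2 ((by decide : 2 ∣ 4).trans h4G)) T hc
    rcases (normal_of_index_eq_two hH).eq_bot_or_eq_top with h | h
    · rw [h, index_bot] at hH; exact hG2 hH
    · rw [h, index_top] at hH; omega
  have hconj : ∀ s : G, orderOf s = 2 → ∃ g : G, s = g * z * g⁻¹ := by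
    rcases kleinFour_sylow_cases T hK with h | h
    · intro s hs
      obtain ⟨g, hg⟩ := isConj_iff.1 (h.1 z s hz hs)
      exact ⟨g, hg.symm⟩
    · exfalso
      obtain ⟨M, hM, hM'⟩ := normal_complement_of_no_fusion T h.1
      have h1 := hM'.card_mul
      rw [hT4] at h1
      rcases hM.eq_bot_or_eq_top with h | h
      · have h2 := card_subgroup_dvd_card (P : Subgroup G)
        rw [← h1, h, card_bot, ha] at h2
        have := (dvd_pow_self 3 ha0).trans h2
        omega
      · rw [h, card_top] at h1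
        have : 0 < Nat.card G := Nat.card_pos
        omega
  -- involutions in `N`
  have hinv : ∀ t ∈ N, orderOf t = 2 → t ≠ z → ∀ c ∈ C, t * c * t⁻¹ = c⁻¹ := by
    intro t ht h2 htz
    have h1 : ∀ u ∈ (P : Subgroup G), Commute u t → u = 1 := by
      intro u hu h
      by_contra hu1
      obtain ⟨g, rfl⟩ := hconj t h2
      have h3 : g⁻¹ * u * g⁻¹⁻¹ ∈ N := hmemN.2 (by
        rw [← Commute.conj_iff g]; simpa [mul_assoc] using h)
      obtain ⟨k, hk⟩ := H8.exists_orderOf_eq_of_mem P.2 hu
      have h4 := H8.mem_sylow_of_mem_normalizer P h3 (H8.isPGroup_zpowers_of_orderOf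
        ((orderOf_conj' _ _).trans hk))
      have h5 := hmemN.1 (inv_mem_iff.1 (hti _ u (hPC hu) hu1 (hPC h4)))
      exact htz (conj_eq_iff_commute.2 h5)
    have h3 : ∀ u ∈ (P : Subgroup G), t * u * t⁻¹ = u⁻¹ := by
      intro u hu
      have h4 := H1.conj_mem_of_mem_normalizer ht hu
      have h5 := h1 _ (mul_mem hu h4) (by
        have h6 := hcomm _ hu _ h4
        rw [ord2_inv h2] at h6 ⊢
        change _ * _ = _ * _
        conv_rhs => rw [h6]
        simp only [mul_assoc, ord2_mul_mul h2, ord2_mul_self h2, mul_one])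
      exact eq_inv_of_mul_eq_one_right h5
    intro c hc
    by_cases h : c ∈ (P : Subgroup G)
    · exact h3 c h
    have h4 := h3 _ (hidx hPC hC c hc z hzC h hzP)
    have h5 : t * (c * z) * t⁻¹ = t * c * t⁻¹ * (t * z * t⁻¹) := by group
    rw [h5, conj_eq_iff_commute.2 (hmemN.1 ht), mul_inv_rev, ← (hzc c hc).inv_inv.eq,
      ord2_inv hz] at h4
    exact mul_right_cancel h4
  have hNC2 : Nat.card N = 2 * Nat.card C := by rw [hN, hC]; ring
  have hnb : {t : G | orderOf t = 2 ∧ t ≠ z ∧ Commute t z} = (N : Set G) \ C := by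
    ext t
    constructor
    · rintro ⟨h1, h2, h3⟩
      exact ⟨hmemN.2 h3, fun h => h2 (huniq t h h1)⟩
    · rintro ⟨h1, h2⟩
      refine ⟨?_, fun h => h2 (h ▸ hzC), hmemN.1 h1⟩
      obtain ⟨s, hsT, hs⟩ : ∃ s ∈ (T : Subgroup G), s ∉ zpowers z := by
        by_contra hc
        push Not at hc
        have := card_le_of_le (show (T : Subgroup G) ≤ zpowers z from hc)
        rw [hT4, Nat.card_zpowers, hz] at this
        omega
      have hs2 : orderOf s = 2 := ord2_of (kleinFour_mul_self hK hsT) fun h => hs (h ▸ one_mem _)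
      have hsz : s ≠ z := fun h => hs (h ▸ mem_zpowers _)
      have hsN : s ∈ N := hmemN.2 (kleinFour_commute hK hsT hzT')
      have h3 := hidx hCN hNC2 t h1 s hsN h2 fun h => hsz (huniq s h hs2)
      have h4 := mul_sq_of_inverts (ord2_mul_self hs2) (hinv s hsN hs2 hsz _ h3)
      rw [mul_assoc t s s, ord2_mul_self hs2, mul_one] at h4
      exact ord2_of h4 fun h => h2 (h ▸ one_mem _)
  have := Fintype.ofFinite {t : G // orderOf t = 2}
  have : Nonempty {t : G // orderOf t = 2} := ⟨⟨z, hz⟩⟩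
  have hcj : ∀ g s t : G, Commute (g * s * g⁻¹) (g * t * g⁻¹) ↔ Commute s t := fun g s t =>
    Commute.conj_iff g
  refine friendship (I := {t : G // orderOf t = 2}) (fun s t => t.1 ≠ s.1 ∧ Commute t.1 s.1)
    (fun s t h => ⟨h.1.symm, h.2.symm⟩) (fun s h => h.1 rfl) (k := 2 * Nat.card P) ?_ ?_ ?_
  · have : 3 ^ 1 ≤ 3 ^ a := Nat.pow_le_pow_right (by decide) (by omega)
    omega
  · rintro ⟨s, hs⟩
    obtain ⟨g, rfl⟩ := hconj s hs
    have h1 : ((N : Set G) \ C).ncard = 2 * Nat.card P := by
      rw [Set.ncard_diff hCN]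
      change Nat.card N - Nat.card C = _
      omega
    rw [← h1, ← hnb]
    symm
    refine Set.ncard_congr (fun t ht => ⟨g * t * g⁻¹, ord2_conj ht.1 g⟩) (fun t ht => ?_)
      (fun t u _ _ h => by simpa using h) fun t ht => ?_
    · exact ⟨by simpa using ht.2.1, (hcj _ _ _).2 ht.2.2⟩
    · refine ⟨g⁻¹ * t * g, ⟨(orderOf_conj'' _ _).trans t.2, fun h => ht.1 ?_, ?_⟩, ?_⟩
      · change t.1 = g * z * g⁻¹
        rw [← h]; group
      · rw [← hcj g]; simpa [mul_assoc] using ht.2
      · ext; simp [mul_assoc]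
  · rintro ⟨s, hs⟩ ⟨t, ht⟩ hst
    have hst' : s ≠ t := fun h => hst (Subtype.ext h)
    have hx1 : s * t ≠ 1 := fun h => hst' (by rwa [mul_eq_one_iff_eq_inv, ord2_inv ht] at h)
    -- a common neighbour forces the product into a conjugate of `C`
    have hkey : ∀ g : G, g * z * g⁻¹ ≠ s → Commute (g * z * g⁻¹) s → t ≠ g * z * g⁻¹ →
        Commute t (g * z * g⁻¹) → g⁻¹ * (s * t) * g ∈ C := by
      intro g h1 h2 h3 h4
      have h5 : g⁻¹ * s * g ∈ (N : Set G) \ C := hnb ▸ ⟨(orderOf_conj'' _ _).trans hs,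
        fun h => h1 (by rw [← h]; group), by rw [← hcj g]; simpa [mul_assoc] using h2.symm⟩
      have h6 : g⁻¹ * t * g ∈ (N : Set G) \ C := hnb ▸ ⟨(orderOf_conj'' _ _).trans ht,
        fun h => h3 (by rw [← h]; group), by rw [← hcj g]; simpa [mul_assoc] using h4⟩
      have := hidx hCN hNC2 _ h5.1 _ h6.1 h5.2 h6.2
      simpa [mul_assoc] using this
    refine existsUnique_of_exists_of_unique ?_ ?_
    · rcases Nat.even_or_odd (orderOf (s * t)) with he | ho
      · obtain ⟨h1, h2, h3⟩ := exists_central_inv (ord2_mul_self hs) (ord2_mul_self ht) he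
        have h4 : (s * t) ^ (orderOf (s * t) / 2) ∈ zpowers (s * t) := npow_mem_zpowers _ _
        refine ⟨⟨_, h1⟩, ⟨fun h => hst' ?_, h2⟩, fun h => hst' ?_, h3.symm⟩
        · have h5 : s ∈ zpowers (s * t) := by simp only at h; rwa [h] at h4
          refine ord2_unique_zpowers h5 ?_ hs ht
          simpa using mul_mem (inv_mem h5) (mem_zpowers (s * t))
        · have h5 : t ∈ zpowers (s * t) := by simp only at h; rwa [← h] at h4
          refine ord2_unique_zpowers ?_ h5 hs ht
          simpa using mul_mem (mem_zpowers (s * t)) (inv_mem h5)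
      · have hsx := inv_conj_mul (ord2_mul_self hs) (ord2_mul_self ht)
        have htx := inv_conj_mul' (ord2_mul_self hs) (ord2_mul_self ht)
        have hD : closure ({s, t} : Set G) ≠ ⊤ := by
          intro h
          have hn : (zpowers (s * t)).Normal := by
            rw [← normalizer_eq_top_iff, eq_top_iff, ← h, closure_le]
            rintro x (rfl | rfl) <;> refine mem_normalizer_fintype ?_ <;> rintro _ ⟨k, rfl⟩
            · rw [conj_zpow_of_inverts hsx]; exact inv_mem ⟨k, rfl⟩
            · rw [conj_zpow_of_inverts htx]; exact inv_mem ⟨k, rfl⟩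
          rcases hn.eq_bot_or_eq_top with h | h
          · exact hx1 (zpowers_eq_bot.1 h)
          · have h1 := orderOf_dvd_natCard s
            rw [← card_top, ← h, Nat.card_zpowers, hs] at h1
            exact (Nat.not_even_iff_odd.2 ho) (even_iff_two_dvd.2 h1)
        have h1 := heven _ hD (even_iff_two_dvd.1 (even_card_of_ord2_mem
          (subset_closure (by simp)) hs))
        have h2 : orderOf (s * t) ∣ 3 ^ a := by
          have h3 := (orderOf_dvd_natCard (closure ({s, t} : Set G)) (mul_mem (subset_closure (by simp))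
            (subset_closure (by simp)) : s * t ∈ _)).trans h1
          rw [ha] at h3
          exact ((Nat.coprime_two_right.2 ho).pow_right 2).dvd_of_dvd_mul_left h3
        obtain ⟨g, hg⟩ := exists_conj_mem_sylow P (orderOf_dvd_iff_pow_eq_one.1 h2)
        have hy1 : g * (s * t) * g⁻¹ ≠ 1 := by simpa using hx1
        have h3 : ∀ w : G, w * (s * t) * w⁻¹ = (s * t)⁻¹ →
            g⁻¹ * z * g ≠ w ∧ Commute (g⁻¹ * z * g) w := by
          intro w hw
          have h4 : g * w * g⁻¹ * (g * (s * t) * g⁻¹) * (g * w * g⁻¹)⁻¹ = (g * (s * t) * g⁻¹)⁻¹ := by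
            calc _ = g * (w * (s * t) * w⁻¹) * g⁻¹ := by group
              _ = _ := by rw [hw]; group
          have h5 := hmemN.1 (hti _ _ (hPC hg) hy1 (h4 ▸ inv_mem (hPC hg)))
          refine ⟨fun h => hy1 ?_, by rw [← hcj g]; simpa [mul_assoc] using h5.symm⟩
          have h6 : g * w * g⁻¹ = z := by rw [← h]; group
          rw [h6, conj_eq_iff_commute.2 (hzc _ (hPC hg)).symm] at h4
          exact eq_one_of_odd_of_sq (hodd _ hg) (mul_eq_one_iff_eq_inv.2 h4)
        exact ⟨⟨g⁻¹ * z * g, (orderOf_conj'' _ _).trans hz⟩, h3 s hsx, (h3 t htx).1.symm,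
          (h3 t htx).2.symm⟩
    · rintro ⟨w, hw⟩ ⟨w', hw'⟩ ⟨h1, h2⟩ ⟨h3, h4⟩
      obtain ⟨g, rfl⟩ := hconj w hw
      obtain ⟨g', rfl⟩ := hconj w' hw'
      have h5 := hkey g h1.1 h1.2 h2.1 h2.2
      have h6 := hkey g' h3.1 h3.2 h4.1 h4.2
      have h7 := hmemN.1 (hti (g'⁻¹ * g) _ h5 (by
        intro h; apply hx1
        calc s * t = g * (g⁻¹ * (s * t) * g) * g⁻¹ := by group
          _ = 1 := by rw [h]; group) (by simpa [mul_assoc] using h6))
      ext
      calc g * z * g⁻¹ = g' * (g'⁻¹ * g * z * (g'⁻¹ * g)⁻¹) * g'⁻¹ := by group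
        _ = _ := by rw [conj_eq_iff_commute.2 h7]

end Cfsg.Agent.S4018
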