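import Cfsg.Statements.S4019
import Cfsg.Agent.H15.CJ5

set_option autoImplicit false
open Cfsg

namespace Cfsg.Agent.S4019

/-- Let G be a finite group in which, for every prime p, any two p-subgroups of the same order are conjugate. Then G/O(G), O(G) the largest normal subgroup of odd order, is one of: a cyclic 2-group; the one-dimensional affine group over the field with 8 elements; the one-dimensional semi-affine group (affine maps twisted by field automorphisms) over the field with 8 or with 32 elements; a simple group of order 175560; PSL₂(8); the full automorphism group of PSL₂(32); or PSL₂(p), PSL₂(p³), SL₂(p), SL₂(p³) for a prime p ≡ ±3 (mod 8). -/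
theorem result {G : Type*} [Group G] [Finite G]
    (hD : ∀ p : ℕ, p.Prime → ∀ H K : Subgroup G, IsPGroup p H → IsPGroup p K → Nat.card H = Nat.card K →
      ∃ g : G, K = H.map (MulAut.conj g).toMonoidHom) :
    (IsCyclic (G ⧸ Cfsg.oddCore G) ∧ IsPGroup 2 (G ⧸ Cfsg.oddCore G)) ∨
    Nonempty (G ⧸ Cfsg.oddCore G ≃* Cfsg.affineGroup (GaloisField 2 3)) ∨
    Nonempty (G ⧸ Cfsg.oddCore G ≃* Cfsg.semiaffineGroup (GaloisField 2 3)) ∨
    Nonempty (G ⧸ Cfsg.oddCore G ≃* Cfsg.semiaffineGroup (GaloisField 2 5)) ∨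
    Cfsg.IsJ1 (G ⧸ Cfsg.oddCore G) ∨
    Nonempty (G ⧸ Cfsg.oddCore G ≃* Matrix.ProjectiveSpecialLinearGroup (Fin 2) (GaloisField 2 3)) ∨
    Nonempty (G ⧸ Cfsg.oddCore G ≃* MulAut (Matrix.ProjectiveSpecialLinearGroup (Fin 2) (GaloisField 2 5))) ∨
    (∃ (p : ℕ) (_ : Fact p.Prime), (p % 8 = 3 ∨ p % 8 = 5) ∧
      (Nonempty (G ⧸ Cfsg.oddCore G ≃* Matrix.ProjectiveSpecialLinearGroup (Fin 2) (ZMod p)) ∨
       Nonempty (G ⧸ Cfsg.oddCore G ≃* Matrix.ProjectiveSpecialLinearGroup (Fin 2) (GaloisField p 3)) ∨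
       Nonempty (G ⧸ Cfsg.oddCore G ≃* Matrix.SpecialLinearGroup (Fin 2) (ZMod p)) ∨
       Nonempty (G ⧸ Cfsg.oddCore G ≃* Matrix.SpecialLinearGroup (Fin 2) (GaloisField p 3)))) := by
  have h : H15.CJ.DJ (G ⧸ oddCore G) := H15.CJ.DJ.map hD (QuotientGroup.mk'_surjective _)
  rcases h.cases (H1.pPrimeCore_quotient_pPrimeCore 2) with k | (k | k | k | ⟨M, _, _, S, j, ⟨e⟩⟩ | k | k) |
    ⟨F, _, _, p, n, hp, k1, k2, k3, k4⟩
  · exact Or.inl k
  · exact Or.inr (Or.inl k)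
  · exact Or.inr (Or.inr (Or.inl k))
  · exact Or.inr (Or.inr (Or.inr (Or.inl k)))
  · have := j.simple
    exact Or.inr (Or.inr (Or.inr (Or.inr (Or.inl ⟨e.symm.isSimpleGroup,
      (Nat.card_congr e.toEquiv).symm.trans j.five.1⟩))))
  · exact Or.inr (Or.inr (Or.inr (Or.inr (Or.inr (Or.inl k)))))
  · exact Or.inr (Or.inr (Or.inr (Or.inr (Or.inr (Or.inr (Or.inl k))))))
  haveI := Fact.mk hp
  refine Or.inr (Or.inr (Or.inr (Or.inr (Or.inr (Or.inr (Or.inr ⟨p, inferInstance, k3, ?_⟩))))))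
  rcases k2 with rfl | rfl
  · have hF : Fintype.card F = Fintype.card (ZMod p) := by rw [k1, ZMod.card, pow_one]
    obtain ⟨f⟩ := H2.z_psl_congr hF 2
    obtain ⟨g⟩ := H2.z_sl_congr hF 2
    rcases k4 with ⟨⟨e⟩⟩ | ⟨⟨e⟩⟩
    exacts [Or.inl ⟨e.trans f⟩, Or.inr (Or.inr (Or.inl ⟨e.trans g⟩))]
  · have := Fintype.ofFinite (GaloisField p 3)
    have hF : Fintype.card F = Fintype.card (GaloisField p 3) := by
      rw [k1, ← Nat.card_eq_fintype_card, GaloisField.card p 3 (by norm_num)]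
    obtain ⟨f⟩ := H2.z_psl_congr hF 2
    obtain ⟨g⟩ := H2.z_sl_congr hF 2
    rcases k4 with ⟨⟨e⟩⟩ | ⟨⟨e⟩⟩
    exacts [Or.inr (Or.inl ⟨e.trans f⟩), Or.inr (Or.inr (Or.inr ⟨e.trans g⟩))]

end Cfsg.Agent.S4019
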