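import Cfsg.Statements.S4020
import Cfsg.Agent.S0016
import Cfsg.Agent.S3918
import Cfsg.Agent.H9.Rank
import Cfsg.Agent.H9.Blackburn
import Cfsg.Agent.H7.PGrp2
import Cfsg.Agent.H7.Basic
import Cfsg.Agent.H10.SylowIn
import Cfsg.Agent.H19.BS3
import Cfsg.Agent.H1.Cores

set_option autoImplicit false
open Cfsg

namespace Cfsg.Agent.S4020

open Subgroup

def PConj (p : ℕ) (G : Type*) [Group G] : Prop :=
  ∀ H K : Subgroup G, IsPGroup p H → IsPGroup p K → Nat.card H = Nat.card K →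
    ∃ g : G, K = H.map (MulAut.conj g).toMonoidHom

variable {G : Type*} [Group G] [Finite G] {p : ℕ}

theorem PConj.equiv (hB : PConj p G) {P : Subgroup G} (hP : IsPGroup p P) (H K : Subgroup P)
    (h : Nat.card H = Nat.card K) : Nonempty (H ≃* K) := by
  obtain ⟨g, hg⟩ := hB (H.map P.subtype) (K.map P.subtype) ((hP.to_subgroup H).map _)
    ((hP.to_subgroup K).map _) (by
      rw [card_map_of_injective P.subtype_injective, card_map_of_injective P.subtype_injective, h])
  exact ⟨(H.equivMapOfInjective _ P.subtype_injective).trans ((H7.cjEquiv _ g).trans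
    ((MulEquiv.subgroupCongr hg.symm).trans (K.equivMapOfInjective _ P.subtype_injective).symm))⟩

theorem aux1 {P : Type*} [Group P] [Finite P] [hp : Fact p.Prime] (hP : IsPGroup p P)
    (hB : ∀ H K : Subgroup P, Nat.card H = Nat.card K → Nonempty (H ≃* K)) :
    (∀ x : P, x ^ p = 1) ∨ IsCyclic P ∨ (p = 2 ∧ ∃ n : ℕ, Nonempty (P ≃* QuaternionGroup (2 ^ n))) := by
  rw [or_iff_not_imp_left]
  intro hx
  push Not at hx
  obtain ⟨x, hx⟩ := hx
  obtain ⟨k, hk⟩ := IsPGroup.iff_orderOf.mp hP x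
  obtain ⟨k, rfl⟩ : ∃ m, k = m + 2 := by
    refine ⟨k - 2, ?_⟩
    by_contra h
    apply hx
    rw [← orderOf_dvd_iff_pow_eq_one, hk]
    have : k ≤ 1 := by omega
    simpa using pow_dvd_pow p this
  have h1 := H9.orderOf_pow_prime_pow hk
  have key : ∀ H K : Subgroup P, Nat.card H = p → Nat.card K = p → K ≤ center P → H = K := by
    intro H K hH hK hc
    by_contra hne
    have hHe : ∀ a ∈ H, a ^ p = 1 := fun a ha => by
      have := pow_card_eq_one' (x := (⟨a, ha⟩ : H))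
      rw [hH] at this; exact congrArg Subtype.val this
    have hKe : ∀ a ∈ K, a ^ p = 1 := fun a ha => by
      have := pow_card_eq_one' (x := (⟨a, ha⟩ : K))
      rw [hK] at this; exact congrArg Subtype.val this
    haveI := isCyclic_of_prime_card hH
    haveI := isCyclic_of_prime_card hK
    have h2 := H9.elementary_sup (p := p) (A := H) (B := K) ⟨inferInstance, hHe⟩ ⟨inferInstance, hKe⟩
      fun a _ b hb => mem_center_iff.1 (hc hb) a
    have h3 : H ⊓ K = ⊥ := (H7.eq_or_eq_bot_of_card_prime hK inf_le_right).resolve_right fun e =>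
      hne (eq_of_le_of_card_ge (inf_eq_right.1 e) (by omega)).symm
    have h4 := H1.card_sup_of_disjoint
      (H5.le_normalizer_of_le_centralizer (le_centralizer_iff.1 (hc.trans (center_le_centralizer _)))) h3
    obtain ⟨e⟩ := hB (H ⊔ K) (zpowers (x ^ p ^ k)) (by
      rw [h4, hH, hK, Nat.card_zpowers, h1, pow_two])
    have h6 : (x ^ p ^ k) ^ p = 1 := by
      have h5 : (e.symm ⟨_, mem_zpowers (x ^ p ^ k)⟩) ^ p = 1 :=
        Subtype.ext (h2.2 _ (e.symm ⟨_, mem_zpowers (x ^ p ^ k)⟩).2)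
      rw [← map_pow, map_eq_one_iff _ e.symm.injective] at h5
      exact congrArg Subtype.val h5
    have h7 := Nat.le_of_dvd hp.out.pos (h1 ▸ orderOf_dvd_of_pow_eq_one h6)
    have := hp.out.one_lt
    nlinarith
  refine Cfsg.Agent.S0016.result p hP fun H K hH hK => ?_
  obtain ⟨z, -, hz, hz2⟩ := H9.exists_mem_center_orderOf_eq hP (M := ⊤) (fun e => by
    have : H = ⊥ := le_bot_iff.1 (e ▸ le_top)
    rw [this, card_bot] at hH
    exact hp.out.one_lt.ne hH)
  have h2 : Nat.card (zpowers z) = p := by rw [Nat.card_zpowers, hz2]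
  rw [key H _ hH h2 (zpowers_le.2 hz), key K _ hK h2 (zpowers_le.2 hz)]

open QuaternionGroup in
theorem aux2 (m : ℕ) : ¬ ∀ H K : Subgroup (QuaternionGroup (2 ^ (m + 2))),
    Nat.card H = Nat.card K → Nonempty (H ≃* K) := by
  intro hB
  haveI : Fact (Nat.Prime 2) := ⟨Nat.prime_two⟩
  obtain ⟨K, hK, hle⟩ := Sylow.exists_subgroup_card_pow_prime_le (G := QuaternionGroup (2 ^ (m + 2)))
    2 (n := 2) (m := 3) (by
      rw [Nat.card_eq_fintype_card, QuaternionGroup.card]
      exact ⟨2 ^ (m + 1), by ring⟩) (zpowers (xa 0))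
    (by rw [Nat.card_zpowers, orderOf_xa]; rfl) (by norm_num)
  have h8 : orderOf ((a 1 : QuaternionGroup (2 ^ (m + 2))) ^ 2 ^ m) = 2 ^ 3 := by
    rw [orderOf_pow_of_dvd (by positivity) (by rw [orderOf_a_one]; exact ⟨8, by ring⟩),
      orderOf_a_one]
    apply Nat.div_eq_of_eq_mul_left (by positivity)
    ring
  obtain ⟨e⟩ := hB (zpowers ((a 1 : QuaternionGroup (2 ^ (m + 2))) ^ 2 ^ m)) K
    (by rw [Nat.card_zpowers, h8, hK])
  haveI : IsCyclic K := isCyclic_of_surjective e e.surjective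
  obtain ⟨y, hy⟩ := IsCyclic.exists_generator (α := K)
  have hy8 : orderOf (y : QuaternionGroup (2 ^ (m + 2))) = 2 ^ 3 := by
    rw [Subgroup.orderOf_coe, orderOf_eq_card_of_forall_mem_zpowers hy, hK]
  obtain ⟨k, hk⟩ := (mem_powers_iff_mem_zpowers.mpr (hy ⟨xa 0, hle (mem_zpowers _)⟩))
  have hk' : (y : QuaternionGroup (2 ^ (m + 2))) ^ k = xa 0 := congrArg Subtype.val hk
  generalize (y : QuaternionGroup (2 ^ (m + 2))) = y' at hy8 hk'
  cases y' with
  | a i =>
    have : ∀ k : ℕ, ∃ j, (a i : QuaternionGroup (2 ^ (m + 2))) ^ k = a j := by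
      intro k
      induction k with
      | zero => exact ⟨0, rfl⟩
      | succ k ih => obtain ⟨j, hj⟩ := ih; exact ⟨j + i, by rw [pow_succ (a i), hj, a_mul_a]⟩
    obtain ⟨j, hj⟩ := this k
    rw [hj] at hk'
    cases hk'
  | xa i => rw [orderOf_xa] at hy8; norm_num at hy8

theorem aux3 {P : Type*} [Group P] [Finite P] [hp : Fact p.Prime] (hP : IsPGroup p P)
    (hB : ∀ H K : Subgroup P, Nat.card H = Nat.card K → Nonempty (H ≃* K)) :
    (∀ x : P, x ^ p = 1) ∨ IsCyclic P ∨ (p = 2 ∧ Nonempty (P ≃* QuaternionGroup 2)) := by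
  rcases aux1 hP hB with h | h | ⟨h2, n, ⟨e⟩⟩
  · exact Or.inl h
  · exact Or.inr (Or.inl h)
  · match n, e with
    | 0, e =>
      haveI : IsCyclic (QuaternionGroup (2 ^ 0)) := QuaternionGroup.quaternionGroup_one_isCyclic
      exact Or.inr (Or.inl (isCyclic_of_surjective e.symm e.symm.surjective))
    | 1, e => exact Or.inr (Or.inr ⟨h2, ⟨e⟩⟩)
    | m + 2, e =>
      exfalso
      apply aux2 m
      intro H K h
      obtain ⟨f⟩ := hB (H.map e.symm.toMonoidHom) (K.map e.symm.toMonoidHom) (by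
        rw [card_map_of_injective e.symm.injective, card_map_of_injective e.symm.injective, h])
      exact ⟨(H.equivMapOfInjective _ e.symm.injective).trans
        (f.trans (K.equivMapOfInjective _ e.symm.injective).symm)⟩

theorem aux4 {P : Type*} [Group P] [Finite P] [hp : Fact p.Prime] (hp2 : p ≠ 2) (hP : IsPGroup p P)
    (hB : ∀ H K : Subgroup P, Nat.card H = Nat.card K → Nonempty (H ≃* K))
    (he : ∀ x : P, x ^ p = 1) (hn : ¬ IsMulCommutative P) : Nat.card P = p ^ 3 := by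
  have hz : ∀ x : P, Nat.card (zpowers x) ≤ p := fun x => by
    rw [Nat.card_zpowers]; exact Nat.le_of_dvd hp.out.pos (orderOf_dvd_of_pow_eq_one (he x))
  have hsup : ∀ H K : Subgroup P, H ≤ normalizer (K : Set P) →
      Nat.card (H ⊔ K : Subgroup P) ≤ Nat.card H * Nat.card K := by
    intro H K h
    rw [← H7.card_sup_mul_card_inf_of_le_normalizer h]
    exact Nat.le_mul_of_pos_right _ Nat.card_pos
  obtain ⟨K, hK3, hKn⟩ : ∃ K : Subgroup P, Nat.card K = p ^ 3 ∧ ¬ IsMulCommutative K := by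
    haveI : Nontrivial (P ⧸ center P) := by
      rw [QuotientGroup.nontrivial_iff]
      intro h
      exact hn ⟨⟨fun a b => (mem_center_iff.mp (h ▸ mem_top b) a)⟩⟩
    haveI := (hP.to_quotient (center P)).center_nontrivial
    obtain ⟨⟨y, hy⟩, hy1⟩ := exists_ne (1 : center (P ⧸ center P))
    obtain ⟨y, rfl⟩ := QuotientGroup.mk_surjective y
    have hyZ : y ∉ center P := fun h => hy1 (Subtype.ext ((QuotientGroup.eq_one_iff y).mpr h))
    obtain ⟨x, hx⟩ : ∃ x, x * y ≠ y * x := by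
      by_contra h
      push Not at h
      exact hyZ (mem_center_iff.mpr h)
    have hc : x * y * x⁻¹ * y⁻¹ ∈ center P := by
      rw [← QuotientGroup.eq_one_iff]
      have := mem_center_iff.mp hy (x : P ⧸ center P)
      simp only [QuotientGroup.mk_mul, QuotientGroup.mk_inv, this]
      group
    set c := x * y * x⁻¹ * y⁻¹ with hcd
    have n1 : zpowers y ≤ normalizer (zpowers c : Set P) :=
      H5.le_normalizer_of_le_centralizer (le_centralizer_iff.1
        ((zpowers_le.2 hc).trans (center_le_centralizer _)))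
    have n2 : zpowers x ≤ normalizer ((zpowers y ⊔ zpowers c : Subgroup P) : Set P) := by
      rw [zpowers_le, ← H7.cj_eq_self_iff]
      apply eq_of_le_of_card_ge _ (H7.card_cj _ _).ge
      rw [H7.cj_sup, sup_le_iff, MonoidHom.map_zpowers, MonoidHom.map_zpowers, zpowers_le,
        zpowers_le]
      constructor
      · have : (MulAut.conj x).toMonoidHom y = c * y := by simp [hcd]
        rw [this]
        exact mul_mem (mem_sup_right (mem_zpowers _)) (mem_sup_left (mem_zpowers _))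
      · have : (MulAut.conj x).toMonoidHom c = c := by
          change x * c * x⁻¹ = c
          rw [mem_center_iff.mp hc x]; group
        rw [this]
        exact mem_sup_right (mem_zpowers _)
    have hKn : ¬ IsMulCommutative (zpowers x ⊔ (zpowers y ⊔ zpowers c) : Subgroup P) := by
      intro h
      exact hx (H1.isMulCommutative_iff'.1 h x (mem_sup_left (mem_zpowers _)) y
        (mem_sup_right (mem_sup_left (mem_zpowers _))))
    refine ⟨_, le_antisymm ?_ (H7.cube_le_card_of_not_comm (hP.to_subgroup _) hKn), hKn⟩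
    calc _ ≤ _ := hsup _ _ n2
      _ ≤ p * (p * p) := Nat.mul_le_mul (hz x) ((hsup _ _ n1).trans (Nat.mul_le_mul (hz y) (hz c)))
      _ = p ^ 3 := by ring
  refine (Cfsg.Agent.S3918.result hp2 hP hn).mp fun H hH u hu => ?_
  by_contra huH
  obtain ⟨V, hVH, hV⟩ := Sylow.exists_subgroup_le_card_pow_prime_of_le_card hp.out hP
    (H7.sq_le_card_of_not_isCyclic (hP.to_subgroup H) hH)
  have hVc := IsPGroup.isMulCommutative_of_card_eq_prime_sq hV
  have huV : zpowers u ≤ centralizer (V : Set P) :=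
    zpowers_le.2 (centralizer_le hVH hu)
  have hu1 : u ≠ 1 := fun h => huH (h ▸ one_mem _)
  have hup : Nat.card (zpowers u) = p := by
    rw [Nat.card_zpowers]; exact orderOf_eq_prime (he u) hu1
  have h3 : zpowers u ⊓ V = ⊥ := (H7.eq_or_eq_bot_of_card_prime hup inf_le_left).resolve_right
    fun e => huH (hVH ((inf_eq_left.1 e) (mem_zpowers u)))
  have h4 := H1.card_sup_of_disjoint (H5.le_normalizer_of_le_centralizer huV) h3
  have h5 := H7.isMulCommutative_sup inferInstance hVc huV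
  obtain ⟨e⟩ := hB (zpowers u ⊔ V) K (by rw [h4, hup, hV, hK3]; ring)
  exact hKn ⟨⟨fun a b => e.symm.injective (by rw [map_mul, map_mul, mul_comm'])⟩⟩

theorem pow_conj {u x c : G} (h : u * x * u⁻¹ = c * x) (hc : Commute u c) (i : ℕ) :
    u ^ i * x * (u ^ i)⁻¹ = c ^ i * x := by
  induction i with
  | zero => simp
  | succ i ih =>
    calc u ^ (i + 1) * x * (u ^ (i + 1))⁻¹ = u * (u ^ i * x * (u ^ i)⁻¹) * u⁻¹ := by group
      _ = (u * c ^ i) * x * u⁻¹ := by rw [ih]; group
      _ = c ^ i * (u * x * u⁻¹) := by rw [(hc.pow_right i).eq]; group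
      _ = c ^ (i + 1) * x := by rw [h]; group

theorem aux5 [hp : Fact p.Prime] (hB : PConj p G) (P : Sylow p G)
    (he : ∀ x ∈ (P : Subgroup G), x ^ p = 1) (hn : ¬ IsMulCommutative (P : Subgroup G))
    (h3 : Nat.card (P : Subgroup G) = p ^ 3) :
    ∃ z u v : G, orderOf z = p ∧ u ^ p = 1 ∧ v ^ p = 1 ∧
      (v * u * v) ^ 2 * z * ((v * u * v) ^ 2)⁻¹ = z⁻¹ := by
  obtain ⟨hZ, hPP⟩ := H9.center_of_card_cube h3 hn
  set Z := (P : Subgroup G) ⊓ centralizer ((P : Subgroup G) : Set G) with hZd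
  have hcomm : ∀ a ∈ (P : Subgroup G), ∀ b ∈ (P : Subgroup G), a * b * a⁻¹ * b⁻¹ ∈ Z :=
    fun a ha b hb => hPP ▸ commutator_mem_commutator ha hb
  have hnc : ∀ x ∈ (P : Subgroup G), x ∉ Z → ∃ y ∈ (P : Subgroup G), y * x * y⁻¹ * x⁻¹ ≠ 1 := by
    intro x hx hxZ
    by_contra h
    push Not at h
    refine hxZ ⟨hx, fun y hy => ?_⟩
    have := h y hy
    rwa [mul_inv_eq_one, mul_inv_eq_iff_eq_mul] at this
  have hgen : ∀ z ∈ Z, z ≠ 1 → zpowers z = Z := fun z hz h1 =>
    (H7.eq_or_eq_bot_of_card_prime hZ (zpowers_le.2 hz)).resolve_left (by simpa using h1)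
  obtain ⟨x, hx, hxZ⟩ : ∃ x ∈ (P : Subgroup G), x ∉ Z := by
    by_contra h
    push Not at h
    exact hn (H1.isMulCommutative_iff'.2 fun a ha b hb => (h b hb).2 a ha)
  obtain ⟨y, hy, hz1⟩ := hnc x hx hxZ
  have hz := hcomm y hy x hx
  set z := y * x * y⁻¹ * x⁻¹ with hzd
  have hx1 : x ≠ 1 := fun h => hxZ (h ▸ one_mem _)
  have hxo : orderOf x = p := orderOf_eq_prime (he x hx) hx1
  obtain ⟨g0, hg0⟩ := hB (zpowers x) Z (P.isPGroup'.to_le (zpowers_le.2 hx))
    (P.isPGroup'.to_le inf_le_left) (by rw [Nat.card_zpowers, hxo, hZ])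
  have hEP : zpowers x ⊔ zpowers z ≤ (P : Subgroup G) := sup_le (zpowers_le.2 hx) (zpowers_le.2 hz.1)
  have hPC : (P : Subgroup G) ≤ centralizer (Z : Set G) := le_centralizer_iff.1 inf_le_right
  have hEC : (zpowers x ⊔ zpowers z).map (MulAut.conj g0).toMonoidHom ≤ centralizer (Z : Set G) := by
    rw [hg0, H7.centralizer_cj]
    apply H7.cj_mono
    rw [sup_le_iff]
    refine ⟨le_centralizer (zpowers x), zpowers_le.2 ?_⟩
    exact centralizer_le (zpowers_le.2 hx) hz.2
  obtain ⟨h, hh, hle⟩ := (H10.isSylowIn_of_sylow_le P hPC).exists_cj_le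
    (H7.isPGroup_cj (P.isPGroup'.to_le hEP) g0) hEC
  have hmem : ∀ a ∈ zpowers x ⊔ zpowers z, (h * g0) * a * (h * g0)⁻¹ ∈ (P : Subgroup G) := by
    intro a ha
    have := hle (H7.conj_mem_cj (g := h) (H7.conj_mem_cj (g := g0) ha))
    have e : h * (g0 * a * g0⁻¹) * h⁻¹ = (h * g0) * a * (h * g0)⁻¹ := by group
    rwa [e] at this
  have hZg : Z = (zpowers x).map (MulAut.conj (h * g0)).toMonoidHom := by
    rw [← H7.cj_cj, ← hg0, H7.cj_eq_self_iff.2 (centralizer_le_normalizer _ hh)]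
  generalize h * g0 = g at hmem hZg
  have hz' : g * x * g⁻¹ ∈ Z := hZg ▸ H7.conj_mem_cj (mem_zpowers x)
  have hx' := hmem z (mem_sup_right (mem_zpowers z))
  have hx'Z : g * z * g⁻¹ ∉ Z := by
    intro h1
    rw [hZg, H7.mem_cj] at h1
    have e : g⁻¹ * (g * z * g⁻¹) * g = z := by group
    rw [e] at h1
    have h2 := (H7.eq_or_eq_bot_of_card_prime (by rw [Nat.card_zpowers, hxo])
      (zpowers_le.2 h1)).resolve_left (by simpa using hz1)
    exact hxZ ((zpowers_le.2 hz) (h2 ▸ mem_zpowers x))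
  obtain ⟨u, hu, hc1⟩ := hnc _ hx' hx'Z
  have hc := hcomm u hu _ hx'
  have v1 : (g * y * g⁻¹) * (g * x * g⁻¹) * (g * y * g⁻¹)⁻¹ = (g * z * g⁻¹) * (g * x * g⁻¹) := by
    rw [hzd]; group
  have v2 : (g * y * g⁻¹) * (g * z * g⁻¹) * (g * y * g⁻¹)⁻¹ = g * z * g⁻¹ := by
    have := hz.2 y hy
    calc _ = g * (y * z) * y⁻¹ * g⁻¹ := by group
      _ = _ := by rw [this]; group
  have v3 : (g * y * g⁻¹) ^ p = 1 := by rw [conj_pow, he y hy]; group
  have hz'o : orderOf (g * x * g⁻¹) = p := by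
    rw [← hxo]; exact (MulAut.conj g).orderOf_eq x
  generalize g * y * g⁻¹ = v at v1 v2 v3
  generalize g * z * g⁻¹ = x' at *
  generalize g * x * g⁻¹ = z' at *
  have h1 : z'⁻¹ ∈ zpowers (u * x' * u⁻¹ * x'⁻¹) := by rw [hgen _ hc hc1]; exact inv_mem hz'
  obtain ⟨i, hi⟩ := mem_powers_iff_mem_zpowers.mpr h1
  have u1 := pow_conj (u := u) (x := x') (c := u * x' * u⁻¹ * x'⁻¹) (by group) (hc.2 u hu) i
  simp only at hi
  rw [hi] at u1
  have u2 : u ^ i * z' * (u ^ i)⁻¹ = z' := by rw [hz'.2 _ (pow_mem hu i)]; group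
  have hxz : x' * z' = z' * x' := hz'.2 _ hx'
  refine ⟨z', u ^ i, v, hz'o, he _ (pow_mem hu i), v3, ?_⟩
  generalize u ^ i = w at u1 u2
  have a1 : (v * w * v) * z' * (v * w * v)⁻¹ = x' := by
    calc _ = v * (w * (v * z' * v⁻¹) * w⁻¹) * v⁻¹ := by group
      _ = v * ((w * x' * w⁻¹) * (w * z' * w⁻¹)) * v⁻¹ := by rw [v1]; group
      _ = v * (z'⁻¹ * (x' * z')) * v⁻¹ := by rw [u1, u2]; group
      _ = v * x' * v⁻¹ := by rw [hxz]; group
      _ = x' := v2
  have a2 : (v * w * v) * x' * (v * w * v)⁻¹ = z'⁻¹ := by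
    calc _ = v * (w * (v * x' * v⁻¹) * w⁻¹) * v⁻¹ := by group
      _ = v * (z'⁻¹ * x') * v⁻¹ := by rw [v2, u1]
      _ = (v * z' * v⁻¹)⁻¹ * (v * x' * v⁻¹) := by group
      _ = z'⁻¹ := by rw [v1, v2]; group
  calc _ = (v * w * v) * ((v * w * v) * z' * (v * w * v)⁻¹) * (v * w * v)⁻¹ := by
        rw [pow_two]; group
    _ = z'⁻¹ := by rw [a1, a2]

theorem inv_odd {t z : G} (h : t * z * t⁻¹ = z⁻¹) {m : ℕ} (hm : Odd m) :
    t ^ m * z * (t ^ m)⁻¹ = z⁻¹ := by
  obtain ⟨k, rfl⟩ := hm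
  induction k with
  | zero => simpa using h
  | succ k ih =>
    calc _ = t * (t * (t ^ (2 * k + 1) * z * (t ^ (2 * k + 1))⁻¹) * t⁻¹) * t⁻¹ := by group
      _ = t * (t * z * t⁻¹)⁻¹ * t⁻¹ := by rw [ih]; group
      _ = z⁻¹ := by rw [h, inv_inv, h]

theorem four_dvd {w z : G} (h : w ^ 2 * z * (w ^ 2)⁻¹ = z⁻¹) (hz : z ≠ z⁻¹) : 4 ∣ orderOf w := by
  by_contra h4
  obtain ⟨m, hm, hd⟩ : ∃ m, Odd m ∧ orderOf w ∣ 2 * m := by
    rcases Nat.even_or_odd' (orderOf w) with ⟨k, hk | hk⟩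
    · refine ⟨k, ?_, hk ▸ dvd_rfl⟩
      rcases Nat.even_or_odd' k with ⟨j, hj | hj⟩
      · exact absurd ⟨j, by omega⟩ h4
      · exact ⟨j, hj⟩
    · exact ⟨orderOf w, ⟨k, hk⟩, Dvd.intro_left 2 rfl⟩
  have := inv_odd h hm
  rw [← pow_mul, orderOf_dvd_iff_pow_eq_one.mp hd] at this
  exact hz (by simpa using this)

theorem aux6 [hp : Fact p.Prime] (hp2 : p ≠ 2) (hB : PConj p G) (hB2 : PConj 2 G) {z u v : G}
    (hz : orderOf z = p) (hu : u ^ p = 1) (hv : v ^ p = 1)
    (h : (v * u * v) ^ 2 * z * ((v * u * v) ^ 2)⁻¹ = z⁻¹) : False := by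
  haveI : Fact (Nat.Prime 2) := ⟨Nat.prime_two⟩
  have hcop : Nat.Coprime p 2 := (Nat.coprime_primes hp.out Nat.prime_two).2 hp2
  have hzz : z ≠ z⁻¹ := by
    intro e
    have : z ^ 2 = 1 := by rw [pow_two]; nth_rewrite 2 [e]; simp
    have h1 := hz ▸ orderOf_dvd_of_pow_eq_one this
    exact hp.out.one_lt.ne' (hcop.eq_one_of_dvd h1)
  have h4 := four_dvd h hzz
  obtain ⟨S⟩ : Nonempty (Sylow 2 G) := inferInstance
  have hS := H10.isSylowIn_top S
  have hin : ∀ D : Subgroup G, IsPGroup 2 D → ∃ g, ∀ a ∈ D, g * a * g⁻¹ ∈ (S : Subgroup G) := by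
    intro D hD
    obtain ⟨g, -, hg⟩ := hS.exists_cj_le hD le_top
    exact ⟨g, fun a ha => hg (H7.conj_mem_cj ha)⟩
  have hexp : ∀ k, (∀ s : (S : Subgroup G), s ^ 2 ^ k = 1) → ¬ 2 ^ (k + 1) ∣ orderOf (v * u * v) := by
    rintro k hk ⟨m, hm⟩
    have hm0 : m ≠ 0 := by
      rintro rfl
      exact (orderOf_pos (v * u * v)).ne' (by simpa using hm)
    have h1 : orderOf ((v * u * v) ^ m) = 2 ^ (k + 1) := by
      rw [orderOf_pow_of_dvd hm0 ⟨2 ^ (k + 1), by rw [hm, mul_comm]⟩, hm,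
        Nat.mul_div_cancel _ (Nat.pos_of_ne_zero hm0)]
    obtain ⟨g, hg⟩ := hin _ (H10.isPGroup_zpowers_of_orderOf h1)
    have h2 := congrArg Subtype.val (hk ⟨_, hg _ (mem_zpowers _)⟩)
    simp only [SubmonoidClass.coe_pow, conj_pow, OneMemClass.coe_one, conj_eq_one_iff] at h2
    have h3 := Nat.le_of_dvd (by positivity) (h1 ▸ orderOf_dvd_of_pow_eq_one h2)
    have : 0 < 2 ^ k := by positivity
    omega
  suffices hN : ∃ N : Subgroup G, N.Normal ∧ (Nat.card N).Coprime 2 ∧ z ∈ N by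
    obtain ⟨N, hN, hN2, hzN⟩ := hN
    have hm : ∀ a : G, a ^ p = 1 → a ∈ N := by
      intro a ha
      by_cases ha1 : a = 1
      · rw [ha1]; exact one_mem _
      have hao := orderOf_eq_prime ha ha1
      obtain ⟨g, hg⟩ := hB (zpowers z) (zpowers a) (H10.isPGroup_zpowers_of_orderOf_eq hz)
        (H10.isPGroup_zpowers_of_orderOf_eq hao) (by rw [Nat.card_zpowers, Nat.card_zpowers, hz, hao])
      have : zpowers a ≤ N := by
        rw [hg, H7.cj_le_iff]
        exact fun b hb => hN.conj_mem _ (zpowers_le.2 hzN hb) g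
      exact this (mem_zpowers a)
    have hw : v * u * v ∈ N := mul_mem (mul_mem (hm v hv) (hm u hu)) (hm v hv)
    have h2 : 2 ∣ Nat.card N := (dvd_trans ⟨2, rfl⟩ h4).trans (N.orderOf_dvd_natCard hw)
    exact absurd (hN2.symm.eq_one_of_dvd h2) (by norm_num)
  rcases aux3 S.isPGroup' (hB2.equiv S.isPGroup') with h1 | h1 | ⟨-, ⟨e⟩⟩
  · exact absurd h4 (hexp 1 h1)
  · obtain ⟨T, N, hN, hc⟩ := H19.npc_of_isCyclic S h1
    have hi : N.index = Nat.card (T : Subgroup G) := hc.symm.index_eq_card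
    obtain ⟨k, hk⟩ := T.isPGroup'.exists_card_eq
    refine ⟨N, hN, ?_, ?_⟩
    · rw [← hc.index_eq_card]
      exact ((Nat.Prime.coprime_iff_not_dvd Nat.prime_two).2 T.not_dvd_index).symm
    · have h2 := N.pow_index_mem z
      rw [hi, hk] at h2
      exact H9.mem_of_pow_mem_of_coprime h2 (n := p) (by rw [← hz, pow_orderOf_eq_one]; exact one_mem _)
        (hcop.symm.pow_left k)
  · have hq4 : ∀ q : QuaternionGroup 2, q ^ 2 ^ 2 = 1 := by decide
    have hq2 : ∀ q r : QuaternionGroup 2, q * q = 1 → q ≠ 1 → r * r = 1 → r ≠ 1 → q = r := by decide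
    have h8 := hexp 2 (fun s => e.injective (by rw [map_pow, hq4, map_one]))
    obtain ⟨m, hm⟩ := h4
    have hmo : Odd m := by
      rcases Nat.even_or_odd' m with ⟨j, hj | hj⟩
      · exact absurd ⟨j, by rw [hm, hj]; ring⟩ h8
      · exact ⟨j, hj⟩
    have hm0 : 0 < m := hmo.pos
    have h5 := inv_odd h hmo
    have ht : orderOf (((v * u * v) ^ 2) ^ m) = 2 := by
      rw [← pow_mul, orderOf_pow_of_dvd (by omega) ⟨2, by rw [hm]; ring⟩, hm]
      apply Nat.div_eq_of_eq_mul_left (by omega); ring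
    generalize ((v * u * v) ^ 2) ^ m = t at h5 ht
    have hiso : IsIsolatedInvolution t := by
      refine ⟨ht, fun g hg => ?_⟩
      have ht' : orderOf (g * t * g⁻¹) = 2 := by rw [← ht]; exact (MulAut.conj g).orderOf_eq t
      generalize g * t * g⁻¹ = s at hg ht'
      have hD : IsPGroup 2 (zpowers t ⊔ zpowers s : Subgroup G) :=
        IsPGroup.to_sup_of_normal_right' (H10.isPGroup_zpowers_of_orderOf_eq ht)
          (H10.isPGroup_zpowers_of_orderOf_eq ht')
          (H5.le_normalizer_of_le_centralizer (zpowers_le.2 (by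
            rintro _ ⟨k, rfl⟩
            exact (hg.symm.zpow_left k).eq)))
      obtain ⟨g, hg⟩ := hin _ hD
      have key : ∀ a (ha : g * a * g⁻¹ ∈ (S : Subgroup G)), orderOf a = 2 →
          e ⟨_, ha⟩ * e ⟨_, ha⟩ = 1 ∧ e ⟨_, ha⟩ ≠ 1 := by
        intro a ha h2
        constructor
        · rw [← map_mul, map_eq_one_iff _ e.injective]
          apply Subtype.ext
          change g * a * g⁻¹ * (g * a * g⁻¹) = 1
          rw [← pow_two, conj_pow, ← h2, pow_orderOf_eq_one]; group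
        · rw [Ne, map_eq_one_iff _ e.injective]
          intro h3
          have h4 : g * a * g⁻¹ = 1 := congrArg Subtype.val h3
          rw [conj_eq_one_iff] at h4
          rw [h4, orderOf_one] at h2
          norm_num at h2
      have k1 := key t (hg _ (mem_sup_left (mem_zpowers _))) ht
      have k2 := key s (hg _ (mem_sup_right (mem_zpowers _))) ht'
      have := congrArg Subtype.val (e.injective (hq2 _ _ k2.1 k2.2 k1.1 k1.2))
      simpa using this
    have h6 := H19.zstar hiso z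
    rw [h5, ← mul_inv_rev, ← pow_two] at h6
    refine ⟨pPrimeCore 2 G, inferInstance, H1.coprime_card_pPrimeCore 2, ?_⟩
    exact H9.mem_of_pow_mem_of_coprime (inv_mem_iff.1 h6) (n := p)
      (by rw [← hz, pow_orderOf_eq_one]; exact one_mem _) hcop.symm

/-- Let G be a finite group in which, for every prime p, any two p-subgroups of the same order are conjugate. Then every Sylow subgroup of G is cyclic, elementary abelian, or a quaternion group of order 8. -/
theorem result {G : Type*} [Group G] [Finite G]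
    (hD : ∀ p : ℕ, p.Prime → ∀ H K : Subgroup G, IsPGroup p H → IsPGroup p K → Nat.card H = Nat.card K →
      ∃ g : G, K = H.map (MulAut.conj g).toMonoidHom) {p : ℕ} [Fact p.Prime] (P : Sylow p G) :
    IsCyclic P ∨ Cfsg.IsElementaryAbelian p (P : Subgroup G) ∨ Nonempty ((P : Subgroup G) ≃* QuaternionGroup 2) := by
  have hp : p.Prime := Fact.out
  have hB : PConj p G := hD p hp
  rcases aux3 P.isPGroup' (hB.equiv P.isPGroup') with h | h | h
  · have he : ∀ x ∈ (P : Subgroup G), x ^ p = 1 := fun x hx => congrArg Subtype.val (h ⟨x, hx⟩)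
    refine Or.inr (Or.inl ⟨?_, he⟩)
    by_contra hn
    by_cases hp2 : p = 2
    · subst hp2
      refine hn (H1.isMulCommutative_iff'.2 fun a ha b hb => ?_)
      have h1 := he _ (mul_mem ha hb)
      have h2 := he a ha
      have h3 := he b hb
      rw [pow_two] at h1 h2 h3
      calc a * b = a * (a * b * (a * b)) * b := by rw [h1, mul_one]
        _ = (a * a) * (b * a) * (b * b) := by group
        _ = b * a := by rw [h2, h3]; group
    · obtain ⟨z, u, v, h1, h2, h3, h4⟩ := aux5 hB P he hn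
        (aux4 hp2 P.isPGroup' (hB.equiv P.isPGroup') h hn)
      exact aux6 hp2 hB (hD 2 Nat.prime_two) h1 h2 h3 h4
  · exact Or.inl h
  · exact Or.inr (Or.inr h.2)

end Cfsg.Agent.S4020
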