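import Cfsg.Statements.S4021
import Cfsg.Agent.H15.CJ5
import Cfsg.Agent.S0253

set_option autoImplicit false
open Cfsg

namespace Cfsg.Agent.S4021

/-- Let G be a finite group in which any two subgroups of the same order are conjugate. Then G/O(G), O(G) the largest normal subgroup of odd order, is one of: a cyclic 2-group; the one-dimensional affine group over the field with 8 elements; the one-dimensional semi-affine group over the field with 8 or with 32 elements; PSL₂(8); the full automorphism group of PSL₂(32); the alternating group of degree 4 or 5; SL₂(3); or SL₂(5). -/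
theorem result {G : Type*} [Group G] [Finite G]
    (hC : ∀ H K : Subgroup G, Nat.card H = Nat.card K → ∃ g : G, K = H.map (MulAut.conj g).toMonoidHom) :
    (IsCyclic (G ⧸ Cfsg.oddCore G) ∧ IsPGroup 2 (G ⧸ Cfsg.oddCore G)) ∨
    Nonempty (G ⧸ Cfsg.oddCore G ≃* Cfsg.affineGroup (GaloisField 2 3)) ∨
    Nonempty (G ⧸ Cfsg.oddCore G ≃* Cfsg.semiaffineGroup (GaloisField 2 3)) ∨
    Nonempty (G ⧸ Cfsg.oddCore G ≃* Cfsg.semiaffineGroup (GaloisField 2 5)) ∨
    Nonempty (G ⧸ Cfsg.oddCore G ≃* Matrix.ProjectiveSpecialLinearGroup (Fin 2) (GaloisField 2 3)) ∨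
    Nonempty (G ⧸ Cfsg.oddCore G ≃* MulAut (Matrix.ProjectiveSpecialLinearGroup (Fin 2) (GaloisField 2 5))) ∨
    Nonempty (G ⧸ Cfsg.oddCore G ≃* alternatingGroup (Fin 4)) ∨
    Nonempty (G ⧸ Cfsg.oddCore G ≃* alternatingGroup (Fin 5)) ∨
    Nonempty (G ⧸ Cfsg.oddCore G ≃* Matrix.SpecialLinearGroup (Fin 2) (ZMod 3)) ∨
    Nonempty (G ⧸ Cfsg.oddCore G ≃* Matrix.SpecialLinearGroup (Fin 2) (ZMod 5)) := by
  have h : H15.CJ.FJ (G ⧸ oddCore G) := H15.CJ.FJ.map hC (QuotientGroup.mk'_surjective _)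
  rcases h.dj.cases (H1.pPrimeCore_quotient_pPrimeCore 2) with
    k | (k | k | k | ⟨M, _, _, S, j, ⟨e⟩⟩ | k | k) | ⟨F, _, _, p, n, hp, k1, k2, k3, k4⟩
  · exact Or.inl k
  · exact Or.inr (Or.inl k)
  · exact Or.inr (Or.inr (Or.inl k))
  · exact Or.inr (Or.inr (Or.inr (Or.inl k)))
  · exact ((h.map (f := e.symm.toMonoidHom) e.symm.surjective).not_j1 j).elim
  · exact Or.inr (Or.inr (Or.inr (Or.inr (Or.inl k))))
  · exact Or.inr (Or.inr (Or.inr (Or.inr (Or.inr (Or.inl k)))))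
  refine Or.inr (Or.inr (Or.inr (Or.inr (Or.inr (Or.inr ?_)))))
  have h8 : Fintype.card F % 8 = 3 ∨ Fintype.card F % 8 = 5 := by
    rw [k1, Nat.pow_mod]
    rcases k2 with rfl | rfl <;> rcases k3 with k | k <;> simp [k]
  rcases k4 with ⟨⟨e⟩⟩ | ⟨⟨e⟩⟩
  · rcases h.psl e h8 with k | k
    · obtain ⟨f⟩ := S0251.result k
      exact Or.inl ⟨e.trans f⟩
    · obtain ⟨f⟩ := S0253.result k
      exact Or.inr (Or.inl ⟨e.trans f⟩)
  · haveI : Fact (Nat.Prime 5) := ⟨by norm_num⟩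
    rcases (h.map (f := (QuotientGroup.mk' _).comp e.toMonoidHom)
      ((QuotientGroup.mk'_surjective _).comp e.surjective)).psl (MulEquiv.refl _) h8 with k | k
    · obtain ⟨f⟩ := H2.z_sl_congr (K := ZMod 3) k 2
      exact Or.inr (Or.inr (Or.inl ⟨e.trans f⟩))
    · obtain ⟨f⟩ := H2.z_sl_congr (K := ZMod 5) k 2
      exact Or.inr (Or.inr (Or.inr ⟨e.trans f⟩))

end Cfsg.Agent.S4021
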