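import Mathlib
import Cfsg.Statements.S4023
import Cfsg.Agent.S4020

set_option autoImplicit false
open Cfsg

namespace Cfsg.Agent.S4023

theorem result {G : Type*} [Group G] [Finite G]
    {p : ℕ} [Fact p.Prime] (hC : ∀ H K : Subgroup G, IsPGroup p H → IsPGroup p K → Nat.card H = Nat.card K →
      ∃ g : G, K = H.map (MulAut.conj g).toMonoidHom) (P : Sylow p G) :
    IsCyclic P ∨ Cfsg.IsElementaryAbelian p (P : Subgroup G) ∨
      (p = 2 ∧ Nonempty ((P : Subgroup G) ≃* QuaternionGroup 2)) ∨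
      (p ≠ 2 ∧ ¬ IsMulCommutative P ∧ Nat.card P = p ^ 3 ∧ Monoid.exponent P = p) := by
  have hB := S4020.PConj.equiv hC P.isPGroup'
  rcases S4020.aux3 P.isPGroup' hB with h | h | h
  · by_cases hc : IsMulCommutative P
    · exact Or.inr (Or.inl ⟨hc, fun x hx => congrArg Subtype.val (h ⟨x, hx⟩)⟩)
    by_cases hp : p = 2
    · subst hp
      refine absurd ⟨⟨fun a b => ?_⟩⟩ hc
      have e : ∀ x : P, x⁻¹ = x := fun x => inv_eq_of_mul_eq_one_left (by rw [← pow_two, h])
      rw [← e (a * b), mul_inv_rev, e, e]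
    refine Or.inr (Or.inr (Or.inr ⟨hp, hc, S4020.aux4 hp P.isPGroup' hB h hc, ?_⟩))
    refine ((Nat.dvd_prime Fact.out).1 (Monoid.exponent_dvd_of_forall_pow_eq_one h)).resolve_left
      fun e => hc ?_
    haveI := Monoid.exp_eq_one_iff.1 e
    exact ⟨⟨fun a b => Subsingleton.elim _ _⟩⟩
  · exact Or.inl h
  · exact Or.inr (Or.inr (Or.inl h))

end Cfsg.Agent.S4023
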