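import Mathlib
import Cfsg.Statements.S4024
import Cfsg.Agent.S4023
import Cfsg.Agent.H9.GY

set_option autoImplicit false
open Cfsg

namespace Cfsg.Agent.S4024

theorem result {G : Type*} [Group G] [Finite G]
    {p : ℕ} [Fact p.Prime] (hp : p ≠ 2) (hC : ∀ H K : Subgroup G, IsPGroup p H → IsPGroup p K → Nat.card H = Nat.card K →
      ∃ g : G, K = H.map (MulAut.conj g).toMonoidHom) (P : Sylow p G)
    (H : Subgroup G) [H.Normal] (hsolv : Cfsg.IsPSolvable p H) (hdiv : p ∣ Nat.card H) :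
    IsMulCommutative P ∧ ((P : Subgroup G) ≤ H ∨ IsCyclic P) := by
  open Subgroup in
  have hpp : p.Prime := Fact.out
  have hconj : ∀ x y : G, orderOf x = p → orderOf y = p → ∃ g : G, y ∈ zpowers (g * x * g⁻¹) := by
    intro x y hx hy
    obtain ⟨g, hg⟩ := hC _ _ (H10.isPGroup_zpowers_of_orderOf_eq hx)
      (H10.isPGroup_zpowers_of_orderOf_eq hy) (by rw [Nat.card_zpowers, Nat.card_zpowers, hx, hy])
    rw [MonoidHom.map_zpowers] at hg
    exact ⟨g, hg ▸ mem_zpowers y⟩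
  have hH : ∀ y : G, y ^ p = 1 → y ∈ H := by
    intro y hy
    by_cases h1 : y = 1
    · exact h1 ▸ H.one_mem
    obtain ⟨x, hx, ox⟩ := H10.exists_orderOf_eq_of_dvd hdiv
    obtain ⟨g, hg⟩ := hconj x y ox (orderOf_eq_prime hy h1)
    exact zpowers_le.2 ((inferInstance : H.Normal).conj_mem x hx g) hg
  rcases Cfsg.Agent.S4023.result hC P with h | h | h | ⟨-, -, -, h⟩
  · exact ⟨h.isMulCommutative, Or.inr h⟩
  · exact ⟨h.1, Or.inl fun y hy => hH y (h.2 y hy)⟩
  · exact absurd h.1 hp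
  have he : ∀ y ∈ (P : Subgroup G), y ^ p = 1 := fun y hy =>
    congrArg Subtype.val (h ▸ Monoid.pow_exponent_eq_one (⟨y, hy⟩ : P))
  refine ⟨H1.isMulCommutative_iff'.2 fun a ha b hb => ?_, Or.inl fun y hy => hH y (he y hy)⟩
  have ht : H9.AutTrans p H := fun x y hx hy => by
    obtain ⟨g, k, hk⟩ := hconj x y (by rw [orderOf_coe, hx]) (by rw [orderOf_coe, hy])
    exact ⟨MulAut.conjNormal g, k, Subtype.ext (by simpa using hk)⟩
  set O := pPrimeCore p H with hO
  have key : ∀ y : H, y ^ p = 1 → (y : H ⧸ O) ∈ pCore p (H ⧸ O) ⊓ centralizer (pCore p (H ⧸ O)) := by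
    intro y hy
    by_cases h1 : (y : H ⧸ O) = 1
    · rw [h1]; exact one_mem _
    exact ht.quotient.mem_center_pCore (H1.IsPSolvable.quotient hsolv _)
      (H1.pPrimeCore_quotient_pPrimeCore p)
      (orderOf_eq_prime (by rw [← QuotientGroup.mk_pow, hy]; rfl) h1)
  let a' : H := ⟨a, hH a (he a ha)⟩
  let b' : H := ⟨b, hH b (he b hb)⟩
  have h1 := (key b' (Subtype.ext (he b hb))).2 _ (key a' (Subtype.ext (he a ha))).1
  have h2 : a' * b' * a'⁻¹ * b'⁻¹ ∈ O := by
    rw [← QuotientGroup.eq_one_iff]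
    simp only [QuotientGroup.mk_mul, QuotientGroup.mk_inv]
    rw [h1]; group
  have h3 : (a' * b' * a'⁻¹ * b'⁻¹) ^ p = 1 := Subtype.ext (he _
    (mul_mem (mul_mem (mul_mem ha hb) (inv_mem ha)) (inv_mem hb)))
  have h4 := H3.eq_one_of_pow_of_coprime (p := p) (k := 1) (by rw [pow_one]; exact h3)
    ((H1.coprime_card_pPrimeCore p).coprime_dvd_left (orderOf_dvd_natCard _ h2))
  rw [mul_inv_eq_one, mul_inv_eq_iff_eq_mul] at h4
  exact congrArg Subtype.val h4

end Cfsg.Agent.S4024
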