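import Cfsg.Statements.S4025
import Cfsg.Agent.H15.CJ6

set_option autoImplicit false
open Cfsg

namespace Cfsg.Agent.S4025

/-- Let p be a prime and G a finite group in which any two p-subgroups of the same order are conjugate, and suppose a Sylow p-subgroup P of G is elementary abelian of order pⁿ with n ≥ 3. Let N be the normalizer of P and K the largest normal subgroup of N of order prime to p, and assume N/K is solvable. Then either n = 3 and N/K embeds in the one-dimensional semi-affine group over the field with p³ elements (and for p = 2 it is isomorphic to the affine or the semi-affine group over the field with 8 elements), or n = 5, p = 2 and N/K is isomorphic to the one-dimensional semi-affine group over the field with 32 elements. -/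
theorem result {G : Type*} [Group G] [Finite G]
    {p : ℕ} [Fact p.Prime] (hC : ∀ H K : Subgroup G, IsPGroup p H → IsPGroup p K → Nat.card H = Nat.card K →
      ∃ g : G, K = H.map (MulAut.conj g).toMonoidHom) (P : Sylow p G) (n : ℕ) (hn : 3 ≤ n)
    (hel : Cfsg.IsElementaryAbelian p (P : Subgroup G)) (hcard : Nat.card P = p ^ n)
    (N : Subgroup G) (hN : N = Subgroup.normalizer ((P : Subgroup G) : Set G))
    (hsolv : Group.IsSolvable (↥N ⧸ Cfsg.pPrimeCore p ↥N)) :
    (n = 3 ∧ (∃ f : ↥N ⧸ Cfsg.pPrimeCore p ↥N →* ↥(Cfsg.semiaffineGroup (GaloisField p 3)), Function.Injective f) ∧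
      (p = 2 → Nonempty (↥N ⧸ Cfsg.pPrimeCore p ↥N ≃* Cfsg.semiaffineGroup (GaloisField 2 3)) ∨
               Nonempty (↥N ⧸ Cfsg.pPrimeCore p ↥N ≃* Cfsg.affineGroup (GaloisField 2 3)))) ∨
    (n = 5 ∧ p = 2 ∧ Nonempty (↥N ⧸ Cfsg.pPrimeCore p ↥N ≃* Cfsg.semiaffineGroup (GaloisField 2 5))) := by
  subst hN
  set N := Subgroup.normalizer ((P : Subgroup G) : Set G)
  have hK : (Nat.card (pPrimeCore p N)).Coprime p := H1.coprime_card_pPrimeCore p
  have h := (H15.CJ.AP.norm hC P (Subgroup.le_centralizer (P : Subgroup G) (h := hel.1))).quot _ hK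
  set Q := (P : Subgroup G).subgroupOf N
  have hQ : Nat.card Q = p ^ n :=
    (Nat.card_congr (Subgroup.subgroupOfEquivOfLe Subgroup.le_normalizer).toEquiv).trans hcard
  have := hel.1
  refine H15.CJ.normal_cases' (S := Q.map (QuotientGroup.mk' _)) h (H1.pPrimeCore_quotient_pPrimeCore p)
    (fun e => P.not_dvd_index (e.trans ((Subgroup.index_map_dvd _ (QuotientGroup.mk'_surjective _)).trans
      (Subgroup.relIndex_dvd_index_of_le Subgroup.le_normalizer)))) inferInstance ?_ ?_ hn
  · rintro _ ⟨x, hx, rfl⟩
    rw [← map_pow, show x ^ p = 1 from Subtype.ext (hel.2 x hx), map_one]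
  · have : ((QuotientGroup.mk' (pPrimeCore p N)).comp Q.subtype).ker = ⊥ := by
      rw [← MonoidHom.comap_ker, QuotientGroup.ker_mk', Subgroup.comap_subtype,
        Subgroup.subgroupOf_eq_bot]
      exact Subgroup.disjoint_of_coprime_natCard (hQ ▸ hK.pow_right n)
    rw [← hQ, Nat.card_congr (MonoidHom.ofInjective ((MonoidHom.ker_eq_bot_iff _).1 this)).toEquiv,
      MonoidHom.range_comp, Subgroup.range_subtype]

end Cfsg.Agent.S4025
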