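import Cfsg.Statements.S4030
import Cfsg.Agent.H26.JRy

set_option autoImplicit false
open Cfsg

namespace Cfsg.Agent.S4030


/-- Let G be a finite non-abelian simple group in which N_G(⟨x⟩) = C_G(x) for every 2-element x. Then G is isomorphic to PSL₂(q) for a prime power q ≥ 4 with q ≡ 0, 3 or 5 (mod 8), or G is simple of the order of a Suzuki group, of a Ree group in characteristic 3, or of order 175560. -/
theorem result {G : Type*} [Group G] [Finite G] [IsSimpleGroup G] (hna : ¬ IsMulCommutative G)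
    (hirr : ∀ x : G, (∀ r : ℕ, r.Prime → r ∣ orderOf x → r = 2) →
      Subgroup.normalizer ((Subgroup.zpowers x : Subgroup G) : Set G) ≤ Subgroup.centralizer {x}) :
    (∃ (F : Type) (_ : Field F) (_ : Fintype F), 4 ≤ Fintype.card F ∧
        (Fintype.card F % 8 = 0 ∨ Fintype.card F % 8 = 3 ∨ Fintype.card F % 8 = 5) ∧
        Nonempty (G ≃* Matrix.ProjectiveSpecialLinearGroup (Fin 2) F)) ∨
    Cfsg.IsSuzuki G ∨ Cfsg.IsRee G ∨ Cfsg.IsJ1 G := by
  obtain ⟨S⟩ : Nonempty (Sylow 2 G) := inferInstance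
  have hS := H10.isSylowIn_top S
  have key : ∀ P : Subgroup G, IsPGroup 2 P → ∀ x ∈ P, ∀ y : G, y * x * y⁻¹ = x⁻¹ → x * x = 1 :=
    fun P hP x hx y e => by
      obtain ⟨k, hk⟩ := hP ⟨x, hx⟩
      have h1 := hirr x (fun r hr h => (Nat.prime_dvd_prime_iff_eq hr Nat.prime_two).1
        (hr.dvd_of_dvd_pow (h.trans (orderOf_dvd_of_pow_eq_one (congrArg Subtype.val hk)))))
        (H26.J.mem_norm_of_inv e)
      rw [Subgroup.mem_centralizer_singleton_iff.1 h1, mul_inv_cancel_right] at e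
      exact mul_eq_one_iff_eq_inv.2 e
  rcases H26.J.types_inv ‹_› hna hS (fun a ha b hb h1 h2 => by
    have h3 := inv_eq_of_mul_eq_one_right h1
    have h4 := inv_eq_of_mul_eq_one_right h2
    have := key S S.isPGroup' (a * b) (mul_mem ha hb) a (by
      rw [mul_inv_rev, h3, h4, ← mul_assoc, h1, one_mul])
    rw [← inv_eq_of_mul_eq_one_right this, mul_inv_rev, h3, h4]) with h | h | h
  · rcases H26.J.tri_of_tb ‹_› hna h with k | k | k
    · obtain ⟨F, _, _, h1, h2, e⟩ := k.mod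
      exact Or.inl ⟨F, _, _, h1, Or.inl h2, e⟩
    · exact Or.inr (Or.inl (H17.isSuzuki_of_iso k))
    · obtain ⟨P, hP, x, hx, y, -, e, k2⟩ := k.real
      exact absurd (key P hP x hx y e) k2
  · obtain ⟨F, _, _, h1, h2, e⟩ := H16.GD.l2d_of_td h
    exact Or.inl ⟨F, _, _, h2, Or.inr h1, e⟩
  · obtain ⟨p, n, ρ, τ, f, k⟩ := H26.J.jr_of_tr ‹_› h hS
    exact Or.inr (Or.inr k.ree_or)

end Cfsg.Agent.S4030
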