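import Cfsg.Statements.S4031
import Cfsg.Agent.H10.GG2
import Cfsg.Agent.H18.BSW5
import Cfsg.Agent.H17.Sz15
import Cfsg.Agent.S0144
import Cfsg.Agent.H4.Dk1

set_option autoImplicit false
open Cfsg

namespace Cfsg.Agent.S4031

open H17 Cfsg


/-- Let G be a finite non-abelian simple group in which N_G(⟨x⟩) = C_G(x) for every 3-element x. Then either G is isomorphic to PSL₂(q) with q an odd power of 3, q ≥ 27, or G is simple of the order of a Suzuki group (so 3 does not divide its order). -/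
theorem result {G : Type*} [Group G] [Finite G] [IsSimpleGroup G] (hna : ¬ IsMulCommutative G)
    (hirr : ∀ x : G, (∀ r : ℕ, r.Prime → r ∣ orderOf x → r = 3) →
      Subgroup.normalizer ((Subgroup.zpowers x : Subgroup G) : Set G) ≤ Subgroup.centralizer {x}) :
    (∃ f : ℕ, 1 ≤ f ∧ Nonempty (G ≃* Matrix.ProjectiveSpecialLinearGroup (Fin 2) (GaloisField 3 (2 * f + 1)))) ∨
    Cfsg.IsSuzuki G := by
  have h3 : ¬ H4.IsSec (Equiv.Perm (Fin 3)) (⊤ : Subgroup G) := fun k => by
    obtain ⟨e⟩ := H10.d3_equiv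
    obtain ⟨n, -, y, -, j, k, -, a2, a3, a4⟩ := H10.exists_inv_of_isSec_dih (p := 3) (by norm_num)
      (H10.IsSec.equiv k e.symm)
    have o : orderOf y ∣ 3 ^ k := orderOf_dvd_of_pow_eq_one a2
    have h1 : n ∈ Subgroup.centralizer {y} := by
      refine hirr y (fun r hr h => (Nat.prime_dvd_prime_iff_eq hr Nat.prime_three).1
        (hr.dvd_of_dvd_pow (h.trans o))) (Subgroup.mem_normalizer_fintype ?_)
      rintro _ ⟨m, rfl⟩
      exact ⟨-m, by simp only [← conj_zpow, a4, inv_zpow', zpow_neg]⟩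
    have h2 : y * y = 1 := by
      have := Subgroup.mem_centralizer_iff.1 h1 y rfl
      rw [← this, mul_inv_cancel_right] at a4
      exact mul_eq_one_iff_eq_inv.2 a4
    have h4 : orderOf y ∣ 2 := orderOf_dvd_of_pow_eq_one (by rw [pow_two, h2])
    exact a3 (orderOf_eq_one_iff.1 (Nat.eq_one_of_dvd_coprimes
      (Nat.Coprime.pow_right k (by norm_num : Nat.Coprime 2 3)) h4 o))
  rcases H10.sz_of_not_isSec_s3 ‹_› hna h3 with h | ⟨F, _, _, f, hF, ⟨e⟩⟩
  · exact Or.inr (H17.isSuzuki_of_iso h)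
  · refine Or.inl ⟨f, Nat.pos_of_ne_zero fun h0 => hna ?_, ?_⟩
    · subst h0
      have h1 := H4.card_psl (F := F)
      rw [hF, ← Nat.card_congr e.toEquiv] at h1
      haveI := Cfsg.Agent.S0144.result (G := G) 2 3 2 1 Nat.prime_two Nat.prime_three (by
        norm_num at h1 ⊢; omega)
      exact ⟨⟨IsSimpleGroup.comm_iff_isSolvable.2 this⟩⟩
    · letI := Fintype.ofFinite (GaloisField 3 (2 * f + 1))
      obtain ⟨e2⟩ := H18.psl_congr (F := F) (K := GaloisField 3 (2 * f + 1)) (by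
        rw [hF, ← Nat.card_eq_fintype_card, GaloisField.card 3 _ (by omega)]) 2
      exact ⟨e.trans e2⟩

end Cfsg.Agent.S4031
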