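import Cfsg.Statements.S4044
import Cfsg.Agent.H15.Hn1
import Cfsg.Agent.H15.Hn2

set_option autoImplicit false
open Cfsg

namespace Cfsg.Agent.S4044

/-- For an integer m ≥ 2 the following are equivalent: (a) every finite group whose order n is divisible by m with gcd(m, n/m) = 1 has a subgroup of order m; (b) m is a prime power, or m ≡ 2 (mod 4), or m ∈ {12, 24, 60}. -/
theorem result (m : ℕ) (hm : 2 ≤ m) :
    (∀ (G : Type) [Group G] [Finite G], m ∣ Nat.card G → m.Coprime (Nat.card G / m) →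
        ∃ H : Subgroup G, Nat.card H = m) ↔
    (IsPrimePow m ∨ m % 4 = 2 ∨ m = 12 ∨ m = 24 ∨ m = 60) := by
  refine ⟨fun h => ?_, fun h G _ _ => H15.Hn.hall h⟩
  by_contra! k
  obtain ⟨k1, k2, k3, k4, k5⟩ := k
  obtain ⟨a, b, rfl, h1, h2, h3, h4, h5⟩ := H15.Hn.split hm k1 k2
  obtain ⟨G, _, _, j1, j2, j3⟩ := H15.Hn.counter h1 h2 h3 h4 h5 k3 k4 k5
  obtain ⟨H, hH⟩ := h G j1 j2
  exact j3 H hH

end Cfsg.Agent.S4044
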