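import Cfsg.Statements.S4047
import Cfsg.Agent.H15.Rw8

set_option autoImplicit false
open Cfsg

namespace Cfsg.Agent.S4047

/-- Let π be a set of odd primes and G a finite group whose Sylow 2-subgroups are dihedral or abelian. If N_G(H)/C_G(H) is a π-group for every nontrivial π-subgroup H of G, then the π'-elements of G form a subgroup. -/
theorem result {G : Type*} [Group G] [Finite G] (π : Set ℕ)
    (hodd : ∀ p ∈ π, p.Prime ∧ p ≠ 2) (h2 : ∀ S : Sylow 2 G, IsMulCommutative S ∨ ∃ n : ℕ, Nonempty ((S : Subgroup G) ≃* DihedralGroup n))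
    (hhom : (∀ H : Subgroup G, H ≠ ⊥ → (∀ p : ℕ, p.Prime → p ∣ Nat.card ↥H → p ∈ π) →
        ∀ p : ℕ, p.Prime → p ∣ (Subgroup.centralizer (H : Set G)).relIndex (Subgroup.normalizer (H : Set G)) → p ∈ π)) :
    (∃ K : Subgroup G, ∀ x : G, x ∈ K ↔ ∀ p : ℕ, p.Prime → p ∣ orderOf x → p ∉ π) := by
  refine H17.Ho.closed (H15.Rw.piSep (H17.Ho.ph_of_hom hhom) (fun e => (hodd 2 e).2 rfl) ?_) hhom
  obtain ⟨S⟩ : Nonempty (Sylow 2 G) := inferInstance
  rcases h2 S with k | ⟨n, ⟨e⟩⟩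
  · refine Or.inl fun P hP => ?_
    obtain ⟨T, hT⟩ := hP.exists_le_sylow
    have : IsMulCommutative (T : Subgroup G) :=
      ⟨⟨fun a b => (S.equiv T).symm.injective (by
        rw [map_mul, map_mul]; exact k.1.1 _ _)⟩⟩
    refine ⟨⟨fun a b => Subtype.ext ?_⟩⟩
    have e := congrArg Subtype.val (this.1.1 ⟨a, hT a.2⟩ ⟨b, hT b.2⟩)
    exact e
  · exact Or.inr (GW.dih_of_sylow S e)

end Cfsg.Agent.S4047
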