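import Cfsg.Statements.S4078
import Cfsg.Agent.H9.Fl2
import Cfsg.Agent.S0205
import Cfsg.Agent.H4.Sol

set_option autoImplicit false
open Cfsg

namespace Cfsg.Agent.S4078

open Subgroup

theorem sub {G H : Type*} [Group G] [Group H] {f : G →* H} (hf : Group.IsSolvable f.ker) (a b : G) :
    Group.IsSolvable (closure ({f a, f b} : Set H)) ↔ Group.IsSolvable (closure ({a, b} : Set G)) := by
  rw [← Set.image_pair, ← MonoidHom.map_closure]
  refine ⟨fun h => ?_, fun h => solvable_of_surjective (MonoidHom.subgroupMap_surjective _ _)⟩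
  have : Group.IsSolvable (f.subgroupMap (closure {a, b})).ker := solvable_of_solvable_injective
    (f := ((closure {a, b}).subtype.comp (Subgroup.subtype _)).codRestrict f.ker fun x => congrArg Subtype.val x.2)
    fun x y e => Subtype.ext (Subtype.ext (congrArg (fun z : f.ker => z.1) e))
  exact solvable_of_ker_le_range (Subgroup.subtype _) (f.subgroupMap (closure {a, b})) (range_subtype _).ge

/-- For an element x of a finite group G let Sol(x) be the set of y ∈ G such that x and y generate a solvable subgroup. Then G is solvable if and only if Sol(x) is (the carrier of) a subgroup of G for every x ∈ G. -/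
theorem result {G : Type*} [Group G] [Finite G] :
    Group.IsSolvable G ↔ ∀ x : G, ∃ H : Subgroup G, (H : Set G) = {y : G | Group.IsSolvable ↥(Subgroup.closure ({x, y} : Set G))} := by
  refine ⟨fun h x => ⟨⊤, (Set.eq_univ_of_forall fun y => inferInstanceAs (Group.IsSolvable _)).symm⟩, fun h => ?_⟩
  refine H9.Fl.ind (fun G _ => ∀ x : G, ∃ H : Subgroup G, (H : Set G) = {y | Group.IsSolvable (closure ({x, y} : Set G))})
    (fun G _ H h x => ?_) (fun G _ N _ s h x => ?_) (fun G _ _ h s _ => ?_) _ G rfl h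
  · obtain ⟨K, e⟩ := h x
    refine ⟨K.comap H.subtype, Set.ext fun y => (Set.ext_iff.1 e y).trans (sub (f := H.subtype) ?_ x y)⟩
    rw [ker_subtype]; infer_instance
  · obtain ⟨x, rfl⟩ := QuotientGroup.mk'_surjective N x
    obtain ⟨K, e⟩ := h x
    have k := sub (f := QuotientGroup.mk' N) (by rwa [QuotientGroup.ker_mk']) x
    refine ⟨K.map (QuotientGroup.mk' N), Set.ext fun y => ⟨?_, fun t => ?_⟩⟩
    · rintro ⟨y, t, rfl⟩
      exact (k y).2 ((Set.ext_iff.1 e y).1 t)
    · obtain ⟨y, rfl⟩ := QuotientGroup.mk'_surjective N y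
      exact ⟨y, (Set.ext_iff.1 e y).2 ((k y).1 t), rfl⟩
  refine (Nat.even_or_odd _).elim (fun e => H9.Fl.main fun a b => ?_) S0205.result
  have := Fact.mk Nat.prime_two
  obtain ⟨t, ht⟩ := exists_prime_orderOf_dvd_card' 2 e.two_dvd
  choose S hS using h
  have m : ∀ x y, y ∈ S x ↔ Group.IsSolvable (closure ({x, y} : Set G)) := fun x y => Set.ext_iff.1 (hS x) y
  have top : ∀ x, (∀ y, orderOf y = 2 → y ∈ S x) → ∀ y, y ∈ S x := fun x k y => by
    rcases s.eq_bot_or_eq_top_of_normal _ (normalClosure_normal (s := {t})) with v | v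
    · exact absurd (mem_bot.1 (v ▸ subset_normalClosure rfl)) (H9.Fl.ne1 ht)
    · refine (closure_le _).2 (fun z hz => k z ?_) (v ▸ mem_top y : y ∈ normalClosure {t})
      obtain ⟨_, rfl, c⟩ := Group.mem_conjugatesOfSet_iff.1 hz
      obtain ⟨g, rfl⟩ := isConj_iff.1 c
      exact (H9.Fl.ord_conj _ _).trans ht
  refine (m a b).1 (top a (fun y hy => (m a y).2 (Set.pair_comm y a ▸ (m y a).1 (top y (fun z hz => (m y z).2 ?_) a))) b)
  exact H4.solv_two_inv (by rw [← sq, ← hy, pow_orderOf_eq_one]) (by rw [← sq, ← hz, pow_orderOf_eq_one])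

end Cfsg.Agent.S4078
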