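import Cfsg.Statements.S4087
import Cfsg.Agent.H1.CIT13

set_option autoImplicit false
open Cfsg

namespace Cfsg.Agent.S4087

open H1.CIT

/-- Let G be a finite group in which every non-identity element has prime-power order (its prime graph has no edges). Then the order of G has at most four distinct prime divisors; and if it has exactly four, then either G is isomorphic to PSL(3,4), or G has a normal 2-subgroup N with G/N isomorphic to the Suzuki group over the field with 8 or with 32 elements. -/
theorem result {G : Type*} [Group G] [Finite G] (h : ∀ g : G, g ≠ 1 → IsPrimePow (orderOf g)) :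
    (Nat.card G).primeFactors.card ≤ 4 ∧
    ((Nat.card G).primeFactors.card = 4 →
      (∃ (F : Type) (_ : Field F) (_ : Fintype F), Fintype.card F = 4 ∧
        Nonempty (G ≃* Matrix.ProjectiveSpecialLinearGroup (Fin 3) F)) ∨
      (∃ (N : Subgroup G) (_ : N.Normal), IsPGroup 2 ↥N ∧
        ∃ (F : Type) (_ : Field F) (_ : Fintype F),
          (Fintype.card F = 8 ∧ Nonempty (G ⧸ N ≃* ↥(Cfsg.Lie.Sz F 4))) ∨
          (Fintype.card F = 32 ∧ Nonempty (G ⧸ N ≃* ↥(Cfsg.Lie.Sz F 8))))) := by
  have he := eppo_of h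
  by_cases hs : Group.IsSolvable G
  · have := he.card_le hs
    exact ⟨by omega, fun e => by omega⟩
  rw [primeFactors_quot hs]
  have h3 : ∀ n ∈ ({60, 168, 504, 360, 2448, 720} : Finset ℕ), n.primeFactors.card = 3 := by
    decide +kernel
  rcases he.cit.struct' hs with hK | hK
  swap
  · rw [hK.card, h3 720 (by simp)]; simp
  rcases hK.eppo (he.quot (QuotientGroup.mk'_surjective _)) with ⟨F, i1, i2, h1, ⟨f⟩⟩ | ⟨⟨f⟩⟩ | h1
  · rw [Nat.card_congr f.toEquiv, h3 _ ?_]
    · simp
    simp only [Finset.mem_insert, Finset.mem_singleton] at h1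
    rcases h1 with e | e | e | e | e
    · simp [card_psl_of (n := 60) e, -Nat.card_eq_fintype_card]
    · simp [card_psl_of (n := 168) e, -Nat.card_eq_fintype_card]
    · simp [card_psl_of (n := 504) e, -Nat.card_eq_fintype_card]
    · simp [card_psl_of (n := 360) e, -Nat.card_eq_fintype_card]
    · simp [card_psl_of (n := 2448) e, -Nat.card_eq_fintype_card]
  · have c := (Nat.card_congr f.toEquiv).trans card_psl34
    refine ⟨by rw [c]; decide +kernel, fun _ => Or.inl ⟨_, inferInstance, inferInstance, card_F4,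
      (equiv_of_bot (by_contra fun h0 => ?_)).map (·.trans f)⟩⟩
    have := el_psl34.1 ((El.congr f).1 (he.cit.el_nine h0 (by rw [c]; norm_num)))
    norm_num at this
  · refine ⟨?_, fun _ => Or.inr ⟨_, inferInstance, H10.isPGroup_pCore', h1⟩⟩
    obtain ⟨F, i1, i2, ⟨e, ⟨f⟩⟩ | ⟨e, ⟨f⟩⟩⟩ := h1
    · rw [(Nat.card_congr f.toEquiv).trans (H26.Sz.lieModel (m := 1) le_rfl e).card_G, e]
      decide +kernel
    · rw [(Nat.card_congr f.toEquiv).trans (H26.Sz.lieModel (m := 2) one_le_two e).card_G, e]
      decide +kernel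

end Cfsg.Agent.S4087
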