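import Mathlib
import Cfsg.Statements.S4112
import Cfsg.Agent.H8.Elt
import Cfsg.Agent.H1.Frattini

set_option autoImplicit false
open Cfsg

namespace Cfsg.Agent.S4112

open Subgroup in

theorem result {G : Type*} [Group G] [Finite G] (N M : Subgroup G) [N.Normal] [M.Normal] (hMN : M ≤ N) (hM1 : M ≠ ⊥) (hN2 : N ≠ ⊤)
    (hcam : ∀ g : G, g ∉ N → ∀ m ∈ M, ∃ x : G, x * g * x⁻¹ = g * m) :
    ((∀ x ∈ M, x ≠ 1 → Subgroup.centralizer ({x} : Set G) ≤ N) ↔ N.index.Coprime (Nat.card M)) ∧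
    ((∀ x ∈ M, x ≠ 1 → Subgroup.centralizer ({x} : Set G) ≤ N) → ∃ H : Subgroup G, H ⊔ N = ⊤ ∧ H ⊓ M = ⊥) := by
  have h12 : (∀ x ∈ M, x ≠ 1 → centralizer ({x} : Set G) ≤ N) → N.index.Coprime (Nat.card M) := by
    intro h
    refine Nat.coprime_of_dvd fun p hp h1 h2 => ?_
    have : Fact p.Prime := ⟨hp⟩
    let P : Sylow p G := default
    have h3 : (P : Subgroup G) ⊓ M ≠ ⊥ := by
      intro h0
      have h4 := H3.not_dvd_relIndex_of_normal P M
      rw [← inf_relIndex_right, h0, relIndex_bot_left] at h4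
      exact h4 h2
    obtain ⟨⟨z, hz⟩, hz1⟩ := ne_bot_iff_exists_ne_one.1
      (H1.inf_centralizer_ne_bot_of_isPGroup (P.2.to_inf_left (K := M)) P.2
        ((le_inf le_normalizer le_normalizer_of_normal).trans inf_normalizer_le_normalizer_inf) h3)
    exact H8.not_dvd_index_of_sylow_le P (le_trans (fun s hs =>
      mem_centralizer_singleton_iff.2 (hz.2 s hs)) (h z hz.1.2 fun h0 => hz1 (Subtype.ext h0))) h1
  refine ⟨⟨h12, fun h x hx hx1 g hg => ?_⟩, fun h => ?_⟩
  · by_contra hgN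
    obtain ⟨p, hp, hd⟩ := Nat.exists_prime_and_dvd (n := orderOf x) (by rwa [Ne, orderOf_eq_one_iff])
    have : Fact p.Prime := ⟨hp⟩
    have e1 := orderOf_pow_orderOf_div (orderOf_pos x).ne' hd
    set y := x ^ (orderOf x / p) with hy
    have hyM : y ∈ M := pow_mem hx _
    have hgy : Commute g y := Commute.pow_right (mem_centralizer_singleton_iff.1 hg) _
    obtain ⟨a, b, ⟨k, hk⟩, hb, hab⟩ := H3.exists_pPart_mul_pPrimePart (p := p) g (orderOf_pos g).ne'
    have h1 : zpowers (g ^ a) ≤ N := by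
      refine H1.le_of_coprime_index ?_
      rw [Nat.card_zpowers, hk]
      exact (h.symm.coprime_dvd_left (e1 ▸ orderOf_dvd_natCard _ hyM)).pow_left _
    have h2 : g ^ b ∉ N := fun h' => hgN (hab ▸ mul_mem (h1 (mem_zpowers _)) h')
    obtain ⟨c, hc⟩ := hcam _ h2 y hyM
    have h3 : orderOf (g ^ b * y) = orderOf (g ^ b) := hc ▸ (MulAut.conj c).orderOf_eq _
    rw [(hgy.pow_left b).orderOf_mul_eq_mul_orderOf_of_coprime (e1 ▸ hb), e1] at h3
    exact hp.ne_one (Nat.eq_of_mul_eq_mul_left (orderOf_pos _) (h3.trans (mul_one _).symm))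
  · obtain ⟨H, hH, -, hmin⟩ := H1.exists_minimal_le (fun H : Subgroup G => H ⊔ N = ⊤) (N := ⊤)
      (top_sup_eq N)
    refine ⟨H, hH, H1.inf_eq_bot_of_coprime' (Nat.coprime_of_dvd fun p hp h1 h2 => ?_)⟩
    have h3 : N.subgroupOf H ≤ frattini H := by
      refine H3.le_frattini_iff.2 fun L hL => ?_
      by_contra hn
      have h4 : L ⊔ N.subgroupOf H = ⊤ := hL.2 _ (left_lt_sup.2 hn)
      have h5 := congrArg (map H.subtype) h4
      rw [Subgroup.map_sup, subgroupOf_map_subtype, ← MonoidHom.range_eq_map, range_subtype] at h5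
      have h6 := hmin (L.map H.subtype) (by
        rw [eq_top_iff, ← hH]
        refine sup_le ?_ le_sup_right
        conv_lhs => rw [← h5]
        exact sup_le_sup_left inf_le_left _) (map_subtype_le _)
      apply hL.1
      apply map_injective H.subtype_injective
      rw [h6, ← MonoidHom.range_eq_map, range_subtype]
    have h4 := (H1.prime_dvd_index_frattini hp h1).trans (index_dvd_of_le h3)
    exact hp.ne_one (Nat.eq_one_of_dvd_coprimes (h12 h)
      (h4.trans (relIndex_dvd_index_of_normal N H)) h2)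

end Cfsg.Agent.S4112
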