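import Mathlib
import Cfsg.Statements.S4113
import Cfsg.Agent.H8.Cls
import Cfsg.Agent.H2.Norm

set_option autoImplicit false
open Cfsg

namespace Cfsg.Agent.S4113

open Subgroup in

theorem result {G : Type*} [Group G] [Finite G] (N M : Subgroup G) [N.Normal] [M.Normal] (hMN : M ≤ N) (hM1 : M ≠ ⊥) (hN2 : N ≠ ⊤)
    (H : Subgroup G) (hHM : H ⊔ M = ⊤) (hHM' : H ⊓ M = ⊥) :
    (∀ x ∈ M, x ≠ 1 → Subgroup.centralizer ({x} : Set G) ≤ N) ↔
      (H ≠ ⊥ ∧ H ≠ ⊤ ∧ H ⊓ N < H ∧ ∀ g : G, g ∉ H → H ⊓ H.map (MulAut.conj g).toMonoidHom ≤ N) := by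
  have hHM2 : M ⊔ H = ⊤ := by rw [sup_comm, hHM]
  constructor
  · intro h
    have h1 : ¬ H ≤ N := fun h1 => hN2 (eq_top_iff.2 (hHM ▸ sup_le h1 hMN))
    refine ⟨fun h0 => h1 (h0 ▸ bot_le), fun h0 => hM1 (by rwa [h0, top_inf_eq] at hHM'),
      lt_of_le_of_ne inf_le_left fun h0 => h1 (inf_eq_left.1 h0), fun g hg y hy => ?_⟩
    obtain ⟨m, hm, k, hk, rfl⟩ := H3.exists_mul_of_sup_eq_top hHM2 g
    have h2 : m ≠ 1 := fun h0 => hg (by rwa [h0, one_mul])
    have h3 := H3.mem_map_conj.1 hy.2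
    have h4 : m⁻¹ * y * m ∈ H := by
      have := mul_mem (mul_mem hk h3) (inv_mem hk)
      convert this using 1; group
    have h5 : y⁻¹ * (m⁻¹ * y * m) ∈ H ⊓ M := by
      refine mem_inf.2 ⟨mul_mem (inv_mem hy.1) h4, ?_⟩
      rw [show y⁻¹ * (m⁻¹ * y * m) = (y⁻¹ * m⁻¹ * y) * m by group]
      exact mul_mem (Normal.conj_mem' inferInstance _ (inv_mem hm) _) hm
    rw [hHM', mem_bot, inv_mul_eq_one] at h5
    refine h m hm h2 (mem_centralizer_singleton_iff.2 ?_)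
    conv_rhs => rw [h5]
    group
  · rintro ⟨-, -, -, h⟩ x hx hx1 g hg
    by_contra hgN
    obtain ⟨m, hm, k, hk, rfl⟩ := H3.exists_mul_of_sup_eq_top hHM2 g
    have h1 : k ∉ N := fun h0 => hgN (mul_mem (hMN hm) h0)
    have h2 : M ⊓ centralizer {k} = ⊥ := by
      refine H2.inf_centralizer_eq_bot_of fun y hy e => ?_
      by_contra hy1
      have h3 : y ∉ H := fun h0 => hy1 (by
        have : y ∈ H ⊓ M := ⟨h0, hy⟩
        rwa [hHM'] at this)
      refine h1 (h y h3 ⟨hk, H3.mem_map_conj.2 ?_⟩)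
      rw [mul_assoc, e]; simpa using hk
    obtain ⟨n, hn, e⟩ := H2.fpf_conj_surj (le_normalizer_of_normal (mem_top k) ) h2 hm
    have h3 := mem_centralizer_singleton_iff.1 hg
    rw [← e] at h3
    have h4 := H2.eq_one_of_inf_centralizer h2 (Normal.conj_mem inferInstance _ hx n) (by
      calc k * (n * x * n⁻¹) = n * (n⁻¹ * k * n * x) * n⁻¹ := by group
        _ = _ := by rw [h3]; group)
    apply hx1
    have : x = n⁻¹ * (n * x * n⁻¹) * n := by group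
    rw [this, h4]; simp

end Cfsg.Agent.S4113
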