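import Mathlib
import Cfsg.Statements.S4127
import Cfsg.Agent.S4035

set_option autoImplicit false
open Cfsg

namespace Cfsg.Agent.S4127

open Subgroup in

theorem result {G : Type*} [Group G] [Finite G] (p : ℕ) [Fact p.Prime]
    (a : ℕ) (hmax : ∀ y : G, ¬ p ^ (a + 1) ∣ (Subgroup.centralizer ({y} : Set G)).index)
    (hx : ∃ x : G, (∃ k : ℕ, orderOf x = p ^ k) ∧ (Subgroup.centralizer ({x} : Set G)).index = p ^ a) :
    Cfsg.HasNormalPComplement p G := by
  have hp : p.Prime := Fact.out
  obtain ⟨x, ⟨k, hk⟩, hx⟩ := hx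
  have hxp := H8.isPGroup_zpowers_of_orderOf hk
  have hxO := H8.mem_pCore_of_index_pow hxp hx
  set C := centralizer ({x} : Set G) with hC
  obtain ⟨hP0, K, hK, hKp, hd, hs⟩ := S4035.result (G := C) (p := p) (fun y hy hd => by
    rw [H8.ncard_carrier_mk] at hd
    have h1 : Commute x y := (mem_centralizer_singleton_iff.1 y.2).symm
    apply hmax (x * y)
    rw [H8.centralizer_mul_of_coprime h1 (by rw [hk, orderOf_coe]; exact hy.symm.pow_left _),
      ← relIndex_mul_index (inf_le_left : C ⊓ _ ≤ C), hx, pow_succ', inf_relIndex_left]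
    refine Nat.mul_dvd_mul_right ?_ _
    convert hd using 1
    rw [relIndex]
    congr 1
    ext z
    simp only [mem_subgroupOf, mem_centralizer_singleton_iff, Subtype.ext_iff, Subgroup.coe_mul])
    default
  set P0 : Sylow p C := default
  have hcomm := commute_of_normal_of_disjoint _ _ hP0 hK (disjoint_iff.2 hd)
  set L := K.map C.subtype with hL
  have hLc : (Nat.card L).Coprime p := by
    rw [hL, card_subtype]; exact ((Nat.Prime.coprime_iff_not_dvd hp).2 hKp).symm
  have h1 : L ≤ centralizer (pCore p G : Set G) := by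
    refine H1.thompson_PQ hxp hLc ?_ _ (H1.isPGroup_pCore p) le_normalizer_of_normal
      le_normalizer_of_normal ?_
    · rw [zpowers_le]
      rintro _ ⟨y, -, rfl⟩
      exact mem_centralizer_singleton_iff.1 y.2
    · rintro u ⟨hu1, hu2⟩ _ ⟨y, hy, rfl⟩
      have h2 : u ∈ C := mem_centralizer_singleton_iff.2 (hu2 x (mem_zpowers x)).symm
      have h3 : (⟨u, h2⟩ : C) ∈ (P0 : Subgroup C) :=
        H1.pCore_le_sylow P0 (H1.pCore_subgroupOf_le p C hu1)
      exact congrArg Subtype.val (hcomm _ _ h3 hy).symm.eq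
  have hc : IsComplement' (P0 : Subgroup C) K := H3.isComplement'_of_normal (disjoint_iff.2 hd) hs
  obtain ⟨j, hj⟩ := P0.2.exists_card_eq
  have hLi : L.index = p ^ (j + a) := by
    rw [hL, index_map_subtype, hc.index_eq_card, hj, hx, pow_add]
  have h2 : pResidual p G ≤ centralizer (pCore p G : Set G) := by
    have h3 : (centralizer (pCore p G : Set G)).index ∣ p ^ (j + a) := hLi ▸ index_dvd_of_le h1
    obtain ⟨i, -, hi⟩ := (Nat.dvd_prime_pow hp).1 h3
    exact H3.pResidual_le_of_index hi
  have h3 : pResidual p G ≤ L := by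
    refine H3.pResidual_le_iff.2 fun g hg => ?_
    have h4 : g ∈ C := mem_centralizer_singleton_iff.2
      (h2 (H3.mem_pResidual_of_coprime hg) x hxO).symm
    refine ⟨⟨g, h4⟩, H1.le_of_coprime_index (H := zpowers (⟨g, h4⟩ : C)) ?_ (mem_zpowers _), rfl⟩
    rw [Nat.card_zpowers, hc.index_eq_card, hj, ← orderOf_coe]
    exact hg.pow_right _
  exact H3.hasNormalPComplement_iff_coprime.2 (hLc.coprime_dvd_left (card_dvd_of_le h3))

end Cfsg.Agent.S4127
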