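import Cfsg.Statements.S4365
import Cfsg.Agent.H10.Conj
import Cfsg.Agent.H8.Idx
import Cfsg.Agent.H1.Fitting

set_option autoImplicit false
open Cfsg

namespace Cfsg.Agent.S4365

open Subgroup H10
open scoped commutatorElement

/-- Let P be a finite p-group whose conjugacy class sizes are exactly 1 and pᵃ for some a ≥ 1. Then every element of P has its p-th power in the center of P (P/Z(P) has exponent p). -/
theorem result {P : Type*} [Group P] [Finite P] (p : ℕ) [Fact p.Prime]
    (hP : IsPGroup p P) (a : ℕ) (ha : 1 ≤ a)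
    (hcs : {k : ℕ | ∃ x : P, (Subgroup.centralizer ({x} : Set P)).index = k} = {1, p ^ a}) (x : P) :
    x ^ p ∈ Subgroup.center P := by
  have hp := (Fact.out : p.Prime)
  have hnil := hP.isNilpotent
  have hidx : ∀ y : P, y ∉ center P → (centralizer ({y} : Set P)).index = p ^ a := by
    intro y hy
    have : (centralizer ({y} : Set P)).index ∈ ({1, p ^ a} : Set ℕ) := hcs ▸ ⟨y, rfl⟩
    rcases this with h | h
    · exact absurd (mem_center_iff.2 fun g => mem_centralizer_singleton_iff.1
        (index_eq_one.1 h ▸ mem_top g)) hy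
    · exact h
  have heq : ∀ y z : P, z ∉ center P → centralizer ({y} : Set P) ≤ centralizer ({z} : Set P) →
      centralizer ({y} : Set P) = centralizer ({z} : Set P) := by
    intro y z hz h
    have hy : y ∉ center P := fun hy => hz (mem_center_iff.2 fun g =>
      mem_centralizer_singleton_iff.1 (h (mem_centralizer_singleton_iff.2 (mem_center_iff.1 hy g))))
    refine eq_of_le_of_card_ge h (le_of_eq (Nat.eq_of_mul_eq_mul_right (m := p ^ a)
      (pow_pos hp.pos a) ?_))
    conv_lhs => rw [← hidx z hz]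
    rw [← hidx y hy, card_mul_index, card_mul_index]
  have hpow : ∀ y : P, y ^ p ∉ center P →
      centralizer ({y} : Set P) = centralizer ({y ^ p} : Set P) := fun y hy =>
    heq _ _ hy fun g hg => mem_centralizer_singleton_iff.2
      (Commute.pow_right (mem_centralizer_singleton_iff.1 hg) p)
  by_contra hx
  -- an element of the second centre
  have hnt : Nontrivial (P ⧸ center P) := ⟨⟨(x ^ p : P), 1, fun h => hx
    ((QuotientGroup.eq_one_iff _).1 h)⟩⟩
  obtain ⟨z, hz1, hz2, hz3⟩ : ∃ z : P, z ∉ center P ∧ z ^ p ∈ center P ∧ ∀ g, ⁅z, g⁆ ∈ center P := by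
    have hZ : Nontrivial (center (P ⧸ center P)) :=
      (nontrivial_iff_ne_bot _).2 (Group.IsNilpotent.center_ne_bot _)
    obtain ⟨k, hk, h⟩ := ((hP.to_quotient (center P)).to_subgroup
      (center (P ⧸ center P))).nontrivial_iff_card.1 hZ
    obtain ⟨w, hw⟩ := exists_prime_orderOf_dvd_card' (G := center (P ⧸ center P)) p
      (h ▸ dvd_pow_self p hk.ne')
    obtain ⟨w, hwc⟩ := w
    obtain ⟨z, rfl⟩ := QuotientGroup.mk_surjective w
    rw [← orderOf_coe] at hw
    replace hw : orderOf (z : P ⧸ center P) = p := hw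
    refine ⟨z, fun h => ?_, ?_, fun g => ?_⟩
    · rw [(QuotientGroup.eq_one_iff z).2 h, orderOf_one] at hw
      exact hp.one_lt.ne hw
    · rw [← QuotientGroup.eq_one_iff, QuotientGroup.mk_pow, ← hw]; exact pow_orderOf_eq_one _
    · rw [← QuotientGroup.eq_one_iff]
      change QuotientGroup.mk' _ ⁅z, g⁆ = 1
      rw [map_commutatorElement, commutatorElement_eq_one_iff_mul_comm]
      exact (mem_center_iff.1 hwc _).symm
  -- commutators with central values
  have hhom : ∀ u : P, ∀ g h : P, ⁅u, g⁆ ∈ center P → ⁅u, g * h⁆ = ⁅u, g⁆ * (g * ⁅u, h⁆ * g⁻¹) := by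
    intro u g h _; simp [commutatorElement_def, mul_assoc]
  have hpw : ∀ u g : P, ⁅u, g⁆ ∈ center P → ∀ n : ℕ, ⁅u, g ^ n⁆ = ⁅u, g⁆ ^ n ∧ ⁅u ^ n, g⁆ = ⁅u, g⁆ ^ n := by
    intro u g hc n
    induction n with
    | zero => simp
    | succ n ih =>
      constructor
      · rw [pow_succ', hhom u g _ hc, ih.1, mem_center_iff.1 (pow_mem hc n) g, pow_succ']
        simp
      · have : ⁅u ^ (n + 1), g⁆ = u * ⁅u ^ n, g⁆ * u⁻¹ * ⁅u, g⁆ := by
          simp [commutatorElement_def, mul_assoc, pow_succ']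
        rw [this, ih.2, mem_center_iff.1 (pow_mem hc n) u, pow_succ]; simp
  have hzp : ∀ g : P, g ^ p ∈ centralizer ({z} : Set P) := fun g => by
    rw [mem_centralizer_singleton_iff, eq_comm, ← commutatorElement_eq_one_iff_mul_comm,
      (hpw z g (hz3 g) p).1, ← (hpw z g (hz3 g) p).2, commutatorElement_eq_one_iff_mul_comm]
    exact (mem_center_iff.1 hz2 g).symm
  have hzc : ∀ g h : P, ⁅g, h⁆ ∈ centralizer ({z} : Set P) := fun g h => by
    have h1 : ∀ g : P, z * g * z⁻¹ = g * ⁅z, g⁆ := fun g => by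
      rw [mem_center_iff.1 (hz3 g) g]; simp [commutatorElement_def]
    rw [mem_centralizer_singleton_iff, eq_comm, ← mul_inv_eq_iff_eq_mul]
    have h2 : z * ⁅g, h⁆ * z⁻¹ = ⁅z * g * z⁻¹, z * h * z⁻¹⁆ := by
      simp [commutatorElement_def, mul_assoc]
    rw [h2, h1, h1, commutatorElement_def]
    have c1 := mem_center_iff.1 (hz3 g)
    have c2 := mem_center_iff.1 (hz3 h)
    generalize ⁅z, g⁆ = c at *
    generalize ⁅z, h⁆ = d at *
    calc g * c * (h * d) * (g * c)⁻¹ * (h * d)⁻¹ = g * (c * (h * d) * c⁻¹) * g⁻¹ * d⁻¹ * h⁻¹ := by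
          simp [mul_assoc]
      _ = g * h * (d * g⁻¹ * d⁻¹) * h⁻¹ := by rw [← c1]; simp [mul_assoc]
      _ = _ := by rw [← c2]; simp [commutatorElement_def]
  have hCn : (centralizer ({z} : Set P)).Normal := ⟨fun n hn g => by
    have : g * n * g⁻¹ = ⁅g, n⁆ * n := by simp [commutatorElement_def]
    rw [this]; exact mul_mem (hzc g n) hn⟩
  set C := centralizer ({z} : Set P) with hC
  let A := C ⊓ centralizer (C : Set P)
  have hA : ∀ u ∈ A, u ∉ center P → centralizer ({u} : Set P) = C := fun u hu h =>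
    (heq _ _ h fun g hg => mem_centralizer_singleton_iff.2 (hu.2 g hg)).symm
  have hxA : x ∈ A := by
    have h1 : x ∈ C := by
      have : z ∈ centralizer ({x ^ p} : Set P) :=
        mem_centralizer_singleton_iff.2 (mem_centralizer_singleton_iff.1 (hzp x)).symm
      rw [← hpow x hx] at this
      exact mem_centralizer_singleton_iff.2 (mem_centralizer_singleton_iff.1 this).symm
    have h2 : (x * z) ^ p = x ^ p * z ^ p := Commute.mul_pow (mem_centralizer_singleton_iff.1 h1) p
    have h3 : (x * z) ^ p ∉ center P := fun h => hx (by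
      rw [h2] at h; exact (mul_mem_cancel_right hz2).1 h)
    have h4 : centralizer ({x} : Set P) ≤ C := by
      intro g hg
      have h5 : g ∈ centralizer ({x * z} : Set P) := by
        rw [hpow _ h3, h2, mem_centralizer_singleton_iff, ← mul_assoc,
          (Commute.pow_right (mem_centralizer_singleton_iff.1 hg) p).eq, mul_assoc,
          mem_center_iff.1 hz2 g, mul_assoc]
      rw [mem_centralizer_singleton_iff] at h5 hg ⊢
      rw [← mul_assoc, hg, mul_assoc, mul_assoc] at h5
      exact mul_left_cancel h5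
    refine ⟨h1, fun g hg => ?_⟩
    rw [hC, ← heq _ _ hz1 h4] at hg
    exact mem_centralizer_singleton_iff.1 hg
  have hCt : C ≠ ⊤ := fun h => hz1 (mem_center_iff.2 fun g =>
    mem_centralizer_singleton_iff.1 (show g ∈ C from h ▸ mem_top g))
  have hout : ∀ y, y ∉ C → ∀ u ∈ A, y * u = u * y → u ∈ center P := fun y hy u hu h => by
    by_contra h1
    exact hy (hA u hu h1 ▸ mem_centralizer_singleton_iff.2 h)
  have hZA : center P ≤ A := fun c hc => ⟨mem_centralizer_singleton_iff.2
    (mem_center_iff.1 hc z).symm, fun g _ => mem_center_iff.1 hc g⟩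
  have hAn : A.Normal := inferInstance
  obtain ⟨y, hy⟩ : ∃ y, y ∉ C := by
    by_contra h; push Not at h; exact hCt (eq_top_iff.2 fun g _ => h g)
  have hyZ : y ∉ center P := fun h => hy (hZA h).1
  have hAZ : Nat.card (A.map (QuotientGroup.mk' (center P))) ≤ p ^ a := by
    rw [← relIndex_ker, QuotientGroup.ker_mk', ← hidx y hyZ]
    have : (center P).relIndex A = (centralizer ({y} : Set P)).relIndex A := by
      rw [← inf_relIndex_right (center P), ← inf_relIndex_right (centralizer _)]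
      congr 1
      refine le_antisymm (inf_le_inf_right _ (center_le_centralizer _)) fun u hu =>
        ⟨hout y hy u hu.2 (mem_centralizer_singleton_iff.1 hu.1).symm, hu.2⟩
    rw [this, ← relIndex_top_right]
    exact relIndex_le_of_le_right le_top (by rw [relIndex_top_right]; exact index_ne_zero_of_finite)
  -- `x` lies in the second centre
  have hx2 : ∀ g, ⁅x, g⁆ ∈ center P := by
    intro y₂
    by_contra h2
    let K := (centralizer ({(x : P ⧸ center P)} : Set (P ⧸ center P))).comap (QuotientGroup.mk' _)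
    have hK : ∀ g, g ∈ K ↔ ⁅x, g⁆ ∈ center P := fun g => by
      rw [mem_comap, mem_centralizer_singleton_iff, ← QuotientGroup.eq_one_iff]
      change _ ↔ QuotientGroup.mk' _ ⁅x, g⁆ = 1
      rw [map_commutatorElement, commutatorElement_eq_one_iff_mul_comm, eq_comm]; rfl
    have hKi : K.index < p ^ a := by
      rw [index_comap_of_surjective _ (QuotientGroup.mk'_surjective _), ← H8.card_conj_class]
      refine lt_of_lt_of_le ?_ hAZ
      refine Set.ncard_lt_ncard (s := {y | IsConj (x : P ⧸ center P) y})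
        (t := (A.map (QuotientGroup.mk' (center P)) : Set _)) ⟨fun w hw => ?_, fun h => ?_⟩
      · obtain ⟨g, rfl⟩ := isConj_iff.1 hw
        obtain ⟨g, rfl⟩ := QuotientGroup.mk_surjective g
        exact ⟨g * x * g⁻¹, hAn.conj_mem x hxA g, rfl⟩
      · have := isConj_one_left.1 (h (one_mem _))
        exact hx (pow_mem ((QuotientGroup.eq_one_iff x).1 this) p)
    obtain ⟨y₁, h1, h1'⟩ : ∃ y₁ ∈ K, y₁ ∉ C := by
      by_contra h; push Not at h
      have := Nat.le_of_dvd (Nat.pos_of_ne_zero index_ne_zero_of_finite) (index_dvd_of_le h)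
      rw [hidx z hz1] at this
      omega
    apply h2
    have hw : ⁅x, y₂⁆ ∈ A := by
      rw [commutatorElement_def, mul_assoc, mul_assoc]
      exact mul_mem hxA (by rw [← mul_assoc]; exact hAn.conj_mem _ (inv_mem hxA) y₂)
    refine hout y₁ h1' _ hw ?_
    have c1 := mem_center_iff.1 ((hK y₁).1 h1)
    have e1 : y₁ * x⁻¹ * y₁⁻¹ = x⁻¹ * ⁅x, y₁⁆ := by simp [commutatorElement_def, mul_assoc]
    have e2 : y₁ * x * y₁⁻¹ = ⁅x, y₁⁆⁻¹ * x := by simp [commutatorElement_def, mul_assoc]
    have c2 := (hAn.conj_mem _ (hAn.conj_mem _ (inv_mem hxA) y₁) y₂).2 _ (hzc y₁ y₂)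
    rw [← mul_inv_eq_iff_eq_mul]
    calc y₁ * ⁅x, y₂⁆ * y₁⁻¹
        = y₁ * x * y₁⁻¹ * (⁅y₁, y₂⁆ * (y₂ * (y₁ * x⁻¹ * y₁⁻¹) * y₂⁻¹) * ⁅y₁, y₂⁆⁻¹) := by
          simp [commutatorElement_def, mul_assoc]
      _ = ⁅x, y₁⁆⁻¹ * (x * (y₂ * (x⁻¹ * ⁅x, y₁⁆) * y₂⁻¹)) := by
          rw [c2, mul_inv_cancel_right, e1, e2, mul_assoc]
      _ = ⁅x, y₁⁆⁻¹ * (x * y₂ * x⁻¹ * (⁅x, y₁⁆ * y₂⁻¹)) := by simp only [mul_assoc]
      _ = _ := by
          rw [← c1, ← mul_assoc (x * y₂ * x⁻¹), c1, inv_mul_cancel_left, commutatorElement_def]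
  refine hx (hout y hy _ (pow_mem hxA p) ?_)
  rw [eq_comm, ← commutatorElement_eq_one_iff_mul_comm, (hpw x y (hx2 y) p).2,
    ← (hpw x y (hx2 y) p).1, commutatorElement_eq_one_iff_mul_comm]
  exact (hxA.2 _ (hzp y)).symm

end Cfsg.Agent.S4365
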