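import Cfsg.Statements.S4134
import Cfsg.Agent.H3.Cs
import Cfsg.Agent.S4365

set_option autoImplicit false
open Cfsg

namespace Cfsg.Agent.S4134

/-- Let G be a finite group whose conjugacy classes have exactly two sizes, 1 and n > 1. Then n is a power of a prime p and G is the direct product of a p-group and an abelian group of order prime to p: its Sylow p-subgroup P is normal with an abelian normal complement centralizing it; moreover P has an abelian normal subgroup A with P/A of exponent dividing p. -/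
theorem result {G : Type*} [Group G] [Finite G] (n : ℕ) (hn : 1 < n)
    (h : ∀ x : G, (Subgroup.centralizer ({x} : Set G)).index = 1 ∨ (Subgroup.centralizer ({x} : Set G)).index = n) (hex : ∃ x : G, (Subgroup.centralizer ({x} : Set G)).index = n) :
    ∃ (p : ℕ) (_ : Fact p.Prime) (a : ℕ), n = p ^ a ∧ ∀ P : Sylow p G, (P : Subgroup G).Normal ∧
      (∃ N : Subgroup G, N.Normal ∧ N.IsComplement' (P : Subgroup G) ∧ IsMulCommutative N ∧
        ∀ x ∈ N, ∀ y ∈ (P : Subgroup G), x * y = y * x) ∧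
      ∃ A : Subgroup (P : Subgroup G), A.Normal ∧ IsMulCommutative A ∧ ∀ y : (P : Subgroup G), y ^ p ∈ A := by
  obtain ⟨p, j, hp, hj⟩ := H3.Pt.ito h
  have := Fact.mk hp
  obtain ⟨x, hx⟩ := hex
  obtain ⟨a, rfl⟩ := H8.pow_of_dvd_pow hp (hx ▸ Subgroup.index_dvd_of_le (H3.Pt.center_le_C₁ x)) hj
  refine ⟨p, this, a, rfl, fun P => ?_⟩
  obtain ⟨A, K, hA, _, hK, c, h5⟩ := H3.Pt.exists_compl (G := G) (n := p) fun r hr hd =>
    hr.dvd_of_dvd_pow (hj ▸ hd)
  obtain rfl : K = P := P.is_maximal' (IsPGroup.iff_card.2 ⟨_, Nat.eq_prime_pow_of_unique_prime_dvd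
    Nat.card_pos.ne' fun hr hd => (Nat.prime_dvd_prime_iff_eq hr hp).1 (h5 _ hr hd)⟩)
    (H3.Pt.sylow_le P fun e => hp.one_lt.ne' (c.symm.eq_one_of_dvd (hK.index_eq_card ▸ e)))
  have hz : ∀ a ∈ A, ∀ y : G, y * a = a * y := fun a ha => Subgroup.mem_center_iff.1 (hA ha)
  have e : ∀ y : P, (Subgroup.centralizer ({y} : Set P)).index =
      (Subgroup.centralizer ({(y : G)} : Set G)).index := fun y => by
    rw [H8.index_centralizer_coe, ← Subgroup.relIndex_top_right]
    refine (H10.relIndex_eq_of_mul le_top fun g _ => ?_).symm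
    obtain ⟨⟨u, v⟩, rfl⟩ := hK.symm.2 g
    exact ⟨u, u.2, v, H3.Pt.center_le_C₁ _ (hA v.2), rfl⟩
  refine ⟨‹_›, ⟨A, ⟨fun a ha g => by rwa [hz a ha g, mul_inv_cancel_right]⟩, hK,
    ⟨⟨fun a b => Subtype.ext (hz _ b.2 a)⟩⟩, fun x hx y _ => (hz x hx y).symm⟩, Subgroup.center _,
    inferInstance, inferInstance, S4365.result p P.isPGroup' a
      (Nat.pos_of_ne_zero (by rintro rfl; simp at hn)) (Set.ext fun k => ⟨?_, ?_⟩)⟩
  · rintro ⟨y, rfl⟩
    exact (e y).symm ▸ h y
  · rintro (rfl | rfl)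
    · exact ⟨1, H8.index_centralizer_eq_one_iff.2 (one_mem _)⟩
    · obtain ⟨⟨u, v⟩, rfl⟩ := hK.symm.2 x
      refine ⟨u, (e u).trans (Eq.trans (congrArg _ (Subgroup.ext fun g => ?_)) hx)⟩
      have c : Commute (v : G) g := (hz _ v.2 g).symm
      rw [H3.Pt.mem_C₁, H3.Pt.mem_C₁]
      exact ⟨fun c' => c'.mul_left c, fun c' => by simpa using c'.mul_left c.inv_left⟩

end Cfsg.Agent.S4134
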