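import Cfsg.Statements.S4137
import Cfsg.Agent.H26.CR4

set_option autoImplicit false
open Cfsg

namespace Cfsg.Agent.S4137


/-- Let G be a finite group with trivial centre and at most three distinct sizes of conjugacy classes other than 1. Then G is solvable or G is isomorphic to PSL₂(2^a) for some a ≥ 1. -/
theorem result {G : Type*} [Group G] [Finite G]
    (hZ : Subgroup.center G = ⊥) (h : Nat.card {n : ℕ | 1 < n ∧ ∃ x : G, (Subgroup.centralizer ({x} : Set G)).index = n} ≤ 3) :
    Group.IsSolvable G ∨ ∃ a : ℕ, 0 < a ∧ Nonempty (G ≃* Matrix.ProjectiveSpecialLinearGroup (Fin 2) (GaloisField 2 a)) := by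
  refine or_iff_not_imp_left.2 fun ns => ?_
  obtain ⟨m, F, _, _, hm, hF, ⟨e⟩⟩ := H26.CS.three' hZ ns (by
    refine le_of_eq_of_le ?_ h
    rw [Nat.card_coe_set_eq]
    congr 1
    ext n
    exact ⟨fun ⟨x, hx, e⟩ => ⟨by
        have := H8.index_centralizer_pos x
        have := mt H8.index_centralizer_eq_one_iff.1 hx
        omega, x, e.symm⟩,
      fun ⟨h1, x, e⟩ => ⟨x, fun k => h1.ne' (e ▸ H8.index_centralizer_eq_one_iff.2 k), e.symm⟩⟩)
  haveI := Fintype.ofFinite (GaloisField 2 m)
  exact ⟨m, by omega, ⟨e.trans (H2.z_psl_congr (by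
    rw [hF, ← Nat.card_eq_fintype_card, GaloisField.card 2 m (by omega)]) 2).some⟩⟩

end Cfsg.Agent.S4137
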