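import Mathlib
import Cfsg.Statements.S4142
import Cfsg.Agent.H8.Elt
import Cfsg.Agent.H7.Basic

set_option autoImplicit false
open Cfsg

namespace Cfsg.Agent.S4142

open Subgroup in
theorem aux {G : Type*} [Group G] [Finite G] (N : Subgroup G) [hN : N.Normal] (g : G) :
    (∀ n ∈ N, ∃ x : G, x * g * x⁻¹ = g * n) ↔ Nat.card (centralizer ({g} : Set G)) =
        Nat.card (centralizer ({(QuotientGroup.mk g : G ⧸ N)} : Set (G ⧸ N))) := by
  set D := (centralizer ({(QuotientGroup.mk g : G ⧸ N)} : Set (G ⧸ N))).comap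
    (QuotientGroup.mk' N) with hD
  have hmem : ∀ x, x ∈ D ↔ g⁻¹ * (x * g * x⁻¹) ∈ N := by
    intro x
    rw [hD, mem_comap, H8.mem_centralizer_singleton_iff', ← QuotientGroup.eq, eq_comm]
    rfl
  have h1 := H1.card_comap_mk' N (centralizer ({(QuotientGroup.mk g : G ⧸ N)} : Set (G ⧸ N)))
  rw [← hD] at h1
  have hCD : centralizer {g} ≤ D := fun x hx => by
    rw [hmem, H8.mem_centralizer_singleton_iff'.1 hx]; simp
  have h2 := H7.card_mul_relIndex hCD
  let f : D ⧸ (centralizer {g}).subgroupOf D → N := fun q => Quotient.liftOn' q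
    (fun x : D => (⟨g⁻¹ * (x * g * x⁻¹), (hmem x).1 x.2⟩ : N)) (by
      intro a b hab
      rw [QuotientGroup.leftRel_apply, mem_subgroupOf, H8.mem_centralizer_singleton_iff'] at hab
      apply Subtype.ext
      simp only [Subgroup.coe_mul, Subgroup.coe_inv] at hab ⊢
      conv_lhs => enter [2, 1, 2]; rw [← hab]
      group)
  have hf : Function.Injective f := by
    intro a b
    induction a using QuotientGroup.induction_on with | H a => ?_
    induction b using QuotientGroup.induction_on with | H b => ?_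
    intro hab
    have h3 : g⁻¹ * (a * g * (a : G)⁻¹) = g⁻¹ * (b * g * (b : G)⁻¹) := congrArg Subtype.val hab
    rw [QuotientGroup.eq, mem_subgroupOf, H8.mem_centralizer_singleton_iff']
    simp only [Subgroup.coe_mul, Subgroup.coe_inv]
    calc (a : G)⁻¹ * b * g * ((a : G)⁻¹ * b)⁻¹ = (a : G)⁻¹ * (b * g * (b : G)⁻¹) * a := by group
      _ = g := by rw [← mul_left_cancel h3]; group
  have h3 : (∀ n ∈ N, ∃ x : G, x * g * x⁻¹ = g * n) ↔ Function.Surjective f := by
    constructor
    · intro h n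
      obtain ⟨x, hx⟩ := h n n.2
      refine ⟨QuotientGroup.mk (⟨x, (hmem x).2 (by rw [hx]; simp)⟩ : D), Subtype.ext ?_⟩
      change g⁻¹ * (x * g * x⁻¹) = n
      rw [hx]; simp
    · intro h n hn
      obtain ⟨q, hq⟩ := h ⟨n, hn⟩
      induction q using QuotientGroup.induction_on with | H a => ?_
      have h4 : g⁻¹ * (a * g * (a : G)⁻¹) = n := congrArg Subtype.val hq
      exact ⟨a, by rw [← h4]; simp⟩
  rw [h3]
  have h4 : Function.Surjective f ↔ (centralizer {g}).relIndex D = Nat.card N :=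
    ⟨fun h => Nat.card_congr (Equiv.ofBijective f ⟨hf, h⟩),
      fun h => ((Nat.bijective_iff_injective_and_card f).2 ⟨hf, h⟩).2⟩
  rw [h4]
  rw [h1] at h2
  constructor
  · intro h
    rw [h] at h2
    exact Nat.eq_of_mul_eq_mul_right Nat.card_pos h2
  · intro h
    rw [h] at h2
    exact Nat.eq_of_mul_eq_mul_left Nat.card_pos h2

theorem result {G : Type*} [Group G] [Finite G] (N : Subgroup G) [N.Normal] :
    (∀ g : G, g ∉ N → ∀ n ∈ N, ∃ x : G, x * g * x⁻¹ = g * n) ↔
      ∀ g : G, g ∉ N → Nat.card (Subgroup.centralizer ({g} : Set G)) =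
        Nat.card (Subgroup.centralizer ({(QuotientGroup.mk g : G ⧸ N)} : Set (G ⧸ N))) := by
  exact forall₂_congr fun g _ => aux N g

end Cfsg.Agent.S4142
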