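import Cfsg.Statements.S4140
import Cfsg.Agent.H25.Zas4
import Cfsg.Agent.H21.CD1
import Cfsg.Agent.H21.PF1a
import Cfsg.Agent.H2.ThompsonFPF
import Cfsg.Agent.S4142
import Cfsg.Agent.S4112
open Subgroup H17 H15 CF H21
open scoped commutatorElement

set_option autoImplicit false
open Cfsg

namespace Cfsg.Agent.S4140

/-- Camina condition -/
def Cam {G : Type*} [Group G] (N : Subgroup G) : Prop :=
  ∀ g : G, g ∉ N → ∀ n ∈ N, ∃ x : G, x * g * x⁻¹ = g * n

variable {G : Type*} [Group G] [Finite G] {N : Subgroup G} [hN : N.Normal] {p : ℕ}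

theorem Cam.cent (h : Cam N) {y n : G} {k : ℕ} (hy : y ∉ N) (hk : y ^ p ^ k = 1) (hn : n ∈ N)
    (c : Commute y n) (o : (orderOf n).Coprime p) : n = 1 := by
  obtain ⟨x, hx⟩ := h y hy n hn
  have : (y * n) ^ p ^ k = 1 := by rw [← hx, conj_pow, hk]; simp
  rw [c.mul_pow, hk, one_mul] at this
  exact orderOf_eq_one_iff.1 (Nat.eq_one_of_dvd_coprimes (o.pow_right k) dvd_rfl
    (orderOf_dvd_of_pow_eq_one this))

theorem not_le_of_dvd [Fact p.Prime] (P : Sylow p G) (hp : p ∣ N.index) : ¬ (P : Subgroup G) ≤ N :=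
  fun h => P.not_dvd_index (hp.trans (index_dvd_of_le h))

theorem Cam.npc [Fact p.Prime] (h : Cam N) (hp : p ∣ N.index) : HasNormalPComplement p N := by
  obtain ⟨P⟩ : Nonempty (Sylow p G) := inferInstance
  obtain ⟨x, hx, hxN⟩ := SetLike.not_le_iff_exists.1 (not_le_of_dvd P hp)
  obtain ⟨k, hk⟩ := P.isPGroup' ⟨x, hx⟩
  have hk : x ^ p ^ k = 1 := congrArg Subtype.val hk
  set X := N ⊔ (P : Subgroup G)
  refine H3.hasNormalPComplement_of_le (K := X) le_sup_left (H3.hasNormalPComplement_iff_coprime.2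
    ((Nat.Prime.coprime_iff_not_dvd Fact.out).2 (not_dvd_card_pResidual Fact.out fun χ hχ h1 => ?_)).symm)
  have hχ' := ext0_mem_Irr.2 hχ
  rw [← deg_congr (φ := extendByZero X χ) (extendByZero_coe χ 1)] at h1 ⊢
  generalize extendByZero X χ = φ at h1 hχ'
  by_cases hk' : N ≤ cfker φ
  · obtain ⟨m, h2, h3⟩ := deg_over (H := N) le_sup_left le_normalizer_of_normal (one_mem_Irr N)
      (mem_over.2 ⟨hχ', (le_cfker_iff_dot_one le_sup_left le_normalizer_of_normal hχ').1 hk'⟩)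
    rw [charDegree_eq_of_one (n := 1) (χ := one N) (by simp [one_of_mem N.one_mem]), mul_one] at h3
    rw [relIndex_sup_left] at h2
    obtain ⟨l, hl⟩ := P.isPGroup'.exists_card_eq
    obtain ⟨j, -, rfl⟩ := (Nat.dvd_prime_pow Fact.out).1 (h2.trans (hl ▸ relIndex_dvd_card N P))
    rw [h3] at h1 ⊢
    exact dvd_pow_self p (by rintro rfl; simp at h1)
  have c := Ind_irr_char (K := ⊤) le_top hχ'
  have z : Ind ⊤ X φ x = 0 := by
    rw [cf_apply_eq_sum c.cf]
    refine Finset.sum_eq_zero fun ψ hψ => by_contra fun n => hk' ?_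
    obtain ⟨n1, n2⟩ := mul_ne_zero_iff.1 n
    rw [dot_Ind_left le_top _ (irr_cf hψ)] at n1
    refine le_cfker_of_under le_top le_sup_left (irr_char hψ) hχ' (fun e => n1 (dot_symm_zero e))
      (le_cfker_of_coset le_top le_normalizer_of_normal hψ n2 fun a ha => ?_)
    obtain ⟨y, hy⟩ := h x hxN (x⁻¹ * a * x) (by simpa using hN.conj_mem a ha x⁻¹)
    rw [← cf_conj (irr_cf hψ) x (mem_top y), hy]; congr 1; group
  have := vchar_mod_pelt c.vchar (Fact.out : p.Prime) (mem_top x) (mem_top 1) hk (by simp) (n := 0)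
    (d := (X.index * charDegree φ : ℕ)) (by simpa using z)
    (by rw [Ind_one le_top, relIndex_top_right, ← deg_cast hχ']; simp)
  rw [zero_sub, dvd_neg, Int.natCast_dvd_natCast] at this
  exact ((Nat.Prime.dvd_mul Fact.out).1 this).resolve_left fun e =>
    P.not_dvd_index (e.trans (index_dvd_of_le le_sup_right))

theorem Cam.trans [Fact p.Prime] (h : Cam N) (P : Sylow p G) {x : G} (hx : x ∈ (P : Subgroup G))
    (hxN : x ∉ N) (hc : ∀ g ∈ (P : Subgroup G), x⁻¹ * g * x * g⁻¹ ∈ N) {z : G}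
    (hz : z ∈ (P : Subgroup G) ⊓ N) : ∃ g ∈ (P : Subgroup G), x⁻¹ * g * x * g⁻¹ = z := by
  set C := centralizer ({x} : Set G)
  have c1 : Nat.card C * Nat.card N ∣ Nat.card G := by
    rw [(Cfsg.Agent.S4142.result N).1 h x hxN, ← N.index_mul_card]
    exact Nat.mul_dvd_mul_right (card_subgroup_dvd_card _) _
  have c2 : Nat.card (C.subgroupOf P) * Nat.card ↥((P : Subgroup G) ⊓ N) ∣ Nat.card P := by
    obtain ⟨a, ha⟩ := (P.isPGroup'.to_subgroup (C.subgroupOf P)).exists_card_eq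
    obtain ⟨b, hb⟩ := (P.isPGroup'.to_inf_left (K := N)).exists_card_eq
    have : p ^ (a + b) ∣ Nat.card G := by
      rw [pow_add, ← ha, ← hb]
      exact (Nat.mul_dvd_mul (by rw [H1.card_subgroupOf]; exact card_dvd_of_le inf_le_left)
        (card_dvd_of_le inf_le_right)).trans c1
    rw [ha, hb, ← pow_add]
    exact P.pow_dvd_card_of_pow_dvd_card this
  let f : P ⧸ C.subgroupOf P → ↥((P : Subgroup G) ⊓ N) := Quotient.lift
    (fun g => ⟨x⁻¹ * g * x * (g : G)⁻¹, P.1.mul_mem (P.1.mul_mem (P.1.mul_mem (P.1.inv_mem hx) g.2) hx) (P.1.inv_mem g.2),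
      hc g g.2⟩) fun a b e => Subtype.ext (by
      have : (a : G)⁻¹ * b * x = x * ((a : G)⁻¹ * b) :=
        mem_centralizer_singleton_iff.1 (QuotientGroup.leftRel_apply (s := C.subgroupOf P).1 e :)
      calc x⁻¹ * a * x * (a : G)⁻¹ = x⁻¹ * a * (x * ((a : G)⁻¹ * b)) * (b : G)⁻¹ := by group
        _ = _ := by rw [← this]; group)
  have fi : Function.Injective f := fun a b e => by
    obtain ⟨a, rfl⟩ := QuotientGroup.mk_surjective a
    obtain ⟨b, rfl⟩ := QuotientGroup.mk_surjective b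
    have : x⁻¹ * a * x * (a : G)⁻¹ = x⁻¹ * b * x * (b : G)⁻¹ := congrArg Subtype.val e
    refine QuotientGroup.eq.2 (mem_centralizer_singleton_iff.2 ?_)
    change (a : G)⁻¹ * b * x = x * ((a : G)⁻¹ * b)
    calc (a : G)⁻¹ * b * x = (a : G)⁻¹ * x * (x⁻¹ * b * x * (b : G)⁻¹) * b := by group
      _ = _ := by rw [← this]; group
  obtain ⟨g, hg⟩ := (fi.bijective_of_nat_card_le (by
    rw [← (C.subgroupOf P).card_mul_index] at c2
    exact Nat.le_of_dvd (Nat.card_pos (α := P ⧸ C.subgroupOf P))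
      (Nat.dvd_of_mul_dvd_mul_left Nat.card_pos c2))).2 ⟨z, hz⟩
  obtain ⟨g, rfl⟩ := QuotientGroup.mk_surjective g
  exact ⟨g, g.2, congrArg Subtype.val hg⟩

theorem Cam.final [Fact p.Prime] (h : Cam N) (hp : p ∣ N.index) (hp' : p ∣ Nat.card N)
    {R : Subgroup G} [R.Normal] (hR : R ≤ N) (R1 : R ≠ ⊥) (hc : (Nat.card R).Coprime p)
    (hPR : ∀ a ∈ N, (∃ k, a ^ p ^ k = 1) → ∀ r ∈ R, a * r = r * a) : False := by
  obtain ⟨P⟩ : Nonempty (Sylow p G) := inferInstance
  have pe : ∀ a : P, ∃ k, (a : G) ^ p ^ k = 1 := fun a =>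
    (P.isPGroup' a).imp fun k hk => congrArg Subtype.val hk
  have := P.isPGroup'.isNilpotent
  set P0 := N.subgroupOf P
  have P1 : P0 ≠ ⊥ := fun h0 => by
    have h4 := H3.not_dvd_relIndex_of_normal P N
    rw [← inf_relIndex_right, inf_comm, disjoint_iff.1 (subgroupOf_eq_bot.1 h0), relIndex_bot_left] at h4
    exact h4 hp'
  obtain ⟨x, -, hx, hx'⟩ := H9.exists_not_mem_commutator_mem (M := ⊤) (N := P0) (H := ⊤)
    le_normalizer_of_normal fun e => not_le_of_dvd P hp (subgroupOf_eq_top.1 (top_le_iff.1 e))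
  let φ : P →* MulAut R := MulAut.conjNormal.comp (P : Subgroup G).subtype
  have fp : ∀ a : P, a ∉ P0 → ∀ v : R, φ a v = v → v = 1 := fun a ha v e => by
    obtain ⟨k, hk⟩ := pe a
    exact Subtype.ext (h.cent ha hk (hR v.2) (mul_inv_eq_iff_eq_mul.1 (congrArg Subtype.val e))
      (hc.coprime_dvd_left (orderOf_dvd_natCard _ v.2)))
  have : Nontrivial R := (nontrivial_iff_ne_bot R).2 R1
  have k1 : ∀ a ∈ P0, φ a = 1 := fun a ha => by
    ext v
    exact mul_inv_eq_iff_eq_mul.2 (hPR a ha (pe a) v v.2)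
  have k2 : ∀ a b, φ a = φ b → a⁻¹ * b ∈ P0 := fun a b e => by_contra fun n => by
    obtain ⟨v, hv⟩ := exists_ne (1 : R)
    exact hv (fp _ n v (by rw [map_mul, map_inv, e, inv_mul_cancel]; rfl))
  have fc : H25.FC φ.range := H25.fc_of_aut φ.range.subtype (by
    rintro ⟨_, a, rfl⟩ ha
    exact fp a fun e => ha (Subtype.ext (k1 a e)))
  have cm : ∀ g : P, x⁻¹ * g * x * g⁻¹ ∈ P0 := fun g => by
    have := (inferInstance : P0.Normal).conj_mem _ (inv_mem (hx' g trivial)) x⁻¹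
    convert this using 1
    group
  refine (H9.commutator_lt (M := P0) (H := ⊤) le_normalizer_of_normal P1).not_ge fun z hz => ?_
  obtain ⟨g, hg, e⟩ := h.trans P x.2 hx (fun g hg => cm ⟨g, hg⟩) (z := z) ⟨z.2, hz⟩
  lift g to (P : Subgroup G) using hg
  obtain rfl : x⁻¹ * g * x * g⁻¹ = z := Subtype.ext e
  have c : Commute (φ.rangeRestrict x) (φ.rangeRestrict g) := Subtype.ext (by
    have := k1 _ (hx' g trivial)
    rw [map_commutatorElement, commutatorElement_eq_one_iff_mul_comm] at this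
    exact this)
  obtain ⟨⟨⟨_, u, rfl⟩, _⟩, hu⟩ := (fc.isCyclic (closure {φ.rangeRestrict x, φ.rangeRestrict g})
    (isMulCommutative_closure (by
      rintro _ (rfl | rfl) _ (rfl | rfl)
      exacts [rfl, c, c.symm, rfl]))).exists_generator
  obtain ⟨a, ha⟩ := hu ⟨_, subset_closure (Set.mem_insert _ _)⟩
  obtain ⟨b, hb⟩ := hu ⟨_, subset_closure (Set.mem_insert_of_mem _ rfl)⟩
  have h1 := k2 (u ^ a) x (by rw [map_zpow]; exact congrArg (fun y => y.1.1) ha)
  have h2 := k2 (u ^ b) g (by rw [map_zpow]; exact congrArg (fun y => y.1.1) hb)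
  rw [← QuotientGroup.eq_one_iff]
  have ce : ∀ n ∈ P0, ∀ y : P, Commute (n : P ⧸ ⁅P0, (⊤ : Subgroup P)⁆) (y : P ⧸ ⁅P0, (⊤ : Subgroup P)⁆) := fun n hn y =>
    commutatorElement_eq_one_iff_commute.1 (by
      exact (QuotientGroup.eq_one_iff (N := ⁅P0, (⊤ : Subgroup P)⁆) ⁅n, y⁆).2 (commutator_mem_commutator hn (mem_top y)))
  have : Commute (x : P ⧸ ⁅P0, (⊤ : Subgroup P)⁆) (g : P ⧸ ⁅P0, (⊤ : Subgroup P)⁆) := by
    rw [← mul_inv_cancel_left (u ^ a) x, QuotientGroup.mk_mul]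
    refine Commute.mul_left ?_ (ce _ h1 g)
    rw [← mul_inv_cancel_left (u ^ b) g, QuotientGroup.mk_mul]
    refine Commute.mul_right ?_ (ce _ h2 _).symm
    rw [QuotientGroup.mk_zpow, QuotientGroup.mk_zpow]
    exact Commute.zpow_zpow_self _ a b
  simp only [QuotientGroup.mk_mul, QuotientGroup.mk_inv]
  rw [mul_assoc _ (g : P ⧸ ⁅P0, (⊤ : Subgroup P)⁆), ← this.eq]; group

theorem Cam.final' [Fact p.Prime] (h : Cam N) (hp : p ∣ N.index) (hp' : p ∣ Nat.card N)
    (hn : Group.IsNilpotent N) : IsPGroup p N := by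
  by_contra hg
  have c := H3.hasNormalPComplement_of_isNilpotent (p := p) N
  have c' := H3.hasNormalPComplement_iff_coprime.1 c
  refine h.final hp hp' (R := (pResidual p N).map N.subtype) (map_subtype_le _) (fun e => hg ?_)
    (by rwa [card_map_of_injective N.subtype_injective]) ?_
  · exact H3.pResidual_eq_bot_iff.1 ((map_eq_bot_iff_of_injective _ N.subtype_injective).1 e)
  · rintro a ha ⟨k, hk⟩ _ ⟨r, hr, rfl⟩
    refine congrArg Subtype.val (H1.commute_of_coprime_orderOf (a := (⟨a, ha⟩ : N)) (b := r) ?_)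
    exact ((c'.coprime_dvd_left (orderOf_dvd_natCard _ hr)).symm.pow_left k).coprime_dvd_left
      (orderOf_dvd_of_pow_eq_one (Subtype.ext hk))

theorem Cam.main {q : ℕ} [Fact p.Prime] [Fact q.Prime] (h : Cam N) (hp : p ∣ N.index)
    (hp' : p ∣ Nat.card N) (hq : q ∣ N.index) (ne : q ≠ p) : IsPGroup p N := by
  by_cases hq' : q ∣ Nat.card N
  swap
  · obtain ⟨y, hy⟩ := exists_prime_orderOf_dvd_card' q (hq.trans N.index_dvd_card)
    refine h.final' hp hp' (H2.nilpotent_of_semiregular (H := zpowers y) (by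
      rw [Ne, zpowers_eq_bot]; rintro rfl; exact (Fact.out : q.Prime).ne_one (by simpa using hy.symm))
      le_normalizer_of_normal fun a ha a1 => eq_bot_iff.2 fun n hn => ?_)
    have a2 : a ^ q ^ 1 = 1 := by
      obtain ⟨k, rfl⟩ := ha
      rw [pow_one, ← zpow_natCast, ← zpow_mul, mul_comm, zpow_mul, zpow_natCast, ← hy,
        pow_orderOf_eq_one, one_zpow]
    have co : ∀ n ∈ N, (orderOf n).Coprime q := fun n hn =>
      ((Nat.Prime.coprime_iff_not_dvd Fact.out).2 hq').symm.coprime_dvd_left (orderOf_dvd_natCard _ hn)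
    exact h.cent (fun e => a1 (H3.eq_one_of_pow_of_coprime a2 (co a e))) a2 hn.1
      (mem_centralizer_singleton_iff.1 hn.2).symm (co n hn.1)
  exfalso
  have cp := H3.hasNormalPComplement_iff_coprime.1 (h.npc hp)
  have cq := H3.hasNormalPComplement_iff_coprime.1 (h.npc hq)
  set Kp := (pResidual p N).map N.subtype
  set Kq := (pResidual q N).map N.subtype
  have cp' : (Nat.card Kp).Coprime p := by rwa [card_map_of_injective N.subtype_injective]
  have cq' : (Nat.card Kq).Coprime q := by rwa [card_map_of_injective N.subtype_injective]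
  have pq : p.Coprime q := (Nat.coprime_primes Fact.out Fact.out).2 ne.symm
  let f := QuotientGroup.mk' (Kp ⊓ Kq)
  have fs : Function.Surjective f := QuotientGroup.mk'_surjective _
  have hM : f.ker ≤ N := by rw [QuotientGroup.ker_mk']; exact inf_le_left.trans (map_subtype_le _)
  have := hN.map f fs
  have : (Kp.map f).Normal := Normal.map inferInstance f fs
  have cm : ∀ g, f g ∈ N.map f ↔ g ∈ N := fun g => by
    rw [← mem_comap, comap_map_eq_self hM]
  refine Cam.final (N := N.map f) (p := p) (R := Kp.map f) ?_ (by rwa [index_map_eq _ fs hM]) ?_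
    (map_mono (map_subtype_le _)) (fun e => ?_) (cp'.coprime_dvd_left (card_map_dvd _ _)) ?_
  · rintro g hg _ ⟨n, hn, rfl⟩
    obtain ⟨g, rfl⟩ := fs g
    obtain ⟨x, hx⟩ := h g (fun e => hg ((cm g).2 e)) n hn
    exact ⟨f x, by rw [← map_inv, ← map_mul, ← map_mul, hx, map_mul]⟩
  · rw [← H1.card_map_mul_card_inf_ker N f] at hp'
    refine ((Nat.Prime.dvd_mul Fact.out).1 hp').resolve_right fun e => ?_
    refine (Nat.Prime.coprime_iff_not_dvd Fact.out).1 cp'.symm (e.trans (card_dvd_of_le ?_))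
    rw [QuotientGroup.ker_mk']; exact inf_le_right.trans inf_le_left
  · rw [Subgroup.map_eq_bot_iff, QuotientGroup.ker_mk'] at e
    obtain ⟨y, hy⟩ := exists_prime_orderOf_dvd_card' q hq'
    have : (y : G) ∈ Kq := (e ⟨y, H3.mem_pResidual_of_coprime (hy ▸ pq.symm), rfl⟩).2
    have := cq'.coprime_dvd_left (orderOf_dvd_natCard _ this)
    rw [orderOf_coe, hy, Nat.coprime_self] at this
    exact (Fact.out : q.Prime).ne_one this
  · rintro _ ⟨a, ha, rfl⟩ ⟨k, hk⟩ _ ⟨r, hr, rfl⟩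
    obtain ⟨i, j, ⟨l, hl⟩, hj, e⟩ := H3.exists_pPart_mul_pPrimePart (p := p) a (orderOf_pos a).ne'
    have h1 : f (a ^ j) = 1 := H3.eq_one_of_pow_of_coprime (p := p) (k := k)
      (by rw [map_pow, ← pow_mul, mul_comm, pow_mul, hk, one_pow])
      (hj.coprime_dvd_left (orderOf_map_dvd f _))
    have h2 : a ^ i ∈ Kq := ⟨⟨a ^ i, pow_mem ha i⟩, H3.mem_pResidual_of_coprime (by
      rw [← orderOf_coe]; exact hl ▸ pq.pow_left l), rfl⟩
    rw [← e, map_mul, h1, mul_one, ← commutatorElement_eq_one_iff_mul_comm, ← map_commutatorElement]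
    exact (QuotientGroup.eq_one_iff _).2 ⟨commutator_le_right Kq Kp (commutator_mem_commutator h2 hr),
      commutator_le_left Kq Kp (commutator_mem_commutator h2 hr)⟩

/-- Let G be a finite group and N a proper non-trivial normal subgroup such that for every g outside N the conjugacy class of g is a union of cosets of N (equivalently gn is conjugate to g for every n ∈ N). Then either every element of G outside N acts fixed-point-freely on N (C_G(x) ≤ N for all x ∈ N, x ≠ 1, so G is a Frobenius group with kernel N), or N has prime-power order, or G/N has prime-power order. -/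
theorem result {G : Type*} [Group G] [Finite G] (N : Subgroup G) [N.Normal] (hN1 : N ≠ ⊥) (hN2 : N ≠ ⊤)
    (hcam : ∀ g : G, g ∉ N → ∀ n ∈ N, ∃ x : G, x * g * x⁻¹ = g * n) :
    (∀ x ∈ N, x ≠ 1 → Subgroup.centralizer ({x} : Set G) ≤ N) ∨ IsPrimePow (Nat.card N) ∨ IsPrimePow N.index := by
  by_contra hn
  push Not at hn
  obtain ⟨h1, h2, h3⟩ := hn
  have := mt (Cfsg.Agent.S4112.result N N le_rfl hN1 hN2 hcam).1.2 (by push Not; exact h1)
  obtain ⟨p, hp, a, b⟩ := Nat.Prime.not_coprime_iff_dvd.1 this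
  have := Fact.mk hp
  obtain ⟨q, hq, c, d⟩ : ∃ q : ℕ, q.Prime ∧ q ∣ N.index ∧ q ≠ p := by
    by_contra e
    push Not at e
    exact h3 ((isPrimePow_iff_unique_prime_dvd).2 ⟨p, ⟨hp, a⟩, fun q hq => e q hq.1 hq.2⟩)
  have := Fact.mk hq
  obtain ⟨k, hk⟩ := (Cam.main hcam a b c d).exists_card_eq
  refine h2 ((isPrimePow_nat_iff _).2 ⟨p, k, hp, Nat.pos_of_ne_zero ?_, hk.symm⟩)
  rintro rfl
  exact hN1 (card_eq_one.1 hk)

end Cfsg.Agent.S4140
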