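import Cfsg.Statements.S4157
import Cfsg.Agent.H3.Kul

set_option autoImplicit false
open Cfsg

namespace Cfsg.Agent.S4157

/-- Let G be a finite p-group of order p^m that is not cyclic and, when p = 2, not of maximal class (nilpotency class m − 1). Then for every 1 ≤ k < m the number of subgroups of G of order p^k is congruent to 1 + p modulo p². -/
theorem result {G : Type*} [Group G] [Finite G] {p : ℕ} [Fact p.Prime] (m : ℕ)
    (hG : Nat.card G = p ^ m) (hnc : ¬ IsCyclic G) (h2 : p = 2 → Group.nilpotencyClass G ≠ m - 1)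
    (k : ℕ) (hk1 : 1 ≤ k) (hk2 : k < m) :
    Nat.card {H : Subgroup G // Nat.card H = p ^ k} ≡ 1 + p [MOD p ^ 2] := by
  obtain ⟨j, rfl⟩ : ∃ j, k = j + 1 := ⟨k - 1, by omega⟩
  have h1 := H3.univ_id (j + 1) G (IsPGroup.of_card hG) (hG ▸ pow_dvd_pow p hk2)
  obtain ⟨c, hc⟩ := H3.dvd_cyc_of (H3.dvd_ord_of hG hnc h2 hk2)
  rw [hc] at h1
  exact Nat.ModEq.add_right_cancel (Nat.modEq_zero_iff_dvd.2 ⟨c, by ring⟩) h1

end Cfsg.Agent.S4157
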