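import Mathlib
import Cfsg.Statements.S4189
import Cfsg.Agent.H6.MaxCl
import Cfsg.Agent.S1896

set_option autoImplicit false
open Cfsg

namespace Cfsg.Agent.S4189

theorem result {P : Type*} [Group P] [Finite P] (hP : IsPGroup 2 P) (hna : ¬ IsMulCommutative P) (h4 : (commutator P).index = 4) (haut : ¬ IsPGroup 2 (MulAut P)) : Nonempty (P ≃* QuaternionGroup 2) := by
  open Subgroup in
  obtain ⟨a, ha⟩ := (H6.taussky_aux _ P rfl hP h4.le).resolve_left hna
  haveI := normal_of_index_eq_two ha
  rcases Cfsg.Agent.S1896.result hP ⟨zpowers a, inferInstance, inferInstance,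
    isCyclic_of_prime_card (p := 2) ha⟩ haut with h | ⟨n, ⟨e⟩⟩
  · exact h
  · exact absurd ⟨⟨fun x y => e.injective (by rw [map_mul, map_mul, mul_comm])⟩⟩ hna

end Cfsg.Agent.S4189
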