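import Mathlib
import Cfsg.Statements.S4194
import Cfsg.Agent.H8.CamH

set_option autoImplicit false
open Cfsg

namespace Cfsg.Agent.S4194

theorem result {G : Type*} [Group G] [Finite G] (P : Sylow 2 G) :
    IsMulCommutative (P : Subgroup G) ↔ ∀ x : G, (∃ k : ℕ, orderOf x = 2 ^ k) → (∃ Q : Sylow 2 G, (Q : Subgroup G) ≤ Subgroup.centralizer ({x} : Set G)) := by
  constructor
  · rintro hc x ⟨k, hk⟩
    obtain ⟨g, hg⟩ := H6.exists_conj_mem_sylow P (x := x) (k := k) (by rw [← hk, pow_orderOf_eq_one])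
    refine ⟨g⁻¹ • P, fun y hy => ?_⟩
    have h1 := H1.isMulCommutative_iff'.1 hc _ ((H6.mem_sylow_smul P g⁻¹ y).1 hy) _ hg
    rw [Subgroup.mem_centralizer_singleton_iff]
    calc y * x = g⁻¹ * (g⁻¹⁻¹ * y * g⁻¹ * (g * x * g⁻¹)) * g := by group
      _ = x * y := by rw [h1]; group
  · intro h
    refine H8.camina_herzog _ G rfl (fun x hx => ?_) P
    obtain ⟨Q, hQ⟩ := h x hx
    exact H8.not_dvd_index_of_sylow_le Q hQ

end Cfsg.Agent.S4194
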