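import Cfsg.Statements.S4235
import Cfsg.Agent.H1.CIT11
import Cfsg.Agent.H17.Frob
import Cfsg.Agent.H2.ThompsonFPF
import Cfsg.Agent.Lead.GW1

set_option autoImplicit false
open scoped Pointwise
open Cfsg

namespace Cfsg.Agent.S4235

open H1 H1.CIT H10 Subgroup H6

theorem solv_compl {G : Type*} [Group G] [Finite G] {N H S : Subgroup G} [N.Normal]
    (h : IsComplement' N H) (hS : IsSylowIn 2 S ⊤) (hle : S ≤ H) (hs : Group.IsSolvable H) :
    Group.IsSolvable G := by
  refine solv_of_quot N (H17.odd_solvable (Nat.odd_iff.2 ?_))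
    (solvable_of_surjective (f := h.symm.QuotientMulEquiv.symm.toMonoidHom) (MulEquiv.surjective _))
  have := hS.not_dvd_relIndex
  rw [relIndex_top_right] at this
  have : ¬ 2 ∣ Nat.card N := fun e => this ((h.index_eq_card ▸ e).trans (index_dvd_of_le hle))
  omega

/-- Let G be a finite group. Call a subgroup maximal solvable if it is solvable and not properly contained in a solvable subgroup. Suppose F assigns to each maximal solvable subgroup M a normal subgroup F(M) of M such that: every element of M outside F(M) centralizes no non-identity element of F(M); F(M) meets each conjugate g F(M) g⁻¹ with g outside M trivially; and F(M) is nontrivial unless M is abelian. Then G is solvable, or G is isomorphic to SL(2, K) for a finite field K of characteristic 2 with at least 4 elements, or G is isomorphic to a Suzuki group. -/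
theorem result {G : Type*} [Group G] [Finite G] (F : Subgroup G → Subgroup G)
    (h : ∀ M : Subgroup G, (Group.IsSolvable M ∧ ∀ M' : Subgroup G, M < M' → ¬ Group.IsSolvable M') →
      F M ≤ M ∧ M ≤ Subgroup.normalizer (F M : Set G) ∧
      (∀ a ∈ M, a ∉ F M → ∀ x ∈ F M, x * a = a * x → x = 1) ∧
      (∀ g : G, g ∉ M → F M ⊓ (MulAut.conj g • F M) = ⊥) ∧
      (F M ≠ ⊥ ∨ IsMulCommutative M)) :
    Group.IsSolvable G ∨
      (∃ (K : Type) (_ : Field K) (_ : Fintype K), (∃ n : ℕ, 2 ≤ n ∧ Fintype.card K = 2 ^ n) ∧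
        Nonempty (G ≃* Matrix.SpecialLinearGroup (Fin 2) K)) ∨
      Cfsg.Lie.IsoSuzuki G := by
  refine or_iff_not_imp_left.2 fun hns => ?_
  obtain ⟨S, hS⟩ := exists_isSylowIn 2 (⊤ : Subgroup G)
  obtain ⟨M, hle, hM⟩ := Finite.exists_le_maximal (p := fun M : Subgroup G => Group.IsSolvable M)
    (H1.isSolvable_sup (solv_of_pg hS.isPGroup) (H17.odd_solvable odd_O) (le_NN_of_normal _ _))
  have hSM : S ≤ M := le_sup_left.trans hle
  have hOM : pPrimeCore 2 G ≤ M := le_sup_right.trans hle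
  obtain ⟨h1, h2, h3, h4, h5⟩ := h M ⟨hM.1, fun M' hlt hs => hlt.not_ge (hM.2 hs hlt.le)⟩
  generalize F M = K at *
  have ti : ∀ {g a : G}, a ∈ K → a ≠ 1 → g * a * g⁻¹ ∈ K → g ∈ M := fun {g a} ha a1 e =>
    by_contra fun hg => nb e (conj_mem_cj ha) (by simpa [mul_inv_eq_one] using a1) (h4 g hg)
  obtain ⟨g₀, hg₀⟩ : ∃ g, g ∉ M := by
    by_contra hn
    push Not at hn
    have := hM.1
    exact hns (solvable_of_surjective (f := M.subtype) fun g => ⟨⟨g, hn g⟩, rfl⟩)
  obtain ⟨t₀, ot₀⟩ := exists_ord2 hns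
  obtain ⟨t, ht, ot⟩ := exists_orderOf_eq_of_ne_bot hS.isPGroup
    (hS.ne_bot (by rw [card_top, ← ot₀]; exact orderOf_dvd_natCard _))
  have four : Four G → ∃ s ∈ S, ∃ t ∈ S, orderOf s = 2 ∧ orderOf t = 2 ∧ s ≠ t ∧ Commute s t := by
    rintro ⟨s, t, os, ot, hne, hc⟩
    obtain ⟨g, -, hg⟩ := hS.exists_cj_le (isPGroup_sup_of_NN (GW.isPGroup_zp2 os) (GW.isPGroup_zp2 ot)
      ((zpowers_le.2 ((CC_zpowers t).ge (GW.mem_C1.2 hc.eq))).trans (CC_le_NN _))) le_top
    exact ⟨_, hg (conj_mem_cj (mem_sup_left (mem_zpowers s))), _,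
      hg (conj_mem_cj (mem_sup_right (mem_zpowers t))), ord2_conj os g, ord2_conj ot g,
      by simpa using hne, hc.conj g⟩
  by_cases ho : Odd (Nat.card K)
  · exfalso
    have iv : ∀ u ∈ M, orderOf u = 2 → ∀ x ∈ K, u * x * u⁻¹ = x⁻¹ := fun u hu ou =>
      inverts_of_fpf (ord2_mul_self ou) (fun d hd => conj_mem_of_mem_NN (h2 hu) hd)
        fun d hd e => h3 u hu (fun e => odd_card_iff.1 ho u e ou) d hd e.symm
    have h0 : K ≠ ⊥ := by
      rintro rfl
      have hc : M ≤ CC(S) := (isMulCommutative_iff_le_CC.1 (h5.resolve_left fun e => e rfl)).trans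
        (CC_anti hSM)
      have := normal_subgroupOf (le_refl NN(S))
      have hN := (hM.2 (solv_of_quot (S.subgroupOf NN(S)) (solv_of_pg (isPGroup_subgroupOf hS.isPGroup _))
        (H17.odd_solvable (Nat.odd_iff.2 (Nat.two_dvd_ne_zero.1
          (hS.of_le (le_NN_self S) le_top).not_dvd_relIndex)))) (hc.trans (CC_le_NN S))).trans hc
      exact hns (solv_compl (MonoidHom.ker_transferSylow_isComplement' hS.toSylowTop hN) hS le_rfl
        (solv_of_pg hS.isPGroup))
    by_cases h4' : Four G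
    · obtain ⟨s, hs, u, hu, os, ou, hne, hc⟩ := four h4'
      have o : orderOf (s * u) = 2 := ord2_of (by
        calc s * u * (s * u) = s * (u * s) * u := by group
          _ = 1 := by rw [← hc.eq, ← mul_assoc, ord2_mul_self os, one_mul, ord2_mul_self ou])
        fun e => hne ((eq_inv_of_mul_eq_one_left e).trans (ord2_inv ou))
      refine h0 (eq_bot_iff.2 fun x hx => h3 _ (hSM (mul_mem hs hu))
        (fun e => odd_card_iff.1 ho _ e o) x hx (mul_inv_eq_iff_eq_mul.1 ?_).symm)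
      calc s * u * x * (s * u)⁻¹ = s * (u * x * u⁻¹) * s⁻¹ := by group
        _ = x := by rw [iv u (hSM hu) ou x hx, iv s (hSM hs) os _ (inv_mem hx), inv_inv]
    have hKO : K ≤ pPrimeCore 2 G := fun x hx => mem_of_pow_mem (n := 2)
      (Nat.coprime_two_right.2 (odd_orderOf_of_odd_card ho hx)) (by
        have := cm_mem_O h4' ot x⁻¹
        rwa [iv t (hSM ht) ot _ (inv_mem hx), inv_inv, ← pow_two] at this)
    have hd := GW.card_dvd_of_free (cj g₀ K) ((K : Set G) \ {1}) (fun a ha b hb =>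
      ⟨conj_mem_of_mem_NN (h2 (hOM ((cj_le_of_mem_NN (le_NN_of_normal ⊤ _ (mem_top _)) hKO) ha))) hb.1,
        by simpa [mul_inv_eq_one] using hb.2⟩) fun a ha b hb e => by_contra fun a1 => hb.2
      (h3 a (hOM ((cj_le_of_mem_NN (le_NN_of_normal ⊤ _ (mem_top _)) hKO) ha))
        (fun e => nb e ha a1 (h4 g₀ hg₀)) b hb.1 (mul_inv_eq_iff_eq_mul.1 e).symm)
    rw [card_cj, Set.ncard_diff_singleton_of_mem (SetLike.mem_coe.2 K.one_mem)] at hd
    have := (one_lt_card_iff_ne_bot K).2 h0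
    have := Nat.le_of_dvd (show 0 < Nat.card K - 1 by omega) hd
    omega
  have h0 : S ⊓ K ≠ ⊥ := ((hS.of_le hSM le_top).inf_normal h1 h2).ne_bot
    (Nat.not_odd_iff_even.1 ho).two_dvd
  obtain ⟨z, hz, z1⟩ := (bot_or_exists_ne_one _).resolve_left (inf_CC_ne_bot hS.isPGroup inf_le_left
    le_rfl (le_NN_inf (le_NN_self S) (hSM.trans h2)) h0)
  have hSK : S ≤ K := fun a ha => by_contra fun e =>
    z1 (h3 a (hSM ha) e z hz.1.2 (mem_CC.1 hz.2 a ha).symm)
  have cent : ∀ a ∈ K, a ≠ 1 → ∀ c, Commute c a → c ∈ K := fun a ha a1 c e => by_contra fun hc =>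
    a1 (h3 c (ti ha a1 ((conj_eq_of_comm e.eq).symm ▸ ha)) hc a ha e.symm)
  have nil : Group.IsNilpotent K := by
    obtain ⟨a, ha, hn⟩ : ∃ a ∈ M, a ∉ K := by
      by_contra hn
      push Not at hn
      obtain rfl : K = M := le_antisymm h1 hn
      obtain ⟨N, -, _, hc⟩ := H17.frobenius_kernel (H := K) fun x hx a ha e =>
        by_contra fun a1 => hx (ti ha a1 e)
      exact hns (solv_compl hc hS hSK hM.1)
    obtain ⟨p, hp, h6⟩ := Nat.exists_prime_and_dvd (n := orderOf a) fun e =>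
      hn (orderOf_eq_one_iff.1 e ▸ one_mem _)
    refine H2.thompson_fpf_conj (h2 (pow_mem ha (orderOf a / p))) hp
      (by rw [← pow_mul, Nat.div_mul_cancel h6, pow_orderOf_eq_one]) (eq_bot_iff.2 fun x hx => ?_)
    have a1 : a ^ (orderOf a / p) ≠ 1 := pow_ne_one_of_lt_orderOf
      (Nat.div_pos (Nat.le_of_dvd (orderOf_pos a) h6) hp.pos).ne'
      (Nat.div_lt_self (orderOf_pos a) hp.one_lt)
    exact h3 _ (pow_mem ha _) (fun e => hn (cent _ e a1 a (Commute.self_pow a _))) x hx.1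
      (GW.mem_C1.1 hx.2)
  have cch : H8.CCH K := by
    refine ⟨?_, cent, fun hn => hg₀ (ti (hSK ht) (ord2_ne_one ot) (hn.conj_mem _ (hSK ht) _)), ?_⟩
    · have : Nontrivial K := ⟨⟨z, hz.1.2⟩, 1, fun e => z1 (congrArg Subtype.val e)⟩
      obtain ⟨w, hw, w1⟩ := (bot_or_exists_ne_one _).resolve_left (Group.IsNilpotent.center_ne_bot K)
      exact ⟨w, w.2, fun e => w1 (Subtype.ext e), fun a ha =>
        congrArg Subtype.val (mem_center_iff.1 hw ⟨a, ha⟩)⟩
    by_cases h4' : Four G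
    · obtain ⟨s, hs, u, hu, os, ou, hne, -⟩ := four h4'
      exact ⟨s, hSK hs, u, hSK hu, os, ou, hne⟩
    refine absurd (ti (hSK ht) (ord2_ne_one ot) ?_) hg₀
    have m : g₀ * t * g₀⁻¹ ∈ M := by
      simpa [mul_assoc, ord2_inv ot, ← mul_assoc t t, ord2_mul_self ot] using
        mul_mem (hSM ht) (hOM (cm_mem_O h4' ot g₀))
    obtain ⟨k, hk, e⟩ := (hS.of_le hSM le_top).exists_le_cj (GW.isPGroup_zp2 (ord2_conj ot g₀))
      (zpowers_le.2 m)
    exact cj_le_of_mem_NN (h2 hk) hSK (e (mem_zpowers _))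
  by_cases hc : IsMulCommutative K
  · obtain ⟨F, i1, i2, n, e1, e2, -, ⟨f⟩⟩ := cch.iso_psl hc
    have := H26.charTwo_of_card e2
    exact Or.inl ⟨F, i1, i2, ⟨n, e1, e2⟩, (H8.psl_equiv_sl CharTwo.two_eq_zero).map f.trans⟩
  · exact Or.inr (cch.iso.2 hc)

end Cfsg.Agent.S4235
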