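import Cfsg.Statements.S4237
import Cfsg.Agent.H3.Cnt
import Cfsg.Agent.H8.Cyc
import Cfsg.Agent.S4157

set_option autoImplicit false
open Cfsg

namespace Cfsg.Agent.S4237

/-- Let G be a finite group, p a prime and a a natural number such that p^(a+1) divides the order of G. Then the number of subgroups of G of order p^a is congruent to 1 or to 1 + p modulo p². -/
theorem result {G : Type*} [Group G] [Finite G] (p a : ℕ) (hp : p.Prime) (hdvd : p ^ (a + 1) ∣ Nat.card G) :
    Nat.card {H : Subgroup G // Nat.card H = p ^ a} ≡ 1 [MOD p ^ 2] ∨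
      Nat.card {H : Subgroup G // Nat.card H = p ^ a} ≡ 1 + p [MOD p ^ 2] := by
  have : Fact p.Prime := ⟨hp⟩
  by_cases p2 : p = 2
  · subst p2
    have := H8.card_sub_modEq hp ((pow_dvd_pow 2 (Nat.le_succ a)).trans hdvd)
    unfold Nat.ModEq at *
    omega
  obtain ⟨S⟩ : Nonempty (Sylow p G) := inferInstance
  have h1 := H3.card_sub_modEq_sylow S hdvd
  obtain ⟨m, hm⟩ := IsPGroup.iff_card.1 S.isPGroup'
  have h2 := S.pow_dvd_card_of_pow_dvd_card hdvd
  rw [hm, Nat.pow_dvd_pow_iff_le_right hp.one_lt] at h2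
  have one : (∀ H K : Subgroup S, Nat.card H = p ^ a → Nat.card K = p ^ a → H = K) →
      Nat.card {H : Subgroup G // Nat.card H = p ^ a} ≡ 1 [MOD p ^ 2] := fun h => by
    obtain ⟨H, hH⟩ := Sylow.exists_subgroup_card_pow_prime (G := S) p (n := a)
      (hm ▸ pow_dvd_pow p (by omega))
    rwa [Nat.card_eq_one_iff_unique.2 ⟨⟨fun x y => Subtype.ext (h _ _ x.2 y.2)⟩, ⟨⟨H, hH⟩⟩⟩] at h1
  by_cases hc : IsCyclic S
  · exact .inl (one fun H K h k => H8.eq_of_card_eq_of_isCyclic (P := ⊤) inferInstance le_top le_top (h.trans k.symm))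
  rcases Nat.eq_zero_or_pos a with rfl | ha
  · exact .inl (one fun H K h k => (Subgroup.card_eq_one.1 h).trans (Subgroup.card_eq_one.1 k).symm)
  · exact .inr (h1.trans (S4157.result m hm hc (fun h => absurd h p2) a ha h2))

end Cfsg.Agent.S4237
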