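import Mathlib
import Cfsg.Statements.S4241
import Cfsg.Agent.H6.CoAct
import Cfsg.Agent.S0205
import Cfsg.Agent.S2756

set_option autoImplicit false
open Cfsg

namespace Cfsg.Agent.S4241

open Subgroup H6 in
theorem solv.{u} {A : Type*} [Group A] [Finite A] (hA : Group.IsSolvable A) (n : ℕ) :
    ∀ (G : Type u) [Group G] [Finite G] (φ : A →* MulAut G) (p : ℕ), Nat.card G = n →
      (Nat.card A).Coprime (Nat.card G) → p.Prime → p ∣ Nat.card G →
      (∀ H, H ≠ ⊤ → AInv φ H → p ∣ Nat.card H → Group.IsNilpotent H) → Group.IsSolvable G := by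
  induction n using Nat.strong_induction_on with
  | _ n ih =>
  intro G _ _ φ p hn hcop hp hpG h
  subst hn
  by_cases hN : ∃ N : Subgroup G, N.Normal ∧ AInv φ N ∧ N ≠ ⊥ ∧ Group.IsSolvable N
  · obtain ⟨N, hN, h1, h2, h3⟩ := hN
    refine H1.isSolvable_of_normal_quotient N h3 ?_
    by_cases h0 : Nat.card (G ⧸ N) = 1
    · haveI := (Nat.card_eq_one_iff_unique.1 h0).1
      infer_instance
    have hs := QuotientGroup.mk'_surjective N
    obtain ⟨r, hr, hrd, hr2⟩ : ∃ r : ℕ, r.Prime ∧ r ∣ Nat.card (G ⧸ N) ∧ ∀ H : Subgroup (G ⧸ N),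
        r ∣ Nat.card H → p ∣ Nat.card (H.comap (QuotientGroup.mk' N)) := by
      by_cases h4 : p ∣ Nat.card (G ⧸ N)
      · refine ⟨p, hp, h4, fun H hH => hH.trans ?_⟩
        conv_lhs => rw [← map_comap_eq_self_of_surjective hs H]
        exact card_map_dvd _ _
      · obtain ⟨r, hr, hrd⟩ := Nat.exists_prime_and_dvd h0
        refine ⟨r, hr, hrd, fun H _ => ?_⟩
        rw [card_eq_card_quotient_mul_card_subgroup N] at hpG
        exact ((hp.dvd_mul.1 hpG).resolve_left h4).trans
          (card_dvd_of_le (QuotientGroup.le_comap_mk' N H))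
    refine ih _ (H1.card_quotient_lt h2) _ (H7.quotAut φ N h1) r rfl
        (hcop.coprime_dvd_right (H1.card_quotient_dvd N)) hr hrd fun H hH hi hd => ?_
    rw [← map_comap_eq_self_of_surjective hs H]
    refine H1.isNilpotent_map (h _ (fun h4 => hH ?_) (h1.comap_mk hi) (hr2 H hd)) _
    rw [← map_comap_eq_self_of_surjective hs H, h4, map_top_of_surjective _ hs]
  push Not at hN
  have hZ : ∀ (q : ℕ) [Fact q.Prime] (T : Sylow q G), AInv φ (T : Subgroup G) → q ∣ Nat.card G →
      normalizer (centerThompsonOf 0 (T : Subgroup G) : Set G) ≠ ⊤ := by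
    intro q _ T hT hq k
    haveI := (T.isPGroup'.to_le (H4.centerThompsonOf_le (n := 0) _)).isNilpotent
    exact hN _ (normalizer_eq_top_iff.1 k) (hT.zj 0)
      (H4.centerThompsonOf_zero_ne_bot T.isPGroup' (T.ne_bot_of_dvd_card hq)) inferInstance
  have hle : ∀ T : Subgroup G, normalizer (T : Set G) ≤ normalizer (centerThompsonOf 0 T : Set G) :=
    fun T => H4.normalizer_le_normalizer_centerThompsonOf T
  have hcl : ∀ (q : ℕ) [Fact q.Prime] (T : Sylow q G), AInv φ (T : Subgroup G) → q ∣ Nat.card G →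
      ∀ P : Sylow 2 (normalizer (centerThompsonOf 0 (T : Subgroup G) : Set G)),
        (P : Subgroup (normalizer (centerThompsonOf 0 (T : Subgroup G) : Set G))).Normal := by
    intro q _ T hT hq P
    by_cases h1 : p ∣ Nat.card (normalizer (centerThompsonOf 0 (T : Subgroup G) : Set G))
    · haveI := h _ (hZ q T hT hq) (hT.zj 0).normalizer h1
      infer_instance
    by_cases hp2 : p = 2
    · subst hp2
      have : (P : Subgroup (normalizer (centerThompsonOf 0 (T : Subgroup G) : Set G))) = ⊥ := by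
        obtain ⟨k, hk⟩ := IsPGroup.iff_card.1 P.isPGroup'
        rcases k with _ | k
        · exact Subgroup.card_eq_one.1 hk
        · exact absurd ((hk ▸ dvd_pow_self 2 k.succ_ne_zero).trans (card_subgroup_dvd_card _)) h1
      rw [this]; infer_instance
    exfalso
    apply h1
    haveI := Fact.mk hp
    obtain ⟨R, hR⟩ := exists_ainv_sylow φ hcop (Or.inl hA) p
    have hdv : ∀ (R : Sylow p G), p ∣ Nat.card (normalizer (centerThompsonOf 0 (R : Subgroup G) : Set G)) :=
      fun R => (R.dvd_card_of_dvd_card hpG).trans (card_dvd_of_le (le_normalizer.trans (hle _)))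
    by_cases hqp : q = p
    · subst hqp; exact hdv T
    haveI := h _ (hZ p R hR hpG) (hR.zj 0).normalizer (hdv R)
    have h3 := H3.hasNormalPComplement_iff_coprime.1 (H3.glauberman_thompson hp2 (Or.inl rfl) R
      (H3.hasNormalPComplement_of_isNilpotent _))
    have h4 : (T : Subgroup G) ≤ pResidual p G := H3.le_pResidual_of_coprime
      (H3.sylow_card_coprime_of_coprime T ((Nat.coprime_primes hp Fact.out).2 (Ne.symm hqp))).symm
    have h5 := Sylow.normalizer_sup_eq_top' T h4
    have h6 : p ∣ (pResidual p G).index := by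
      rw [← (pResidual p G).index_mul_card] at hpG
      exact (hp.dvd_mul.1 hpG).resolve_right ((Nat.Prime.coprime_iff_not_dvd hp).1 h3.symm)
    rw [← relIndex_top_right, ← h5, relIndex_sup_right] at h6
    exact (h6.trans (relIndex_dvd_card _ _)).trans (card_dvd_of_le (hle _))
  obtain ⟨P⟩ : Nonempty (Sylow 2 G) := inferInstance
  have hPn : (P : Subgroup G).Normal := by
    by_contra hP
    obtain ⟨x, g, h1, h2, h3⟩ := H8.exists_real_prime_of_not_normal P hP
    haveI : Fact (orderOf x).Prime := ⟨h1⟩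
    obtain ⟨T, hT⟩ := exists_ainv_sylow φ hcop (Or.inl hA) (orderOf x)
    obtain ⟨T0, hT0⟩ := (IsPGroup.of_card (n := 1) (by rw [Nat.card_zpowers, pow_one]) :
      IsPGroup (orderOf x) (Subgroup.zpowers x)).exists_le_sylow
    obtain ⟨c, hc⟩ := MulAction.exists_smul_eq G T0 T
    have hx : c * x * c⁻¹ ∈ (T : Subgroup G) := by
      rw [← hc]
      exact Subgroup.smul_mem_pointwise_smul x (MulAut.conj c) _ (hT0 (Subgroup.mem_zpowers x))
    have h4 := Cfsg.Agent.S2756.c_of_b h2 T _ (le_normalizer.trans (hle _))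
      (fun hd => hcl _ T hT hd)
    have x1 : c * x * c⁻¹ ≠ 1 := fun e => h1.one_lt.ne' (orderOf_eq_one_iff.2 (by simpa using e))
    have h3' : c * g * c⁻¹ * (c * x * c⁻¹) * (c * g * c⁻¹)⁻¹ = (c * x * c⁻¹)⁻¹ := by
      calc c * g * c⁻¹ * (c * x * c⁻¹) * (c * g * c⁻¹)⁻¹ = c * (g * x * g⁻¹) * c⁻¹ := by group
        _ = _ := by rw [h3]; group
    rcases H3.zj_controls_or h2 T with h5 | ⟨-, h5⟩
    · obtain ⟨y, hy, h6⟩ := h5 {c * x * c⁻¹} (c * g * c⁻¹) (Set.singleton_subset_iff.2 hx) (by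
        rintro a rfl; rw [h3']; exact (T : Subgroup G).inv_mem hx)
      exact h4 _ hx x1 y hy (by rw [← h6 _ rfl, h3'])
    · obtain ⟨z, h6, h7, h8, y, hy, h9⟩ := h5 (orderOf x - 1) (fun e => by
        have := Nat.le_of_dvd (by have := h1.two_le; omega) e
        have := h1.two_le; omega)
      refine h4 z (H4.centerThompsonOf_le _ h6) h7 y hy ?_
      rw [h9, eq_inv_iff_mul_eq_one, ← pow_succ, Nat.sub_add_cancel h1.one_lt.le, h8]
  haveI := P.isPGroup'.isNilpotent
  refine H1.isSolvable_of_normal_quotient (P : Subgroup G) inferInstance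
    (Cfsg.Agent.S0205.result ?_)
  rw [← Nat.not_even_iff_odd, even_iff_two_dvd]
  exact P.not_dvd_index

theorem result {A G : Type*} [Group A] [Group G] [Finite A] [Finite G] [MulDistribMulAction A G]
    (hcop : (Nat.card A).Coprime (Nat.card G)) (p : ℕ) (hp : p.Prime) (hpG : p ∣ Nat.card G)
    (hmax : ∀ H : Subgroup G, H ≠ ⊤ → (∀ a : A, ∀ x ∈ H, a • x ∈ H) →
      (∀ K : Subgroup G, H < K → (∀ a : A, ∀ x ∈ K, a • x ∈ K) → K = ⊤) → p ∣ Nat.card H → Group.IsNilpotent H) :
    Group.IsSolvable G := by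
  let φ := MulDistribMulAction.toMulAut A G
  have h : ∀ H, H ≠ ⊤ → H6.AInv φ H → p ∣ Nat.card H → Group.IsNilpotent H := by
    intro H hH hi hd
    obtain ⟨M, ⟨h1, h2⟩, h3, h4⟩ := H1.exists_maximal_ge (fun M => M ≠ ⊤ ∧ H6.AInv φ M) ⟨hH, hi⟩
    refine H1.isNilpotent_of_le (hmax M h1 h2 (fun K hK hK' => ?_)
      (hd.trans (Subgroup.card_dvd_of_le h3))) h3
    by_contra h5
    exact hK.ne' (h4 K ⟨h5, hK'⟩ hK.le)
  rcases Nat.even_or_odd (Nat.card G) with h1 | h1
  · refine solv (Cfsg.Agent.S0205.result ?_) _ G φ p rfl hcop hp hpG h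
    exact H6.coprime_two_iff.1 (hcop.coprime_dvd_right (even_iff_two_dvd.1 h1))
  · exact Cfsg.Agent.S0205.result h1

end Cfsg.Agent.S4241
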