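import Cfsg.Statements.S4272
import Cfsg.Agent.H26.JRy

set_option autoImplicit false
open Cfsg

namespace Cfsg.Agent.S4272


/-- Let G be a finite non-abelian simple group whose Sylow 2-subgroups are abelian. If G admits no faithful doubly transitive action on a finite set, then G has order 175560 (the order of the first Janko group). -/
theorem result {G : Type*} [Group G] [Finite G] [IsSimpleGroup G] (hG : ¬ IsMulCommutative G) (P : Sylow 2 G) (hP : IsMulCommutative (P : Subgroup G)) (hno : ∀ (Ω : Type) [Fintype Ω] [MulAction G Ω] [FaithfulSMul G Ω], ¬ MulAction.IsMultiplyPretransitive G Ω 2) : Nat.card G = 175560 := by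
  have key : ∀ B : Subgroup G, B ≠ ⊤ → ¬ MulAction.IsMultiplyPretransitive G (G ⧸ B) 2 :=
    fun B hB h => by
      have : Nontrivial (G ⧸ B) := QuotientGroup.nontrivial_iff.2 hB
      obtain ⟨Ω, _, _, _, k⟩ := H26.J.exists_type ‹_› h
      exact hno Ω k
  rcases H26.J.walter ‹_› hG (H10.isSylowIn_top P) (H10.isMulCommutative_iff_le_CC.1 hP) with
    ⟨⟨⟨M, hM⟩, -⟩, -⟩ | h | ⟨p, n, ρ, τ, f, h⟩
  · obtain ⟨t, Q, k, -⟩ := H15.Bd.se_simple hM hG
    exact absurd k.two_transitive (key M hM.1)
  · obtain ⟨B, h1, h2⟩ := H26.J.l2d_two_trans h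
    exact absurd h2 (key B h1)
  · rcases h.main.2 with ⟨-, -, k⟩ | ⟨-, -, -, -, B, h1, h2⟩
    · exact k
    · refine absurd h2 (key B fun e => ?_)
      rw [e, Subgroup.index_top] at h1
      have : 0 < (3 ^ n) ^ 3 := by positivity
      omega

end Cfsg.Agent.S4272
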