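import Cfsg.Statements.S4321
import Cfsg.Agent.H15.Ps

set_option autoImplicit false
open Cfsg

namespace Cfsg.Agent.S4321

/-- Let `G` be a finite group and `p` a prime not dividing the order of the centre of `G`. Consider the primes dividing the size of some conjugacy class of a `p`-singular element (an element of order divisible by `p`), two of them adjacent when their product divides such a class size. Then any two distinct such primes are joined by a path with at most 3 edges (the graph is connected of diameter at most 3). -/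
theorem result {G : Type*} [Group G] [Finite G] (p : ℕ) [Fact p.Prime]
    (hZ : ¬ p ∣ Nat.card ↥(Subgroup.center G)) (r s : ℕ) (hr : (r.Prime ∧ ∃ x : G, p ∣ orderOf x ∧ r ∣ (Subgroup.centralizer ({x} : Set G)).index)) (hs : (s.Prime ∧ ∃ x : G, p ∣ orderOf x ∧ s ∣ (Subgroup.centralizer ({x} : Set G)).index)) (hrs : r ≠ s) :
    (∃ x : G, p ∣ orderOf x ∧ r * s ∣ (Subgroup.centralizer ({x} : Set G)).index) ∨ (∃ t : ℕ, (t.Prime ∧ ∃ x : G, p ∣ orderOf x ∧ t ∣ (Subgroup.centralizer ({x} : Set G)).index) ∧ t ≠ r ∧ t ≠ s ∧ (∃ x : G, p ∣ orderOf x ∧ r * t ∣ (Subgroup.centralizer ({x} : Set G)).index) ∧ (∃ x : G, p ∣ orderOf x ∧ t * s ∣ (Subgroup.centralizer ({x} : Set G)).index)) ∨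
      (∃ t u : ℕ, (t.Prime ∧ ∃ x : G, p ∣ orderOf x ∧ t ∣ (Subgroup.centralizer ({x} : Set G)).index) ∧ (u.Prime ∧ ∃ x : G, p ∣ orderOf x ∧ u ∣ (Subgroup.centralizer ({x} : Set G)).index) ∧ t ≠ r ∧ u ≠ s ∧ t ≠ u ∧ (∃ x : G, p ∣ orderOf x ∧ r * t ∣ (Subgroup.centralizer ({x} : Set G)).index) ∧ (∃ x : G, p ∣ orderOf x ∧ t * u ∣ (Subgroup.centralizer ({x} : Set G)).index) ∧ (∃ x : G, p ∣ orderOf x ∧ u * s ∣ (Subgroup.centralizer ({x} : Set G)).index)) := by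
  obtain ⟨pr, x, x1, x2⟩ := hr
  obtain ⟨ps, y, y1, y2⟩ := hs
  obtain ⟨a, a1, a2⟩ := H15.Ps.exists_pow x1
  obtain ⟨b, b1, b2⟩ := H15.Ps.exists_pow y1
  have nz : ∀ a : G, orderOf a = p → a ∉ Subgroup.center G := fun a h e =>
    hZ (h ▸ Subgroup.orderOf_dvd_natCard _ e)
  have m : ∀ {t u n : ℕ}, t.Prime → u.Prime → t ≠ u → t ∣ n → u ∣ n → t * u ∣ n :=
    fun h1 h2 h3 h4 h5 => ((Nat.coprime_primes h1 h2).2 h3).mul_dvd_of_dvd_of_dvd h4 h5
  by_cases hc : (Subgroup.centralizer ({a} : Set G)).index.Coprime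
    (Subgroup.centralizer ({b} : Set G)).index
  · obtain ⟨t, u, pt, pu, t1, u1, z, z1, z2, z3⟩ := H15.Ps.key a1 b1 (nz a a1) (nz b b1) hc
    have tu : t ≠ u := fun e => pt.one_lt.ne' (Nat.eq_one_of_dvd_coprimes hc t1 (e ▸ u1))
    by_cases e1 : t = r
    · subst e1
      by_cases e2 : u = s
      · subst e2
        exact .inl ⟨z, z1, m pt pu tu z2 z3⟩
      · exact .inr (.inl ⟨u, ⟨pu, z, z1, z3⟩, tu.symm, e2, ⟨z, z1, m pt pu tu z2 z3⟩,
          y, y1, m pu ps e2 (u1.trans b2) y2⟩)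
    · by_cases e2 : u = s
      · subst e2
        exact .inr (.inl ⟨t, ⟨pt, z, z1, z2⟩, e1, tu, ⟨x, x1, m pr pt (Ne.symm e1) x2 (t1.trans a2)⟩,
          z, z1, m pt pu tu z2 z3⟩)
      · exact .inr (.inr ⟨t, u, ⟨pt, z, z1, z2⟩, ⟨pu, z, z1, z3⟩, e1, e2, tu,
          ⟨x, x1, m pr pt (Ne.symm e1) x2 (t1.trans a2)⟩, ⟨z, z1, m pt pu tu z2 z3⟩,
          y, y1, m pu ps e2 (u1.trans b2) y2⟩)
  · obtain ⟨t, pt, t1, t2⟩ := Nat.Prime.not_coprime_iff_dvd.1 hc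
    by_cases e1 : t = r
    · subst e1
      exact .inl ⟨y, y1, m pt ps hrs (t2.trans b2) y2⟩
    by_cases e2 : t = s
    · subst e2
      exact .inl ⟨x, x1, m pr pt hrs x2 (t1.trans a2)⟩
    exact .inr (.inl ⟨t, ⟨pt, x, x1, t1.trans a2⟩, e1, e2,
      ⟨x, x1, m pr pt (Ne.symm e1) x2 (t1.trans a2)⟩, y, y1, m pt ps e2 (t2.trans b2) y2⟩)

end Cfsg.Agent.S4321
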