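import Cfsg.Statements.S4347
import Cfsg.Agent.H8.Elt
import Cfsg.Agent.H1.Prim

set_option autoImplicit false
open Cfsg

namespace Cfsg.Agent.S4347

/-- Let G be a finite group and p a prime. Say a Sylow p-subgroup Q is redundant when every element of p-power order lies in some Sylow p-subgroup other than Q. Then G has no redundant Sylow p-subgroup if and only if some element of p-power order lies in exactly one Sylow p-subgroup. -/
theorem result {G : Type*} [Group G] [Finite G]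
    (p : ℕ) [Fact p.Prime] :
    (¬ ∃ Q : Sylow p G, ∀ x : G, (∃ k : ℕ, orderOf x = p ^ k) → ∃ P : Sylow p G, P ≠ Q ∧ x ∈ P) ↔
      ∃ x : G, (∃ k : ℕ, orderOf x = p ^ k) ∧ ∃! P : Sylow p G, x ∈ P := by
  constructor
  · intro h
    push Not at h
    obtain ⟨Q⟩ : Nonempty (Sylow p G) := inferInstance
    obtain ⟨x, ⟨k, hk⟩, h1⟩ := h Q
    obtain ⟨P, hP⟩ := (H8.isPGroup_zpowers_of_orderOf hk).exists_le_sylow
    have h2 : ∀ P : Sylow p G, x ∈ P → P = Q := fun P hP => by_contra fun hne => h1 P hne hP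
    have h3 : x ∈ P := hP (Subgroup.mem_zpowers x)
    exact ⟨x, ⟨k, hk⟩, P, h3, fun R hR => (h2 R hR).trans (h2 P h3).symm⟩
  · rintro ⟨x, ⟨k, hk⟩, P, hP, h1⟩ ⟨Q, hQ⟩
    obtain ⟨g, rfl⟩ := MulAction.exists_smul_eq G P Q
    obtain ⟨R, h2, h3⟩ := hQ (g * x * g⁻¹) ⟨k, by rw [← hk]; exact (MulAut.conj g).orderOf_eq x⟩
    refine h2 ?_
    rw [← h1 (g⁻¹ • R) ?_, smul_inv_smul]
    change x ∈ ((g⁻¹ • R : Sylow p G) : Subgroup G)
    rw [Sylow.coe_subgroup_smul, H1.mem_conj_smul_iff, inv_inv]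
    exact h3

end Cfsg.Agent.S4347
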