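import Cfsg.Statements.S4348
import Cfsg.Agent.H8.Elt
import Cfsg.Agent.H1.Prim
import Cfsg.Agent.H9.Metacyc

set_option autoImplicit false
open Cfsg

namespace Cfsg.Agent.S4348

/-- Let G be a finite group, p a prime and P a Sylow p-subgroup of G, and let O_p(G) be the largest normal p-subgroup of G. If P/O_p(G) is cyclic, then some element of p-power order of G lies in exactly one Sylow p-subgroup. -/
theorem result {G : Type*} [Group G] [Finite G]
    (p : ℕ) [Fact p.Prime] (P : Sylow p G)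
    [hn : ((Cfsg.pCore p G).subgroupOf (P : Subgroup G)).Normal]
    (hc : IsCyclic ((P : Subgroup G) ⧸ (Cfsg.pCore p G).subgroupOf (P : Subgroup G))) :
    ∃ x : G, (∃ k : ℕ, orderOf x = p ^ k) ∧ ∃! Q : Sylow p G, x ∈ Q := by
  obtain ⟨x, hx⟩ := H9.exists_sup_of_isCyclic_quotient hc
  have h1 := congrArg (Subgroup.map (P : Subgroup G).subtype) hx
  rw [Subgroup.map_sup, Subgroup.map_subgroupOf_eq_of_le (H1.pCore_le_sylow P),
    MonoidHom.map_zpowers, ← MonoidHom.range_eq_map, Subgroup.range_subtype] at h1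
  refine ⟨x, H8.exists_orderOf_eq_of_mem P.isPGroup' x.2, P, x.2, fun Q hQ => ?_⟩
  refine Sylow.ext (P.3 Q.isPGroup' (h1.ge.trans (sup_le (H1.pCore_le_sylow Q) ?_)))
  exact Subgroup.zpowers_le_of_mem hQ

end Cfsg.Agent.S4348
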