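import Cfsg.Statements.S4349
import Cfsg.Agent.H9.Basic

set_option autoImplicit false
open Cfsg

namespace Cfsg.Agent.S4349
open Subgroup Equiv MulAction

variable {Ω : Type}

def E (R : Ω → Ω → Prop) (hs : ∀ u v, R u v → R v u) (hf : ∀ u v w, R u v → R u w → v = w) :
    Subgroup (Perm Ω) where
  carrier := {g | ∀ ω, g ω = ω ∨ R ω (g ω)}
  one_mem' := fun _ => Or.inl rfl
  mul_mem' := fun {g h} hg hh ω => by
    rw [Perm.mul_apply]
    rcases hh ω with e | e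
    · rw [e]; exact hg ω
    · rcases hg (h ω) with e' | e'
      · rw [e']; exact Or.inr e
      · exact Or.inl (hf _ _ _ e' (hs _ _ e))
  inv_mem' := fun {g} hg ω => by
    rcases hg (g⁻¹ ω) with e | e
    · left; simpa using e.symm
    · right; simpa using hs _ _ e

theorem E_pg (R : Ω → Ω → Prop) (hs hf) : IsPGroup 2 (E R hs hf) := fun g =>
  ⟨1, Subtype.ext (Equiv.ext fun ω => by
    show g.1 (g.1 ω) = ω
    rcases g.2 ω with e | e
    · rw [e, e]
    · rcases g.2 (g.1 ω) with e' | e'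
      · rw [e', g.1.injective e']
      · exact hf _ _ _ e' (hs _ _ e))⟩

theorem swap_mem [Finite Ω] [DecidableEq Ω] {x : Perm Ω} (hx : IsPGroup 2 (zpowers x))
    {P : Sylow 2 (Perm Ω)} (hu : ∀ Q : Sylow 2 (Perm Ω), x ∈ Q → Q = P) {a b : Ω}
    (h1 : ∀ i : ℤ, (x ^ i) a = a ↔ (x ^ i) b = b) (h2 : ∀ i : ℤ, (x ^ i) a = b ↔ (x ^ i) b = a) :
    swap a b ∈ P := by
  let R : Ω → Ω → Prop := fun u v =>
    ∃ i : ℤ, (u = (x ^ i) a ∧ v = (x ^ i) b) ∨ (u = (x ^ i) b ∧ v = (x ^ i) a)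
  have k : ∀ (i j : ℤ) u v, (x ^ i) u = (x ^ j) v ↔ (x ^ (-j + i)) u = v := fun i j u v => by
    rw [zpow_add, zpow_neg, Perm.mul_apply, Perm.inv_eq_iff_eq]
  have hs : ∀ u v, R u v → R v u := fun u v ⟨i, h⟩ => ⟨i, h.symm.imp And.symm And.symm⟩
  have hf : ∀ u v w, R u v → R u w → v = w := by
    rintro u v w ⟨i, ⟨rfl, rfl⟩ | ⟨rfl, rfl⟩⟩ ⟨j, ⟨h, rfl⟩ | ⟨h, rfl⟩⟩ <;> rw [k] at h ⊢
    exacts [(h1 _).1 h, (h2 _).1 h, (h2 _).2 h, (h1 _).2 h]
  have hn : zpowers x ≤ normalizer (E R hs hf : Set (Perm Ω)) := zpowers_le.2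
    (mem_normalizer_fintype fun g hg ω => by
      rcases hg (x⁻¹ ω) with e | ⟨i, e⟩
      · left; rw [Perm.mul_apply, Perm.mul_apply, e]; simp
      · refine Or.inr ⟨1 + i, ?_⟩
        simpa [zpow_add, Equiv.symm_apply_eq] using e)
  obtain ⟨Q, hQ⟩ := (IsPGroup.to_sup_of_normal_right' hx (E_pg R hs hf) hn).exists_le_sylow
  rw [← hu Q (hQ (mem_sup_left (mem_zpowers x)))]
  refine hQ (mem_sup_right fun ω => ?_)
  by_cases ea : ω = a
  · exact Or.inr ⟨0, Or.inl (by simp [ea])⟩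
  by_cases eb : ω = b
  · exact Or.inr ⟨0, Or.inr (by simp [eb])⟩
  · exact Or.inl (swap_apply_of_ne_of_ne ea eb)

theorem not_swap [Fintype Ω] [DecidableEq Ω] {P : Sylow 2 (Perm Ω)} {a b c : Ω} (h1 : swap a b ∈ P)
    (h2 : swap a c ∈ P) (ab : a ≠ b) (ac : a ≠ c) : b = c := by
  by_contra bc
  obtain ⟨k, hk⟩ := IsPGroup.iff_orderOf.1 P.isPGroup' ⟨_, mul_mem h1 h2⟩
  rw [orderOf_mk, (Perm.isThreeCycle_swap_mul_swap_same ab ac bc).orderOf] at hk
  have := Nat.prime_three.dvd_of_dvd_pow (dvd_of_eq hk)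
  omega

theorem exists_inv [Fintype Ω] {P : Subgroup (Perm Ω)} (hP : IsPGroup 2 P) :
    ∃ s : Perm Ω, s * s = 1 ∧ (∀ g ∈ P, g * s = s * g) ∧ ∀ a b, s a = a → s b = b → a = b := by
  classical
  have : Nonempty {s : Perm Ω // s * s = 1 ∧ ∀ g ∈ P, g * s = s * g} := ⟨⟨1, by simp⟩⟩
  obtain ⟨⟨s, h1, h2⟩, hm⟩ := Finite.exists_max
    fun s : {s : Perm Ω // s * s = 1 ∧ ∀ g ∈ P, g * s = s * g} => s.1.support.card
  refine ⟨s, h1, h2, fun a b ha hb => by_contra fun ab => ?_⟩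
  suffices ∃ t : Perm Ω, t * t = 1 ∧ (∀ g ∈ P, g * t = t * g) ∧ t ≠ 1 ∧ s.Disjoint t by
    obtain ⟨t, t1, t2, t3, t4⟩ := this
    have := hm ⟨s * t, by rw [mul_assoc, ← mul_assoc t, ← t4.commute.eq, mul_assoc, t1, mul_one, h1],
      fun g hg => by rw [← mul_assoc, h2 g hg, mul_assoc, t2 g hg, mul_assoc]⟩
    simp only [t4.card_support_mul] at this
    exact t3 (Perm.card_support_eq_zero.1 (by omega))
  have inv : ∀ (g : P) ω, s (g.1 ω) = g.1 ω ↔ s ω = ω := fun g ω => by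
    rw [← Perm.mul_apply, ← h2 g.1 g.2, Perm.mul_apply, g.1.injective.eq_iff]
  let r : P →* Perm {ω // s ω = ω} := MonoidHom.mk' (fun g => g.1.subtypePerm (inv g))
    fun _ _ => rfl
  by_cases hr : r.range = ⊥
  · have fx : ∀ g ∈ P, ∀ ω, s ω = ω → g ω = ω := fun g hg ω h =>
      congrArg (fun z : Perm {ω // s ω = ω} => (z ⟨ω, h⟩).1) (mem_bot.1 (hr.le ⟨⟨g, hg⟩, rfl⟩))
    refine ⟨swap a b, swap_mul_self a b, fun g hg => ?_, by simpa using ab, fun ω => ?_⟩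
    · rw [← mul_inv_eq_iff_eq_mul, ← swap_apply_apply, fx g hg a ha, fx g hg b hb]
    · by_cases e : s ω = ω
      · exact Or.inl e
      · exact Or.inr (swap_apply_of_ne_of_ne (fun e' => e (e' ▸ ha)) fun e' => e (e' ▸ hb))
  have : Nontrivial r.range := (nontrivial_iff_ne_bot _).2 hr
  obtain ⟨z, -, z1, z2⟩ := H9.exists_mem_center_orderOf_eq (p := 2)
    (hP.of_surjective _ r.rangeRestrict_surjective) (M := ⊤) top_ne_bot
  refine ⟨Perm.ofSubtype z.1, ?_, fun g hg => Equiv.ext fun ω => ?_, fun e => ?_, fun ω => ?_⟩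
  · rw [← map_mul, ← coe_mul, ← sq, ← z2, pow_orderOf_eq_one, coe_one, map_one]
  · by_cases e : s ω = ω
    · rw [Perm.mul_apply, Perm.mul_apply, Perm.ofSubtype_apply_of_mem z.1 e,
        Perm.ofSubtype_apply_of_mem z.1 ((inv ⟨g, hg⟩ ω).2 e)]
      exact congrArg (fun z : r.range => (z.1 ⟨ω, e⟩).1) (mem_center_iff.1 z1 ⟨_, ⟨g, hg⟩, rfl⟩)
    · rw [Perm.mul_apply, Perm.mul_apply, Perm.ofSubtype_apply_of_not_mem z.1 e,
        Perm.ofSubtype_apply_of_not_mem z.1 (fun h => e ((inv ⟨g, hg⟩ ω).1 h))]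
  · have : z = 1 := Subtype.ext (Perm.ofSubtype_injective (by rw [e]; simp))
    simp [this] at z2
  · by_cases e : s ω = ω
    · exact Or.inl e
    · exact Or.inr (Perm.ofSubtype_apply_of_not_mem z.1 e)

def Cond (x : Perm Ω) : Prop :=
  (∀ a : Ω, ∃ k, period x a = 2 ^ k) ∧
  (∀ a b c, x a = a → x b = b → x c = c → a = b ∨ a = c ∨ b = c) ∧
  ∀ a b, x a ≠ a → period x a = period x b → ∃ i : ℕ, (x ^ i) a = b

theorem pw {x : Perm Ω} {a : Ω} {i : ℕ} : (x ^ i) a = a ↔ period x a ∣ i :=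
  pow_smul_eq_iff_period_dvd (m := x) (a := a)

theorem per_one {x : Perm Ω} {a : Ω} : period x a = 1 ↔ x a = a := period_eq_one_iff

theorem half {x s : Perm Ω} (hx : Cond x) (h1 : s * s = 1) (h2 : x * s = s * x)
    (h3 : ∀ a b, s a = a → s b = b → a = b) {a : Ω} {k : ℕ} (ha : period x a = 2 ^ (k + 1)) :
    s a = (x ^ 2 ^ k) a ∧ ∀ i : ℕ, (x ^ i) a = a ∨ (x ^ i) a = s a ↔ 2 ^ k ∣ i := by
  have c : ∀ (i : ℕ) u, (x ^ i) (s u) = s ((x ^ i) u) := fun i u =>
    congrArg (fun z : Perm Ω => z u) (Commute.pow_left h2 i).eq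
  have ss : ∀ u, s (s u) = u := fun u => congrArg (fun z : Perm Ω => z u) h1
  have xa : x a ≠ a := fun e => by
    rw [per_one.2 e] at ha; exact absurd ha.symm (Nat.pow_eq_one.not.2 (by omega))
  have ev : ∀ j, (x ^ (2 ^ k * (2 * j))) a = a := fun j =>
    pw.2 (by rw [ha, pow_succ, ← mul_assoc]; exact Dvd.intro _ rfl)
  have od : ∀ j, (x ^ (2 ^ k * (2 * j + 1))) a = (x ^ 2 ^ k) a := fun j => by
    rw [mul_add, mul_one, add_comm, pow_add, Perm.mul_apply, ev]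
  have dv : ∀ i : ℕ, (x ^ i) a = s a → 2 ^ k ∣ i := fun i hi => by
    have : (x ^ (i + i)) a = a := by rw [pow_add, Perm.mul_apply, hi, c, hi, ss]
    rw [pw, ha, pow_succ, ← mul_two] at this
    exact Nat.dvd_of_mul_dvd_mul_right two_pos this
  have key : s a = (x ^ 2 ^ k) a := by
    obtain ⟨i, hi⟩ := hx.2.2 a (s a) xa (Nat.dvd_antisymm
      (pw.1 (s.injective (by rw [← c]; exact pw.2 dvd_rfl))) (pw.1 (by rw [c, pw.2 dvd_rfl])))
    obtain ⟨j, rfl⟩ := dv i hi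
    obtain ⟨j, rfl | rfl⟩ := Nat.even_or_odd' j
    · rw [ev] at hi
      refine (xa (h3 _ _ ?_ hi.symm)).elim
      have := c 1 a
      rwa [pow_one, ← hi, eq_comm] at this
    · rw [← hi, od]
  refine ⟨key, fun i => ⟨fun h => h.elim (fun h => (Dvd.intro _ (pow_succ 2 k).symm).trans
    (ha ▸ pw.1 h)) (dv i), ?_⟩⟩
  rintro ⟨j, rfl⟩
  obtain ⟨j, rfl | rfl⟩ := Nat.even_or_odd' j
  exacts [Or.inl (ev j), Or.inr ((od j).trans key.symm)]

theorem inv_uniq {x s t : Perm Ω} (hx : Cond x) (h1 : s * s = 1) (h2 : x * s = s * x)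
    (h3 : ∀ a b, s a = a → s b = b → a = b) (t1 : t * t = 1) (t2 : x * t = t * x)
    (t3 : ∀ a b, t a = a → t b = b → a = b) : s = t := by
  have k : ∀ {s t : Perm Ω}, x * s = s * x → x * t = t * x → (∀ a b, s a = a → s b = b → a = b) →
      ∀ a, x a = a → s a = a → t a = a := fun {s t} h2 t2 h3 a ha hs => by
    have e1 : x (t a) = t a := by rw [← Perm.mul_apply, t2, Perm.mul_apply, ha]
    have e2 : x (s (t a)) = s (t a) := by rw [← Perm.mul_apply, h2, Perm.mul_apply, e1]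
    rcases hx.2.1 _ _ _ ha e1 e2 with h | h | h
    exacts [h.symm, (s.injective (hs.trans h)).symm, h3 _ _ h.symm hs]
  ext a
  obtain ⟨_ | m, hm⟩ := hx.1 a
  · have ha := per_one.1 hm
    rcases hx.2.1 a (s a) (t a) ha (by rw [← Perm.mul_apply, h2, Perm.mul_apply, ha])
      (by rw [← Perm.mul_apply, t2, Perm.mul_apply, ha]) with h | h | h
    exacts [by rw [← h, k h2 t2 h3 a ha h.symm], by rw [← h, k t2 h2 t3 a ha h.symm], h]
  · rw [(half hx h1 h2 h3 hm).1, (half hx t1 t2 t3 hm).1]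

theorem uniq (n : ℕ) : ∀ (Ω : Type) [Fintype Ω], Fintype.card Ω = n → ∀ x : Perm Ω, Cond x →
    ∀ P Q : Sylow 2 (Perm Ω), x ∈ P → x ∈ Q → P = Q := by
  induction n using Nat.strong_induction_on with | _ n ih => ?_
  intro Ω _ hn x hx P Q hP hQ
  classical
  obtain ⟨s, h1, h2, h3⟩ := exists_inv P.isPGroup'
  obtain ⟨t, t1, t2, t3⟩ := exists_inv Q.isPGroup'
  obtain rfl := inv_uniq hx h1 (h2 x hP) h3 t1 (t2 x hQ) t3
  have ss : ∀ u, s (s u) = u := fun u => congrArg (fun z : Perm Ω => z u) h1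
  by_cases hs : ∀ a, s a = a
  · have : Subsingleton Ω := ⟨fun a b => h3 a b (hs a) (hs b)⟩
    exact Sylow.ext (Subsingleton.elim _ _)
  push Not at hs
  obtain ⟨a0, ha0⟩ := hs
  let S : Setoid Ω := ⟨fun a b => a = b ∨ a = s b, fun _ => Or.inl rfl,
    fun {a b} h => h.imp Eq.symm fun e => by rw [e, ss], by
      rintro a b c (rfl | rfl) (rfl | rfl) <;> simp [ss]⟩
  have cm : ∀ (g : centralizer ({s} : Set (Perm Ω))) u, g.1 (s u) = s (g.1 u) := fun g u =>
    congrArg (fun z : Perm Ω => z u) (mem_centralizer_singleton_iff.1 g.2)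
  let π : centralizer ({s} : Set (Perm Ω)) →* Perm (Quotient S) := MonoidHom.mk'
    (fun g => Quotient.congr g.1 fun a b => by
      show a = b ∨ a = s b ↔ g.1 a = g.1 b ∨ g.1 a = s (g.1 b)
      rw [← cm, g.1.injective.eq_iff, g.1.injective.eq_iff])
    fun _ _ => Equiv.ext fun u => Quotient.inductionOn u fun _ => rfl
  have hπ : ∀ g a b, π g ⟦a⟧ = ⟦b⟧ ↔ g.1 a = b ∨ g.1 a = s b := fun g a b => Quotient.eq (r := S)
  have hk : IsPGroup 2 π.ker := by
    refine ((E_pg (fun u v => v = s u) (fun u v h => by rw [h, ss])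
      fun u v w h h' => h.trans h'.symm).comap_subtype (K := centralizer {s})).to_le fun g hg ω => ?_
    exact (hπ g ω ω).1 (by rw [MonoidHom.mem_ker.1 hg]; rfl)
  let X : centralizer ({s} : Set (Perm Ω)) := ⟨x, mem_centralizer_singleton_iff.2 (h2 x hP)⟩
  have hX : ∀ (i : ℕ) a b, (π X ^ i) ⟦a⟧ = ⟦b⟧ ↔ (x ^ i) a = b ∨ (x ^ i) a = s b := fun i a b => by
    rw [← map_pow, hπ]; rfl
  have p1 : ∀ a, x a = a → π X ⟦a⟧ = ⟦a⟧ := fun a h => (hπ X a a).2 (Or.inl h)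
  have p2 : ∀ a k, period x a = 2 ^ (k + 1) → period (π X) ⟦a⟧ = 2 ^ k := fun a k h =>
    Nat.dvd_antisymm (pw.1 ((hX _ _ _).2 (((half hx h1 (h2 x hP) h3 h).2 _).2 dvd_rfl)))
      (((half hx h1 (h2 x hP) h3 h).2 _).1 ((hX _ _ _).1 (pw.2 dvd_rfl)))
  have p3 : ∀ a b, x a = a → x b = b → (⟦a⟧ : Quotient S) = ⟦b⟧ := fun a b ha hb => by
    have f : ∀ u, x u = u → x (s u) = s u := fun u h => (cm X u).trans (congrArg s h)
    refine Quotient.sound (?_ : a = b ∨ a = s b)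
    rcases hx.2.1 a b (s b) ha hb (f b hb) with h | h | h
    exacts [Or.inl h, Or.inr h, by
      rcases hx.2.1 a b (s a) ha hb (f a ha) with h' | h' | h'
      exacts [Or.inl h', Or.inl (h3 _ _ h'.symm h.symm), Or.inr (by rw [h', ss])]]
  have p4 : ∀ a, π X ⟦a⟧ = ⟦a⟧ → x a ≠ a → period x a = 2 := fun a h ha => by
    obtain ⟨_ | k, hk⟩ := hx.1 a
    · exact (ha (per_one.1 hk)).elim
    · have := p2 a k hk
      rw [per_one.2 h] at this
      rw [hk, pow_succ, ← this, one_mul]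
  have p5 : ∀ a b, π X ⟦a⟧ = ⟦a⟧ → π X ⟦b⟧ = ⟦b⟧ → x a ≠ a → x b ≠ b →
      (⟦a⟧ : Quotient S) = ⟦b⟧ := fun a b ha hb ha' hb' => by
    obtain ⟨i, hi⟩ := hx.2.2 a b ha' (by rw [p4 a ha ha', p4 b hb hb'])
    rw [← (hX i a b).2 (Or.inl hi), pw.2 (per_one.2 ha ▸ one_dvd i)]
  have hc : Cond (π X) := by
    refine ⟨fun u => Quotient.inductionOn u fun a => ?_, fun u v w =>
      Quotient.inductionOn₃ u v w fun a b c ha hb hc => ?_, fun u v =>
      Quotient.inductionOn₂ u v fun a b ha hb => ?_⟩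
    · obtain ⟨_ | k, hk⟩ := hx.1 a
      exacts [⟨0, per_one.2 (p1 a (per_one.1 hk))⟩, ⟨k, p2 a k hk⟩]
    · by_cases ea : x a = a <;> by_cases eb : x b = b <;> by_cases ec : x c = c <;>
        first
        | exact Or.inl (p3 _ _ ea eb)
        | exact Or.inl (p5 _ _ ha hb ea eb)
        | exact Or.inr (Or.inl (p3 _ _ ea ec))
        | exact Or.inr (Or.inl (p5 _ _ ha hc ea ec))
        | exact Or.inr (Or.inr (p3 _ _ eb ec))
        | exact Or.inr (Or.inr (p5 _ _ hb hc eb ec))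
    · obtain ⟨_ | k, hk⟩ := hx.1 a
      · exact (ha (p1 a (per_one.1 hk))).elim
      obtain ⟨_ | l, hl⟩ := hx.1 b
      · exact (ha (per_one.1 (hb.trans (per_one.2 (p1 b (per_one.1 hl)))))).elim
      rw [p2 a k hk, p2 b l hl] at hb
      obtain ⟨i, hi⟩ := hx.2.2 a b (fun e => ha (p1 a e)) (by rw [hk, hl, pow_succ, hb, pow_succ])
      exact ⟨i, (hX i a b).2 (Or.inl hi)⟩
  have lt : Fintype.card (Quotient S) < n := hn ▸ Fintype.card_lt_of_surjective_not_injective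
    (Quotient.mk S) Quotient.mk_surjective fun h => ha0 (h (Quotient.sound (Or.inr rfl)))
  have fin : ∀ P : Sylow 2 (Perm Ω), x ∈ P → (∀ g ∈ (P : Subgroup (Perm Ω)), g * s = s * g) →
      ∃ R : Sylow 2 (Perm (Quotient S)), π X ∈ R ∧
        ((R : Subgroup _).comap π).map (centralizer {s}).subtype = P := fun P hP h => by
    obtain ⟨R, hR⟩ := ((P.isPGroup'.comap_subtype (K := centralizer {s})).map π).exists_le_sylow
    exact ⟨R, hR ⟨X, hP, rfl⟩, P.is_maximal' ((R.isPGroup'.comap_of_ker_isPGroup π hk).map _)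
      fun g hg => ⟨⟨g, mem_centralizer_singleton_iff.2 (h g hg)⟩, hR ⟨_, hg, rfl⟩, rfl⟩⟩
  obtain ⟨R, r1, r2⟩ := fin P hP h2
  obtain ⟨R', r1', r2'⟩ := fin Q hQ t2
  exact Sylow.ext (by rw [← r2, ← r2', ih _ lt _ rfl _ hc R R' r1 r1'])

theorem per_eq [Fintype Ω] [DecidableEq Ω] {x : Perm Ω} {a : Ω} (ha : x a ≠ a) :
    period x a = (x.cycleOf a).support.card :=
  have h := fun i => (Perm.isCycleOn_support_cycleOf x a).pow_apply_eq (n := i)
    ((Perm.mem_support_cycleOf_iff' ha).2 Perm.SameCycle.rfl)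
  Nat.dvd_antisymm (pw.1 ((h _).2 dvd_rfl)) ((h _).1 (pw.2 dvd_rfl))


/-- Let n ≥ 2 and let x be an element of 2-power order of the symmetric group of degree n. Then x lies in exactly one Sylow 2-subgroup if and only if x has at most two fixed points and the nontrivial cycles of x have pairwise different lengths. -/
theorem result (n : ℕ) (hn : 2 ≤ n)
    (x : Equiv.Perm (Fin n)) (hx : ∃ k : ℕ, orderOf x = 2 ^ k) :
    (∃! P : Sylow 2 (Equiv.Perm (Fin n)), x ∈ P) ↔ (n ≤ x.support.card + 2 ∧ x.cycleType.Nodup) := by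
  obtain ⟨k, hk⟩ := hx
  have h1 : IsPGroup 2 (zpowers x) := IsPGroup.of_card (by rw [Nat.card_zpowers, hk])
  have h2 : ∀ a : Fin n, ∃ k, period x a = 2 ^ k := fun a =>
    let ⟨j, _, h⟩ := (Nat.dvd_prime_pow Nat.prime_two).1 (hk ▸ period_dvd_orderOf x a); ⟨j, h⟩
  have h3 : n ≤ x.support.card + 2 ↔
      ∀ a b c, x a = a → x b = b → x c = c → a = b ∨ a = c ∨ b = c := by
    have := Finset.card_compl x.support
    have := Finset.card_le_univ x.support
    rw [Fintype.card_fin] at *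
    rw [show n ≤ x.support.card + 2 ↔ ¬ 2 < x.supportᶜ.card by omega, Finset.two_lt_card]
    simp only [Finset.mem_compl, Perm.notMem_support]
    push Not
    exact ⟨fun h a b c ha hb hc => by have := h a ha b hb c hc; tauto,
      fun h a ha b hb c hc => by have := h a b c ha hb hc; tauto⟩
  rw [h3, Perm.cycleType_def, Multiset.nodup_map_iff_inj_on x.cycleFactorsFinset.nodup]
  constructor
  · rintro ⟨P, -, hP⟩
    refine ⟨fun a b c ha hb hc => ?_, fun c hc d hd h => ?_⟩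
    · have f := fun u (h : x u = u) i => Perm.zpow_apply_eq_self_of_apply_eq_self h i
      by_contra hh
      push Not at hh
      exact hh.2.2 (not_swap (swap_mem h1 hP (by simp [f, ha, hb]) (by simp [f, ha, hb, eq_comm]))
        (swap_mem h1 hP (by simp [f, ha, hc]) (by simp [f, ha, hc, eq_comm])) hh.1 hh.2.1)
    · rw [Finset.mem_val] at hc hd
      obtain ⟨a, ha⟩ := (Perm.mem_cycleFactorsFinset_iff.1 hc).1.nonempty_support
      obtain ⟨b, hb⟩ := (Perm.mem_cycleFactorsFinset_iff.1 hd).1.nonempty_support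
      have ha' := Perm.mem_cycleFactorsFinset_support_le hc ha
      have hb' := Perm.mem_cycleFactorsFinset_support_le hd hb
      obtain rfl := Perm.cycle_is_cycleOf ha hc
      obtain rfl := Perm.cycle_is_cycleOf hb hd
      rw [← Perm.sameCycle_iff_cycleOf_eq_of_mem_support ha' hb']
      by_contra hh
      have zp : ∀ (i : ℤ) u, (x ^ i) u = u ↔ (period x u : ℤ) ∣ i := fun i u =>
        zpow_smul_eq_iff_period_dvd (g := x) (a := u)
      simp only [Function.comp, ← per_eq (Perm.mem_support.1 ha'),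
        ← per_eq (Perm.mem_support.1 hb')] at h
      obtain ⟨_ | m, hm⟩ := h2 a
      · exact Perm.mem_support.1 ha' (per_one.1 hm)
      have c : ∀ (i : ℤ) u, (x ^ i) ((x ^ 2 ^ m) u) = (x ^ 2 ^ m) ((x ^ i) u) := fun i u =>
        congrArg (fun z : Perm (Fin n) => z u) ((Commute.refl x).zpow_left i |>.pow_right _).eq
      have dd : (x ^ 2 ^ m) ((x ^ 2 ^ m) a) = a := by
        rw [← Perm.mul_apply, ← pow_add, pw, hm, pow_succ, mul_two]
      refine hh ⟨(2 ^ m : ℕ), (not_swap (swap_mem h1 hP (fun i => by rw [zp, zp, h]) fun i =>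
        ⟨fun e => (hh ⟨i, e⟩).elim, fun e => (hh (Perm.SameCycle.symm ⟨i, e⟩)).elim⟩)
        (swap_mem h1 hP (b := (x ^ 2 ^ m) a) (fun i => ?_) fun i => ?_)
        (fun e => hh (e ▸ Perm.SameCycle.rfl)) fun e => ?_).symm⟩
      · rw [c, (x ^ 2 ^ m).injective.eq_iff]
      · rw [c, ← (x ^ 2 ^ m).injective.eq_iff, dd]
      · have := Nat.le_of_dvd (by positivity) (hm ▸ pw.1 e.symm)
        have := Nat.two_pow_pos m
        omega
  · rintro ⟨c1, c2⟩
    obtain ⟨P, hP⟩ := h1.exists_le_sylow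
    refine ⟨P, hP (mem_zpowers x), fun Q hQ => uniq _ _ rfl x ⟨h2, c1, fun a b ha h => ?_⟩ Q P hQ
      (hP (mem_zpowers x))⟩
    have hb : x b ≠ b := fun e => ha (per_one.1 (h.trans (per_one.2 e)))
    have ha' := Perm.mem_support.2 ha
    have hb' := Perm.mem_support.2 hb
    obtain ⟨i, -, hi⟩ := ((Perm.sameCycle_iff_cycleOf_eq_of_mem_support ha' hb').2 (c2 _
      (Perm.cycleOf_mem_cycleFactorsFinset_iff.2 ha') _ (Perm.cycleOf_mem_cycleFactorsFinset_iff.2 hb')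
      (by simpa [← per_eq ha, ← per_eq hb] using h))).exists_pow_eq'
    exact ⟨i, hi⟩

end Cfsg.Agent.S4349
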