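import Cfsg.Statements.S4351
import Cfsg.Agent.H5.Mt4

set_option autoImplicit false
open Cfsg

namespace Cfsg.Agent.S4351

open Subgroup Cfsg H10 H1.CIT
open scoped MatrixGroups

theorem solv_of_z {G : Type*} [Group G] [Finite G] {N S : Subgroup G} [N.Normal]
    (h1 : Group.IsNilpotent N) (hS : IsSylowIn 2 S ⊤) (h2 : S ≤ N) : Group.IsSolvable G := by
  refine solv_of_quot N inferInstance (H17.odd_solvable ?_)
  obtain ⟨P, rfl⟩ := hS.exists_sylow_top
  exact Nat.odd_iff.2 (Nat.two_dvd_ne_zero.1 fun h => P.not_dvd_index (h.trans (index_dvd_of_le h2)))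

theorem cit {G : Type*} [Group G] [Finite G] (hG : ¬ Group.IsSolvable G) (h : IsCNGroup G) : Cit G := by
  have h4 : Four G := by
    by_contra h4
    obtain ⟨t, ot⟩ := exists_ord2 hG
    refine hG (solv_of_quot (pPrimeCore 2 G) (H17.odd_solvable odd_O) ?_)
    have := h t (H6.ord2_ne_one ot)
    refine Group.isSolvable_of_surjective (f := (QuotientGroup.mk' (pPrimeCore 2 G)).comp
      (centralizer {t}).subtype) ?_
    have e := H1.map_centralizer_mk' (pPrimeCore 2 G) (A := zpowers t)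
      (by rw [Nat.card_zpowers, ot]; exact Nat.coprime_two_left.2 odd_O) (.inr (H17.odd_solvable odd_O))
    intro y
    obtain ⟨x, hx, rfl⟩ := e.ge (show y ∈ _ from by
      obtain ⟨y, rfl⟩ := QuotientGroup.mk_surjective y
      rintro _ ⟨_, ⟨k, rfl⟩, rfl⟩
      have := (QuotientGroup.eq_one_iff _).2 (cm_mem_O h4 ot y)
      have : Commute (t : G ⧸ pPrimeCore 2 G) y := by
        simpa [mul_inv_eq_iff_eq_mul, commute_iff_eq] using this
      rw [map_zpow]
      exact (this.zpow_left k).eq)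
    exact ⟨⟨x, mem_centralizer_singleton_iff.2 (hx t (mem_zpowers t)).symm⟩, rfl⟩
  refine (cit_or_of_cn h h4).resolve_right ?_
  rintro ⟨z, oz, hN, S, hS, hle⟩
  exact hG (solv_of_z (h z (H6.ord2_ne_one oz)) hS hle)


/-- Let G be a finite non-solvable group in which the centralizer of every non-identity element is nilpotent. Then G is a non-abelian simple group; or G has a normal subgroup of index 2 isomorphic to PSL(2, 9); or G has a nontrivial normal elementary abelian 2-subgroup N such that G/N is isomorphic to PSL(2, q) for some q = 2ⁿ ≥ 4 or is a simple group of Suzuki type (simple, of the order of a Suzuki group). -/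
theorem result {G : Type*} [Group G] [Finite G] (hG : ¬ Group.IsSolvable G)
    (hCN : ∀ x : G, x ≠ 1 → Group.IsNilpotent (Subgroup.centralizer ({x} : Set G))) :
    (IsSimpleGroup G ∧ ¬ IsMulCommutative G) ∨
    (∃ (N : Subgroup G), N.Normal ∧ N.index = 2 ∧ ∃ (F : Type) (_ : Field F) (_ : Fintype F), Fintype.card F = 9 ∧
        Nonempty (N ≃* Matrix.ProjectiveSpecialLinearGroup (Fin 2) F)) ∨
    (∃ (N : Subgroup G) (_ : N.Normal), N ≠ ⊥ ∧ IsPGroup 2 N ∧ IsMulCommutative N ∧ (∀ x ∈ N, x * x = 1) ∧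
        ((∃ (F : Type) (_ : Field F) (_ : Fintype F), CharP F 2 ∧ 4 ≤ Fintype.card F ∧
            Nonempty (G ⧸ N ≃* Matrix.ProjectiveSpecialLinearGroup (Fin 2) F)) ∨ Cfsg.IsSuzuki (G ⧸ N))) := by
  have hC := cit hG hCN
  have hs := QuotientGroup.mk'_surjective (pCore 2 G)
  by_cases h0 : pCore 2 G = ⊥
  · rcases hC.struct h0 hG with h | h
    · exact .inl ⟨h.simple, fun e => hG (isSolvable_of_comm e.1.1)⟩
    · exact .inr (.inl h)
  have h9 := hC.el_nine h0
  have ea : (∀ x ∈ pCore 2 G, x * x = 1) → IsMulCommutative (pCore 2 G) := fun k =>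
    ⟨⟨fun a b => Subtype.ext (by
      show a.1 * b.1 = b.1 * a.1
      rw [← inv_eq_of_mul_eq_one_right (k _ (mul_mem a.2 b.2)), mul_inv_rev,
        inv_eq_of_mul_eq_one_right (k a a.2), inv_eq_of_mul_eq_one_right (k b b.2)])⟩⟩
  refine .inr (.inr ⟨pCore 2 G, inferInstance, h0, isPGroup_pCore', ?_⟩)
  rcases hC.struct' hG with ((⟨F, i, j, n, h1, h2, ⟨f⟩⟩ | ⟨F, i, j, m, h1, h2, ⟨f⟩⟩) |
    ⟨F, i, j, k, h1, h2, h5, ⟨f⟩⟩ | ⟨⟨f⟩⟩) | k
  · have := H26.charTwo_of_card h2
    obtain ⟨g⟩ := H8.psl_equiv_sl (F := F) CharTwo.two_eq_zero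
    obtain ⟨x, hx⟩ := (el_of_prime Nat.prime_three
      (Nat.card_congr f.toEquiv ▸ three_dvd_psl : 3 ∣ Nat.card (G ⧸ pCore 2 G))).lift hs
    have k := (H1.Hig.hy_of isPGroup_pCore' (f.trans g) (by
      rw [Nat.card_eq_fintype_card, h2]; have := four_le_pow h1; omega) hx fun q hq e => by
        by_contra q1
        rw [hC.two isPGroup_pCore' hq q1 (x := x) (by rw [hx]; decide)
          (mul_inv_eq_iff_eq_mul.1 e).symm, orderOf_one] at hx
        omega).ea
    rw [H1.Hig.ker_eq] at k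
    exact ⟨k.1, fun x hx => (pow_two x).symm.trans (k.2 x hx),
      .inl ⟨F, i, j, this, h2 ▸ four_le_pow h1, ⟨f⟩⟩⟩
  · have M := (H26.Sz.lieModel h1 h2).ofEquiv f
    have k := H5Mt.martineau M _ G (QuotientGroup.mk' _) rfl hC hs
      ((QuotientGroup.ker_mk' (pCore 2 G)).symm ▸ isPGroup_pCore')
    rw [QuotientGroup.ker_mk'] at k
    exact ⟨ea k, k, .inr ⟨M.isSimpleGroup, m, h1, by rw [M.card_G, h2]⟩⟩
  · have := eight_le_pow h1
    rcases h5 with h5 | h5
    · have := ((El.congr f).trans (el_psl_odd (n := 2) Nat.prime_three (by norm_num) h5 (by omega))).1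
        (h9 (by rw [Nat.card_congr f.toEquiv, card_psl_of (n := 360) h5 (by norm_num)]; decide))
      omega
    · have := H5Mt.not_psl h5 (by omega) (π := f.toMonoidHom.comp (QuotientGroup.mk' _)) hC
        (f.surjective.comp hs) ((H1.Hig.ker_eq f).symm ▸ isPGroup_pCore')
      exact absurd ((H1.Hig.ker_eq f).symm.trans this) h0
  · have := el_psl34.1 ((El.congr f).1 (h9 (by rw [Nat.card_congr f.toEquiv, card_psl34]; decide)))
    omega
  · obtain ⟨x, hx⟩ := h9 (by rw [k.card]; decide)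
    obtain ⟨N, _, h1, F, i, j, h2, ⟨f⟩⟩ := k
    have hm : x ∈ N := mem_of_pow_mem (n := N.index) (by rw [h1, hx]; decide) (N.pow_index_mem x)
    have := ((El.congr f).trans (el_psl_odd (n := 2) Nat.prime_three (by norm_num) h2 (by omega))).1
      ⟨⟨x, hm⟩, (orderOf_mk ..).trans hx⟩
    omega

end Cfsg.Agent.S4351
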