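import Mathlib
import Cfsg.Statements.S4354
import Cfsg.Agent.H8.CamH

set_option autoImplicit false
open Cfsg

namespace Cfsg.Agent.S4354

open scoped commutatorElement

theorem result {G : Type*} [Group G] [Finite G]
    (p : ℕ) [Fact p.Prime] (h : ((∃ P : Sylow p G, ¬ IsMulCommutative P) ∧ ∀ x : G, (∃ k : ℕ, orderOf x = p ^ k) → ¬ p ∣ (Subgroup.centralizer ({x} : Set G)).index))
    (hmin : ∀ (N : Subgroup G) [N.Normal], N ≠ ⊥ → N ≠ ⊤ →
      ¬ ((∃ P : Sylow p N, ¬ IsMulCommutative P) ∧ ∀ x : N, (∃ k : ℕ, orderOf x = p ^ k) → ¬ p ∣ (Subgroup.centralizer ({x} : Set N)).index) ∧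
      ¬ ((∃ P : Sylow p (G ⧸ N), ¬ IsMulCommutative P) ∧ ∀ x : (G ⧸ N), (∃ k : ℕ, orderOf x = p ^ k) → ¬ p ∣ (Subgroup.centralizer ({x} : Set (G ⧸ N))).index)) :
    IsSimpleGroup G := by
  obtain ⟨⟨P, hP⟩, h⟩ := h
  have h' : H8.PCen p G := h
  haveI : Nontrivial G := by
    by_contra h0
    haveI := not_nontrivial_iff_subsingleton.1 h0
    exact hP (H1.isMulCommutative_iff'.2 fun _ _ _ _ => Subsingleton.elim _ _)
  refine ⟨fun N hN => ?_⟩
  by_contra hne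
  push Not at hne
  obtain ⟨h1, h2⟩ := hmin N hne.1 hne.2
  have h3 : ∀ Q : Sylow p N, IsMulCommutative Q := fun Q => by
    by_contra h3
    exact h1 ⟨⟨Q, h3⟩, h'.normal N⟩
  have h4 : ∀ Q : Sylow p (G ⧸ N), IsMulCommutative Q := fun Q => by
    by_contra h3
    exact h2 ⟨⟨Q, h3⟩, h'.quotient N⟩
  refine hP (h'.comm_of_sc P (A := (P : Subgroup G) ⊓ N) ?_
    ⟨inf_le_left, fun x hx g hg => Subgroup.mem_inf.2 ⟨hg, hN.conj_mem _ hx.2 g⟩⟩
    fun a ha b hb => Subgroup.mem_inf.2 ⟨?_, ?_⟩)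
  · obtain ⟨Q, hQ⟩ := (P.isPGroup'.comap_subtype (K := N)).exists_le_sylow
    have h5 := H1.isMulCommutative_iff'.1 (h3 Q)
    rw [H1.isMulCommutative_iff']
    intro a ha b hb
    exact congrArg Subtype.val (h5 ⟨a, ha.2⟩ (hQ ha.1) ⟨b, hb.2⟩ (hQ hb.1))
  · exact mul_mem (mul_mem (mul_mem ha hb) (inv_mem ha)) (inv_mem hb)
  · have h5 := H1.isMulCommutative_iff'.1 (h4 (P.mapSurjective (QuotientGroup.mk'_surjective N)))
      _ ⟨a, ha, rfl⟩ _ ⟨b, hb, rfl⟩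
    rw [← commutatorElement_eq_one_iff_mul_comm, ← map_commutatorElement] at h5
    exact (QuotientGroup.eq_one_iff _).1 h5

end Cfsg.Agent.S4354
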