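import Cfsg.Statements.S4371
import Cfsg.Agent.H25.EO3

set_option autoImplicit false
open Cfsg

namespace Cfsg.Agent.S4371

open Subgroup H10 H1.CIT H25.EO
open scoped MatrixGroups

theorem el_eight {G : Type*} [Group G] [Finite G] (hG : Cit G) (h0 : pCore 2 G ≠ ⊥) {F : Type*} [Field F]
    [Fintype F] {m : ℕ} (M : H26.SzModel (G ⧸ pCore 2 G) F m) : El G 8 := by
  obtain ⟨x, hx, h1, h2⟩ := M.exists_torus (.inl rfl)
  have ho : Odd (Nat.card (centralizer {x})) := by
    rw [h1, pow_succ, pow_succ, Nat.odd_iff]; omega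
  obtain ⟨K, hK, hc⟩ := lift_odd ho
  obtain ⟨k, hk⟩ := IsPGroup.iff_card.1 (isPGroup_pCore' (p := 2) (G := G))
  have e := H1.map_normalizer_mk' (pCore 2 G) (A := K)
    (by rw [hc, hk]; exact (Nat.coprime_two_right.2 ho).pow_right k) (.inr (solv_of_pg isPGroup_pCore'))
  have h4 : 2 ^ 2 ∣ Nat.card NN(K) := by
    refine Dvd.dvd.trans ?_ (card_map_dvd _ (QuotientGroup.mk' (pCore 2 G)))
    rw [e, hK, h2]; exact Dvd.intro _ rfl
  obtain ⟨P, hP⟩ := Sylow.exists_subgroup_card_pow_prime 2 h4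
  set R := P.map NN(K).subtype
  have hR : Nat.card R = 2 ^ 2 := by rw [card_map_of_injective NN(K).subtype_injective, hP]
  have hRp : IsPGroup 2 R := IsPGroup.of_card hR
  haveI : IsMulCommutative R := IsPGroup.isMulCommutative_of_card_eq_prime_sq hR
  have hoK : Odd (Nat.card K) := hc ▸ ho
  have hK0 : K ≠ ⊥ := by
    rintro rfl
    have := Nat.two_pow_pos (m + 1)
    rw [card_bot, h1] at hc
    generalize 2 ^ (2 * m + 1) = a at hc
    omega
  have hcyc := H2.isCyclic_of_fpf_comm' R K hK0 (map_subtype_le _) fun a ha a1 =>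
    eq_bot_iff.2 fun y hy => hG.two hRp ha a1 (H6.odd_orderOf_of_odd_card hoK hy.1)
      (mem_centralizer_singleton_iff.1 hy.2).symm
  obtain ⟨r, hr⟩ := H8.exists_zpowers_eq_of_isCyclic hcyc
  have or : orderOf r = 4 := by rw [← Nat.card_zpowers, hr, hR]; rfl
  have hrR : r ∈ R := hr ▸ mem_zpowers r
  obtain ⟨V, p, hV, v0, hle, hp, c1, c2, c3, -⟩ := H1.exists_minimal_normal_elementary (pCore 2 G)
    (solv_of_pg isPGroup_pCore') h0
  have hV2 : IsPGroup 2 V := isPGroup_pCore'.to_le hle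
  obtain ⟨v, hv, ov⟩ := exists_orderOf_eq_of_ne_bot hV2 v0
  obtain rfl : 2 = p := (Nat.prime_dvd_prime_iff_eq Nat.prime_two hp).1
    (ov ▸ orderOf_dvd_of_pow_eq_one (c2 v hv))
  have := frob_el (V := V) (K := K) (x := r) hp c2 (le_NN_of_normal _ _) (le_NN_of_normal ⊤ V (mem_top r))
    (map_subtype_le _ hrR) (fun i h1 h2 a ha e => hG.two hRp (pow_mem hrR i)
      (pow_ne_one_of_lt_orderOf h1.ne' h2) (H6.odd_orderOf_of_odd_card hoK ha) e.symm)
    (by rwa [← even_iff_two_dvd, Nat.not_even_iff_odd]) fun e => hK0 (eq_bot_iff.2 fun a ha =>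
      hG v a ov (H6.odd_orderOf_of_odd_card hoK ha) (e ha v hv))
  rwa [or] at this

/-- Let G be a finite non-solvable group in which no prime divides three pairwise distinct element orders. Then one of the following holds, where 'a product of at most two primes' always counts primes with multiplicity: the quotient of G by its largest normal 2-subgroup is isomorphic to PSL(2, q) with q = 2ᶠ ≥ 4 and each of q + 1, q - 1 a product of at most two primes; G is isomorphic to PSL(2, q) with q > 5, q ≡ 3 or 5 (mod 8) and each of (q + 1)/2, (q - 1)/2 a product of at most two primes; G is isomorphic to PSL(2, 7), PSL(2, 9) or PSL(3, 4); or G is simple of order q²(q² + 1)(q - 1), the order of the Suzuki group Sz(q), where q = 2²ⁿ⁺¹ ≥ 8, and each of q - 1, q - r + 1, q + r + 1 (r = 2ⁿ⁺¹) is a product of at most two primes. -/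
theorem result {G : Type*} [Group G] [Finite G]
    (hG : ¬ Group.IsSolvable G) (h3 : (∀ p : ℕ, p.Prime → ∀ a b c : G, orderOf a ≠ orderOf b → orderOf b ≠ orderOf c → orderOf a ≠ orderOf c → ¬ (p ∣ orderOf a ∧ p ∣ orderOf b ∧ p ∣ orderOf c))) :
    (∃ (F : Type) (_ : Field F) (_ : Fintype F), CharP F 2 ∧ 4 ≤ Fintype.card F ∧
        (Fintype.card F + 1).primeFactorsList.length ≤ 2 ∧ (Fintype.card F - 1).primeFactorsList.length ≤ 2 ∧
        Nonempty (G ⧸ Cfsg.pCore 2 G ≃* Matrix.ProjectiveSpecialLinearGroup (Fin 2) F)) ∨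
    (∃ (F : Type) (_ : Field F) (_ : Fintype F), 5 < Fintype.card F ∧ (Fintype.card F % 8 = 3 ∨ Fintype.card F % 8 = 5) ∧
        ((Fintype.card F + 1) / 2).primeFactorsList.length ≤ 2 ∧ ((Fintype.card F - 1) / 2).primeFactorsList.length ≤ 2 ∧
        Nonempty (G ≃* Matrix.ProjectiveSpecialLinearGroup (Fin 2) F)) ∨
    (∃ (F : Type) (_ : Field F) (_ : Fintype F), (Fintype.card F = 7 ∨ Fintype.card F = 9) ∧
        Nonempty (G ≃* Matrix.ProjectiveSpecialLinearGroup (Fin 2) F)) ∨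
    (∃ (F : Type) (_ : Field F) (_ : Fintype F), Fintype.card F = 4 ∧ Nonempty (G ≃* Matrix.ProjectiveSpecialLinearGroup (Fin 3) F)) ∨
    (∃ n : ℕ, 1 ≤ n ∧ IsSimpleGroup G ∧ Nat.card G = (2 ^ (2 * n + 1)) ^ 2 * ((2 ^ (2 * n + 1)) ^ 2 + 1) * (2 ^ (2 * n + 1) - 1) ∧
        (2 ^ (2 * n + 1) - 1).primeFactorsList.length ≤ 2 ∧ (2 ^ (2 * n + 1) - 2 ^ (n + 1) + 1).primeFactorsList.length ≤ 2 ∧
        (2 ^ (2 * n + 1) + 2 ^ (n + 1) + 1).primeFactorsList.length ≤ 2) := by
  have h : T3 G := by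
    rintro p _ _ _ hp ⟨a, rfl⟩ ⟨b, rfl⟩ ⟨c, rfl⟩ h1 h2 h4 d1 d2 d3
    exact h3 p hp a b c h1 h2 h4 ⟨d1, d2, d3⟩
  have hs := QuotientGroup.mk'_surjective (pCore 2 G)
  have hq := h.quot hs
  have even : ∀ (F : Type) (_ : Field F) (_ : Fintype F) (n : ℕ), 2 ≤ n → Fintype.card F = 2 ^ n →
      Nonempty (G ⧸ pCore 2 G ≃* PSL(2, F)) → CharP F 2 ∧ 4 ≤ Fintype.card F ∧
        (Fintype.card F + 1).primeFactorsList.length ≤ 2 ∧
        (Fintype.card F - 1).primeFactorsList.length ≤ 2 ∧ Nonempty (G ⧸ pCore 2 G ≃* PSL(2, F)) := by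
    rintro F _ _ n h1 h2 ⟨f⟩
    have key := fun m => (El.congr f (n := m)).trans (el_psl_even h1 h2)
    exact ⟨H26.charTwo_of_card h2, h2 ▸ four_le_pow h1, hq.omega ((key _).2 (by simp [h2])),
      hq.omega ((key _).2 (by simp [h2])), ⟨f⟩⟩
  by_cases h4 : El G 4
  swap
  · haveI := h.simple hG h4
    obtain ⟨g⟩ := equiv_of_bot (h.core_bot hG h4)
    rcases no_four (fun e => hG (isSolvable_of_comm e.1.1)) h4 h.two_eq with
      ⟨F, i, j, n, h1, h2, ⟨f⟩⟩ | ⟨F, i, j, h1, h2, ⟨f⟩⟩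
    · exact .inl ⟨F, i, j, even F i j n (by omega) h2 ⟨g.symm.trans f⟩⟩
    by_cases h5 : Fintype.card F = 5
    · obtain ⟨e1⟩ := H18.psl_a5 (F := F) (.inr h5)
      obtain ⟨e2⟩ := H18.psl_a5 (F := F4) (.inl card_F4)
      exact .inl ⟨F4, _, _, even F4 _ _ 2 le_rfl card_F4 ⟨((g.symm.trans f).trans e1).trans e2.symm⟩⟩
    obtain ⟨p, -, n, hp, hc⟩ := FiniteField.card' F
    have p2 : p ≠ 2 := by
      rintro rfl
      have : 2 ∣ Fintype.card F := hc ▸ dvd_pow_self 2 n.pos.ne'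
      omega
    have key := fun m => (El.congr f (n := m)).trans (el_psl_odd hp p2 hc h2)
    exact .inr (.inl ⟨F, i, j, by omega, h1, h.omega ((key _).2 (.inr (.inr ⟨1, by omega⟩))),
      h.omega ((key _).2 (.inr (.inl ⟨1, by omega⟩))), ⟨f⟩⟩)
  have hC : Cit G := cit_of_el fun r hr r2 e =>
    r2 (h.eq (b := 2) Nat.prime_two e h4 hr.one_lt.ne' (by norm_num))
  have h8 : ¬ El G 8 := fun e => by
    have := h.eq (a := 4) (b := 2) Nat.prime_two e h4 (by norm_num) (by norm_num)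
    omega
  have h9 : pCore 2 G ≠ ⊥ → 9 ∣ Nat.card (G ⧸ pCore 2 G) → El (G ⧸ pCore 2 G) 9 := hC.el_nine
  rcases hC.struct' hG with ((⟨F, i, j, n, h1, h2, f⟩ | ⟨F, i, j, m, h1, h2, ⟨f⟩⟩) |
    ⟨F, i, j, k, h1, h2, h5, ⟨f⟩⟩ | ⟨⟨f⟩⟩) | k
  · exact .inl ⟨F, i, j, even F i j n h1 h2 f⟩
  · have M := (H26.Sz.lieModel h1 h2).ofEquiv f
    have h0 : pCore 2 G = ⊥ := by_contra fun h0 => h8 (el_eight hC h0 M)
    obtain ⟨g⟩ := equiv_of_bot h0
    have key := fun k => el_sz (k := k) M h2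
    refine .inr (.inr (.inr (.inr ⟨m, h1, Kn.simple (.inl (.inr ⟨F, i, j, m, h1, h2, ⟨g.trans f⟩⟩)), ?_,
      hq.omega ((key _).2 (by simp)), hq.omega ((key _).2 (by simp)), hq.omega ((key _).2 (by simp))⟩)))
    rw [Nat.card_congr g.toEquiv, M.card_G, h2]
  · obtain ⟨p, -, n, hp, hc⟩ := FiniteField.card' F
    obtain ⟨k, rfl⟩ : ∃ j, k = j + 1 := ⟨k - 1, by omega⟩
    have := four_le_pow (n := k) (by omega)
    rw [pow_succ] at h2
    have p2 : p ≠ 2 := by
      rintro rfl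
      have : 2 ∣ Fintype.card F := hc ▸ dvd_pow_self 2 n.pos.ne'
      omega
    have key := fun m => (El.congr f (n := m)).trans (el_psl_odd hp p2 hc (by omega))
    have hk : k = 2 := by
      by_contra hn
      have : 8 ∣ 2 ^ k := pow_dvd_pow 2 (show 3 ≤ k by omega)
      refine h8 (((key 8).2 (.inr ?_)).lift hs)
      omega
    subst hk
    have h7 : Fintype.card F = 7 ∨ Fintype.card F = 9 := by omega
    have h0 : pCore 2 G = ⊥ := by
      by_contra h0
      have c := Nat.card_congr f.toEquiv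
      rcases h7 with h7 | h7
      · haveI : IsSimpleGroup (G ⧸ pCore 2 G) :=
          Kn.simple (.inr (.inl ⟨F, i, j, 3, le_rfl, by omega, h5, ⟨f⟩⟩))
        obtain ⟨H, hH⟩ := exists_21 (c.trans (card_psl_of h7 (by norm_num)))
        have := (key _).1 (hH ▸ el_of_cyclic (hC.el_pq h0 Nat.prime_three Nat.prime_seven (by decide) hH))
        have hp7 : p ∣ 7 := h7 ▸ hc ▸ dvd_pow_self p n.pos.ne'
        have := Nat.le_of_dvd (by norm_num) hp7
        have := hp.pos
        rcases ‹3 * 7 ∣ p ∨ _› with e | e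
        · have := Nat.le_of_dvd hp.pos e; omega
        · omega
      · have := (key _).1 (h9 h0 (by rw [c, card_psl_of (n := 360) h7 (by norm_num)]; decide))
        rcases this with e | e
        · exact absurd ((Nat.dvd_prime hp).1 e) (by rintro (e | rfl); omega; exact absurd hp (by decide))
        · omega
    obtain ⟨g⟩ := equiv_of_bot h0
    exact .inr (.inr (.inl ⟨F, i, j, h7, ⟨g.trans f⟩⟩))
  · have h0 : pCore 2 G = ⊥ := by
      by_contra h0
      have := el_psl34.1 ((El.congr f).1 (h9 h0 (by rw [Nat.card_congr f.toEquiv, card_psl34]; decide)))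
      omega
    obtain ⟨g⟩ := equiv_of_bot h0
    exact .inr (.inr (.inr (.inl ⟨F4, _, _, card_F4, ⟨g.trans f⟩⟩)))
  · exact absurd ((k.el_eight (hC.quot hs)).lift hs) h8

end Cfsg.Agent.S4371
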