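import Cfsg.Statements.S4395
import Cfsg.Agent.H3.Sch3

set_option autoImplicit false
universe u
open Cfsg

namespace Cfsg.Agent.S4395

open Subgroup _root_.H3 Cfsg.Agent.H3.Sch
open scoped commutatorElement

section
variable {F C : Type*} [Field F] [CommGroup C] {χ : C →* F} {σ : F →+* F} {h : ∀ c, χ c * σ (χ c) = 1}

/-- the unitary-type central extension -/
@[ext] structure GG (χ : C →* F) (σ : F →+* F) (h : ∀ c, χ c * σ (χ c) = 1) where
  /-- first part -/
  u : F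
  /-- central part -/
  z : F
  /-- rotation part -/
  c : C

instance : Mul (GG χ σ h) := ⟨fun x y => ⟨x.u + χ x.c * y.u, x.z + y.z + x.u * σ (χ x.c * y.u), x.c * y.c⟩⟩
instance : One (GG χ σ h) := ⟨⟨0, 0, 1⟩⟩
instance : Inv (GG χ σ h) := ⟨fun x => ⟨-(χ x.c⁻¹ * x.u), -x.z + x.u * σ x.u, x.c⁻¹⟩⟩
@[simp] theorem mul_u (x y : GG χ σ h) : (x * y).u = x.u + χ x.c * y.u := rfl
@[simp] theorem mul_z (x y : GG χ σ h) : (x * y).z = x.z + y.z + x.u * σ (χ x.c * y.u) := rfl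
@[simp] theorem mul_c (x y : GG χ σ h) : (x * y).c = x.c * y.c := rfl
@[simp] theorem one_u : (1 : GG χ σ h).u = 0 := rfl
@[simp] theorem one_z : (1 : GG χ σ h).z = 0 := rfl
@[simp] theorem one_c : (1 : GG χ σ h).c = 1 := rfl
@[simp] theorem inv_u (x : GG χ σ h) : (x⁻¹).u = -(χ x.c⁻¹ * x.u) := rfl
@[simp] theorem inv_z (x : GG χ σ h) : (x⁻¹).z = -x.z + x.u * σ x.u := rfl
@[simp] theorem inv_c (x : GG χ σ h) : (x⁻¹).c = x.c⁻¹ := rfl

instance : Group (GG χ σ h) := Group.ofLeftAxioms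
  (fun x y z => GG.ext (by simp only [mul_u, mul_c, map_mul]; ring) (by
    simp only [mul_u, mul_z, mul_c, map_mul, map_add]
    linear_combination (y.u * σ (χ y.c) * σ z.u) * h x.c) (mul_assoc _ _ _))
  (fun x => GG.ext (by simp) (by simp) (one_mul _))
  (fun x => GG.ext (by simp only [mul_u, inv_u, inv_c, one_u]; ring) (by
    simp only [mul_z, inv_u, inv_z, inv_c, one_z, map_mul]
    linear_combination (-(x.u * σ x.u)) * h x.c⁻¹) (inv_mul_cancel _))

instance [Finite F] [Finite C] : Finite (GG χ σ h) :=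
  Finite.of_injective (fun x : GG χ σ h => (x.u, x.z, x.c)) fun _ _ e =>
    GG.ext (congrArg (·.1) e) (congrArg (·.2.1) e) (congrArg (·.2.2) e)

/-- the projection -/
def pr : GG χ σ h →* MM χ := MonoidHom.mk' (fun x => ⟨x.u, x.c⟩) fun _ _ => rfl

/-- the central part -/
def ce : Multiplicative F →* GG χ σ h := MonoidHom.mk' (fun z => ⟨0, z.toAdd, 1⟩) fun _ _ =>
  GG.ext (by simp) (by simp) (by simp)

theorem pr_ker {x : GG χ σ h} (hx : x ∈ (pr (h := h)).ker) : x = ce (Multiplicative.ofAdd x.z) :=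
  GG.ext (congrArg MM.v hx) rfl (congrArg MM.c hx)

variable [Fintype F] [Finite C] {p q a r : ℕ} [hp : Fact p.Prime] [hq : Fact q.Prime] [CharP F p]

theorem cov_gg (h : ∀ c, χ c * σ (χ c) = 1) {n m : ℕ} (hn : 1 < n) (hσ : ∀ x, σ x = x ^ n)
    (hF : Fintype.card F = n * m) :
    ∃ (H : Subgroup (GG χ σ h)), Cov p ((pr (h := h)).comp H.subtype) ∧ m ≤ Nat.card ((pr (h := h)).comp H.subtype).ker := by
  obtain ⟨H, hH⟩ := exists_cov (p := p) (θ := pr (h := h)) (fun y => ⟨⟨y.v, 0, y.c⟩, rfl⟩)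
    (fun x hx => mem_center_iff.2 fun g => by
      rw [pr_ker hx]; exact GG.ext (by simp [ce]) (by simp [ce, add_comm]) (by simp [ce]))
    (fun x => ⟨1, Subtype.ext (by
      rw [pow_one, Subgroup.coe_pow, pr_ker x.2, ← map_pow, ← ofAdd_nsmul, nsmul_eq_mul, CharP.cast_eq_zero, zero_mul,
        ofAdd_zero, map_one]; rfl)⟩)
  refine ⟨H, hH, ?_⟩
  let δ : F →+ F := σ.toAddMonoidHom - AddMonoidHom.id F
  have h1 : Nat.card δ.ker ≤ n := card_fix hn _ fun x hx => by rw [← hσ]; exact sub_eq_zero.1 hx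
  have h2 := δ.ker.card_mul_index
  rw [AddSubgroup.index_ker, Nat.card_eq_fintype_card (α := F), hF] at h2
  have h3 : m ≤ Nat.card δ.range :=
    Nat.le_of_mul_le_mul_left (h2 ▸ Nat.mul_le_mul_right _ h1) (by omega)
  have h4 : ∀ d : δ.range, (ce (Multiplicative.ofAdd d.1) : GG χ σ h) ∈ H := by
    rintro ⟨_, w, rfl⟩
    obtain ⟨x, hx⟩ := hH.surj ⟨1, 1⟩
    obtain ⟨y, hy⟩ := hH.surj ⟨w, 1⟩
    have a1 : x.1.u = 1 := congrArg MM.v hx
    have a2 : x.1.c = 1 := congrArg MM.c hx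
    have a3 : y.1.u = w := congrArg MM.v hy
    have a4 : y.1.c = 1 := congrArg MM.c hy
    have : (ce (Multiplicative.ofAdd (δ w)) : GG χ σ h) = x.1 * y.1 * (y.1 * x.1)⁻¹ := by
      rw [eq_mul_inv_iff_mul_eq]
      refine GG.ext (by simp [ce, a1, a2, a3, a4, add_comm]) ?_ (by simp [ce, a2, a4])
      simp [ce, a1, a2, a3, a4, δ]
      ring
    rw [this]
    exact mul_mem (mul_mem x.2 y.2) (inv_mem (mul_mem y.2 x.2))
  refine h3.trans (Nat.card_le_card_of_injective (fun d : δ.range =>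
    (⟨⟨_, h4 d⟩, rfl⟩ : ((pr (h := h)).comp H.subtype).ker)) fun d e hde => Subtype.ext ?_)
  exact congrArg (fun t : ((pr (h := h)).comp H.subtype).ker => t.1.1.z) hde

theorem univ {c0 : C} (D : Dat χ c0 p q a r) {G X : Type*} [Group G] [Finite G] [Group X] [Finite X]
    {θ : G →* MM χ} {θ' : X →* MM χ} (h : Cov p θ) (h' : Cov p θ')
    (hb : p ^ (if a % 2 = 1 then 0 else a / 2) ≤ Nat.card θ.ker) :
    ∃ φ : G →* X, Function.Surjective φ ∧ φ.ker ≤ center G := by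
  let W := (θ.comp (MonoidHom.fst G X)).eqLocus (θ'.comp (MonoidHom.snd G X))
  obtain ⟨H, hH⟩ := exists_cov (p := p) (θ := (θ.comp (MonoidHom.fst G X)).comp W.subtype) (fun y => by
      obtain ⟨g, hg⟩ := h.surj y
      obtain ⟨x, hx⟩ := h'.surj y
      exact ⟨⟨(g, x), hg.trans hx.symm⟩, hg⟩)
    (fun w hw => mem_center_iff.2 fun g => Subtype.ext (Prod.ext (mem_center_iff.1 (h.cen hw) _)
      (mem_center_iff.1 (h'.cen (w.2.symm.trans hw)) _)))
    (fun w => by
      obtain ⟨i, hi⟩ := h.pg ⟨w.1.1.1, w.2⟩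
      obtain ⟨j, hj⟩ := h'.pg ⟨w.1.1.2, w.1.2.symm.trans w.2⟩
      have hi' : w.1.1.1 ^ p ^ i = 1 := congrArg Subtype.val hi
      have hj' : w.1.1.2 ^ p ^ j = 1 := congrArg Subtype.val hj
      refine ⟨i + j, Subtype.ext (Subtype.ext (Prod.ext ?_ ?_))⟩
      · show w.1.1.1 ^ p ^ (i + j) = 1
        rw [pow_add, pow_mul, hi', one_pow]
      · show w.1.1.2 ^ p ^ (i + j) = 1
        rw [pow_add, mul_comm, pow_mul, hj', one_pow])
  let π0 : H →* G := (MonoidHom.fst G X).comp (W.subtype.comp H.subtype)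
  let π1 : H →* X := (MonoidHom.snd G X).comp (W.subtype.comp H.subtype)
  have s0 : Function.Surjective π0 := MonoidHom.range_eq_top.1 (h.min _ (eq_top_iff.2 fun y _ => by
    obtain ⟨w, hw⟩ := hH.surj y
    exact ⟨_, ⟨w, rfl⟩, hw⟩))
  have s1 : Function.Surjective π1 := MonoidHom.range_eq_top.1 (h'.min _ (eq_top_iff.2 fun y _ => by
    obtain ⟨w, hw⟩ := hH.surj y
    exact ⟨_, ⟨w, rfl⟩, w.1.2.symm.trans hw⟩))
  have b0 : Function.Bijective π0 := (Nat.bijective_iff_surjective_and_card _).2 ⟨s0, le_antisymm (by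
    rw [D.card_eq hH, D.card_eq h]
    exact Nat.mul_le_mul_right _ ((D.ker_le hH).trans hb)) (Nat.card_le_card_of_surjective _ s0)⟩
  let E := MulEquiv.ofBijective π0 b0
  refine ⟨π1.comp E.symm.toMonoidHom, s1.comp E.symm.surjective, fun g hg => h.cen ?_⟩
  obtain ⟨w, rfl⟩ := E.surjective g
  have h1 : π1 (E.symm (E w)) = 1 := hg
  rw [E.symm_apply_apply] at h1
  exact w.1.2.trans ((congrArg θ' h1).trans (map_one _))

end

theorem big {F C : Type} [Field F] [CommGroup C] {χ : C →* F} [Fintype F] [Finite C] {p q a r : ℕ}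
    [hp : Fact p.Prime] [hq : Fact q.Prime] [CharP F p] {c0 : C} (D : Dat χ c0 p q a r) (h0 : 0 < a) :
    ∃ (G : Type) (_ : Group G) (_ : Finite G) (θ : G →* MM χ),
      Cov p θ ∧ p ^ (if a % 2 = 1 then 0 else a / 2) ≤ Nat.card θ.ker := by
  split_ifs with h
  · refine ⟨MM χ, inferInstance, inferInstance, MonoidHom.id _, ⟨Function.surjective_id, ?_, ?_, fun H hH => ?_⟩, ?_⟩
    · rw [MonoidHom.ker_id]; exact bot_le
    · rw [MonoidHom.ker_id]; exact IsPGroup.of_bot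
    · rwa [Subgroup.map_id] at hH
    · exact Nat.card_pos
  obtain ⟨b, rfl⟩ : ∃ b, a = b + b := ⟨a / 2, by omega⟩
  have hb : (b + b) / 2 = b := by omega
  rw [hb]
  have h1 : (p : ZMod q) ^ b = -1 := by
    have e1 : (p : ZMod q) ^ b * (p : ZMod q) ^ b = 1 := by rw [← pow_add, D.ha, pow_orderOf_eq_one]
    refine (mul_self_eq_one_iff.1 e1).resolve_left fun e => ?_
    have := Nat.le_of_dvd (by omega) (D.ha ▸ orderOf_dvd_of_pow_eq_one e)
    omega
  have h2 : q ∣ p ^ b + 1 := (ZMod.natCast_eq_zero_iff _ _).1 (by push_cast; rw [h1, neg_add_cancel])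
  haveI : ExpChar F p := ExpChar.prime hp.out
  obtain ⟨H, h3, h4⟩ := cov_gg (p := p) (χ := χ) (σ := iterateFrobenius F p b) (fun c => by
      obtain ⟨k, hk⟩ := h2
      rw [iterateFrobenius_def, ← pow_succ', hk, pow_mul, D.chi_pow, one_pow])
    (Nat.one_lt_pow (by omega) hp.out.one_lt) (fun x => iterateFrobenius_def ..) (by rw [D.hF, pow_add])
  exact ⟨H, inferInstance, inferInstance, _, h3, h4⟩

theorem exists_dat (p q r a : ℕ) [hp : Fact p.Prime] [hq : Fact q.Prime] (hpq : p ≠ q) (hr : 1 ≤ r)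
    (ha : a = orderOf (p : ZMod q)) : 0 < a ∧ ∃ (F C : Type) (_ : Field F) (_ : CommGroup C) (χ : C →* F)
      (_ : Fintype F) (_ : Finite C) (_ : CharP F p) (c0 : C), Dat χ c0 p q a r := by
  have h0 : (p : ZMod q) ≠ 0 := fun e =>
    hpq ((Nat.prime_dvd_prime_iff_eq hq.out hp.out).1 ((ZMod.natCast_eq_zero_iff _ _).1 e)).symm
  have h1 : 0 < a := by
    rw [ha, orderOf_pos_iff]
    exact isOfFinOrder_iff_pow_eq_one.2 ⟨q - 1, by have := hq.out.two_le; omega, ZMod.pow_card_sub_one_eq_one h0⟩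
  refine ⟨h1, ?_⟩
  letI : Fintype (GaloisField p a) := Fintype.ofFinite _
  have hF : Fintype.card (GaloisField p a) = p ^ a := by
    rw [← Nat.card_eq_fintype_card, GaloisField.card p a h1.ne']
  have h2 : q ∣ Nat.card (GaloisField p a)ˣ := by
    rw [Nat.card_units, Nat.card_eq_fintype_card, hF, ← ZMod.natCast_eq_zero_iff,
      Nat.cast_sub (Nat.one_le_pow _ _ hp.out.pos), Nat.cast_pow, ha, pow_orderOf_eq_one, Nat.cast_one, sub_self]
  obtain ⟨ζ, hζ⟩ := exists_prime_orderOf_dvd_card' q h2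
  haveI : NeZero (q ^ r) := ⟨pow_ne_zero _ hq.out.ne_zero⟩
  obtain ⟨c0, hc0⟩ := IsCyclic.exists_generator (α := Multiplicative (ZMod (q ^ r)))
  have ho : orderOf c0 = q ^ r := by rw [orderOf_eq_card_of_forall_mem_zpowers hc0]; simp
  let χ0 := monoidHomOfForallMemZpowers hc0 (g' := ζ) (by rw [hζ, ho]; exact dvd_pow_self _ (by omega))
  have hχ : χ0 c0 = ζ := monoidHomOfForallMemZpowers_apply_gen _ _
  refine ⟨GaloisField p a, Multiplicative (ZMod (q ^ r)), inferInstance, inferInstance, (Units.coeHom _).comp χ0,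
    inferInstance, inferInstance, inferInstance, c0, hpq, hF, ha, hc0, ho, ?_⟩
  show IsPrimitiveRoot ((χ0 c0 : (GaloisField p a)ˣ) : GaloisField p a) q
  rw [hχ, IsPrimitiveRoot.coe_units_iff, ← hζ]
  exact IsPrimitiveRoot.orderOf ζ

/-- Let p ≠ q be primes, r ≥ 1, a the multiplicative order of p modulo q, and a₀ = a when a is odd, a₀ = 3a/2 when a is even. Call a finite group minimal non-p-nilpotent when it has no normal p-complement but every proper subgroup has one. Then there is a minimal non-p-nilpotent group G₀ of order p^a₀ · q^r such that every minimal non-p-nilpotent group of order p^t · q^r (any t) is a quotient of G₀ by a central subgroup. -/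
theorem result (p q r : ℕ) [Fact p.Prime] [Fact q.Prime] (hpq : p ≠ q) (hr : 1 ≤ r) (a a₀ : ℕ)
    (ha : a = orderOf (p : ZMod q)) (ha₀ : a₀ = if a % 2 = 1 then a else 3 * a / 2) :
    ∃ (G₀ : Type u) (_ : Group G₀) (_ : Finite G₀),
      (¬ Cfsg.HasNormalPComplement p G₀ ∧ ∀ K : Subgroup G₀, K ≠ ⊤ → Cfsg.HasNormalPComplement p ↥K) ∧ Nat.card G₀ = p ^ a₀ * q ^ r ∧
      ∀ (X : Type u) [Group X] [Finite X], (¬ Cfsg.HasNormalPComplement p X ∧ ∀ K : Subgroup X, K ≠ ⊤ → Cfsg.HasNormalPComplement p ↥K) →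
        (∃ t : ℕ, Nat.card X = p ^ t * q ^ r) → ∃ φ : G₀ →* X, Function.Surjective φ ∧ φ.ker ≤ Subgroup.center G₀ := by
  obtain ⟨h0, F, C, _, _, χ, _, _, _, c0, D⟩ := exists_dat p q r a hpq hr ha
  obtain ⟨G, _, _, θ, h1, h2⟩ := big D h0
  have h3 := h1.congr (MulEquiv.ulift : ULift.{u} G ≃* G)
  have h4 : Nat.card G = p ^ a₀ * q ^ r := by
    rw [D.card_eq h1, le_antisymm (D.ker_le h1) h2, ← mul_assoc, ← pow_add, ha₀]
    congr 2
    split_ifs <;> omega
  have h5 : Nat.card (ULift.{u} G) = p ^ a₀ * q ^ r := by rw [← h4]; exact Nat.card_congr Equiv.ulift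
  refine ⟨ULift.{u} G, inferInstance, inferInstance, D.minnon h3, h5, fun X _ _ hX ⟨t, ht⟩ => ?_⟩
  obtain ⟨θ', h6⟩ := D.cov_of hX.1 hX.2 ht
  refine univ D h3 h6 (h2.trans (Nat.le_of_mul_le_mul_right ?_ (Nat.card_pos (α := MM χ))))
  rw [D.cardM, ← D.card_eq h1, ← D.card_eq h3, h4, h5]

end Cfsg.Agent.S4395
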