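import Cfsg.Statements.S4404
import Cfsg.Agent.H10.Bf2
import Cfsg.Agent.H1.HallTop
import Cfsg.Agent.H1.Cores

set_option autoImplicit false
open Cfsg H10

namespace Cfsg.Agent.S4404

open Subgroup H10.Bf

/-- Let S be a finite solvable group and M a normal elementary abelian 2-subgroup of S. Suppose S contains an elementary abelian subgroup of order p³ for some odd prime p, and a cyclic 3-subgroup Q such that the cubes of the elements of Q centralize M and the commutator subgroup [Q, M] has order 4 (a four-group inside M). Then S contains an elementary abelian subgroup F of order r³, for some odd prime r, whose centralizer of [Q, M] in F — the subgroup C_F([Q, M]) — is not cyclic. -/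
theorem result {S : Type*} [Group S] [Finite S]
    [Group.IsSolvable S] (M : Subgroup S) [M.Normal] (hM : Cfsg.IsElementaryAbelian 2 M)
    (p : ℕ) (hp : p.Prime) (hp2 : p ≠ 2) (E : Subgroup S) (hE : Cfsg.IsElementaryAbelian p E) (hE3 : Nat.card ↥E = p ^ 3)
    (Q : Subgroup S) (hQc : IsCyclic ↥Q) (hQ3 : IsPGroup 3 ↥Q)
    (hQ1 : ∀ x ∈ Q, x ^ 3 ∈ Subgroup.centralizer (M : Set S)) (hQM : Nat.card ↥⁅Q, M⁆ = 4) :
    ∃ (r : ℕ) (F : Subgroup S), r.Prime ∧ r ≠ 2 ∧ Cfsg.IsElementaryAbelian r F ∧ Nat.card ↥F = r ^ 3 ∧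
      ¬ IsCyclic ↥(F ⊓ Subgroup.centralizer ((⁅Q, M⁆ : Subgroup S) : Set S)) := by
  haveI : Fact (Nat.Prime 3) := ⟨Nat.prime_three⟩
  haveI := Fact.mk hp
  have ok := H1.hallOK_of_isSolvable ({2}ᶜ : Set ℕ) (X := S) inferInstance
  have pn : ∀ {q : ℕ} [Fact q.Prime] {U : Subgroup S}, q ≠ 2 → IsPGroup q U →
      (Nat.card U).Coprime 2 := fun {q} hq {U} h2 h => by
    obtain ⟨k, hk⟩ := IsPGroup.iff_card.1 h
    exact hk ▸ ((Nat.coprime_primes hq.out Nat.prime_two).2 h2).pow_left k
  have pi := fun n => (H1.isPiNat_compl_singleton_iff (n := n) Nat.prime_two)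
  obtain ⟨H, hH, hQH⟩ := ok.top.exists_ge (U := Q) le_top ((pi _).2 (pn (by norm_num) hQ3))
  obtain ⟨g, -, hg⟩ := ok.top.exists_conj_le (U := E) le_top ((pi _).2 (pn hp2 (elab_isPGroup hE))) hH
  obtain ⟨x, rfl⟩ := Q.isCyclic_iff_exists_zpowers_eq_top.1 hQc
  have hle := commutator_le_right (zpowers x) M
  refine Tr.main (x := x) hM (Nat.coprime_two_right.1 ((pi _).1 hH.2.1)) ⟨hQH (mem_zpowers x), hle,
    H6.isKleinFour_of_card hQM fun v hv => (sq v).symm.trans (hM.2 v (hle hv)),
    fun m hm => commutator_mem_commutator (mem_zpowers x) hm, fun h => ?_⟩ hQ3 hp hp2 hg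
    (elab_cj g hE) ((card_cj g E).trans hE3)
  have := H1.le_centralizer_of_commutator_commutator_eq_bot (le_NN_of_normal (zpowers x) M)
    (coprime_card_of_isPGroup (elab_isPGroup hM) (pn (by norm_num) hQ3)).symm
    (by rw [commutator_comm M]; exact comm_eq_bot'.2 (zpowers_le.2 h))
  rw [comm_eq_bot.2 this, card_bot] at hQM
  omega

end Cfsg.Agent.S4404
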