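import Cfsg.Statements.S4409
import Cfsg.Agent.H10.N9
import Cfsg.Agent.H1.Factor
import Cfsg.Agent.H1.HallTop

set_option autoImplicit false
open Cfsg H10

namespace Cfsg.Agent.S4409

open Subgroup H10.N8

/-- Let S be a finite solvable group with O_{2'}(S) = 1 that contains a non-cyclic abelian subgroup of order 8, while no proper subgroup of S of 2-power index contains one. Then a Sylow 2-subgroup X of S is normal in S, and one of the following holds: X is abelian; X is extraspecial of order at least 32; X has a generalized quaternion subgroup X₀ of index 2 with X = X₀·C_X(X₀); or X is special with centre of order 4. -/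
theorem result {S : Type*} [Group S] [Finite S]
    [Group.IsSolvable S] (hO : Cfsg.pPrimeCore 2 S = ⊥)
    (h8 : ∃ A : Subgroup S, IsMulCommutative ↥A ∧ ¬ IsCyclic ↥A ∧ Nat.card ↥A = 8)
    (hmin : ∀ R : Subgroup S, R ≠ ⊤ → (∃ k : ℕ, R.index = 2 ^ k) →
      ¬ ∃ A : Subgroup S, A ≤ R ∧ IsMulCommutative ↥A ∧ ¬ IsCyclic ↥A ∧ Nat.card ↥A = 8)
    (X : Sylow 2 S) :
    (X : Subgroup S).Normal ∧
      (IsMulCommutative ↥X ∨
        (Cfsg.IsExtraspecial 2 ↥X ∧ 32 ≤ Nat.card ↥X) ∨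
        (∃ (X₀ : Subgroup S) (k : ℕ), X₀ ≤ (X : Subgroup S) ∧ X₀.relIndex (X : Subgroup S) = 2 ∧
          Nonempty (↥X₀ ≃* QuaternionGroup (2 ^ (k + 1))) ∧ X₀ ⊔ ((X : Subgroup S) ⊓ Subgroup.centralizer (X₀ : Set S)) = (X : Subgroup S)) ∨
        (Cfsg.IsSpecial 2 ↥X ∧ Nat.card ↥(Subgroup.center ↥X) = 4)) := by
  obtain ⟨H, hH⟩ := (H1.hallOK_of_isSolvable ({2}ᶜ : Set ℕ) (X := S) inferInstance).exists_isPiHall
  have hc : (Nat.card H).Coprime 2 := (H1.isPiNat_compl_singleton_iff Nat.prime_two).1 hH.1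
  have hi := (H1.isPiHall_compl_iff_index_eq Nat.prime_two).1 hH
  have key : ∀ Y : Subgroup S, H ≤ NN(Y) → ¬ NE Y → Y ⊔ H = ⊤ := fun Y h1 h2 => by
    by_contra h3
    obtain ⟨k, -, hk⟩ := (Nat.dvd_prime_pow Nat.prime_two).1
      (hi ▸ index_dvd_of_le (le_sup_right : H ≤ Y ⊔ H))
    refine h2 fun A hA h4 h5 => ?_
    by_contra h6
    exact hmin _ h3 ⟨k, hk⟩ ⟨A, hA.trans le_sup_left, isMulCommutative_iff_le_CC.2 h4, h6, h5⟩
  have key2 : ∀ Y Z : Subgroup S, IsPGroup 2 Z → H ≤ NN(Y) → ¬ NE Y → Z ≤ Y := by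
    intro Y Z hZ h1 h2 x hx
    have h3 := key Y h1 h2
    haveI : Y.Normal := normal_of_top_le_NN (h3 ▸ sup_le (le_NN_self _) h1)
    obtain ⟨y, hy, h, hh, rfl⟩ := (mem_sup_of_NN' h1).1 (h3 ▸ mem_top x)
    obtain ⟨k, hk⟩ := hZ ⟨_, hx⟩
    have h4 : orderOf (y * h) ∣ 2 ^ k :=
      orderOf_dvd_of_pow_eq_one (congrArg Subtype.val hk)
    refine mem_of_pow_mem (n := Nat.card H) ((hc.symm.pow_left k).coprime_dvd_left h4) ?_
    rw [← QuotientGroup.eq_one_iff, QuotientGroup.mk_pow, QuotientGroup.mk_mul,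
      (QuotientGroup.eq_one_iff y).2 hy, one_mul, ← QuotientGroup.mk_pow,
      orderOf_dvd_iff_pow_eq_one.1 (orderOf_dvd_natCard H hh), QuotientGroup.mk_one]
  obtain ⟨A, hA1, hA2, hA3⟩ := h8
  have hN := not_NE_core hO (isMulCommutative_iff_le_CC.1 hA1) hA3 hA2
  have hT : pCore 2 S = X := le_antisymm (IsPGroup.le_sylow_of_normal isPGroup_pCore' X)
    (key2 _ _ X.isPGroup' (le_NN_of_normal _ _) hN)
  haveI hXn : (X : Subgroup S).Normal := hT ▸ inferInstance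
  rw [hT] at hN
  exact ⟨hXn, main X.isPGroup' hc (key _ (le_NN_of_normal _ _) hN) hN
    fun Y _ h1 h2 => key2 _ _ X.isPGroup' h1 h2⟩

end Cfsg.Agent.S4409
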