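import Cfsg.Statements.S4412
import Cfsg.Agent.H3.E8A

set_option autoImplicit false
open Cfsg

namespace Cfsg.Agent.S4412

open Subgroup Cfsg.Agent.H3.E8A

theorem rank3 {P : Type*} [CommGroup P] [Finite P] {p : ℕ} [hp : Fact p.Prime]
    (hodd : Odd (Nat.card P)) (hP : IsPGroup p P) {T1 T2 : MulAut P} {x1 x2 x3 : P}
    (n1 : x1 ≠ 1) (n2 : x2 ≠ 1) (n3 : x3 ≠ 1) (a1 : T1 x1 = x1⁻¹) (a2 : T1 x2 = x2)
    (a3 : T1 x3 = x3) (b1 : T2 x1 = x1) (b2 : T2 x2 = x2⁻¹) (b3 : T2 x3 = x3) :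
    p ^ 3 ≤ Nat.card (powMonoidHom p : P →* P).ker := by
  have ord : ∀ x : P, x ≠ 1 → ∃ k : ℕ, orderOf (x ^ k) = p := by
    intro x hx
    obtain ⟨n, hn⟩ := IsPGroup.iff_orderOf.1 hP x
    have hn0 : n ≠ 0 := by
      rintro rfl
      exact hx (orderOf_eq_one_iff.1 (by simpa using hn))
    exact ⟨_, orderOf_pow_orderOf_div (orderOf_pos x).ne' (hn ▸ dvd_pow_self p hn0)⟩
  obtain ⟨k1, o1⟩ := ord x1 n1
  obtain ⟨k2, o2⟩ := ord x2 n2
  obtain ⟨k3, o3⟩ := ord x3 n3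
  have q : ∀ u : P, orderOf u = p → ∀ i : ℕ, (u ^ i) ^ p = 1 := fun u hu i => by
    rw [← pow_mul, mul_comm, pow_mul, ← hu, pow_orderOf_eq_one, one_pow]
  let f : Fin p × Fin p × Fin p → (powMonoidHom p : P →* P).ker := fun v =>
    ⟨(x1 ^ k1) ^ (v.1 : ℕ) * (x2 ^ k2) ^ (v.2.1 : ℕ) * (x3 ^ k3) ^ (v.2.2 : ℕ), by
      rw [MonoidHom.mem_ker, powMonoidHom_apply, mul_pow, mul_pow, q _ o1, q _ o2, q _ o3]; simp⟩
  have inj : ∀ u : P, orderOf u = p → ∀ i j : Fin p, u ^ (i : ℕ) = u ^ (j : ℕ) → i = j :=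
    fun u hu i j h => Fin.ext (pow_injOn_Iio_orderOf (by simp [hu]) (by simp [hu]) h)
  have sq : ∀ a b : P, a * a = b * b → a = b := fun a b h => by
    rw [← mul_inv_eq_one]
    apply eq_one_of_inv hodd
    rw [mul_inv_rev, inv_inv, mul_inv_eq_iff_eq_mul, mul_right_comm, h, mul_inv_cancel_right]
  have hinj : Function.Injective f := by
    rintro ⟨i, j, k⟩ ⟨i', j', k'⟩ h
    have e0 : (x1 ^ k1) ^ (i : ℕ) * (x2 ^ k2) ^ (j : ℕ) * (x3 ^ k3) ^ (k : ℕ) =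
      (x1 ^ k1) ^ (i' : ℕ) * (x2 ^ k2) ^ (j' : ℕ) * (x3 ^ k3) ^ (k' : ℕ) := congrArg Subtype.val h
    have e1 := congrArg T1 e0
    have e2 := congrArg T2 e0
    simp only [map_mul, map_pow, a1, a2, a3, b1, b2, b3, inv_pow] at e1 e2
    have h1 : i = i' := inj _ o1 _ _ (sq _ _ (by
      have := congrArg₂ (· / ·) e0 e1
      simpa [div_eq_mul_inv, mul_comm, mul_left_comm, mul_assoc] using this))
    have h2 : j = j' := inj _ o2 _ _ (sq _ _ (by
      have := congrArg₂ (· / ·) e0 e2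
      simpa [div_eq_mul_inv, mul_comm, mul_left_comm, mul_assoc] using this))
    subst h1 h2
    rw [inj _ o3 _ _ (mul_left_cancel e0)]
  have := Nat.card_le_card_of_injective f hinj
  simpa [pow_succ, mul_assoc] using this

/-- Let p be an odd prime, P a finite p-group and I an elementary abelian subgroup of order 8 of Aut(P). Call T ∈ I, T ≠ 1, broad when its fixed-point subgroup C_P(T) is not cyclic. Suppose I has a proper subgroup I₀ containing no broad element such that the product of any two broad elements lies in I₀. Then P is abelian of rank exactly 3 (generated by three elements but not by two), there are exactly three broad elements and they generate I, and I₀ is exactly the set of products of two broad elements. -/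
theorem result
    {P : Type*} [Group P] [Finite P] (p : ℕ) (hp : p.Prime) (hp2 : p ≠ 2) (hP : IsPGroup p P)
    (I : Subgroup (MulAut P)) (hI : Cfsg.IsElementaryAbelian 2 I) (hI8 : Nat.card ↥I = 8)
    (I₀ : Subgroup (MulAut P)) (hI₀ : I₀ < I)
    (hdisj : ∀ T ∈ I₀, T ≠ 1 → ∃ g : P, ∀ x : P, (T x = x ↔ x ∈ Subgroup.zpowers g))
    (hprod : ∀ T ∈ I, ∀ T' ∈ I, T ≠ 1 → T' ≠ 1 → (¬ ∃ g : P, ∀ x : P, (T x = x ↔ x ∈ Subgroup.zpowers g)) →
      (¬ ∃ g : P, ∀ x : P, (T' x = x ↔ x ∈ Subgroup.zpowers g)) → T * T' ∈ I₀) :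
    IsMulCommutative P ∧ (∃ a b c : P, Subgroup.closure {a, b, c} = ⊤) ∧ (¬ ∃ a b : P, Subgroup.closure {a, b} = ⊤) ∧
      Nat.card {T : MulAut P // T ∈ I ∧ T ≠ 1 ∧ ¬ ∃ g : P, ∀ x : P, (T x = x ↔ x ∈ Subgroup.zpowers g)} = 3 ∧
      Subgroup.closure {T : MulAut P | T ∈ I ∧ T ≠ 1 ∧ ¬ ∃ g : P, ∀ x : P, (T x = x ↔ x ∈ Subgroup.zpowers g)} = I ∧
      (I₀ : Set (MulAut P)) = {S : MulAut P | ∃ T T' : MulAut P, T ∈ I ∧ T' ∈ I ∧ T ≠ 1 ∧ T' ≠ 1 ∧
        (¬ ∃ g : P, ∀ x : P, (T x = x ↔ x ∈ Subgroup.zpowers g)) ∧ (¬ ∃ g : P, ∀ x : P, (T' x = x ↔ x ∈ Subgroup.zpowers g)) ∧ S = T * T'} := by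
  have : Fact p.Prime := ⟨hp⟩
  have hodd : Odd (Nat.card P) := by
    obtain ⟨k, hk⟩ := IsPGroup.iff_card.1 hP
    rw [hk]; exact (hp.odd_of_ne_two hp2).pow
  have := hI.1
  have hsq : ∀ e ∈ I, e * e = 1 := fun e he => by rw [← pow_two]; exact hI.2 e he
  have hc : ∀ e ∈ I, ∀ f ∈ I, e * f = f * e := fun e he f hf => setLike_mul_comm he hf
  obtain ⟨T1, h1, T2, h2, T3, h3, x1, x2, x3, n1, n2, n3, a1, a2, a3, b1, b2, b3, c1, c2, c3⟩ :=
    basis hodd I hsq hc hI8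
  have en := fun S => enum hodd I hI8 h1 h2 h3 n1 n2 n3 a1 a2 a3 b1 b2 b3 c1 c2 c3 (S := S)
  have nc : ∀ {T S : MulAut P} {a b : P}, T a = a → T b = b → S a = a → S b = b⁻¹ → a ≠ 1 →
      b ≠ 1 → ¬ ∃ g : P, ∀ x : P, (T x = x ↔ x ∈ Subgroup.zpowers g) := by
    rintro T S a b e1 e2 e3 e4 ha hb ⟨g, hg⟩
    rcases meet hodd hP ((hg a).1 e1) ((hg b).1 e2) e3 e4 with h | h
    exacts [ha h, hb h]
  have ne1 : ∀ {T S : MulAut P} {a : P}, T a = a⁻¹ → S a = a → a ≠ 1 → T ≠ S := by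
    rintro T S a e1 e2 ha rfl
    exact ha (eq_one_of_inv hodd (e1.symm.trans e2))
  have N1 := nc a2 a3 c2 c3 n2 n3
  have N2 := nc b1 b3 c1 c3 n1 n3
  have N3 := nc c1 c2 b1 b2 n1 n2
  have u1 : T1 ≠ 1 := ne1 a1 rfl n1
  have u2 : T2 ≠ 1 := ne1 b2 rfl n2
  have u3 : T3 ≠ 1 := ne1 c3 rfl n3
  have m12 := hprod T1 h1 T2 h2 u1 u2 N1 N2
  have m13 := hprod T1 h1 T3 h3 u1 u3 N1 N3
  have m23 := hprod T2 h2 T3 h3 u2 u3 N2 N3
  have u12 : T1 * T2 ≠ 1 := ne1 (a := x1) (by simp [a1, b1]) rfl n1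
  have u13 : T1 * T3 ≠ 1 := ne1 (a := x1) (by simp [a1, c1]) rfl n1
  have u23 : T2 * T3 ≠ 1 := ne1 (a := x2) (by simp [b2, c2]) rfl n2
  have C12 := hdisj _ m12 u12
  have C13 := hdisj _ m13 u13
  have C23 := hdisj _ m23 u23
  obtain ⟨y3, hy3⟩ := id C12
  obtain ⟨y2, hy2⟩ := id C13
  obtain ⟨y1, hy1⟩ := id C23
  have stab : ∀ {T : MulAut P} {y : P}, T ∈ I₀ → (∀ x : P, T x = x ↔ x ∈ zpowers y) →
      ∀ S ∈ I, S y ∈ zpowers y := fun {T y} hT hy S hS => by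
    rw [← hy, ← MulAut.mul_apply, hc T (hI₀.le hT) S hS, MulAut.mul_apply, (hy y).2 (mem_zpowers y)]
  have z1 : x1 ∈ zpowers y1 := (hy1 _).1 (by simp [b1, c1])
  have z2 : x2 ∈ zpowers y2 := (hy2 _).1 (by simp [a2, c2])
  have z3 : x3 ∈ zpowers y3 := (hy3 _).1 (by simp [a3, b3])
  have A1 := inv_gen hodd hP z1 n1 (hsq _ h1) (stab m23 hy1 _ h1) a1
  have A2 := fix_gen hodd hP z2 n2 (hsq _ h1) (stab m13 hy2 _ h1) a2
  have A3 := fix_gen hodd hP z3 n3 (hsq _ h1) (stab m12 hy3 _ h1) a3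
  have B1 := fix_gen hodd hP z1 n1 (hsq _ h2) (stab m23 hy1 _ h2) b1
  have B2 := inv_gen hodd hP z2 n2 (hsq _ h2) (stab m13 hy2 _ h2) b2
  have B3 := fix_gen hodd hP z3 n3 (hsq _ h2) (stab m12 hy3 _ h2) b3
  have D1 := fix_gen hodd hP z1 n1 (hsq _ h3) (stab m23 hy1 _ h3) c1
  have D2 := fix_gen hodd hP z2 n2 (hsq _ h3) (stab m13 hy2 _ h3) c2
  have D3 := inv_gen hodd hP z3 n3 (hsq _ h3) (stab m12 hy3 _ h3) c3
  have e23 : T1 * T2 * (T1 * T3) = T2 * T3 := by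
    rw [hc _ h1 _ h2, mul_assoc, ← mul_assoc T1, hsq _ h1, one_mul]
  have hgen : Subgroup.closure {y1, y2, y3} = ⊤ := by
    refine eq_top_iff.2 (four hodd (hsq _ (hI₀.le m12)) (hsq _ (hI₀.le m13))
      (hc _ (hI₀.le m13) _ (hI₀.le m12)) u12 u13
      (ne1 (a := x2) (by simp [a2, b2]) (by simp [a2, c2]) n2) (fun _ _ => mem_top _)
      (fun _ _ => mem_top _) ?_ ?_ ?_)
    · exact fun x hx => zpowers_le.2 (Subgroup.subset_closure (by simp)) ((hy3 x).1 hx.2)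
    · exact fun x hx => zpowers_le.2 (Subgroup.subset_closure (by simp)) ((hy2 x).1 hx.2)
    · rw [e23]
      exact fun x hx => zpowers_le.2 (Subgroup.subset_closure (by simp)) ((hy1 x).1 hx.2)
  have := hP.isNilpotent
  have hcomm : IsMulCommutative P := comm_of_gen hgen
    (comm_mem hodd (hsq _ (hI₀.le m12)) (by simp [A1, B1]) (by simp [A2, B2])
      (fun x => (hy3 x).1) D1 D2 D3)
    (comm_mem hodd (hsq _ (hI₀.le m13)) (by simp [A1, D1]) (by simp [A3, D3])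
      (fun x => (hy2 x).1) B1 B3 B2)
    (comm_mem hodd (hsq _ (hI₀.le m23)) (by simp [B2, D2]) (by simp [B3, D3])
      (fun x => (hy1 x).1) A2 A3 A1)
  have C123 : ∃ g : P, ∀ x : P, ((T1 * T2 * T3) x = x ↔ x ∈ Subgroup.zpowers g) := by
    have hinv : ∀ x : P, (T1 * T2 * T3) x = x⁻¹ := by
      intro x
      have hx : x ∈ Subgroup.closure {y1, y2, y3} := hgen ▸ mem_top x
      induction hx using closure_induction with
      | mem x hx =>
        rcases hx with rfl | rfl | rfl <;> simp [A1, A2, A3, B1, B2, B3, D1, D2, D3]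
      | one => simp
      | mul x y _ _ hx hy => rw [map_mul, hx, hy, mul_inv_rev, hcomm.1.1]
      | inv x _ hx => rw [map_inv, hx]
    refine ⟨1, fun x => ?_⟩
    rw [hinv, zpowers_one_eq_bot, mem_bot]
    exact ⟨eq_one_of_inv hodd, by rintro rfl; simp⟩
  have hset : ∀ T : MulAut P, (T ∈ I ∧ T ≠ 1 ∧ ¬ ∃ g : P, ∀ x : P, (T x = x ↔ x ∈ zpowers g)) ↔
      T = T1 ∨ T = T2 ∨ T = T3 := by
    intro T
    constructor
    · rintro ⟨hT, hT1, hTn⟩
      rcases en T hT with h | h | h | h | h | h | h | h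
      · exact absurd h hT1
      · exact Or.inl h
      · exact Or.inr (Or.inl h)
      · exact Or.inr (Or.inr h)
      · exact absurd (h ▸ C12) hTn
      · exact absurd (h ▸ C13) hTn
      · exact absurd (h ▸ C23) hTn
      · exact absurd (h ▸ C123) hTn
    · rintro (rfl | rfl | rfl)
      exacts [⟨h1, u1, N1⟩, ⟨h2, u2, N2⟩, ⟨h3, u3, N3⟩]
  refine ⟨hcomm, ⟨y1, y2, y3, hgen⟩, ?_, ?_, ?_, ?_⟩
  · rintro ⟨a, b, hab⟩
    letI : CommGroup P := { (inferInstance : Group P) with mul_comm := hcomm.1.1 }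
    have k1 := rank3 hodd hP n1 n2 n3 a1 a2 a3 b1 b2 b3
    have k2 := card_ker_le hab hp.pos
    have := (Nat.pow_le_pow_iff_right hp.one_lt).1 (k1.trans k2)
    omega
  · simp only [hset]
    change ({T1, T2, T3} : Set (MulAut P)).ncard = 3
    exact Set.ncard_eq_three.2 ⟨T1, T2, T3, ne1 a1 b1 n1, ne1 a1 c1 n1, ne1 b2 c2 n2, rfl⟩
  · simp only [hset]
    refine le_antisymm ((closure_le _).2 ?_) fun S hS => ?_
    · rintro T (rfl | rfl | rfl) <;> assumption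
    · set K := Subgroup.closure {T : MulAut P | T = T1 ∨ T = T2 ∨ T = T3}
      have k1 : T1 ∈ K := Subgroup.subset_closure (by simp)
      have k2 : T2 ∈ K := Subgroup.subset_closure (by simp)
      have k3 : T3 ∈ K := Subgroup.subset_closure (by simp)
      rcases en S hS with h | h | h | h | h | h | h | h <;> rw [h]
      exacts [one_mem _, k1, k2, k3, mul_mem k1 k2, mul_mem k1 k3, mul_mem k2 k3,
        mul_mem (mul_mem k1 k2) k3]
  · ext S
    constructor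
    · intro hS
      rcases en S (hI₀.le hS) with h | h | h | h | h | h | h | h
      · exact ⟨T1, T1, h1, h1, u1, u1, N1, N1, h.trans (hsq _ h1).symm⟩
      · exact absurd (hdisj _ (h ▸ hS) u1) N1
      · exact absurd (hdisj _ (h ▸ hS) u2) N2
      · exact absurd (hdisj _ (h ▸ hS) u3) N3
      · exact ⟨T1, T2, h1, h2, u1, u2, N1, N2, h⟩
      · exact ⟨T1, T3, h1, h3, u1, u3, N1, N3, h⟩
      · exact ⟨T2, T3, h2, h3, u2, u3, N2, N3, h⟩
      · exact absurd (hdisj _ ((Subgroup.mul_mem_cancel_left _ m12).1 (h ▸ hS)) u3) N3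
    · rintro ⟨T, T', e1, e2, e3, e4, e5, e6, rfl⟩
      exact hprod T e1 T' e2 e3 e4 e5 e6

end Cfsg.Agent.S4412
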