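import Cfsg.Statements.S4418
import Cfsg.Agent.H6.Meta2

set_option autoImplicit false
open Cfsg

namespace Cfsg.Agent.S4418

/-- Let G be a finite group whose Sylow 2-subgroup S is metacyclic via a cyclic normal subgroup N of S with S/N cyclic of order greater than 2. Then G is soluble. -/
theorem result {G : Type*} [Group G] [Finite G] (S : Sylow 2 G) (N : Subgroup ↥(S : Subgroup G)) [hN : N.Normal] (hNc : IsCyclic N) (hQc : IsCyclic (↥(S : Subgroup G) ⧸ N)) (hQ : 2 < Nat.card (↥(S : Subgroup G) ⧸ N)) : Group.IsSolvable G := by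
  obtain ⟨a, rfl⟩ := N.isCyclic_iff_exists_zpowers_eq_top.1 hNc
  obtain ⟨b, hb⟩ := H9.exists_sup_of_isCyclic_quotient hQc
  refine H6.isSolvable_of_metacyclic _ G rfl S a b hN hb fun h => ?_
  have h1 : Subgroup.zpowers (b : _ ⧸ Subgroup.zpowers a) = ⊤ := by
    have := congrArg (Subgroup.map (QuotientGroup.mk' (Subgroup.zpowers a))) hb
    rwa [Subgroup.map_sup, QuotientGroup.map_mk'_self, bot_sup_eq, MonoidHom.map_zpowers,
      Subgroup.map_top_of_surjective _ (QuotientGroup.mk'_surjective _)] at this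
  rw [← Subgroup.card_top, ← h1, Nat.card_zpowers] at hQ
  exact hQ.not_ge (orderOf_le_of_pow_eq_one two_pos ((QuotientGroup.eq_one_iff _).2 h))

end Cfsg.Agent.S4418
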