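import Cfsg.Statements.S4419
import Cfsg.Agent.H3.Misc2

set_option autoImplicit false
open Cfsg

namespace Cfsg.Agent.S4419

/-- Let p be a prime and G a finite group whose Sylow p-subgroups are metacyclic (a cyclic normal subgroup with cyclic quotient). Then G has a normal p-complement if and only if the order of G/O_{p′,p}(G) is coprime to p² − 1. -/
theorem result {G : Type*} [Group G] [Finite G] (p : ℕ) [Fact p.Prime] (S : Sylow p G) (hS : Cfsg.IsMetacyclic ↥(S : Subgroup G)) : Cfsg.HasNormalPComplement p G ↔ Nat.Coprime (Nat.card (G ⧸ Cfsg.pPrimePCore p G)) (p ^ 2 - 1) := by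
  have hp : p.Prime := Fact.out
  set O := Cfsg.pPrimeCore p G with hO
  have hOc : (Nat.card O).Coprime p := H1.coprime_card_pPrimeCore p
  have hfs : Function.Surjective (QuotientGroup.mk' O) := QuotientGroup.mk'_surjective O
  have hi : Nat.card (G ⧸ Cfsg.pPrimePCore p G) = (Cfsg.pCore p (G ⧸ O)).index :=
    Subgroup.index_comap_of_surjective _ hfs
  rw [hi]
  constructor
  · intro h
    have h1 := H3.hasNormalPComplement_quotient O h
    have h2 : Cfsg.pResidual p (G ⧸ O) ≤ Cfsg.pPrimeCore p (G ⧸ O) :=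
      H1.le_pPrimeCore (H3.hasNormalPComplement_iff_coprime.mp h1)
    have h0 : Cfsg.pPrimeCore p (G ⧸ O) = ⊥ := H1.pPrimeCore_quotient_pPrimeCore p
    rw [h0, le_bot_iff, H3.pResidual_eq_bot_iff] at h2
    rw [H1.pCore_eq_top_iff.mpr h2, Subgroup.index_top]
    exact Nat.coprime_one_left _
  · intro h
    refine H3.hasNormalPComplement_of_quotient_coprime O hOc ?_
    refine H3.npc_of_isMetacyclic (S.mapSurjective hfs)
      (H3.isMetacyclic_of_surjective' hS _ ((QuotientGroup.mk' O).subgroupMap_surjective _))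
      fun q hq hqp hqG hd => ?_
    rw [← (Cfsg.pCore p (G ⧸ O)).card_mul_index] at hqG
    obtain ⟨k, hk⟩ := (H1.isPGroup_pCore (G := G ⧸ O) p).exists_card_eq
    rw [hk] at hqG
    have h1 := (((Nat.coprime_primes hq hp).mpr hqp).pow_right k).dvd_of_dvd_mul_left hqG
    exact hq.one_lt.ne' (Nat.eq_one_of_dvd_coprimes h h1 hd)

end Cfsg.Agent.S4419
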