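import Cfsg.Statements.S4514
import Cfsg.Agent.H21.BK2

set_option autoImplicit false
open Cfsg

open H17 H15 CF H21 Subgroup

namespace Cfsg.Agent.S4514

/-- Let G be a finite group, u an element of G, and fix a maximal ideal M of the algebraic integers containing 2 (defining the 2-blocks). There is a complex number k with χ(1) − χ(u) = k for every non-principal irreducible character χ in the principal 2-block if and only if one of the following holds: u lies in O(G); or G/O(G) has order 2 and u ∉ O(G); or G/O(G) ≅ PSL(2, 2ⁿ) for some n ≥ 2, u ∉ O(G) and u² ∈ O(G). -/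
theorem result {G : Type*} [Group G] [Finite G] (M : Ideal Cfsg.AlgInt) (hM : Cfsg.IsPModular 2 M) (u : G) :
    (∃ k : ℂ, ∀ χ : Cfsg.IrrCharacter G, χ ∈ Cfsg.principalBlock M G → (χ : G → ℂ) ≠ (fun _ => 1) →
        (χ : G → ℂ) 1 - (χ : G → ℂ) u = k) ↔
      (u ∈ Cfsg.oddCore G ∨ (Nat.card (G ⧸ Cfsg.oddCore G) = 2 ∧ u ∉ Cfsg.oddCore G) ∨
        (∃ (F : Type) (_ : Field F) (_ : Fintype F) (n : ℕ), 2 ≤ n ∧ Fintype.card F = 2 ^ n ∧
          Nonempty (G ⧸ Cfsg.oddCore G ≃* Matrix.ProjectiveSpecialLinearGroup (Fin 2) F) ∧ u ∉ Cfsg.oddCore G ∧ u ^ 2 ∈ Cfsg.oddCore G)) := by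
  obtain ⟨O, hO, _⟩ := H19.exists_over hM
  have hs := QuotientGroup.mk'_surjective (oddCore G)
  have hk : ¬ 2 ∣ Nat.card (QuotientGroup.mk' (oddCore G)).ker := by
    rw [QuotientGroup.ker_mk']; exact H1.not_dvd_card_pPrimeCore Nat.prime_two
  rw [hO.principalBlock_eq, H19.irr_B0_of_coprime _ hs hk]
  have key : ∀ k : ℂ, (∀ χ : IrrCharacter G, χ ∈ H19.infl _ hs '' H19.irr (H19.B0 O (G ⧸ oddCore G)) →
      (χ : G → ℂ) ≠ (fun _ => 1) → (χ : G → ℂ) 1 - (χ : G → ℂ) u = k) ↔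
      ∀ χ ∈ H19.irr (H19.B0 O (G ⧸ oddCore G)), χ ≠ H19.triv _ →
        (χ : G ⧸ oddCore G → ℂ) 1 - (χ : G ⧸ oddCore G → ℂ) u = k := fun k =>
    ⟨fun h χ h1 h2 => h _ ⟨χ, h1, rfl⟩ fun e => h2 (Subtype.ext (funext fun g =>
      QuotientGroup.induction_on g fun g => congrFun e g)), by
      rintro h _ ⟨χ, h1, rfl⟩ h2
      exact h χ h1 (by rintro rfl; exact h2 rfl)⟩
  simp only [key, ← QuotientGroup.eq_one_iff, QuotientGroup.mk_pow]
  have hc := H1.pPrimeCore_quotient_pPrimeCore (G := G) 2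
  generalize (u : G ⧸ oddCore G) = v
  refine ⟨fun ⟨k, h⟩ => or_iff_not_imp_left.2 fun h1 => (BK.main ⟨hc, h1, h⟩).imp (⟨·, h1⟩)
    fun ⟨⟨F, _, _, n, a, b, c⟩, d⟩ => ⟨F, _, _, n, a, b, c, h1, (pow_two v).trans d⟩, ?_⟩
  rintro (rfl | ⟨h1, h2⟩ | ⟨F, _, _, n, -, h1, ⟨e⟩, h2, h3⟩)
  · exact ⟨0, fun _ _ _ => sub_self _⟩
  · refine ⟨2, fun χ _ h => ?_⟩
    haveI := isSimpleGroup_of_prime_card (p := 2) h1
    haveI := isCyclic_of_prime_card (p := 2) h1
    obtain ⟨l, hl⟩ := χ.2.exists_linear_of_comm fun a b => IsCyclic.isMulCommutative.is_comm.comm a b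
    have a : (l v : ℂ) ^ 2 = 1 := by
      rw [← Units.val_pow_eq_pow_val, ← map_pow, show v ^ 2 = 1 by simpa [h1] using pow_card_eq_one' (x := v), map_one,
        Units.val_one]
    have b := mem_bot.not.2 h2
    rw [← χ.2.charKer_eq_bot_of_simple fun e => h (Subtype.ext e), χ.2.mem_charKer, hl] at b
    rw [hl]
    simp only [map_one, Units.val_one] at b ⊢
    rw [(sq_eq_one_iff.1 a).resolve_left b]; norm_num
  exact ⟨_, fun χ _ h => psl_drop e h1 (orderOf_eq_prime h3 h2) χ.2 fun e => h (Subtype.ext e)⟩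

end Cfsg.Agent.S4514
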