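import Cfsg.Statements.S4523
import Cfsg.Agent.H20.AS3
import Cfsg.Agent.H20.AS4
import Cfsg.Agent.H26.JRy
-- import your own Cfsg.Agent.* helpers here

set_option autoImplicit false
open Cfsg

namespace Cfsg.Agent.S4523

open Subgroup H10 H26.J in
theorem jr_real {G : Type*} [Group G] [Finite G] {S : Subgroup G} {p n ρ τ f : ℕ}
    (h : JR S p n ρ τ f) :
    ∃ y : G, y ≠ 1 ∧ IsConj y y⁻¹ ∧ ¬ 2 ∣ Nat.card (centralizer ({y} : Set G)) := by
  obtain ⟨t, ht, t1⟩ := h.exists_inv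
  have t2 := h.ord ht t1
  have d := h.df ht t1
  have l := h.lf t t2
  obtain ⟨v, hv, v1⟩ := H16.GD.k_exists d.klein
  refine H20.AS.exists_real t2 (fun s hs => isConj_iff.2 (h.conj t2 hs)) ?_
  have h1 : ∀ u ∈ Lt t, orderOf u = 2 → u ∈ H20.cls (Lt t) v := fun u hu k => by
    obtain ⟨g, k1, rfl⟩ := d.exists_conj_inv hv v1 hu k
    exact ⟨g⁻¹, inv_mem k1, by group⟩
  have h2 : {u : G | orderOf u = 2 ∧ u * t = t * u} ⊆
      insert t (H20.cls (Lt t) v ∪ (t * ·) '' H20.cls (Lt t) v) := fun u hu => by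
    have k1 : u * u = 1 := by rw [← sq, ← hu.1, pow_orderOf_eq_one]
    have k2 : t * t = 1 := by rw [← sq, ← t2, pow_orderOf_eq_one]
    refine or_iff_not_imp_left.2 fun k3 => ?_
    rcases h.inv_mem t2 (mem_centralizer_singleton_iff.2 hu.2) k1 with k | k
    · exact Or.inl (h1 u k hu.1)
    · refine Or.inr ⟨t * u, h1 _ k (orderOf_eq_prime ?_ fun e => k3 ?_), by
        beta_reduce; rw [← mul_assoc, k2, one_mul]⟩
      · rw [sq, mul_assoc, ← mul_assoc u, hu.2, mul_assoc, k1, mul_one, k2]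
      · rw [← inv_eq_of_mul_eq_one_right e, inv_eq_of_mul_eq_one_right k2]
  have h3 := (Set.ncard_le_ncard h2).trans ((Set.ncard_insert_le _ _).trans
    (Nat.add_le_add_right ((Set.ncard_union_le _ _).trans (Nat.add_le_add_left Set.ncard_image_le _)) 1))
  have h4 := card_sup_mul_card_inf (d.norm_tv hv)
  rw [inf_comm _ (H16.GD.Tv _ _), H16.GD.k_inf d.klein H16.GD.tv_odd, card_bot, mul_one,
    sup_comm, d.tv_sup hv v1,
    d.card, l.card_tv v hv.2 (d.ord hv v1)] at h4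
  have h5 := H10.card_inf_mul_relIndex (centralizer {v}) (Lt t)
  have h6 : 0 < ρ := l.odd_rho.pos
  rw [inf_comm, h4, l.card, ← H20.ncard_cls, mul_comm (p ^ n), mul_assoc (4 * ρ)] at h5
  rw [Nat.eq_of_mul_eq_mul_left (by omega) h5] at h3
  have h7 := (centralizer ({t} : Set G)).card_mul_index
  rw [h.card_cent' t2] at h7
  refine (Nat.pow_le_pow_left h3 2).trans_lt ?_
  rcases h.main.2 with ⟨rfl, rfl, k⟩ | ⟨rfl, -, -, k, -⟩
  · obtain rfl : τ = 3 := by have := l.ar; omega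
    omega
  · obtain ⟨-, k1, -⟩ := l.minus_of_three rfl
    have k2 := l.three_le_tau
    rw [k, k1, show (2 * τ + 1) ^ 2 - 1 = (2 * τ + 2) * (2 * τ) from Nat.sub_eq_of_eq_add (by ring),
      Nat.add_sub_cancel] at h7
    rw [k1, Nat.eq_of_mul_eq_mul_left (by positivity) (h7.trans (show _ = (2 * τ + 1) * ((2 * τ + 2) *
      (2 * τ)) * ((2 * τ + 1) ^ 2 * ((2 * τ + 1) * τ + (2 * τ + 1) * τ + 1)) by ring)), sq]
    exact Nat.mul_lt_mul_of_pos_right (by nlinarith) (by positivity)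


/-- Let S be a non-abelian finite simple group with commutative Sylow 2-subgroups and M a maximal ideal of the algebraic integers containing 2. Let k be a natural number with g ^ k = g for every 2-element g and g ^ k = g⁻¹ for every element g of odd order. Then S has an irreducible character χ₁ of even degree with χ₁ (g ^ k) = χ₁ g for all g, and its principal 2-block contains a character χ₂ other than the principal character with χ₂ (g ^ k) = χ₂ g for all g. -/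
theorem result {S : Type*} [Group S] [Finite S] [IsSimpleGroup S] (hna : ¬ IsMulCommutative S) (P : Sylow 2 S) (hP : IsMulCommutative P) (M : Ideal Cfsg.AlgInt) (hM : Cfsg.IsPModular 2 M) (k : ℕ) (hk₁ : ∀ g : S, (∃ j : ℕ, orderOf g = 2 ^ j) → g ^ k = g) (hk₂ : ∀ g : S, Odd (orderOf g) → g ^ k = g⁻¹) : (∃ χ₁ : Cfsg.IrrCharacter S, Even (Cfsg.charDegree (χ₁ : S → ℂ)) ∧ ∀ g : S, (χ₁ : S → ℂ) (g ^ k) = (χ₁ : S → ℂ) g) ∧ ∃ χ₂ ∈ Cfsg.principalBlock M S, (χ₂ : S → ℂ) ≠ (fun _ => 1) ∧ ∀ g : S, (χ₂ : S → ℂ) (g ^ k) = (χ₂ : S → ℂ) g := by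
  obtain ⟨O, hO, _⟩ := H19.exists_over hM
  rw [hO.principalBlock_eq]
  have h1 := H10.isSylowIn_top P
  have hc := H10.isMulCommutative_iff_le_CC.1 hP
  have h0 := H26.J.syl_ne_bot ‹_› hna h1
  obtain ⟨t, -, ht⟩ := H10.exists_orderOf_eq_of_ne_bot h1.isPGroup h0
  refine ⟨?_, ?_⟩
  swap
  · obtain ⟨χ, k1, k2, k3⟩ := H20.AS.exists_fix_B0 (O := O) hk₁ hk₂ ht
    exact ⟨χ, k1, fun e => k2 (Subtype.ext e), k3⟩
  rcases H26.J.walter ‹_› hna h1 hc with h | h | ⟨p, n, ρ, τ, f, h⟩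
  · obtain ⟨⟨χ, k1, k2⟩, -⟩ := H20.AS.l2e_facts h.2
    refine ⟨χ, even_iff_two_dvd.2 (Nat.dvd_of_factorization_pos (k1.trans_ne fun e => h0 ?_)),
      fun g => ?_⟩
    · rw [← Subgroup.card_eq_one, h1.card_eq_pow, Subgroup.card_top, e, pow_zero]
    · rw [← H20.powIrr_apply (H20.AS.cop_pow hk₁ hk₂), k2 (H20.powIrr (H20.AS.cop_pow hk₁ hk₂) χ)
        (Eq.trans (by simp only [H20.vd, charDegree, H20.powIrr_apply, one_pow]) k1)]
  · obtain ⟨p, n, ρ, τ, l⟩ := H26.J.exists_lf (L := ⊤) (h.of_equiv Subgroup.topEquiv)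
    obtain ⟨r, hr, k1⟩ := Nat.exists_prime_and_dvd (n := τ) (by have := l.three_le_tau; omega)
    haveI := Fact.mk hr
    obtain ⟨y, -, hy⟩ := H10.exists_orderOf_eq_of_dvd (L := (⊤ : Subgroup S))
      (k1.trans (l.card ▸ dvd_mul_left _ _))
    have y1 := H10.ne_one_of_orderOf_eq hy
    obtain ⟨-, k2, k3, k4⟩ := l.yt y trivial y1 (hy ▸ k1)
    rw [top_inf_eq] at k2 k3 k4
    obtain ⟨w, k5, k6⟩ : ∃ w ∈ Subgroup.normalizer (Subgroup.zpowers y : Set S),
        w ∉ Subgroup.centralizer {y} := by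
      by_contra! k
      have := Subgroup.card_le_of_le k
      have := l.three_le_tau
      omega
    exact H20.AS.exists_fix_even hk₁ hk₂ y1 (isConj_iff.2 ⟨w, (k4 w k5 k6).2 y
      ⟨trivial, Subgroup.mem_centralizer_singleton_iff.2 rfl⟩⟩) (k2 ▸ Nat.two_dvd_ne_zero.2
        (Nat.odd_iff.1 l.odd_tau))
  · obtain ⟨y, k1, k2, k3⟩ := jr_real h
    exact H20.AS.exists_fix_even hk₁ hk₂ k1 k2 k3

end Cfsg.Agent.S4523
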