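import Cfsg.Statements.S4569
import Cfsg.Agent.H20.AS3
-- import your own Cfsg.Agent.* helpers here

set_option autoImplicit false
open Cfsg

namespace Cfsg.Agent.S4569

/-- Let G be a finite group whose Sylow 2-subgroup P is elementary abelian of order 16, suppose the centralizer of P has index 9 in its normalizer, and let M be a maximal ideal of the algebraic integers containing 2. Then the principal 2-block contains exactly 16 irreducible characters and has 2-regular rank 9. -/
theorem result {G : Type*} [Group G] [Finite G] (M : Ideal Cfsg.AlgInt) (hM : Cfsg.IsPModular 2 M) (P : Sylow 2 G) (hcard : Nat.card P = 16) (hel : ∀ x : P, x ^ 2 = 1) (he : (Subgroup.centralizer ((P : Subgroup G) : Set G)).relIndex (Subgroup.normalizer ((P : Subgroup G) : Set G)) = 9) : Nat.card (Cfsg.principalBlock M G) = 16 ∧ Cfsg.blockRank 2 (Cfsg.principalBlock M G) = 9 := by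
  obtain ⟨O, hO, _⟩ := H19.exists_over hM
  rw [hO.principalBlock_eq]
  have hP := H10.isSylowIn_top P
  have h2 : ∀ x ∈ (P : Subgroup G), x * x = 1 := fun x hx => by
    rw [← sq]; exact congrArg Subtype.val (hel ⟨x, hx⟩)
  have hc : (P : Subgroup G) ≤ H20.cent P := fun x hx => Subgroup.mem_centralizer_iff.2 fun y hy => by
    rw [← inv_eq_of_mul_eq_one_right (h2 _ (mul_mem hy hx)), mul_inv_rev,
      inv_eq_of_mul_eq_one_right (h2 x hx), inv_eq_of_mul_eq_one_right (h2 y hy)]
  obtain ⟨h3, x, hx, h4⟩ := H20.AS.nine (O := O) hP hc hcard h2 he fun u hu k => by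
    have k1 := H20.AS.syl_cent hP hc hu
    have k2 := (H20.AS.relIndex_sub k1.le).trans (inf_comm (H20.nrm (P : Subgroup G)) _ ▸ k)
    exact (H20.AS.prime_main (H10.isSylowIn_subgroupOf_top k1) (H20.AS.ab_sub hc _)
      (k2 ▸ Nat.prime_three)).1.trans k2
  obtain ⟨h5, h6, -⟩ := H20.AS.card_of_odd hP hc hx (h2 x hx) h4
    (H20.AS.odd_deg (O := O) _ G _ x rfl hP hc hx h4)
  have h7 : blockRank 2 (H19.irr (H19.B0 O G)) ≠ 1 := fun k => by
    rw [Subgroup.relIndex_eq_one.2 (H20.AS.nrm_le_of_rank hP hc k)] at he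
    omega
  have h8 : Nat.card (P : Subgroup G) = 16 := hcard
  omega

end Cfsg.Agent.S4569
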