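import Cfsg.Statements.S4570
import Cfsg.Agent.H20.AS3
-- import your own Cfsg.Agent.* helpers here

set_option autoImplicit false
open Cfsg

namespace Cfsg.Agent.S4570

/-- Let G be a finite group with a commutative Sylow 2-subgroup P and M a maximal ideal of the algebraic integers containing 2, and suppose some involution x of G has the property that the principal 2-block of its centralizer has 2-regular rank one. If P has order 8 then the principal 2-block of G contains exactly 8 irreducible characters, and if P has order 16 it contains 8 or 16. -/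
theorem result {G : Type*} [Group G] [Finite G] (M : Ideal Cfsg.AlgInt) (hM : Cfsg.IsPModular 2 M) (P : Sylow 2 G) (hab : IsMulCommutative P) (x : G) (hx : orderOf x = 2) (hl : Cfsg.blockRank 2 (Cfsg.principalBlock M ↥(Subgroup.centralizer ({x} : Set G))) = 1) : (Nat.card P = 8 → Nat.card (Cfsg.principalBlock M G) = 8) ∧ (Nat.card P = 16 → Nat.card (Cfsg.principalBlock M G) = 8 ∨ Nat.card (Cfsg.principalBlock M G) = 16) := by
  obtain ⟨O, hO, _⟩ := H19.exists_over hM
  rw [hO.principalBlock_eq] at hl ⊢
  obtain ⟨Q, hQ, h1⟩ := H10.exists_isSylowIn_ge (H10.isPGroup_zpowers_of_orderOf_eq hx) le_top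
  obtain ⟨g, -, e⟩ := (H10.isSylowIn_top P).exists_cj hQ
  have hc : Q ≤ H20.cent Q := by
    rw [← e, H20.cent, ← H10.cj_centralizer]
    exact H10.cj_mono g (H10.isMulCommutative_iff_le_CC.1 hab)
  have h2 := h1 (Subgroup.mem_zpowers x)
  have h3 := H20.AS.free_of_rank hQ hc h2 hl
  obtain ⟨h5, h6, h7⟩ := H20.AS.card_of_odd hQ hc h2 (by rw [← sq, ← hx, pow_orderOf_eq_one]) h3
    (H20.AS.odd_deg (O := O) _ G _ x rfl hQ hc h2 h3)
  rw [hQ.card_eq (H10.isSylowIn_top P)] at h5 h6
  constructor <;> intro h <;> change Nat.card (P : Subgroup G) = _ at h <;> omega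

end Cfsg.Agent.S4570
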