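import Mathlib
import Cfsg.Statements.S4594
import Cfsg.Agent.H8.Z4c
import Cfsg.Agent.H5.GF

set_option autoImplicit false
open Cfsg

namespace Cfsg.Agent.S4594

theorem aux {G : Type*} [Group G] [Finite G] (hq : Cfsg.IsQuasisimple G) (P : Sylow 2 G) (hna : ¬ IsMulCommutative (P : Subgroup G)) (hZ : (Subgroup.center (P : Subgroup G)).index = 4)
    (hG : ¬ IsMulCommutative (G ⧸ Subgroup.center G) → H5.Gd.ThmS (G ⧸ Subgroup.center G)) :
    Nat.card (P : Subgroup G) = 8 ∧
      (Nonempty (G ≃* alternatingGroup (Fin 7)) ∨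
       (Nat.card (Subgroup.center G) = 3 ∧ Nonempty (G ⧸ Subgroup.center G ≃* alternatingGroup (Fin 7))) ∨
       ∃ (F : Type) (_ : Field F) (_ : Fintype F), Odd (Fintype.card F) ∧ Nonempty (G ⧸ Subgroup.center G ≃* Matrix.ProjectiveSpecialLinearGroup (Fin 2) F)) := by
  obtain ⟨z, k, hz⟩ := H8.Z4.exists_T4 (H10.isSylowIn_top P)
    (fun h => hna (H10.isMulCommutative_iff_le_CC.2 h)) (by
      rw [← H10.map_center_subtype, ← hZ, Subgroup.relIndex, H10.subgroupOf_map_subtype'])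
  exact H8.Z4.main hq k hz hG

theorem result {G : Type*} [Group G] [Finite G] (hq : Cfsg.IsQuasisimple G) (P : Sylow 2 G) (hna : ¬ IsMulCommutative (P : Subgroup G)) (hZ : (Subgroup.center (P : Subgroup G)).index = 4) :
    Nat.card (P : Subgroup G) = 8 ∧
      (Nonempty (G ≃* alternatingGroup (Fin 7)) ∨
       (Nat.card (Subgroup.center G) = 3 ∧ Nonempty (G ⧸ Subgroup.center G ≃* alternatingGroup (Fin 7))) ∨
       ∃ (F : Type) (_ : Field F) (_ : Fintype F), Odd (Fintype.card F) ∧ Nonempty (G ⧸ Subgroup.center G ≃* Matrix.ProjectiveSpecialLinearGroup (Fin 2) F)) := by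
  exact aux hq P hna hZ (H5.Gd.thmS _ hq.2)

end Cfsg.Agent.S4594
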