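import Cfsg.Statements.S4779
import Cfsg.Agent.H21.RD3

set_option autoImplicit false
open Cfsg

open H21.RD Subgroup

namespace Cfsg.Agent.S4779

/-- Let N be a solvable normal subgroup of the finite group G contained in the derived subgroup of G, and consider the common-divisor graph on the relative degree set cd(G|N) (degrees of irreducible complex characters of G whose kernel does not contain N, two distinct degrees adjacent when not coprime). If this graph has two vertices that are not joined by any path, then there is a vertex a₀ such that any two distinct vertices in the component of a₀ are adjacent, and any two distinct vertices outside that component are adjacent or have a common neighbour (one component is complete, the other has diameter at most 2). -/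
theorem result {G : Type*} [Group G] [Finite G] (N : Subgroup G) [N.Normal] [Group.IsSolvable N] (hNG : N ≤ commutator G) (hdisc : ¬ (Cfsg.commonDivisorGraph.induce (Cfsg.relCharDegrees N)).Preconnected) : ∃ a₀ : ↥(Cfsg.relCharDegrees N), (∀ b c : ↥(Cfsg.relCharDegrees N), (Cfsg.commonDivisorGraph.induce (Cfsg.relCharDegrees N)).Reachable a₀ b → (Cfsg.commonDivisorGraph.induce (Cfsg.relCharDegrees N)).Reachable a₀ c → b ≠ c → (Cfsg.commonDivisorGraph.induce (Cfsg.relCharDegrees N)).Adj b c) ∧ (∀ b c : ↥(Cfsg.relCharDegrees N), ¬ (Cfsg.commonDivisorGraph.induce (Cfsg.relCharDegrees N)).Reachable a₀ b → ¬ (Cfsg.commonDivisorGraph.induce (Cfsg.relCharDegrees N)).Reachable a₀ c → b ≠ c → (Cfsg.commonDivisorGraph.induce (Cfsg.relCharDegrees N)).Adj b c ∨ ∃ d : ↥(Cfsg.relCharDegrees N), (Cfsg.commonDivisorGraph.induce (Cfsg.relCharDegrees N)).Adj b d ∧ (Cfsg.commonDivisorGraph.induce (Cfsg.relCharDegrees N)).Adj d c) := by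
  classical
  obtain ⟨a, b, hab, h1, h2⟩ : ∃ a b : relCharDegrees N,
      ¬ (commonDivisorGraph.induce (relCharDegrees N)).Reachable a b ∧
      (b : ℕ).Coprime (⁅N, N⁆.relIndex N) ∧
      ∀ r : ℕ, r.Prime → r ∣ ⁅N, N⁆.relIndex N → r ∣ (a : ℕ) := by
    obtain ⟨a, h⟩ := not_forall.1 hdisc
    obtain ⟨b, h⟩ := not_forall.1 h
    exact (not_reach hNG a.2 b.2 h).elim (fun h' => ⟨b, a, fun h2 => h h2.symm, h'⟩)
      fun h' => ⟨a, b, h, h'⟩
  have hN : ⁅N, N⁆.relIndex N ≠ 1 := fun e => by
    obtain ⟨χ, ⟨x, hx, h3⟩, -⟩ := a.2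
    haveI := (nontrivial_iff_ne_bot N).2 fun e => h3 (by rw [show x = 1 from mem_bot.1 (e ▸ hx)])
    refine (Group.IsSolvable.commutator_lt_top_of_nontrivial N).ne ?_
    rw [← subgroupOf_der, ← index_eq_one]
    exact e
  obtain ⟨p, hp, hm⟩ := Nat.exists_prime_and_dvd hN
  have adj : ∀ b c : relCharDegrees N, b ≠ c → ¬ (b : ℕ).Coprime c →
      (commonDivisorGraph.induce (relCharDegrees N)).Adj b c := fun b c h h' =>
    (reach_of b.2 c.2 h').resolve_left fun e => h (Subtype.ext e)
  have k1 : ∀ c, (commonDivisorGraph.induce (relCharDegrees N)).Reachable a c → p ∣ (c : ℕ) :=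
    fun c h => (not_reach hNG c.2 b.2 fun h' => hab (h.trans h')).elim
      (fun h' => (not_coprime_of hp (h'.2 p hp hm) hm h1).elim) fun h' => h'.2 p hp hm
  have k2 : ∀ c, ¬ (commonDivisorGraph.induce (relCharDegrees N)).Reachable a c →
      (c : ℕ).Coprime (⁅N, N⁆.relIndex N) := fun c h => (not_reach hNG a.2 c.2 h).elim
      (fun h' => (not_coprime_of hp (h2 p hp hm) hm h'.1).elim) fun h' => h'.1
  refine ⟨a, fun c d hc hd h => adj c d h (not_coprime_of hp (k1 c hc) (k1 d hd)),
    fun c d hc hd h => ?_⟩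
  rcases d2_or_near hNG c.2 d.2 (k2 c hc) (k2 d hd) with ⟨e, he, h3, h4⟩ | ⟨e, he, h3, h4⟩
  · by_cases h5 : c = ⟨e, he⟩
    · exact Or.inl (adj c d h (h5 ▸ h4))
    by_cases h6 : ⟨e, he⟩ = d
    · exact Or.inl (adj c d h (h6 ▸ h3))
    · exact Or.inr ⟨⟨e, he⟩, adj _ _ h5 h3, adj _ _ h6 h4⟩
  · have h5 : (commonDivisorGraph.induce (relCharDegrees N)).Reachable a ⟨e, he⟩ := by
      by_contra h5
      exact h3 (k2 _ h5)
    exact h4.elim (fun h => (hc (h5.trans (reach c.2 he h).symm)).elim)
      fun h => (hd (h5.trans (reach d.2 he h).symm)).elim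

end Cfsg.Agent.S4779
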