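import Cfsg.Statements.S4856
import Cfsg.Agent.H21.Basic
import Cfsg.Agent.H21.Count

set_option autoImplicit false
open Cfsg

open H17 H21

namespace Cfsg.Agent.S4856

/-- For an element z of a finite group G, the number of pairs (x, y) of elements with x y x⁻¹ y⁻¹ = z equals the order of G times the sum over the irreducible characters χ of χ(z)/χ(1). -/
theorem result {G : Type*} [Group G] [Finite G] (z : G) : (Nat.card {xy : G × G // xy.1 * xy.2 * xy.1⁻¹ * xy.2⁻¹ = z} : ℂ) = (Nat.card G : ℂ) * ∑ᶠ χ : Cfsg.IrrCharacter G, (χ : G → ℂ) z / (χ : G → ℂ) 1 := by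
  classical
  have := Fintype.ofFinite G
  rw [finsum_eq_sum_of_fintype, card_subtype_eq_sum]
  have h1 : ∀ xy : G × G, ((if xy.1 * xy.2 * xy.1⁻¹ * xy.2⁻¹ = z then 1 else 0 : ℕ) : ℂ) =
      (Nat.card G : ℂ)⁻¹ * ∑ χ : IrrCharacter G,
        (χ : G → ℂ) 1 * (χ : G → ℂ) (xy.2 * xy.1 * xy.2⁻¹ * (xy.1⁻¹ * z)) := by
    rintro ⟨x, y⟩
    rw [← ite_eq_one_eq_sum]
    have : x * y * x⁻¹ * y⁻¹ = z ↔ y * x * y⁻¹ * (x⁻¹ * z) = 1 := by
      constructor
      · rintro rfl; group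
      · intro h
        calc x * y * x⁻¹ * y⁻¹ = x * y * x⁻¹ * y⁻¹ * (y * x * y⁻¹ * (x⁻¹ * z)) := by
              rw [h, mul_one]
          _ = z := by group
    simp only [this]
    split_ifs <;> simp
  rw [Nat.cast_sum]
  simp only [h1]
  rw [← Finset.mul_sum, Finset.sum_comm, Finset.mul_sum, Finset.mul_sum]
  refine Finset.sum_congr rfl fun χ _ => ?_
  rw [← Finset.mul_sum, Fintype.sum_prod_type]
  simp only [sum_conj_mul χ.2]
  have h2 := sum_mul_inv_mul_self χ.2 z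
  have h3 : ∑ x : G, (Nat.card G : ℂ) * (χ : G → ℂ) x * (χ : G → ℂ) (x⁻¹ * z) / (χ : G → ℂ) 1 =
      (Nat.card G : ℂ) / (χ : G → ℂ) 1 * ∑ x : G, (χ : G → ℂ) x * (χ : G → ℂ) (x⁻¹ * z) := by
    rw [Finset.mul_sum]
    exact Finset.sum_congr rfl fun x _ => by ring
  rw [h3, h2]
  have := χ.2.one_ne_zero
  have := card_ne_zero_complex (G := G)
  field_simp

end Cfsg.Agent.S4856
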