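import Cfsg.Statements.S4814
import Cfsg.Agent.H21.Basic
import Cfsg.Agent.S4856

set_option autoImplicit false
open Cfsg

open H17 H21

namespace Cfsg.Agent.S4814

/-- Let G be a finite group such that the sum, over the irreducible complex characters χ of G, of 1/χ(1)² is less than 2. Then every element of G is a product of two commutators. -/
theorem result {G : Type*} [Group G] [Finite G]
    (h : ∑ᶠ χ : Cfsg.IrrCharacter G, 1 / ‖(χ : G → ℂ) 1‖ ^ 2 < (2 : ℝ)) (g : G) :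
    ∃ a b c d : G, (a * b * a⁻¹ * b⁻¹) * (c * d * c⁻¹ * d⁻¹) = g := by
  classical
  have := Fintype.ofFinite G
  by_contra hne
  push Not at hne
  let N : G → ℂ := fun z =>
    (Nat.card {xy : G × G // xy.1 * xy.2 * xy.1⁻¹ * xy.2⁻¹ = z} : ℂ)
  have h0 : ∑ u : G, N u * N (u⁻¹ * g) = 0 := by
    refine Finset.sum_eq_zero fun u _ => ?_
    by_contra hu
    obtain ⟨h1, h2⟩ := mul_ne_zero_iff.1 hu
    obtain ⟨⟨⟨a, b⟩, hab⟩⟩ := (Nat.card_ne_zero.1 (Nat.cast_ne_zero.1 h1)).1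
    obtain ⟨⟨⟨c, d⟩, hcd⟩⟩ := (Nat.card_ne_zero.1 (Nat.cast_ne_zero.1 h2)).1
    apply hne a b c d
    simp only at hab hcd
    rw [hab, hcd, mul_inv_cancel_left]
  have hN : ∀ z, N z = (Nat.card G : ℂ) * ∑ χ : IrrCharacter G, (χ : G → ℂ) z / (χ : G → ℂ) 1 :=
    fun z => by simp only [N]; rw [Cfsg.Agent.S4856.result, finsum_eq_sum_of_fintype]
  have hc := card_ne_zero_complex (G := G)
  have h1 : ∑ u : G, N u * N (u⁻¹ * g) =
      (Nat.card G : ℂ) ^ 3 * ∑ χ : IrrCharacter G, (χ : G → ℂ) g / (χ : G → ℂ) 1 ^ 3 := by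
    have e : ∀ u : G, N u * N (u⁻¹ * g) = ∑ χ : IrrCharacter G, ∑ ψ : IrrCharacter G,
        (Nat.card G : ℂ) ^ 2 / ((χ : G → ℂ) 1 * (ψ : G → ℂ) 1) *
          ((χ : G → ℂ) u * (ψ : G → ℂ) (u⁻¹ * g)) := by
      intro u
      rw [hN, hN, mul_mul_mul_comm, Finset.sum_mul_sum, Finset.mul_sum]
      refine Finset.sum_congr rfl fun χ _ => ?_
      rw [Finset.mul_sum]
      refine Finset.sum_congr rfl fun ψ _ => ?_
      have := χ.2.one_ne_zero
      have := ψ.2.one_ne_zero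
      field_simp
    simp only [e]
    rw [Finset.sum_comm, Finset.mul_sum]
    refine Finset.sum_congr rfl fun χ _ => ?_
    rw [Finset.sum_comm, Finset.sum_eq_single χ]
    · rw [← Finset.mul_sum, sum_mul_inv_mul_self χ.2]
      have := χ.2.one_ne_zero
      field_simp
    · intro ψ _ hψ
      rw [← Finset.mul_sum, sum_mul_inv_mul χ.2 ψ.2, if_neg (fun h => hψ (Subtype.ext h).symm),
        mul_zero]
    · simp
  rw [h1] at h0
  have h2 := (mul_eq_zero.1 h0).resolve_left (pow_ne_zero _ hc)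
  rw [finsum_eq_sum_of_fintype] at h
  rw [← Finset.add_sum_erase _ _ (Finset.mem_univ (trivIrr G))] at h h2
  simp only [trivIrr_apply, norm_one, one_pow, div_one] at h h2
  have h3 : ‖∑ χ ∈ Finset.univ.erase (trivIrr G), (χ : G → ℂ) g / (χ : G → ℂ) 1 ^ 3‖ ≤
      ∑ χ ∈ Finset.univ.erase (trivIrr G), 1 / ‖(χ : G → ℂ) 1‖ ^ 2 := by
    refine (norm_sum_le _ _).trans (Finset.sum_le_sum fun χ _ => ?_)
    have h4 := χ.2.isCharacter.norm_le_norm_one g
    have h5 : 0 < ‖(χ : G → ℂ) 1‖ := norm_pos_iff.2 χ.2.one_ne_zero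
    rw [norm_div, norm_pow, div_le_div_iff₀ (by positivity) (by positivity)]
    nlinarith [mul_le_mul_of_nonneg_right h4 (sq_nonneg ‖(χ : G → ℂ) 1‖)]
  rw [eq_neg_of_add_eq_zero_right h2] at h3
  simp only [norm_neg, norm_one] at h3
  linarith

end Cfsg.Agent.S4814
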