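import Cfsg.Statements.S4892
import Cfsg.Agent.H21.PB1

set_option autoImplicit false
open Cfsg

open H17 H15 CF H21 Subgroup

namespace Cfsg.Agent.S4892

/-- Let p be an odd prime, M a maximal ideal of the algebraic integers containing p, N a normal subgroup of the finite group G, and θ an irreducible character of N that is G-invariant, of degree prime to p, p-rational (values in the field generated over ℚ by a root of unity of order prime to p) and lies in the principal p-block of N. Let Q be a Sylow p-subgroup of N and suppose the index of N·C_G(Q) in G is a power of p. Then θ extends to a p-rational irreducible character of G lying in the principal p-block of G. -/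
theorem result {G : Type*} [Group G] [Finite G] (p : ℕ) [Fact p.Prime] (hp : p ≠ 2) (M : Ideal Cfsg.AlgInt) (hM : Cfsg.IsPModular p M) (N : Subgroup G) [N.Normal] (θ : Cfsg.IrrCharacter ↥N) (hinv : ∀ g : G, ∀ n n' : ↥N, (n' : G) = g * (n : G) * g⁻¹ → (θ : ↥N → ℂ) n' = (θ : ↥N → ℂ) n) (hdeg : ¬ p ∣ Cfsg.charDegree (θ : ↥N → ℂ)) (hrat : ∃ m : ℕ, ¬ p ∣ m ∧ ∀ n : ↥N, (θ : ↥N → ℂ) n ∈ IntermediateField.adjoin ℚ ({Complex.exp (2 * Real.pi * Complex.I / m)} : Set ℂ)) (hB : θ ∈ Cfsg.principalBlock M ↥N) (Q : Sylow p ↥N) (hidx : ∃ a : ℕ, (N ⊔ Subgroup.centralizer (((Q : Subgroup ↥N).map N.subtype : Subgroup G) : Set G)).index = p ^ a) : ∃ χ : Cfsg.IrrCharacter G, χ ∈ (Cfsg.principalBlock M G) ∧ (∃ n : ℕ, ¬ p ∣ n ∧ ∀ g : G, (χ : G → ℂ) g ∈ IntermediateField.adjoin ℚ ({Complex.exp (2 * Real.pi * Complex.I / n)} : Set ℂ)) ∧ ∀ n : ↥N, (χ : G → ℂ) n = (θ : ↥N → ℂ) n := by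
  obtain ⟨O, hO, _⟩ := H19.exists_over hM
  have pp : p.Prime := Fact.out
  rw [hO.principalBlock_eq] at hB ⊢
  obtain ⟨m, hm, hrat⟩ := hrat
  obtain ⟨k, hi⟩ := hidx
  have hQ := syl_map_sylow Q
  generalize (Q : Subgroup N).map N.subtype = R at hQ hi
  have e0 := (irr_charDegree_cast θ).symm
  generalize charDegree (θ : N → ℂ) = d at hdeg e0
  have ho := not_dvd_detOrder_of_rat hp θ.2.isCharacter hm hrat
  obtain ⟨ψ, hψ, e⟩ := exists_ext_of_B0 hM hO hQ hi hB (fun g n => hinv g n _ rfl) e0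
    fun h => (pp.dvd_mul.1 h).elim ho hdeg
  obtain ⟨μ, m1, m2⟩ := exists_twist_cent hQ hi hB hψ.isCharacter e ((e 1).trans e0) hdeg
  have h1 := irr_twist hψ μ
  have e1 : (fun n : N => (μ n : ℂ) * ψ n) = θ := funext fun n => by simp [m1 n n.2, e]
  obtain ⟨δ, hδ⟩ := exists_detChar h1.isCharacter
  obtain ⟨a, r, hr, ec⟩ := Nat.exists_eq_pow_mul_and_not_dvd (Nat.card_pos (α := G)).ne' p pp.ne_one
  have hc : ∀ x : G, x ^ (p ^ a * r) = 1 := fun x => ec ▸ pow_card_eq_one'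
  obtain ⟨j, j1, i, j2⟩ := exists_dvd_exp hr hdeg a
  have h2 := irr_twist h1 (δ ^ j)
  have h3 : ∀ n : N, (δ ^ j) n = 1 := fun n => by
    have a1 : orderOf (δ n) ∣ detOrder (θ : N → ℂ) := orderOf_dvd_of_pow_eq_one (Units.ext (by
      rw [Units.val_pow_eq_pow_val, ← congrFun hδ, ← coe_subtype, ← detChar_comp h1.isCharacter,
        coe_subtype, e1, ← Pi.pow_apply, detOrder, pow_orderOf_eq_one]; rfl))
    exact orderOf_dvd_iff_pow_eq_one.1 (((((pp.coprime_iff_not_dvd.2 ho).pow_left a).symm.of_dvd_left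
      a1).dvd_of_dvd_mul_left (orderOf_dvd_of_pow_eq_one (by rw [← map_pow, hc, map_one]))).trans j1)
  have e2 : ∀ n : N, ((δ ^ j) n : ℂ) * (μ n * ψ n) = (θ : N → ℂ) n := fun n => by
    rw [h3, Units.val_one, one_mul, congrFun e1]
  have h4 : ∀ x ∈ 𝒞(R), H19.res O ((δ ^ j) x * (μ x * ψ x)) = d := fun x hx => by
    have := H19.mem_of_isIntegral O (hψ.isCharacter.isIntegral x)
    rw [H19.res_mul (units_mem O _ x) (mul_mem (units_mem O _ x) this), res_pow_eq_one δ hc j1,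
      H19.res_mul (units_mem O _ x) this, m2 x hx, one_mul]
  have hn : ¬ p ∣ m * r := fun h => (pp.dvd_mul.1 h).elim hm hr
  have n0 : m * r ≠ 0 := fun h => hn (h ▸ dvd_zero p)
  have n1 := mul_ne_zero (pow_ne_zero a pp.ne_zero) n0
  have z0 := Complex.isPrimitiveRoot_exp _ n0
  have z1 := Complex.isPrimitiveRoot_exp _ n1
  refine ⟨⟨_, h2⟩, mem_B0_of_cent hQ ((e2 1).trans e0) hdeg h4, ⟨m * r, hn, fun g => ?_⟩, e2⟩
  refine Cfsg.Agent.S4923.adjoin_le n1 z1 ?_ ?_ (fun k u _ hu => ?_)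
    (IntermediateField.mem_adjoin_simple_self ℚ _)
  · rintro _ rfl
    haveI := NeZero.mk n1
    obtain ⟨b, -, hb⟩ := z1.eq_pow_of_pow_eq_one (by rw [pow_mul', z0.pow_eq_one, one_pow])
    exact hb ▸ pow_mem (IntermediateField.mem_adjoin_simple_self ℚ _) b
  · rintro _ rfl
    exact H20.char_mem_adjoin h2.isCharacter n1 (by rw [mul_left_comm, pow_mul', hc, one_pow])
  rintro _ rfl
  have h5 : ∀ z, z ^ (m * r) = 1 → u z = z := fun z hz => by
    haveI := NeZero.mk n0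
    obtain ⟨b, -, rfl⟩ := z0.eq_pow_of_pow_eq_one hz
    rw [map_pow, hu _ rfl]
  refine fix_of_cent hQ hi θ.2 h2.isCharacter e2 ((e2 1).trans e0) hdeg h4 (u : ℂ →+* ℂ)
    (fun n => Cfsg.Agent.S4923.fix_adjoin u ?_ (hrat n)) (fun g => h5 _ ?_) g
  · rintro _ rfl
    exact h5 _ (by rw [pow_mul, (Complex.isPrimitiveRoot_exp m (left_ne_zero_of_mul n0)).pow_eq_one,
      one_pow])
  rw [detChar_twist h1.isCharacter _ (d := d) ((congrFun e1 1).trans e0), hδ, MonoidHom.pow_apply,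
    ← Units.val_pow_eq_pow_val, ← Units.val_mul, ← pow_mul, ← pow_succ, j2, ← Units.val_pow_eq_pow_val,
    ← pow_mul, show p ^ a * i * (m * r) = p ^ a * r * (i * m) by ring, pow_mul, ← map_pow, hc, map_one,
    one_pow, Units.val_one]

end Cfsg.Agent.S4892
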