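import Cfsg.Statements.S4976
import Cfsg.Agent.H26.NR1

set_option autoImplicit false
open Cfsg

namespace Cfsg.Agent.S4976


/-- Let G be a finite group of order divisible by 3 that is generated by its 2-elements (G has no proper normal subgroup of odd index). Then no element of order 3 in G is conjugate to its inverse if and only if the quotient of G by its largest normal subgroup of order prime to 3 is isomorphic to a direct product of groups PSL₂ over fields with 3^{2f+1} elements, f ≥ 1 (the exponents may differ between factors). -/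
theorem result {G : Type*} [Group G] [Finite G] (h3 : 3 ∣ Nat.card G) (hgen : Subgroup.closure {g : G | ∃ k : ℕ, orderOf g = 2 ^ k} = ⊤) : (∀ x : G, orderOf x = 3 → ¬ IsConj x x⁻¹) ↔ ∃ (k : ℕ) (f : Fin k → ℕ), (∀ i, 1 ≤ f i) ∧ Nonempty (G ⧸ Cfsg.pPrimeCore 3 G ≃* ((i : Fin k) → Matrix.ProjectiveSpecialLinearGroup (Fin 2) (GaloisField 3 (2 * f i + 1)))) := by
  haveI := Fact.mk Nat.prime_three
  rw [← H26.R3.nr_iff']
  constructor
  · intro h
    have h2 : H26.R3.G2 G := fun D hD => eq_top_iff.2 (hgen ▸ (Subgroup.closure_le _).2 fun g ⟨k, hk⟩ =>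
      hD g k (by rw [← hk, pow_orderOf_eq_one]))
    exact H26.R3.main _ _ le_rfl (h.surj _ (QuotientGroup.mk'_surjective _))
      (h2.surj _ (QuotientGroup.mk'_surjective _)) (H1.pPrimeCore_quotient_pPrimeCore 3)
  · rintro ⟨k, f, -, ⟨e⟩⟩ y g j h1 h2
    let φ := e.toMonoidHom.comp (QuotientGroup.mk' (Cfsg.pPrimeCore 3 G))
    have h4 : φ y = 1 := funext fun i => by
      haveI := Fintype.ofFinite (GaloisField 3 (2 * f i + 1))
      have hn : H26.R3.NR (Matrix.ProjectiveSpecialLinearGroup (Fin 2) (GaloisField 3 (2 * f i + 1))) :=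
        H26.R3.nr_iff.2 (H10.not_isSec_s3_of_sz (Or.inr ⟨_, _, inferInstance, f i, by
          rw [← Nat.card_eq_fintype_card, GaloisField.card _ _ (by omega)], ⟨MulEquiv.refl _⟩⟩))
      refine hn _ (φ g i) j (congrFun (show φ y ^ 3 ^ j = 1 by rw [← map_pow, h1, map_one]) i)
        (congrFun (show φ g * φ y * (φ g)⁻¹ = (φ y)⁻¹ by
          rw [← map_inv, ← map_inv, ← map_mul, ← map_mul, h2]) i)
    have h5 : y ∈ Cfsg.pPrimeCore 3 G := (QuotientGroup.eq_one_iff y).1 (e.injective (h4.trans (map_one e).symm))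
    exact orderOf_eq_one_iff.1 (Nat.eq_one_of_dvd_coprimes
      ((H1.coprime_card_pPrimeCore (G := G) 3).pow_right j) (Subgroup.orderOf_dvd_natCard _ h5)
      (orderOf_dvd_of_pow_eq_one h1))

end Cfsg.Agent.S4976
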