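import Cfsg.Statements.S5053
import Cfsg.Agent.H12.RDz
import Cfsg.Agent.H12.RD3

set_option autoImplicit false
open Cfsg

namespace Cfsg.Agent.S5053

open H12.RD H16.H11 Subgroup
open scoped commutatorElement Pointwise

/-- Let G be a finite group generated by a non-degenerate conjugacy class D of root involutions (some two different members commute, some two have product of odd order, some two have product of order 4) and T a weak TI-subset of D: a subset with more than one element, different from D, whose conjugate by any member of D equals T or is disjoint from it. Then T generates an abelian subgroup. -/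
theorem result {G : Type*} [Group G] [Finite G] {D : Set G} (hD : Cfsg.IsNondegenerateRootInvolutionSet D)
    (hcl : Cfsg.IsRootInvolutionClass D)     {T : Set G} (hT : Cfsg.IsWeakTISubsetOfElements D T) : IsMulCommutative ↥(Subgroup.closure T) := by
  have h := ri_of hD.1
  have hc := cls_of_class hcl
  have hv := v4_of_nondeg hD hc
  obtain ⟨hTD, -, hne, hT⟩ := hT
  let N := MulAction.stabilizer (ConjAct G) T
  let U : Subgroup G := N.comap ConjAct.toConjAct.toMonoidHom
  have mU : ∀ g, g ∈ U ↔ (fun t => g * t * g⁻¹) '' T = T := fun g => Iff.rfl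
  have cU : ∀ g ∈ U, ∀ t ∈ T, g * t * g⁻¹ ∈ T := fun g hg t ht => (mU g).1 hg ▸ ⟨t, ht, rfl⟩
  have h1 : ∀ d ∈ D, ∀ t ∈ T, Commute d t → d ∈ U := fun d hd t ht e => (mU d).2 ((hT d hd).resolve_right
    fun e' => Set.disjoint_left.1 e' ⟨t, ht, cj_eq e⟩ ht)
  have h2 : ∀ a ∈ T, ∀ b ∈ T, ¬ Od a b := fun a ha b hb ho => by
    have h3 : U = ⊤ := by
      rw [eq_top_iff, ← hD.1.generates, closure_le]
      exact zd.gen h hc hv (hTD ha) (hTD hb) ho (h1 b (hTD hb) b hb (Commute.refl b))
        (fun e he h3 _ => h1 e he a ha h3) (by rw [hD.1.generates]; exact le_top)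
    refine hne (hTD.antisymm fun d hd => ?_)
    obtain ⟨g, -, rfl⟩ := hc a (hTD ha) d hd
    exact cU g (h3 ▸ mem_top g) a ha
  have h3 : ∀ a ∈ T, ∀ b ∈ T, Commute a b := fun a ha b hb => by
    have ha' := hTD ha
    have hb' := hTD hb
    refine ((h.cases ha' hb').resolve_right ?_)
    rintro (e | e)
    · exact h2 a ha b hb e
    have hC := h.v4_mem ha' hb' e
    have e1 := h.v4_left ha' hb' e
    have e2 := h.v4_right ha' hb' e
    obtain ⟨f, hf, h4, -, h5⟩ := exists_tv h hc hC ha' e1 (e1.eq ▸ h.v4_mul ha' hb' e) fun e3 =>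
      h.v4_not_comm ha' hb' e (h.cent_of_ods hc ha' e3.symm hb' hC e2.symm).symm
    refine h2 b hb _ (cU f (h1 f hf a ha h4) b hb) (h.od_cj hf hb' (Od.symm (by_contra fun e3 => ?_)))
    have h6 := h.pow_four hb' hf e3
    have h7 := h.v4_conj ha' hb' e
    generalize ⁅a, b⁆ = c at *
    have k1 : b * f * a * (b * f)⁻¹ = a * c := by
      rw [show b * f * a * (b * f)⁻¹ = b * (f * a * f⁻¹) * b⁻¹ by group, cj_eq h4, h7]
    have k2 : b * f * c * (b * f)⁻¹ = a := by
      rw [show b * f * c * (b * f)⁻¹ = b * (f * c * f⁻¹) * b⁻¹ by group, h5, ← conj_mul', cj_eq e2.symm, h7,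
        ← e1.eq, h.mul_mul hC]
    generalize b * f = g at *
    have k3 : g ^ 4 * a * (g ^ 4)⁻¹ = g * (g * (g * (g * a * g⁻¹) * g⁻¹) * g⁻¹) * g⁻¹ := by
      simp only [pow_succ, pow_zero, one_mul, mul_inv_rev, mul_assoc]
    rw [h6, k1, ← conj_mul' g a c, k1, k2, mul_assoc a c a, e1.eq, h.mul_mul ha', k2, k1] at k3
    exact h.ne c hC (by simpa using k3.symm)
  exact ⟨⟨fun x y => Subtype.ext (commute_of_le ((closure_le _).2 fun s hs => by
    rw [SetLike.mem_coe, centralizer_closure, mem_centralizer_iff]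
    exact fun t ht => h3 t ht s hs) x.2 y.2)⟩⟩

end Cfsg.Agent.S5053
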