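import Cfsg.Statements.S5054
import Cfsg.Agent.H12.RDz
import Cfsg.Agent.H12.RD3

set_option autoImplicit false
open Cfsg

namespace Cfsg.Agent.S5054

open H12.RD H16.H11

/-- Let G be a finite group generated by a non-degenerate conjugacy class D of root involutions. Then for every d ∈ D and every x ∈ D with dx of odd order greater than 1, G is generated by x together with the members of D different from d that commute with d and have product with d in D; and the graph on D joining two different commuting members whose product lies in D is connected. -/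
theorem result {G : Type*} [Group G] [Finite G] {D : Set G} (hD : Cfsg.IsNondegenerateRootInvolutionSet D)
    (hcl : Cfsg.IsRootInvolutionClass D) :
    (∀ d ∈ D, ∀ x ∈ Cfsg.oddPartners D d, Subgroup.closure (Cfsg.productPartners D d ∪ {x}) = ⊤) ∧
    Cfsg.IsConnectedSet (Cfsg.ProdAdj D) D := by
  have h := ri_of hD.1
  have hc := cls_of_class hcl
  have hv := v4_of_nondeg hD hc
  refine ⟨fun d hd x hx => ?_, fun a ha b hb => zd.en h hc hv ha hb⟩
  rw [eq_top_iff, ← hD.1.generates, Subgroup.closure_le]
  refine zd.gen h hc hv hd hx.1 ⟨hx.2.1.symm, hx.2.2⟩ (Subgroup.subset_closure (Or.inr rfl))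
    (fun b hb h1 h2 => Subgroup.subset_closure (Or.inl ⟨⟨hb, h1, fun e => h.ne _ h2 (e ▸ h.sq b hb)⟩, h2⟩)) ?_
  rw [hD.1.generates]; exact le_top

end Cfsg.Agent.S5054
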