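import Cfsg.Statements.S5185
import Cfsg.Agent.H13.Ess4

set_option autoImplicit false
universe u
open Cfsg

namespace Cfsg.Agent.S5185

open H13 Equiv Cfsg.FusionSystem

/-- Let F be a saturated fusion system over a finite p-group S and H an essential subgroup of order p². Then H is elementary abelian (isomorphic to C_p × C_p) and its F-automorphism group contains a subgroup isomorphic to SL(2,p). -/
theorem result {Ω : Type u} [Group Ω] {S : Subgroup Ω} [Finite S] (p : ℕ) [Fact p.Prime] (hS : IsPGroup p S)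
    (F : Cfsg.FusionSystem S) (hF : F.IsSaturated p) (H : Subgroup Ω) (hH : F.IsEssential p H) (hcard : Nat.card H = p ^ 2) :
    Cfsg.IsElementaryAbelian p H ∧
      ∃ K : Subgroup ↥(F.autGroup H), Nonempty (↥K ≃* Matrix.SpecialLinearGroup (Fin 2) (ZMod p)) := by
  classical
  haveI := finite_of_le hH.1.1
  have D := radD_of_essential hS hF hH
  obtain ⟨r, h1, h2, h3⟩ := index_frattini_cases D.pg hcard
  have h4 := (Nat.pow_le_pow_iff_right (Fact.out : p.Prime).one_lt).1 (h2 ▸ D.sq_le_index)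
  obtain rfl : r = 2 := by omega
  have h5 := elementary_of_card_frattini D.pg h3
  refine ⟨⟨h5.1, fun x hx => congrArg Subtype.val (h5.2 ⟨x, hx⟩)⟩, ?_⟩
  obtain ⟨χ, hχ⟩ := D.sl2_fr h2
  have hI : ∀ α ∈ AutBy H H, α = 1 := fun α hα => by
    obtain ⟨g, hg, hg', rfl⟩ := mem_autBy.1 hα
    exact (cr_eq_one_iff hg').2 fun x hx => congrArg Subtype.val (h5.1.1.1 ⟨x, hx⟩ ⟨g, hg⟩)
  have hm := fun α (hα : α ∈ OUp' p (AutF F H)) => hχ.mW α (oUp'_le _ _ hα)
  choose ρ hρ using fun α : OUp' p (AutF F H) => hχ.det α α.2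
  let f : OUp' p (AutF F H) →* Matrix.SpecialLinearGroup (Fin 2) (ZMod p) := MonoidHom.mk' ρ fun α β =>
    Subtype.ext ((hρ (α * β)).unique hχ.sec ((hρ α).mul (hρ β) (hm _ β.2)))
  have hf : Function.Bijective f := by
    refine ⟨(injective_iff_map_eq_one f).2 fun α e => Subtype.ext (hI _ (hχ.ker _ α.2 ?_)), fun m => ?_⟩
    · have := hρ α
      rwa [show ρ α = 1 from e] at this
    · obtain ⟨α, hα, h⟩ := hχ.sl m
      exact ⟨⟨α, hα⟩, Subtype.ext ((hρ ⟨α, hα⟩).unique hχ.sec h)⟩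
  let e := autEquiv F H
  refine ⟨((OUp' p (AutF F H)).subgroupOf (AutF F H)).map e.symm.toMonoidHom, ⟨?_⟩⟩
  exact ((e.symm.subgroupMap _).symm.trans (Subgroup.subgroupOfEquivOfLe (oUp'_le _ _))).trans
    (MulEquiv.ofBijective f hf)

end Cfsg.Agent.S5185
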