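import Cfsg.Statements.S5186
import Cfsg.Agent.H13.Ess4

set_option autoImplicit false
universe u
open Cfsg

namespace Cfsg.Agent.S5186

open H13 Equiv Cfsg.FusionSystem

/-- Let F be a saturated fusion system over a finite p-group S and H an essential subgroup of order p³. Then H is elementary abelian, or p is odd and H is extraspecial of exponent p, or p = 2 and H is the quaternion group of order 8. -/
theorem result {Ω : Type u} [Group Ω] {S : Subgroup Ω} [Finite S] (p : ℕ) [Fact p.Prime] (hS : IsPGroup p S)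
    (F : Cfsg.FusionSystem S) (hF : F.IsSaturated p) (H : Subgroup Ω) (hH : F.IsEssential p H) (hcard : Nat.card H = p ^ 3) :
    Cfsg.IsElementaryAbelian p H ∨ (Odd p ∧ Cfsg.IsExtraspecial p ↥H ∧ ∀ x ∈ H, x ^ p = 1) ∨
      (p = 2 ∧ Nonempty (↥H ≃* QuaternionGroup 2)) := by
  haveI := finite_of_le hH.1.1
  obtain ⟨A, U, D⟩ := (radD_of_essential hS hF hH).top
  rcases D.cube hcard with h | h | h
  · exact Or.inl ⟨h.1, fun x hx => congrArg Subtype.val (h.2 ⟨x, hx⟩)⟩
  · exact Or.inr (Or.inl ⟨h.1, h.2.1, fun x hx => congrArg Subtype.val (h.2.2 ⟨x, hx⟩)⟩)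
  · exact Or.inr (Or.inr h)

end Cfsg.Agent.S5186
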