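import Cfsg.Statements.S5187
import Cfsg.Agent.H13.Ess4

set_option autoImplicit false
universe u
open Cfsg

namespace Cfsg.Agent.S5187

open H13 Equiv Cfsg.FusionSystem

/-- Let F be a saturated fusion system over a finite p-group S and H an abelian essential subgroup that can be generated by two elements (its Frattini quotient has order at most p²). Then H is elementary abelian of order p², or p ≤ 3 and H is homocyclic of rank two, that is isomorphic to C_{pᵏ} × C_{pᵏ} for some k. -/
theorem result {Ω : Type u} [Group Ω] {S : Subgroup Ω} [Finite S] (p : ℕ) [Fact p.Prime] (hS : IsPGroup p S)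
    (F : Cfsg.FusionSystem S) (hF : F.IsSaturated p) (H : Subgroup Ω) (hH : F.IsEssential p H) (hab : IsMulCommutative ↥H) (hrk : (frattini ↥H).index ≤ p ^ 2) :
    (Cfsg.IsElementaryAbelian p H ∧ Nat.card H = p ^ 2) ∨
      (p ≤ 3 ∧ ∃ k : ℕ, Nonempty (↥H ≃* Multiplicative (ZMod (p ^ k) × ZMod (p ^ k)))) := by
  haveI := finite_of_le hH.1.1
  obtain ⟨A, U, D⟩ := (radD_of_essential hS hF hH).top
  obtain ⟨k, e, h⟩ := D.homocyclic' hab hrk
  by_cases hp : 3 < p
  · refine Or.inl ⟨⟨hab, fun x hx => congrArg Subtype.val (h hp ⟨x, hx⟩)⟩, ?_⟩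
    have h1 := le_antisymm hrk D.sq_le_index'
    rwa [(H1.frattini_eq_bot_iff D.pg').2 ⟨hab, h hp⟩, Subgroup.index_bot] at h1
  · exact Or.inr ⟨not_lt.1 hp, k, e⟩

end Cfsg.Agent.S5187
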