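import Cfsg.Statements.S5191
import Cfsg.Agent.H14.Grp

set_option autoImplicit false
set_option linter.unusedVariables false
set_option linter.style.haveILetI false
open Cfsg Cfsg.FusionSystem Equiv H13 H14.Fus
open scoped commutatorElement

namespace Cfsg.Agent.S5191

/-- Fusion in a finite group G and in its quotient by O_{p'}(G) agree. Let S be a Sylow p-subgroup of G, N = O_{p'}(G) and P ≤ S. If an element of G/N conjugates the image of P into the image of S, then some element g of G conjugates P into S and induces the same map on P modulo N. (Together with the injectivity of S → G/N this says that g ↦ gN induces an isomorphism of the fusion system of G on S with that of G/N on SN/N.) -/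
theorem result {G : Type*} [Group G] [Finite G] {p : ℕ} [Fact p.Prime]
    [hN : (Cfsg.pPrimeCore p G).Normal] (S : Sylow p G) (P : Subgroup G) (hP : P ≤ (S : Subgroup G))
    (γ : G ⧸ Cfsg.pPrimeCore p G)
    (hγ : ∀ x ∈ P, γ * QuotientGroup.mk x * γ⁻¹ ∈ ((S : Subgroup G).map (QuotientGroup.mk' (Cfsg.pPrimeCore p G)))) :
    ∃ g : G, ∀ x ∈ P, g * x * g⁻¹ ∈ S ∧
      (QuotientGroup.mk (g * x * g⁻¹) : G ⧸ Cfsg.pPrimeCore p G) = γ * QuotientGroup.mk x * γ⁻¹ := by
  have h := fac_ofSubgroup (sylIn_top S) (homOn_hom ⊤ (QuotientGroup.mk' (pPrimeCore p G))) (G' := ⊤)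
    (by rw [img_hom, ← MonoidHom.range_eq_map, QuotientGroup.range_mk']) (img_hom _ _) le_top
  obtain ⟨f, hf, e⟩ := h.up (img (QuotientGroup.mk' (pPrimeCore p G)) P) (fun y => γ * y * γ⁻¹)
    (mor_ofSubgroup_iff.2 ⟨h.img_le hP, fun y hy => by
      obtain ⟨x, hx, rfl⟩ := (h.hom.mono hP).mem_img.1 hy
      exact hγ x hx, γ, trivial, fun _ _ => rfl⟩)
  obtain ⟨-, h2, g, -, e'⟩ := mor_ofSubgroup_iff.1 hf
  refine ⟨g, fun x hx => ?_⟩
  have hx' := le_pre_img h.hom hP hx
  rw [← e' x hx']
  exact ⟨h2 x hx', (e x hx').symm⟩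

end Cfsg.Agent.S5191
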