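import Cfsg.Statements.S5192
import Cfsg.Agent.H14.Yoshida

set_option autoImplicit false
set_option linter.unusedVariables false
set_option linter.style.haveILetI false
open Cfsg Cfsg.FusionSystem Equiv H13 H14.Fus
open scoped commutatorElement

namespace Cfsg.Agent.S5192

theorem ncard_fib {X J : Type*} [Finite X] (Z : J → Set X) (m : ℕ) (J' : Set J) (hJ : J'.Finite)
    (h1 : ∀ j ∈ J', (Z j).ncard = m) (h2 : ∀ j ∈ J', ∀ j' ∈ J', ∀ ξ ∈ Z j, ξ ∈ Z j' → j = j') :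
    {ξ | ∃ j ∈ J', ξ ∈ Z j}.ncard = J'.ncard * m := by
  induction J', hJ using Set.Finite.induction_on with
  | empty => simp
  | @insert a s ha hs ih =>
    have : {ξ | ∃ j ∈ insert a s, ξ ∈ Z j} = {ξ | ∃ j ∈ s, ξ ∈ Z j} ∪ Z a := by
      ext ξ; simp [or_comm]
    have hd : Disjoint {ξ | ∃ j ∈ s, ξ ∈ Z j} (Z a) := Set.disjoint_left.2 fun ξ ⟨j, hj, e⟩ e' =>
      ha (h2 j (.inr hj) a (.inl rfl) ξ e e' ▸ hj)
    rw [this, Set.ncard_union_eq hd, ih (fun j hj => h1 j (.inr hj))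
      (fun j hj j' hj' => h2 j (.inr hj) j' (.inr hj')), h1 a (.inl rfl), Set.ncard_insert_of_notMem ha hs, add_mul,
      one_mul]

theorem zpow_cases {Ω : Type*} [Group Ω] {i : Ω} (hi : orderOf i = 2) (k : ℤ) :
    (Even k ∧ i ^ k = 1) ∨ (Odd k ∧ i ^ k = i) := by
  have h : i ^ (2 : ℤ) = 1 := (zpow_natCast i 2).trans (hi ▸ pow_orderOf_eq_one i)
  rcases Int.even_or_odd k with ⟨m, rfl⟩ | ⟨m, rfl⟩
  · exact .inl ⟨⟨m, rfl⟩, by rw [← two_mul, zpow_mul, h, one_zpow]⟩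
  · exact .inr ⟨⟨m, rfl⟩, by rw [zpow_add, zpow_mul, h, one_zpow, one_mul, zpow_one]⟩

theorem mem_norm {Ω : Type*} [Group Ω] {j : Ω} (hj : orderOf j = 2) {g : Ω} :
    g ∈ Subgroup.normalizer (Subgroup.zpowers j : Set Ω) ↔ g * j * g⁻¹ = j := by
  refine ⟨fun h => ?_, fun h => Subgroup.centralizer_le_normalizer _ ?_⟩
  · obtain ⟨k, hk⟩ := conj_mem_of_normalizer h (Subgroup.mem_zpowers j)
    rcases zpow_cases hj k with ⟨-, e⟩ | ⟨-, e⟩
    · rw [show j ^ k = _ from hk, conj_eq_one_iff] at e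
      simp [e] at hj
    · exact hk.symm.trans e
  · rintro _ ⟨k, rfl⟩
    exact ((show Commute j g from (mul_inv_eq_iff_eq_mul.1 h).symm).zpow_left k).eq

/-- A Thompson-type transfer for saturated fusion systems. Let F be a saturated fusion system on a finite 2-group S, T a subgroup of S of index 2, and i an involution of S such that every fully normalized F-conjugate of i lies in S but outside T. Then i does not lie in the hyperfocal subgroup of F (the Sylow group of the 2-residual subsystem). -/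
theorem result {Ω : Type*} [Group Ω] [Finite Ω] {S : Subgroup Ω}
    (hS : IsPGroup 2 ↥S) (F : Cfsg.FusionSystem S) (hF : F.IsSaturated 2)
    (T : Subgroup Ω) (hTS : T ≤ S) (hT : T.relIndex S = 2)
    (i : Ω) (hi : i ∈ S) (hi2 : orderOf i = 2)
    (h : ∀ j : Ω, F.IsConjElt i j → F.IsFullyNormalized (Subgroup.zpowers j) → j ∉ T) :
    i ∉ F.hyperfocalSubgroup 2 := by
  classical
  intro hih
  have hTlt : T < S := lt_of_le_of_ne hTS fun e => by simp [e] at hT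
  have hi1 : i ≠ 1 := fun e => by simp [e] at hi2
  have hmul : ∀ a ∈ S, ∀ b ∈ S, a * b ∈ T ↔ (a ∈ T ↔ b ∈ T) := fun a ha b hb =>
    Subgroup.mul_mem_iff_of_index_two (H := T.subgroupOf S) hT (a := ⟨a, ha⟩) (b := ⟨b, hb⟩)
  let χ : Ω → ℤˣ := fun s => if s ∈ T then 1 else -1
  have hχ : HomOn S χ := fun a ha b hb => by
    by_cases h1 : a ∈ T <;> by_cases h2 : b ∈ T <;> simp [χ, hmul a ha b hb, h1, h2]
  obtain ⟨X, _, ρ, hc, -, hn⟩ := exists_cb_n hS hF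
  let J := {j | j ∈ T ∧ F.IsConjElt i j}
  let Z : Ω → Set X := fun j => {ξ | ρ (j, i) ξ = ξ}
  let Y := {ξ | ∃ j ∈ J, ξ ∈ Z j}
  have uniq : ∀ j ∈ S, ∀ j' ∈ S, ∀ t ∈ S, ∀ ξ, ρ (j, t) ξ = ξ → ρ (j', t) ξ = ξ → j = j' :=
    fun j hj j' hj' t ht ξ e e' => by
      obtain ⟨P, φ, hφ, H⟩ := hc.stab ξ
      rw [((H j hj t ht).1 e).2, ((H j' hj' t ht).1 e').2]
  have hJ : ∀ s ∈ S, ∀ j ∈ J, s * j * s⁻¹ ∈ J := fun s hs j hj => ⟨by
    rw [hmul _ (S.mul_mem hs (hTS hj.1)) _ (S.inv_mem hs), hmul _ hs _ (hTS hj.1), T.inv_mem_iff]; simp [hj.1], by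
    obtain ⟨f, hf, e⟩ := isConjElt_iff_mor.1 hj.2
    exact isConjElt_iff_mor.2 ⟨_, (mor_conj F le_rfl hs).comp hf fun x hx => hf.mem hx, by rw [e]⟩⟩
  have hZ : ∀ j ∈ S, ∀ a ∈ S, ∀ b ∈ S, b * i = i * b → ∀ ξ ∈ Z j, ρ (a, b) ξ ∈ Z (a * j * a⁻¹) :=
    fun j hj a ha b hb e ξ hξ => by
      change ρ (_, i) _ = _
      conv_rhs => rw [← show ρ (j, i) ξ = ξ from hξ]
      rw [← act_mul hc.hom (g := (_, i)) ⟨S.mul_mem (S.mul_mem ha hj) (S.inv_mem ha), hi⟩ (g' := (a, b)) ⟨ha, hb⟩,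
        ← act_mul hc.hom (g := (a, b)) ⟨ha, hb⟩ (g' := (j, i)) ⟨hj, hi⟩]
      simp [e]
  have hY : InvSet (S.prod (Subgroup.zpowers i)) ρ Y := by
    rintro ⟨a, b⟩ ⟨ha, k, rfl⟩ ξ ⟨j, hj, e⟩
    exact ⟨_, hJ a ha j hj, hZ j (hTS hj.1) a ha _ (S.zpow_mem hi k) ((Commute.refl i).zpow_left k).eq ξ e⟩
  have hh := hc.hom.mono (Subgroup.prod_mono (le_refl S) (Subgroup.zpowers_le.2 hi))
  have hY' := invSet_univ.diff hh hY
  have hle : S.prod ⊥ ≤ S.prod (Subgroup.zpowers i) := Subgroup.prod_mono le_rfl bot_le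
  have hi' : ((1 : Ω), i) ∈ S.prod (Subgroup.zpowers i) := ⟨S.one_mem, Subgroup.mem_zpowers i⟩
  have e1 : hc.T χ Y i = 1 ^ hc.n Y := hc.T_cyc hχ (hY.mono hle) hi (hY.iff hh hi') fun ξ hξ s hs k e => by
    rw [one_zpow]
    refine if_pos ?_
    rcases zpow_cases hi2 k with ⟨-, e'⟩ | ⟨-, e'⟩ <;> rw [e'] at e
    · rw [uniq s hs 1 S.one_mem 1 S.one_mem ξ e (act_one hc.hom ξ)]; exact T.one_mem
    · obtain ⟨j, hj, e''⟩ := hξ
      rw [uniq s hs j (hTS hj.1) i hi ξ e e'']; exact hj.1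
  have e2 : hc.T χ (Set.univ \ Y) i = (-1) ^ hc.n (Set.univ \ Y) :=
    hc.T_cyc hχ (hY'.mono hle) hi (hY'.iff hh hi') fun ξ hξ s hs k e => by
      rcases zpow_cases hi2 k with ⟨hk, e'⟩ | ⟨hk, e'⟩ <;> rw [e'] at e
      · rw [uniq s hs 1 S.one_mem 1 S.one_mem ξ e (act_one hc.hom ξ), hk.neg_one_zpow]; exact if_pos T.one_mem
      · rw [hk.neg_one_zpow]
        refine if_neg fun c => hξ.2 ⟨s, ⟨c, ?_⟩, e⟩
        obtain ⟨P, φ, hφ, H⟩ := hc.stab ξ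
        obtain ⟨h1, rfl⟩ := (H s hs i hi).1 e
        exact mor_isConjElt hφ h1
  have e3 := hc.T_foc hχ (hyp_le_focal F 2 hih)
  rw [hc.T_split χ _ Y, Set.univ_inter, e1, e2, one_pow, one_mul, neg_one_pow_eq_one_iff_even (by decide)] at e3
  rw [hc.n_split invSet_univ (hY.mono hle), Set.univ_inter] at hn
  refine hn (dvd_add ?_ e3.two_dvd)
  obtain ⟨Q, σ, hσ, hQ⟩ := exists_fullyNormalized F (Subgroup.zpowers_le.2 hi)
  have ho : ∀ j, F.IsConjElt i j → orderOf j = 2 ∧ j ∈ S ∧ F.IsConj (Subgroup.zpowers i) (Subgroup.zpowers j) ∧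
      (Z j).ncard = (Z i).ncard := fun j hj => by
    obtain ⟨f, hf, rfl⟩ := isConjElt_iff_mor.1 hj
    have hm := Subgroup.mem_zpowers i
    refine ⟨(mor_orderOf hf hm).trans hi2, hf.mem hm, homOn_img_zpowers hf.hom hm ▸ mor_isConj hf, ?_⟩
    obtain ⟨g, hg⟩ := hc.left _ f hf
    rw [← Set.ncard_image_of_injective (Z i) g.injective]
    congr 1
    ext ξ
    obtain ⟨ξ, rfl⟩ := g.surjective ξ
    rw [g.injective.mem_set_image]
    change _ = _ ↔ _ = _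
    rw [← hg i hm i hi, g.apply_eq_iff_eq]
  obtain rfl : Subgroup.zpowers (σ i) = Q := by
    rw [← hσ.img_eq, homOn_img_zpowers hσ.hom (Subgroup.mem_zpowers i)]
  obtain ⟨o1, o2, o3, o4⟩ := ho _ (mor_isConjElt hσ.mor (Subgroup.mem_zpowers i))
  have d1 : Nat.card (normalizerIn S (Subgroup.zpowers (σ i))) ∣ (Z i).ncard := by
    rw [← o4]
    refine dvd_ncard_of_free (ρ := fun s => ρ (s, 1)) (fun a ha b hb => by
      rw [← hc.hom.map_mul (x := (a, 1)) ⟨ha.1, S.one_mem⟩ (y := (b, 1)) ⟨hb.1, S.one_mem⟩]; simp)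
      (fun g hg ξ hξ => ?_) fun ξ _ g hg e => congrArg Prod.fst (hc.td.free (g, 1) ⟨hg.1, rfl⟩ ξ e)
    have := hZ _ o2 g hg.1 1 S.one_mem (by simp) ξ hξ
    rwa [(mem_norm o1).1 hg.2] at this
  obtain ⟨a, ha⟩ := IsPGroup.iff_card.1 (isPGroup_of_le hS (normalizerIn_le S (Subgroup.zpowers (σ i))))
  obtain ⟨c, hc'⟩ := IsPGroup.iff_card.1 hS
  have hac : a ≤ c := (Nat.pow_le_pow_iff_right (by decide)).1 (ha ▸ hc' ▸ card_le_of_le (normalizerIn_le _ _))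
  have d2 : 2 ^ (c - a + 1) ∣ J.ncard := by
    refine dvd_ncard_of_orb (homOn_hom S cj) hJ fun j hj => ?_
    obtain ⟨p1, p2, p3, -⟩ := ho j hj.2
    have h1 := card_orb (homOn_hom S cj) j
    have h2 : Stb S cj j = normalizerIn S (Subgroup.zpowers j) := by
      ext g; rw [mem_stb (homOn_hom S cj), mem_normalizerIn, mem_norm p1]; rfl
    obtain ⟨b, hb⟩ := IsPGroup.iff_card.1 (isPGroup_of_le hS (normalizerIn_le S (Subgroup.zpowers j)))
    have hlt : b < a := by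
      by_contra! c
      refine h j hj.2 ⟨Subgroup.zpowers_le.2 p2, fun R hR => (hQ.2 R (isConj_trans (isConj_trans
        (isConj_symm o3) p3) hR)).trans ?_⟩ hj.1
      rw [ha, hb]; exact Nat.pow_le_pow_right (by decide) c
    rw [h2, hb, hc', show c = b + (c - b) by omega, pow_add] at h1
    rw [Nat.eq_of_mul_eq_mul_left (by positivity) h1]
    exact pow_dvd_pow _ (by omega)
  refine Nat.dvd_of_mul_dvd_mul_right (Nat.card_pos (α := S)) ?_
  rw [hc.n_mul (hY.mono hle), ncard_fib Z _ J (Set.toFinite _) (fun j hj => (ho j hj.2).2.2.2)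
    (fun j hj j' hj' ξ e e' => uniq j (hTS hj.1) j' (hTS hj'.1) i hi ξ e e'), hc']
  refine Dvd.dvd.trans (dvd_of_eq ?_) (Nat.mul_dvd_mul d2 (ha ▸ d1))
  rw [← pow_add, ← pow_succ']; congr 1; omega

end Cfsg.Agent.S5192
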