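import Cfsg.Statements.S5213
import Cfsg.Agent.H6.U34b
import Cfsg.Agent.H6.Rank2

set_option autoImplicit false
open Cfsg

namespace Cfsg.Agent.S5213

/-- Let S be a finite 2-group of 2-rank 2 (it has an elementary abelian subgroup of order 4 and none of order 8) and F a saturated fusion system over S with trivial centre. Then S is dihedral, semidihedral, wreathed, homocyclic abelian (a direct product of cyclic groups of one common order), or isomorphic to a Sylow 2-subgroup of the projective special unitary group PSU₃(4) (realised over the field with 16 elements). -/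
theorem result {Ω : Type*} [Group Ω] {S : Subgroup Ω} [Finite S] (hS : IsPGroup 2 S) (F : Cfsg.FusionSystem S) (hF : F.IsSaturated 2) (hr : Cfsg.PRankAtLeast 2 2 ↥S ∧ ¬ Cfsg.PRankAtLeast 2 3 ↥S) (hZ : F.center = ⊥) {K : Type*} [Field K] [Fintype K] (hK : Fintype.card K = 16) : (∃ m : ℕ, Nonempty (↥S ≃* DihedralGroup m)) ∨ Cfsg.IsQuasiDihedral ↥S ∨ Cfsg.IsWreathed ↥S ∨ (∃ n k : ℕ, Nonempty (↥S ≃* Multiplicative (Fin k → ZMod (2 ^ n)))) ∨ ∃ T : Sylow 2 (Cfsg.PSU 3 K 4), Nonempty (↥S ≃* ↥(T : Subgroup (Cfsg.PSU 3 K 4))) := by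
  obtain ⟨⟨A, -, -, hA4⟩, h3⟩ := hr
  have h2 : PRankLE 2 2 S := by
    by_contra h
    obtain ⟨B, hB, hB'⟩ := H9.exists_of_not_prank h
    exact h3 ⟨B, hB.1, hB.2, hB'⟩
  haveI : Nontrivial S := by
    have := Subgroup.card_le_card_group A
    exact Finite.one_lt_card_iff_nontrivial.1 (by omega)
  obtain ⟨z, -, hz, hc⟩ := H6.exists_central_ord2 (hS.to_subgroup ⊤) top_ne_bot
  rcases H6.rk2_of_fusion hS hF h2 z.2 (by simpa using hz) (fun s hs => congrArg Subtype.val (hc ⟨s, hs⟩ trivial))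
    (fun h => H6.ord2_ne_one hz (Subtype.ext (Subgroup.mem_bot.1 (hZ ▸ H13.le_center h (Subgroup.mem_zpowers _))))) with
    ⟨m, -, h⟩ | h | h | ⟨n, -, ⟨e⟩⟩ | h
  · exact .inl ⟨m, h⟩
  · exact .inr (.inl h)
  · exact .inr (.inr (.inl h))
  · exact .inr (.inr (.inr (.inl ⟨n, 2, ⟨e.trans (AddEquiv.toMultiplicative
      (LinearEquiv.finTwoArrow ℤ (ZMod (2 ^ n))).symm.toAddEquiv)⟩⟩)))
  · haveI : Finite (PSU 3 K 4) := inferInstance
    obtain ⟨T⟩ : Nonempty (Sylow 2 (PSU 3 K 4)) := inferInstance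
    exact .inr (.inr (.inr (.inr ⟨T, h.iso (H6.isU34_sylow hK T)⟩)))

end Cfsg.Agent.S5213
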