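import Cfsg.Statements.S5265
import Cfsg.Agent.H3.Transv
import Cfsg.Agent.S3807

set_option autoImplicit false
open Cfsg

namespace Cfsg.Agent.S5265

set_option linter.unusedSectionVars false
open H13 H3 Equiv Cfsg.FusionSystem
open Subgroup (zpowers mem_zpowers)
open scoped commutatorElement

theorem card_comm {G : Type*} [Group G] [Finite G] {p : ℕ} [hp : Fact p.Prime] (hG : IsPGroup p G)
    (hna : ¬ IsMulCommutative G) (hZ : (Subgroup.center G).index ≤ p ^ 2) :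
    Nat.card (commutator G) = p := by
  obtain ⟨a, ha⟩ : ∃ a, a ∉ Subgroup.center G := by
    by_contra h
    push Not at h
    exact hna ⟨⟨fun x y => Subgroup.mem_center_iff.1 (h y) x⟩⟩
  have hA : IsMulCommutative (Subgroup.center G ⊔ zpowers a : Subgroup G) :=
    Subgroup.le_centralizer_iff_isMulCommutative.1 (sup_le (Subgroup.center_le_centralizer _)
      (Subgroup.le_centralizer_iff.2 (sup_le (Subgroup.center_le_centralizer _)
        (Subgroup.le_centralizer _))))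
  have h1 := mul_card_le_of_lt (hG.to_subgroup _) (left_lt_sup.2 fun h => ha (h (mem_zpowers a)))
  have h2 := (Subgroup.center G).index_mul_card
  have h3 := (Subgroup.center G ⊔ zpowers a).index_mul_card
  obtain ⟨k, hk⟩ := hG.index (Subgroup.center G ⊔ zpowers a)
  have h0 : 0 < Nat.card (Subgroup.center G) := Nat.card_pos
  have h4 : p ^ (k + 1) ≤ p ^ 2 := by
    refine le_trans (Nat.le_of_mul_le_mul_right ?_ h0) hZ
    rw [h2, ← h3, hk, pow_succ, mul_assoc]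
    exact Nat.mul_le_mul_left _ h1
  have h5 := (Nat.pow_le_pow_iff_right hp.out.one_lt).1 h4
  have h6 : k ≠ 0 := by
    rintro rfl
    rw [pow_zero, Subgroup.index_eq_one] at hk
    exact hna ⟨⟨fun x y => setLike_mul_comm (hk.ge (Subgroup.mem_top x)) (hk.ge (Subgroup.mem_top y))⟩⟩
  obtain ⟨h7, h8 | h8⟩ := S3807.result p hG hna _ hA (by rw [hk, show k = 1 by omega, pow_one])
  · exact h8.1
  · have := hp.out.one_lt
    nlinarith [h8.1]

variable {Ω : Type*} [Group Ω] {S : Subgroup Ω} [Finite S] {p : ℕ} [hp : Fact p.Prime]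
  {F : FusionSystem S} {Q W Q' W' : Subgroup Ω} {z y g y' g' : Ω}

theorem pow_zp (hz : z ^ p = 1) {c : Ω} (hc : c ∈ zpowers z) : c ^ p = 1 := by
  obtain ⟨k, rfl⟩ := hc
  simp only
  rw [← zpow_natCast, ← zpow_mul, mul_comm, zpow_mul, zpow_natCast, hz, one_zpow]

theorem mapsZ {σ : Perm Ω} (hσ : Iso F S S σ) : Maps (centralizerIn S S) (centralizerIn S S) σ :=
  hσ.hom.maps_centralizerIn hσ.maps le_rfl hσ.maps

theorem key (h : TV p F S Q W z y g) {σ : Perm Ω} (hσ : Iso F S S σ) (h1 : σ z = z)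
    (h2 : ∀ x ∈ centralizerIn S S, x⁻¹ * σ x ∈ zpowers z) : ∀ x ∈ centralizerIn S S, σ x = x := by
  have hz : zpowers z ≤ centralizerIn S S := Subgroup.zpowers_le.2 ⟨h.c2.mem, h.c2.cent⟩
  have hρ := (hσ.restrict (centralizerIn_le S S) (mapsZ hσ)).rs_mem
  have := finite_autF_of_le F (centralizerIn_le S S)
  have hc : S ≤ Subgroup.centralizer ((centralizerIn S S : Subgroup Ω) : Set Ω) :=
    Subgroup.le_centralizer_iff.1 inf_le_right
  obtain ⟨γ, -, h3⟩ := (sylIn_of_fullyNormalized h.rr.pg h.rr.sat (fullyNormalized_of_normal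
    (centralizerIn_le S S) (hc.trans (Subgroup.centralizer_le_normalizer _)))).exists_conj_mem hρ (k := 1)
    (perm_ext_on (fix_of_mem_autF (pow_mem hρ _)) (fun _ _ => rfl) fun x hx => by
      rw [tv_pow (homOn_of_mem_autF hρ) hx (hz (h2 x hx)) ((rs_apply (mapsZ hσ) (hz (h2 x hx))).trans
        (HomOn.fix_zp hσ.hom h.c2.mem h1 (h2 x hx))) (by rw [rs_apply (mapsZ hσ) hx]; group),
        pow_one, pow_zp h.c2.ord (h2 x hx), mul_one]; rfl)
  obtain ⟨s, hs, hN, e⟩ := mem_autBy.1 h3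
  rw [(cr_eq_one_iff hN).2 (hc hs), eq_comm, conj_eq_one_iff] at e
  exact (rs_eq_one_iff (mapsZ hσ)).1 e

theorem map_z (h : TV p F S Q W z y g) {σ : Perm Ω} (hσ : Iso F S S σ) : σ z ∈ zpowers z := by
  have hy := h.rr.lt.le h.yQ
  have e : z = ⁅y⁻¹, g⁆ := by rw [commutatorElement_def, inv_inv, mul_assoc, mul_assoc, ← mul_assoc g,
    h.gy, inv_mul_cancel_left]
  have := h.c2.comm _ (hσ.mem (inv_mem hy)) _ (hσ.mem h.gP)
  rwa [← hσ.hom.map_commutator (inv_mem hy) h.gP, ← e] at this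

def Refl (F : FusionSystem S) (z : Ω) (τ : Perm Ω) : Prop :=
  Iso F S S τ ∧ τ z = z⁻¹ ∧ τ ∈ trivMod (centralizerIn S S) (zpowers z)

theorem refl_of (hp2 : p ≠ 2) (h : TV p F S Q W z y g) : ∃ τ, Refl F z τ ∧
    ∀ τ', Refl F z τ' → ∀ x, x ∈ W ↔ x ∈ centralizerIn S S ∧ τ' x = x := by
  obtain ⟨τ, h1, h2, h3, -⟩ := h.tau
  have h4 : ∀ x ∈ centralizerIn S S, ∃ i : ℕ, x * (z ^ i)⁻¹ ∈ W ∧ x⁻¹ * τ x = (z ^ i)⁻¹ ^ 2 :=
    fun x hx => by
      obtain ⟨i, hi⟩ := h.low x hx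
      have := h3 _ hi
      rw [h1.hom.map_mul hx.1 (inv_mem (pow_mem h.c2.mem i)), h1.hom.map_inv (pow_mem h.c2.mem i),
        h1.hom.map_pow h.c2.mem, h2, mul_inv_eq_iff_eq_mul] at this
      exact ⟨i, hi, by rw [this, pow_two]; group⟩
  have h5 : Refl F z τ := ⟨h1, h2, mapsZ h1, fun x hx => by
    obtain ⟨i, -, hi⟩ := h4 x hx
    exact hi ▸ pow_mem (inv_mem (pow_mem (mem_zpowers z) i)) 2⟩
  refine ⟨τ, h5, fun τ' ⟨a1, a2, a3⟩ x => ?_⟩
  have h6 := key h (h1.inv.mul a1) (by rw [mul_ap, a2, ← h2, inv_ap]) (mul_mem (inv_mem h5.2.2) a3).2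
  have h7 : ∀ x ∈ centralizerIn S S, τ' x = τ x := fun x hx => Perm.inv_eq_iff_eq.1 (h6 x hx)
  refine ⟨fun hx => ⟨h.wle hx, (h7 x (h.wle hx)).trans (h3 x hx)⟩, fun ⟨hx, e⟩ => ?_⟩
  obtain ⟨i, hi, hi'⟩ := h4 x hx
  rw [← h7 x hx, e, inv_mul_cancel, eq_comm] at hi'
  rwa [orderOf_eq_one_iff.1 (Nat.eq_one_of_dvd_coprimes ((Nat.coprime_primes Nat.prime_two
    hp.out).2 hp2.symm) (orderOf_dvd_of_pow_eq_one hi') (orderOf_dvd_of_pow_eq_one
      (pow_zp h.c2.ord (inv_mem (pow_mem (mem_zpowers z) i))))), mul_one] at hi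

theorem odd_case (hp2 : p ≠ 2) (h : TV p F S Q W z y g) : F.IsNormal W := by
  obtain ⟨τ, h1, h2⟩ := refl_of hp2 h
  have hW := h.wle.trans inf_le_left
  have := finite_of_le hW
  refine normal_of_base h.rr.pg h.rr.sat ?_
  rintro E (rfl | hE)
  · refine ⟨hW, fun σ hσ => (hσ.hom.mono hW).maps_of_mem fun w hw =>
      (h2 τ h1 _).2 ⟨(mapsZ hσ).mem (h.wle hw), Perm.inv_eq_iff_eq.1 ((h2 (σ⁻¹ * τ * σ)
        ⟨(hσ.inv.mul h1.1).mul hσ, ?_, mapsZ ((hσ.inv.mul h1.1).mul hσ), fun x hx => ?_⟩ w).1 hw).2⟩⟩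
    · obtain ⟨k, hk⟩ := map_z h hσ
      rw [mul_ap, mul_ap, Perm.inv_eq_iff_eq, hσ.hom.map_inv h.c2.mem, ← hk]
      simp only
      rw [h1.1.hom.map_zpow h.c2.mem, h1.2.1, inv_zpow]
    · have h3 := (mapsZ hσ).mem hx
      have := HomOn.map_zp hσ.inv.hom h.c2.mem (map_z h hσ.inv) (h1.2.2.2 _ h3)
      rwa [hσ.inv.hom.map_mul (inv_mem h3.1) (h1.1.mem h3.1), hσ.inv.hom.map_inv h3.1, inv_ap] at this
  · obtain ⟨W', y', g', h'⟩ := (rr_of_essential h.rr.pg h.rr.sat hE).tv h.c2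
    obtain ⟨-, -, h3⟩ := refl_of hp2 h'
    obtain rfl : W = W' := Subgroup.ext fun x => (h2 τ h1 x).trans (h3 τ h1 x).symm
    have hle := h'.wle.trans h'.cenQ
    exact ⟨hle, fun σ hσ => (hσ.hom.mono hle).maps_of_mem fun w hw =>
      rs_apply hσ.maps (hle hw) ▸ h'.invW _ hσ.rs_mem w hw⟩

theorem elem (h : TV p F S Q W z y g) (hZ : ∀ x ∈ centralizerIn S S, x ^ p = 1) :
    ∀ q ∈ Q, q ^ p = 1 := fun q hq => by
  obtain ⟨j, hj⟩ := h.mid q hq
  rw [← inv_mul_cancel_right q (y ^ j), (h.comm _ (h.cenQ hj) _ (pow_mem h.yQ j)).mul_pow, hZ _ hj,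
    ← pow_mul, mul_comm j, pow_mul, h.yp, one_pow, mul_one]

theorem eq_of_mem (h : TV p F S Q W z y g) (h' : TV p F S Q' W' z y' g') (e : y' ∈ Q) : Q' = Q := by
  have h1 : Q ≤ Q' := fun q hq => h'.cy q (h.rr.lt.le hq) (h.comm _ hq _ e)
  exact le_antisymm (fun q hq => h.cy q (h'.rr.lt.le hq) (h'.comm _ hq _ (h1 h.yQ))) h1

section two
variable [Fact (Nat.Prime 2)]

theorem eq_z (hz : z ^ 2 = 1) {c : Ω} (hc : c ∈ zpowers z) (h : c ≠ 1) : c = z := by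
  obtain ⟨k, rfl⟩ := exists_pow_of_mem_zp hz hc h (mem_zpowers z)
  have h1 := pow_zp hz hc
  rcases Nat.even_or_odd' k with ⟨k, rfl | rfl⟩
  · rw [pow_mul, h1, one_pow] at hc
    exact absurd (by simpa using hc) h
  · rw [pow_succ, pow_mul, h1, one_pow, one_mul]

theorem two (h : TV 2 F S Q W z y g) {a b : Ω} (ha : a ∈ S) (hb : b ∈ S) (h1 : a ∉ Q) (h2 : b ∉ Q) :
    a⁻¹ * b ∈ Q := by
  have h3 : ∀ k ∈ S, k ∉ Q → k * y * k⁻¹ = z * y := fun k hk hk' => by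
    rw [← eq_z h.c2.ord (h.c2.comm k hk y (h.rr.lt.le h.yQ)) fun e =>
      hk' (h.cy k hk (commutatorElement_eq_one_iff_commute.1 e)), commutatorElement_def]
    group
  refine h.cy _ (mul_mem (inv_mem ha) hb) ?_
  calc a⁻¹ * b * y = a⁻¹ * (b * y * b⁻¹) * b := by group
    _ = y * (a⁻¹ * b) := by rw [h3 b hb h2, ← h3 a ha h1]; group

theorem claimA (h : TV 2 F S Q W z y g) (hZ : ∀ x ∈ centralizerIn S S, x ^ 2 = 1) {a b : Ω}
    (ha : a ∈ S) (hb : b ∈ S) (h1 : a ∉ Q) (h2 : b ∉ Q) (ha2 : a ^ 2 = 1) (hb2 : b ^ 2 = 1) :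
    a⁻¹ * b ∈ centralizerIn S S := by
  have h3 := two h ha hb h1 h2
  have h4 : Commute a b := by
    have := elem h hZ _ h3
    rw [pow_two] at this ha2 hb2
    rw [inv_eq_of_mul_eq_one_left ha2] at this
    calc a * b = a * (a * b * (a * b)) * b * (b * b)⁻¹ * b * (b⁻¹ * a⁻¹ * a⁻¹⁻¹) := by
          rw [this, hb2]; group
      _ = (a * a) * (b * a) * (b * b) * (b * b)⁻¹ := by group
      _ = b * a := by rw [ha2, hb2]; group
  refine ⟨h.rr.lt.le h3, fun k hk => ?_⟩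
  by_cases hk' : k ∈ Q
  · exact h.comm _ hk' _ h3
  · rw [← mul_inv_cancel_left a k]
    exact ((Commute.refl a).inv_right.mul_right h4).mul_left (h.comm _ (two h ha hk h1 hk') _ h3)

theorem mapsQ (h : TV 2 F S Q W z y g) (hZ : ∀ x ∈ centralizerIn S S, x ^ 2 = 1) {σ : Perm Ω}
    (hσ : Iso F S S σ) : Maps Q Q σ := by
  have := finite_autF_of_le F (le_refl S)
  have := finite_of_le h.rr.le
  have hy := h.rr.lt.le h.yQ
  have h1 : ∀ σ ∈ AutF F S, σ y ∈ Q → σ ∈ stab Q := fun σ hσ e => by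
    have hσ := iso_of_mem_autF le_rfl hσ
    refine (hσ.hom.mono h.rr.le).maps_of_mem fun q hq => ?_
    obtain ⟨j, hj⟩ := h.mid q hq
    rw [← inv_mul_cancel_right q (y ^ j), hσ.hom.map_mul hj.1 (pow_mem hy j), hσ.hom.map_pow hy]
    exact mul_mem (h.cenQ ((mapsZ hσ).mem hj)) (pow_mem e j)
  refine Maps.congr (le_of_pElt_of_coprime (p := 2) (K := stab Q) (fun τ hτ k hk => ?_)
    (fun τ hτ hc => mem_of_pow_mem_of_coprime hc ?_) hσ.rs_mem)
    fun x hx => rs_apply hσ.maps (h.rr.le hx)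
  · obtain ⟨γ, hγ, e⟩ := (sylIn_autF_top h.rr.pg h.rr.sat).exists_conj_mem hτ hk
    obtain ⟨s, hs, hN, e⟩ := mem_autBy.1 ((autF_le_normalizer_inn F S hγ τ).2 e)
    exact h1 τ hτ (by
      rw [← e, cr_apply hN hy]; exact conj_mem_of_normalizer (h.rr.norm h.c2 hs) h.yQ)
  · by_cases e : τ y ∈ Q
    · exact pow_mem (h1 τ hτ e) 2
    refine h1 _ (pow_mem hτ 2) ?_
    by_contra e'
    have hi := iso_of_mem_autF le_rfl hτ
    have h2 : τ y ^ 2 = 1 := by rw [← hi.hom.map_pow hy, h.yp, hi.hom.map_one]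
    have h3 := claimA h hZ (hi.mem hy) (hi.mem (hi.mem hy)) e e' h2
      (by rw [← hi.hom.map_pow (hi.mem hy), h2, hi.hom.map_one])
    rw [← hi.hom.map_inv hy, ← hi.hom.map_mul (inv_mem hy) (hi.mem hy), ← mapsZ hi] at h3
    exact e ((mul_mem_cancel_left (inv_mem h.yQ)).1 (h.cenQ h3))

theorem two_case (h : TV 2 F S Q W z y g) (hZ : ∀ x ∈ centralizerIn S S, x ^ 2 = 1)
    (hc : F.core = ⊥) (hf : F.focalSubgroup = S) : centralizerIn S S ≤ zpowers z := by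
  have hS := h.rr.pg
  have hF := h.rr.sat
  obtain ⟨Q', W', y', g', h', h1, h2⟩ : ∃ Q' W' y' g', TV 2 F S Q' W' z y' g' ∧ (W' = W ∨ y' ∉ Q) ∧
      ∀ E, F.IsEssential 2 E → E = Q ∨ E = Q' := by
    by_cases h0 : ∀ E, F.IsEssential 2 E → E = Q
    · exact ⟨Q, W, y, g, h, Or.inl rfl, fun E hE => Or.inl (h0 E hE)⟩
    push Not at h0
    obtain ⟨Q', h1, h2⟩ := h0
    obtain ⟨W', y', g', h'⟩ := (rr_of_essential hS hF h1).tv h.c2
    have h3 : y' ∉ Q := fun e => h2 (eq_of_mem h h' e)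
    refine ⟨Q', W', y', g', h', Or.inr h3, fun E hE => ?_⟩
    obtain ⟨W₂, y₂, g₂, h₂⟩ := (rr_of_essential hS hF hE).tv h.c2
    refine or_iff_not_imp_left.2 fun h4 => eq_of_mem h' h₂ ?_
    exact (mul_mem_cancel_left (inv_mem h'.yQ)).1 (h'.cenQ (claimA h hZ (h'.rr.lt.le h'.yQ)
      (h₂.rr.lt.le h₂.yQ) h3 (fun e => h4 (eq_of_mem h h₂ e)) h'.yp h₂.yp))
  have inv : ∀ {Q W y g}, TV 2 F S Q W z y g → ∀ {σ}, Iso F S S σ →
      (∀ w ∈ W, σ w ∈ W) ∧ y⁻¹ * σ y ∈ zpowers z ⊔ zpowers y := fun h σ hσ => by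
    have h1 := (hσ.restrict h.rr.le (mapsQ h hZ hσ)).rs_mem
    exact ⟨fun w hw => rs_apply (mapsQ h hZ hσ) (h.cenQ (h.wle hw)) ▸ h.invW _ h1 w hw,
      mul_mem (Subgroup.mem_sup_right (inv_mem (mem_zpowers _)))
        (rs_apply (mapsQ h hZ hσ) h.yQ ▸ h.invV _ h1)⟩
  have hX : W ⊓ W' = ⊥ := by
    have hle : W ⊓ W' ≤ centralizerIn S S := inf_le_left.trans h.wle
    have := finite_of_le (hle.trans inf_le_left)
    have h3 : ∀ {Q₁ W₁ y g}, TV 2 F S Q₁ W₁ z y g → W ⊓ W' ≤ W₁ → W ⊓ W' ≤ Q₁ ∧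
        ∀ σ, Iso F Q₁ Q₁ σ → Maps (W ⊓ W') (W ⊓ W') σ := fun h₁ e =>
      ⟨hle.trans h₁.cenQ, fun σ hσ => (hσ.hom.mono (hle.trans h₁.cenQ)).maps_of_mem fun x hx => by
        obtain ⟨δ, τ, a1, a2, -, a3⟩ := h₁.dec _ hσ.rs_mem
        have a4 : τ x ∈ W ⊓ W' := ⟨(inv h a1).1 x hx.1, (inv h' a1).1 x hx.2⟩
        rwa [← rs_apply hσ.maps (h₁.cenQ (hle hx)), (a3 x (h₁.cenQ (hle hx))).2, a2 _ (e a4)]⟩
    refine eq_bot_iff.2 (hc ▸ le_core (normal_of_base hS hF ?_))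
    rintro E (rfl | hE)
    · exact ⟨hle.trans inf_le_left, fun σ hσ => (hσ.hom.mono (hle.trans inf_le_left)).maps_of_mem
        fun x hx => ⟨(inv h hσ).1 x hx.1, (inv h' hσ).1 x hx.2⟩⟩
    · rcases h2 E hE with rfl | rfl
      exacts [h3 h inf_le_left, h3 h' inf_le_right]
  rcases h1 with rfl | h1
  · intro x hx
    obtain ⟨i, hi⟩ := h.low x hx
    exact mul_inv_eq_one.1 (Subgroup.mem_bot.1 (hX.le ⟨hi, hi⟩)) ▸ pow_mem (mem_zpowers z) i
  have hy' := h'.rr.lt.le h'.yQ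
  have hzM : z ∈ zpowers z ⊔ zpowers y ⊔ zpowers y' :=
    Subgroup.mem_sup_left (Subgroup.mem_sup_left (mem_zpowers z))
  have hM : zpowers z ⊔ zpowers y ⊔ zpowers y' ≤ S :=
    sup_le (h.vle.trans h.rr.le) (Subgroup.zpowers_le.2 hy')
  have hV' : zpowers z ⊔ zpowers y' ≤ zpowers z ⊔ zpowers y ⊔ zpowers y' :=
    sup_le_sup_right le_sup_left _
  have h3 : ∀ σ, Iso F S S σ → ∀ x ∈ S, x⁻¹ * σ x ∈ zpowers z ⊔ zpowers y ⊔ zpowers y' := by
    intro σ hσ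
    have hz : σ z = z := eq_z h.c2.ord (map_z h hσ) fun e =>
      h.zne (σ.injective (e.trans hσ.hom.map_one.symm))
    have a1 : Q ≤ fixMod (h.c2.norm hzM hM) hσ.hom := h.q_le.trans (sup_le (sup_le
      (Subgroup.zpowers_le.2 ⟨h.c2.mem, by rw [hz, inv_mul_cancel]; exact one_mem _⟩)
      (Subgroup.zpowers_le.2 ⟨h.rr.lt.le h.yQ, Subgroup.mem_sup_left (inv h hσ).2⟩)) fun w hw => by
        obtain ⟨i, hi⟩ := h'.low w (h.wle hw)
        have a2 := mul_mem (inv_mem hi) ((inv h' hσ).1 _ hi)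
        have hzi := pow_mem h.c2.mem i
        rw [hσ.hom.map_mul (h.wle hw).1 (inv_mem hzi), hσ.hom.map_inv hzi, hσ.hom.map_pow h.c2.mem,
          hz, mul_inv_rev, inv_inv, mul_assoc, ← mul_assoc w⁻¹, ← mul_assoc,
          ((h.c2.cent _ (mul_mem (inv_mem (h.wle hw).1) (hσ.mem (h.wle hw).1))).pow_right i).symm.eq,
          mul_inv_cancel_right] at a2
        exact ⟨(h.wle hw).1, Subgroup.mem_bot.1 (hX.le
          ⟨W.mul_mem (W.inv_mem hw) ((inv h hσ).1 w hw), a2⟩) ▸ one_mem _⟩)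
    intro x hx
    by_cases e : x ∈ Q
    · exact (a1 e).2
    · exact ((mul_mem_cancel_left (inv_mem (⟨hy', hV' (inv h' hσ).2⟩ :
        y' ∈ fixMod (h.c2.norm hzM hM) hσ.hom))).1 (a1 (two h hy' hx h1 e))).2
  have h4 : S ≤ zpowers z ⊔ zpowers y ⊔ zpowers y' := by
    have h4 : ∀ {Q₁ W₁ y₁ g}, TV 2 F S Q₁ W₁ z y₁ g → zpowers z ⊔ zpowers y₁ ≤
        zpowers z ⊔ zpowers y ⊔ zpowers y' → ∀ σ, Iso F Q₁ Q₁ σ → ∀ x ∈ Q₁,
          x⁻¹ * σ x ∈ zpowers z ⊔ zpowers y ⊔ zpowers y' := fun h₁ e σ hσ x hx => by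
      obtain ⟨δ, τ, a1, -, a2, a3⟩ := h₁.dec _ hσ.rs_mem
      have := mul_mem (h3 τ a1 x (h₁.rr.le hx)) (e (a2 _ (a3 x hx).1))
      rwa [mul_assoc, mul_inv_cancel_left, ← (a3 x hx).2, rs_apply hσ.maps hx] at this
    refine hf.ge.trans (focal_le_iff.2 (alperin_induction hS hF ?_ ?_ ?_))
    · exact fun P R σ τ _ h1 hP e x hx => e x hx ▸ h1 x (hP hx)
    · intro P P' R σ τ hσ _ h1 h2 x hx
      have := mul_mem (h1 x hx) (h2 _ (hσ.mem hx))
      rwa [mul_assoc, mul_inv_cancel_left] at this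
    · rintro E σ (rfl | hE) hσ
      · exact h3 σ hσ
      · rcases h2 E hE with rfl | rfl
        exacts [h4 h le_sup_left σ hσ, h4 h' hV' σ hσ]
  have := finite_of_le h.rr.le
  have := finite_of_le (centralizerIn_le S S)
  have h5 := H9.card_sup_zpowers Nat.prime_two (h.c2.norm (Subgroup.mem_sup_left (mem_zpowers z))
    (h.vle.trans h.rr.le) hy') (fun e => h1 (h.vle e)) (h'.yp ▸ one_mem _)
  rw [le_antisymm hM h4, h.card_v] at h5
  have h6 := mul_card_le_of_lt hS h.rr.lt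
  have h7 := mul_card_le_of_lt (hS.to_le h.rr.le) (lt_of_le_of_ne h.cenQ fun e =>
    h.gQ (h.cy g h.gP ((e.ge h.yQ).2 g h.gP)))
  exact (eq_of_le_of_card_le (Subgroup.zpowers_le.2
    (⟨h.c2.mem, h.c2.cent⟩ : z ∈ centralizerIn S S)) (by omega)).ge

end two

/-- Let p be a prime, S a nontrivial finite p-group whose centre has index at most p², and F a saturated fusion system over S with no nontrivial normal subgroup and with hyperfocal subgroup equal to S. Then S is extraspecial of order p³; for odd p it has exponent p, and for p = 2 it is dihedral of order 8. -/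
theorem result {Ω : Type*} [Group Ω] {S : Subgroup Ω} [Finite S] (p : ℕ) [Fact p.Prime] (hS : IsPGroup p ↥S) (F : Cfsg.FusionSystem S) (hF : F.IsSaturated p) (hS1 : S ≠ ⊥) (hcore : F.core = ⊥) (hhyp : F.hyperfocalSubgroup p = S) (hZ : (Subgroup.center ↥S).index ≤ p ^ 2) : Cfsg.IsExtraspecial p ↥S ∧ Nat.card S = p ^ 3 ∧ (p ≠ 2 → Monoid.exponent ↥S = p) ∧ (p = 2 → Nonempty (↥S ≃* DihedralGroup 4)) := by
  have hn : ∀ W, F.IsNormal W → W = ⊥ := fun W h => eq_bot_iff.2 (hcore ▸ le_core h)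
  obtain ⟨z, c, hz⟩ := exists_c2 hS (by
    rw [← Subgroup.map_subtype_commutator, Subgroup.card_map_of_injective S.subtype_injective]
    exact card_comm hS (fun h => hS1 (hn S (normal_of_sc_of_comm hS hF (H3.sc_top F)
      (Subgroup.le_centralizer S)))) hZ)
  obtain ⟨Q, hQ⟩ := exists_rr hS hF (H3.sc_top F) fun h => hS1 (hn S h)
  obtain ⟨W, y, g, h⟩ := hQ.tv c
  have hel : ∀ x ∈ centralizerIn S S, x ^ p = 1 := fun x hx => by
    refine Subgroup.mem_bot.1 ((hn _ (normal_mho_of_class hS hF (n := 1) (eq_bot_iff.2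
      ((S.lowerCentralSeries_antitone (?_ : 2 ≤ _)).trans ?_)))).le
        (Subgroup.subset_closure ⟨x, hx, by rw [pow_one]⟩))
    · have := (Fact.out : p.Prime).two_le
      omega
    · refine (Subgroup.commutator_eq_bot_iff_le_centralizer.2 (hz.ge.trans ?_)).le
      exact Subgroup.zpowers_le.2 c.cent
  have h1 : centralizerIn S S ≤ zpowers z := by
    by_cases hp2 : p = 2
    · subst hp2
      exact two_case h hel hcore (le_antisymm (focal_le F) (hhyp.ge.trans (hyp_le_focal F 2)))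
    · intro x hx
      obtain ⟨i, hi⟩ := h.low x hx
      exact mul_inv_eq_one.1 (Subgroup.mem_bot.1 ((hn W (odd_case hp2 h)).le hi)) ▸
        pow_mem (mem_zpowers z) i
  have hg : g ^ p ∈ zpowers z := h1 ⟨pow_mem h.gP p, fun x hx => by
    obtain ⟨k, hk⟩ := c.comm g h.gP x hx
    refine (commutatorElement_eq_one_iff_mul_comm.1 ?_).symm
    rw [H9.commutator_pow_left (hk ▸ (c.cent g h.gP).zpow_right k), pow_zp c.ord ⟨k, hk⟩]⟩
  have h2 := h.sup_eq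
  rw [sup_eq_left.2 (h.wle.trans (h1.trans (le_sup_left.trans le_sup_left)))] at h2
  have h3 := h.card_e hg
  have h4 := h.not_comm
  have h5 := fun e => h.dihedral e hg
  rw [h2] at h3 h4 h5
  refine ⟨extraspecial_of_card h3 h4, h3, fun hp2 => ?_, h5⟩
  have : Nontrivial S := (Subgroup.nontrivial_iff_ne_bot S).2 hS1
  exact (Monoid.exponent_eq_prime_iff Fact.out).2 fun a ha => orderOf_eq_prime
    (Subtype.ext (h.pow_eq_one hp2 hg (elem h hel) _ a.2)) ha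

end Cfsg.Agent.S5265
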