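import Cfsg.Statements.S5270
import Cfsg.Agent.H13.MaxCl2

set_option autoImplicit false
open Cfsg

namespace Cfsg.Agent.S5270

open H13 Equiv Cfsg.FusionSystem

/-- Let p ≥ 5 be a prime, S a finite p-group of maximal class of order p^n with n ≥ 4, and F a saturated fusion system over S. If some map of F defined on the second centre Z₂(S) with image Z₂(S) does not carry Z(S) into itself, then the centralizer C_S(Z₂(S)) is an F-essential subgroup. -/
theorem result {Ω : Type*} [Group Ω] {S : Subgroup Ω} [Finite S] (p : ℕ) [Fact p.Prime] (hS : IsPGroup p ↥S) (n : ℕ) (hn : Nat.card S = p ^ n) (h4 : 4 ≤ n) (hmax : Subgroup.lowerCentralSeries S (n - 2) ≠ ⊥) (F : Cfsg.FusionSystem S) (hF : F.IsSaturated p) (hp : 5 ≤ p) (φ : ↥((Subgroup.upperCentralSeries ↥S 2).map S.subtype) →* Ω) (hφ : φ ∈ F.Hom ((Subgroup.upperCentralSeries ↥S 2).map S.subtype)) (hφZ : φ.range = ((Subgroup.upperCentralSeries ↥S 2).map S.subtype)) (hmove : ∃ (z : Ω) (hz : z ∈ ((Subgroup.upperCentralSeries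 ↥S 2).map S.subtype)), z ∈ ((Subgroup.center ↥S).map S.subtype) ∧ φ ⟨z, hz⟩ ∉ ((Subgroup.center ↥S).map S.subtype)) : F.IsEssential p (S ⊓ Subgroup.centralizer (((Subgroup.upperCentralSeries ↥S 2).map S.subtype) : Set Ω)) := by
  obtain ⟨h, hc⟩ := MC.of_class hn (by omega) ((lc_ne_bot_iff S _).2 hmax)
  obtain ⟨m, rfl⟩ := Nat.exists_eq_add_of_le' h4
  have e1 := h.upper_two_eq (i := m) ((lc_ne_bot_iff S _).2 hmax)
    (Subgroup.card_eq_one.1 (by rw [hc _ (by omega)]; simp))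
  have e2 : Nat.card (Subgroup.upperCentralSeries S 2) = p ^ 2 := by rw [e1, hc _ (by omega)]; congr 1; omega
  let Z := (Subgroup.upperCentralSeries S 2).map S.subtype
  have hZS : Z ≤ S := Subgroup.map_subtype_le _
  have hN : S ≤ Subgroup.normalizer (Z : Set Ω) := le_normalizer_iff.2 (by
    rintro g hg _ ⟨x, hx, rfl⟩
    exact ⟨_, (inferInstance : (Subgroup.upperCentralSeries S 2).Normal).conj_mem x hx ⟨g, hg⟩, rfl⟩)
  obtain ⟨σ, hσ, e⟩ := exists_perm_of_mem hφ
  obtain ⟨τ, h1, h2, h3⟩ := receptive_extend_centralizer (receptive_of_fullyNormalized hS hF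
    (fullyNormalized_of_normal hZS hN)) (σ := σ) ⟨hσ, hσ.hom.maps_iff.2 ((range_eq_img φ e).symm.trans hφZ)⟩
  have hC : centralizerIn S Z = (Subgroup.centralizer (Subgroup.upperCentralSeries S 2 : Set S)).map S.subtype := by
    ext g
    refine ⟨fun hg => ⟨⟨g, hg.1⟩, fun x hx => Subtype.ext (hg.2 _ ⟨x, hx, rfl⟩), rfl⟩, ?_⟩
    rintro ⟨g, hg, rfl⟩
    exact ⟨g.2, by rintro _ ⟨x, hx, rfl⟩; exact congrArg Subtype.val (hg x hx)⟩
  have hZC : Z ≤ centralizerIn S Z := by
    rw [hC]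
    refine Subgroup.map_mono fun x hx y hy => commutatorElement_eq_one_iff_mul_comm.1 ?_
    rw [e1] at hx hy
    exact (Subgroup.card_eq_one.1 (by rw [hc _ (by omega), show m + 4 - 1 - (m + 1 + (m + 1) + 1) = 0 by omega]; simp)).le
      (comm_mem_lc hy hx)
  obtain ⟨z, hz, hz1, hz2⟩ := hmove
  have hY : (Subgroup.center S).map S.subtype = centralizerIn S S := by
    ext g
    refine ⟨?_, fun hg => ⟨⟨g, hg.1⟩, Subgroup.mem_center_iff.2 fun x => Subtype.ext (hg.2 x x.2), rfl⟩⟩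
    rintro ⟨g, hg, rfl⟩
    exact ⟨g.2, fun x hx => congrArg Subtype.val (Subgroup.mem_center_iff.1 hg ⟨x, hx⟩)⟩
  rw [hY] at hz1 hz2
  rw [e, ← h2 z hz] at hz2
  have hlt : centralizerIn S Z < S := lt_of_le_not_ge (centralizerIn_le _ _) fun h5 =>
    hz2 ⟨hZS (hφZ.le ⟨⟨z, hz⟩, (e _).trans (h2 z hz).symm⟩), fun x hx =>
      ((h5 hx).2 _ (hφZ.le ⟨⟨z, hz⟩, (e _).trans (h2 z hz).symm⟩)).symm⟩
  have h5 := (h1.restrict le_sup_right).iso_self h3
  refine (essential_iff_hf hS hF hlt (fullyNormalized_of_normal hlt.le fun g hg =>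
    normalizer_inf (S.le_normalizer hg) (normalizer_centralizer (hN hg)))).2 fun h6 => hz2 ?_
  have h7 : HF F (centralizerIn S Z) ≤ stab (centralizerIn S S) := (Subgroup.closure_le _).2 (by
    rintro α ⟨-, R, υ, h7, h8, h9⟩
    haveI := finite_of_le hlt.le
    have h10 : R = S := (eq_or_eq_of_card_le' hS h7.le h8.le (by
      rw [hC, Subgroup.card_map_of_injective S.subtype_injective,
        ← (Subgroup.centralizer (Subgroup.upperCentralSeries S 2 : Set S)).index_mul_card]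
      exact Nat.mul_le_mul_right _ (H9.index_centralizer_le_prime hS _ e2))).resolve_left h7.ne'
    subst h10
    exact (h8.hom.maps_centralizerIn h8.iso_top.maps le_rfl h8.iso_top.maps).congr fun x hx =>
      h9 x (centralizerIn_mono le_rfl hZS hx))
  have := (mem_stab.1 (h7 (h6.ge h5.rs_mem))).mem hz1
  rwa [rs_apply h5.maps (hZC hz)] at this

end Cfsg.Agent.S5270
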