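import Cfsg.Statements.S5296
import Cfsg.Agent.H3.FSmall

set_option autoImplicit false
universe u
open Cfsg

namespace Cfsg.Agent.S5296

/-- Small-exponent abelian subgroups of the hyperfocal subgroup control fusion. Let E and F be saturated fusion systems over the same finite p-group S with E contained in F. Suppose that E and F have the same maps between A and B for all subgroups A, B of the hyperfocal subgroup of F that are elementary abelian when p is odd, respectively abelian of exponent dividing 4 when p = 2. Then E = F. -/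
theorem result {Ω : Type u} [Group Ω] {S : Subgroup Ω} [Finite S] (p : ℕ) [Fact p.Prime] (hS : IsPGroup p S)
    (E F : Cfsg.FusionSystem S) (hE : E.IsSaturated p) (hF : F.IsSaturated p) (hEF : E.IsSubsystemOf F)
    (hodd : p ≠ 2 → ∀ A B : Subgroup Ω, A ≤ (F.hyperfocalSubgroup p) → B ≤ (F.hyperfocalSubgroup p) →
      Cfsg.IsElementaryAbelian p A → Cfsg.IsElementaryAbelian p B → E.homSet A B = F.homSet A B)
    (htwo : p = 2 → ∀ A B : Subgroup Ω, A ≤ (F.hyperfocalSubgroup p) → B ≤ (F.hyperfocalSubgroup p) →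
      IsMulCommutative ↥A → IsMulCommutative ↥B → (∀ a ∈ A, a ^ 4 = 1) → (∀ b ∈ B, b ^ 4 = 1) → E.homSet A B = F.homSet A B) :
    ∀ P : Subgroup Ω, E.Hom P = F.Hom P := by
  refine fun P => Set.Subset.antisymm (hEF P) (H3.sub_of_small_abelian hS hF hE hEF
    (fun A h1 h2 h3 σ hσ => ?_) P)
  have h4 : H13.img σ A ≤ F.hyperfocalSubgroup p := H13.img_le_iff.2 fun x hx =>
    H13.sc_mem (H13.sc_hyp hS hF) hσ hx (h1 hx)
  have h5 : ∀ n, IsElementaryAbelian n A → IsElementaryAbelian n (H13.img σ A) := fun n h =>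
    H4.elemAb_iff.2 ⟨fun a ha b hb => by
      obtain ⟨a, ha', rfl⟩ := hσ.hom.mem_img.1 ha
      obtain ⟨b, hb', rfl⟩ := hσ.hom.mem_img.1 hb
      rw [← hσ.hom.map_mul ha' hb', ← hσ.hom.map_mul hb' ha', H4.elemAb_comm h ha' hb'],
      fun a ha => by
      obtain ⟨a, ha', rfl⟩ := hσ.hom.mem_img.1 ha
      rw [← hσ.hom.map_pow ha', h.2 a ha', hσ.hom.map_one]⟩
  have h6 : E.homSet A (H13.img σ A) = F.homSet A (H13.img σ A) := by
    by_cases hp : p = 2
    · have h7 : IsElementaryAbelian 4 A := ⟨h2, fun a ha => (h3 a ha).elim (fun h => by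
        rw [show 4 = p * 2 by omega, pow_mul, h, one_pow]) fun h => h.2⟩
      exact htwo hp A _ h1 h4 h2 (h5 4 h7).1 h7.2 (h5 4 h7).2
    · have h7 : IsElementaryAbelian p A := ⟨h2, fun a ha => (h3 a ha).resolve_right fun h => hp h.1⟩
      exact hodd hp A _ h1 h4 h7 (h5 p h7)
  exact ⟨_, (h6.ge ⟨hσ.toHom_mem, fun y => H13.mem_img_of_mem σ y.2⟩).1, fun _ => rfl⟩

end Cfsg.Agent.S5296
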