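import Cfsg.Statements.S5289
import Cfsg.Agent.H13.Rk2Res

set_option autoImplicit false
open Cfsg

namespace Cfsg.Agent.S5289

open H13 Equiv Cfsg.FusionSystem

/-- Let p ≥ 5 be a prime and S a finite p-group of p-rank two (it has an elementary abelian subgroup of order p² and none of order p³) which is not the extraspecial group of order p³ and exponent p. Then S is resistant: for every saturated fusion system F over S, S is normal in F, that is, every map of F extends to an F-automorphism of S. -/
theorem result {Ω : Type*} [Group Ω] {S : Subgroup Ω} [Finite S] (p : ℕ) [Fact p.Prime] (hS : IsPGroup p S)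
    (F : Cfsg.FusionSystem S) (hF : F.IsSaturated p)
    (hp : 5 ≤ p)
    (hrank2 : ∃ E : Subgroup Ω, E ≤ S ∧ Cfsg.IsElementaryAbelian p E ∧ Nat.card E = p ^ 2)
    (hrank3 : ∀ E : Subgroup Ω, E ≤ S → Cfsg.IsElementaryAbelian p E → Nat.card E ≤ p ^ 2)
    (hnotE : ¬ (Nat.card S = p ^ 3 ∧ Monoid.exponent ↥S = p)) : F.IsNormal S := by
  obtain ⟨F', h1, h2, h3, -⟩ := exists_top hS F
  rw [← h3 S le_rfl, Subgroup.subgroupOf_self]
  refine normal_top_of_no_essential (pg_top hS) (h1.2 hF) fun E hE => no_essential_rank_two hp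
    (H9.prank_iff.2 hrank3) (fun h => hnotE ⟨h.1, ?_⟩) ⟨hS, h1.2 hF, hE⟩
  haveI : Nontrivial S := Finite.one_lt_card_iff_nontrivial.1
    (h.1 ▸ Nat.one_lt_pow three_ne_zero (Fact.out : p.Prime).one_lt)
  exact (Monoid.exponent_eq_prime_iff Fact.out).2 fun g hg => orderOf_eq_prime (h.2 g) hg

end Cfsg.Agent.S5289
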