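import Cfsg.Statements.S5299
import Cfsg.Agent.H14.Grp
import Cfsg.Agent.H4.Sec

set_option autoImplicit false
universe u
set_option linter.unusedVariables false
set_option linter.style.haveILetI false
open Cfsg Cfsg.FusionSystem Equiv H13 H14.Fus
open scoped commutatorElement

namespace Cfsg.Agent.S5299

/-- Let F be a saturated fusion system over a finite p-group S, H a finite group and Q a p-subgroup of H. If Q is not involved in S (no section of S is isomorphic to Q), then F is H-free: H is involved in no model of the normalizer system of a fully normalized centric subgroup. -/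
theorem result {Ω : Type u} [Group Ω] {S : Subgroup Ω} [Finite S] (p : ℕ) [Fact p.Prime] (hS : IsPGroup p S)
    (F : Cfsg.FusionSystem S) (hF : F.IsSaturated p) (H : Type*) [Group H] [Finite H] (Q : Subgroup H) (hQ : IsPGroup p Q)
    (hfree : ¬ Cfsg.Involves (↥Q) (↥S)) : F.IsSectionFree p H := by
  rintro R - - N - L _ ι hm ⟨K, R', hn, e⟩
  obtain ⟨_, -, ⟨T, hT⟩, -⟩ := hm
  obtain ⟨K, φ, -, hφ⟩ := (H4.isSec_iff.2 ⟨K, R', hn, le_top, e⟩).trans
    (⟨Q, MonoidHom.id _, le_top, Function.surjective_id⟩ : H4.IsSec Q (⊤ : Subgroup H))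
  obtain ⟨U⟩ : Nonempty (Sylow p K) := inferInstance
  have h1 : (U : Subgroup K).map φ = ⊤ :=
    ((sylIn_top (U.mapSurjective hφ)).eq_of_isPGroup (hQ.to_subgroup ⊤))
  have h2 : H4.IsSec Q ((U : Subgroup K).map K.subtype) := by
    refine H4.IsSec.map K.subtype_injective (H4.IsSec.of_map (f := φ) ?_)
    exact ⟨⊤, (⊤ : Subgroup Q).subtype, h1.ge, fun x => ⟨⟨x, trivial⟩, rfl⟩⟩
  obtain ⟨g, -, hg⟩ := (sylIn_top T).exists_conj (U.2.map K.subtype) le_top
  have h3 : H4.IsSec Q ι.range := (h2.map (f := (MulAut.conj g).toMonoidHom) (MulAut.conj g).injective).mono (by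
    rintro _ ⟨x, hx, rfl⟩; exact hT ▸ hg x hx)
  obtain ⟨K, R, hn, -, e⟩ := H4.isSec_iff.1 (h3.of_range.mono (normalizerIn_le S R)).top_subgroup
  exact hfree ⟨K, R, hn, e⟩

end Cfsg.Agent.S5299
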