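import Cfsg.Statements.S5308
import Cfsg.Agent.H14.Comp

set_option autoImplicit false
set_option linter.unusedVariables false
set_option linter.style.haveILetI false
open Cfsg Cfsg.FusionSystem Equiv H13 H14.Fus
open scoped commutatorElement

namespace Cfsg.Agent.S5308

/-- A saturated fusion system F over a finite p-group S has a generalized Fitting subsystem — a central product of the inner fusion system of O_p(F) (the largest subgroup of S normal in F) with a layer of F — and every generalized Fitting subsystem of F is a normal subsystem of F. -/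
theorem result {Ω : Type*} [Group Ω] {S : Subgroup Ω} [Finite S] (p : ℕ) [Fact p.Prime] (hS : IsPGroup p S) (F : Cfsg.FusionSystem S) (hF : F.IsSaturated p) :
    (∃ (U : Subgroup Ω) (D : Cfsg.FusionSystem U), D.IsGeneralizedFittingOf F p) ∧
      ∀ (U : Subgroup Ω) (D : Cfsg.FusionSystem U), D.IsGeneralizedFittingOf F p → D.IsNormalIn F p := by
  have := finite_of_le (H13.core_le F)
  refine ⟨?_, fun U D ⟨T, E, h1, h2⟩ => ?_⟩
  · obtain ⟨T, E, hE⟩ := exists_layer hS hF
    have := finite_of_le (nrm_le hE.1)
    obtain ⟨D, hD⟩ := (layer_cpData hS hF hE).exists_cp rfl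
    exact ⟨_, D, T, E, hE, isCentralProductOf_iff.2 hD⟩
  · have := finite_of_le (nrm_le h1.1)
    exact (isCentralProductOf_iff.1 h2).normalIn hS hF (inner_normalIn hS hF (core_normal F)) h1.1

end Cfsg.Agent.S5308
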