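import Cfsg.Statements.S5309
import Cfsg.Agent.H14.ZLift

set_option autoImplicit false
set_option linter.unusedVariables false
set_option linter.style.haveILetI false
open Cfsg Cfsg.FusionSystem Equiv H13 H14.Fus
open scoped commutatorElement

namespace Cfsg.Agent.S5309

/-- Self-centralizing property of the generalized Fitting subsystem. Let F be a saturated fusion system over a finite p-group S and D a generalized Fitting subsystem of F, over U. Then the centre of D is the largest subgroup Y of C_S(U) centralized by D in F, in the sense that every map of D extends to a map of F fixing Y elementwise: the centre of D is such a subgroup, and every such Y lies in the centre of D. -/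
theorem result {Ω : Type*} [Group Ω] {S : Subgroup Ω} [Finite S] (p : ℕ) [Fact p.Prime] (hS : IsPGroup p S) (F : Cfsg.FusionSystem S) (hF : F.IsSaturated p)
    {U : Subgroup Ω} (D : Cfsg.FusionSystem U) (hD : D.IsGeneralizedFittingOf F p) :
    (D.center ≤ Cfsg.FusionSystem.centralizerIn S U ∧ ∀ P : Subgroup Ω, D.Hom P ⊆ F.centralizerHom D.center P) ∧
      ∀ Y : Subgroup Ω, Y ≤ Cfsg.FusionSystem.centralizerIn S U →
        (∀ P : Subgroup Ω, D.Hom P ⊆ F.centralizerHom Y P) → Y ≤ D.center := by
  have := finite_of_le (H13.core_le F)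
  obtain ⟨V, E, h1, h2⟩ := hD
  have := finite_of_le (nrm_le h1.1)
  have h3 := isCentralProductOf_iff.1 h2
  have h4 := h3.normalIn hS hF (inner_normalIn hS hF (core_normal F)) h1.1
  have hU := nrm_le h4
  have := finite_of_le hU
  have h5 : Cen D D D.center := ⟨le_inf (H13.center_le D) D.center_le_centralizer,
    fun P f hf => cExt_of_central (center_central D) hf⟩
  refine ⟨(cen_iff hU).1 (h5.mono_sys (nrm_sub h4)), fun Y a1 a2 => ?_⟩
  have a3 := (cen_iff hU).2 ⟨a1, a2⟩
  obtain ⟨M, b1, b2⟩ := exists_csub' hS hF h4
  have := finite_of_le (nrm_le b1)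
  have b3 := constrained_of_no_comp (hS.to_le (nrm_le b1)) (nrm_sat b1) fun W C hC => by
    have c1 := comp_up hC (subnormal_of_normal b1)
    exact (b2.of_sub (comp_sub (nrm_sat b1) hC)).not_le hS (comp_le hF c1) hC.2
      ((le_of_isSubsystemOf (h1.2.1 W C c1)).trans h3.le₂)
  have b4 := ((nrm_inv b1).core_le_core hS hF).trans h3.le₁
  have b5 : CS D F p ≤ U := le_trans (le_trans (le_inf le_rfl (cs_le_cent.trans
    ((centralizerIn_le_centralizer _ _).trans (Subgroup.centralizer_le b4))))
    (constrained_iff.1 b3).2) b4
  exact H13.le_center (a3.central hS hU (nrm_sat h4) ((a3.le_cs hS hF h4).trans b5) le_rfl)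

end Cfsg.Agent.S5309
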