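import Cfsg.Statements.S5343
import Cfsg.Agent.H14.Grp

set_option autoImplicit false
universe u
set_option linter.unusedVariables false
set_option linter.style.haveILetI false
open Cfsg Cfsg.FusionSystem Equiv H13 H14.Fus
open scoped commutatorElement

namespace Cfsg.Agent.S5343

/-- Let F be a simple saturated fusion system over a finite p-group S that is realized by some finite group on a Sylow p-subgroup. Then F is realized by a finite simple group on a Sylow p-subgroup. -/
theorem result {Ω : Type u} [Group Ω] {S : Subgroup Ω} [Finite S] (p : ℕ) [Fact p.Prime] (hS : IsPGroup p S) (F : Cfsg.FusionSystem S) (hsimple : F.IsSimple p) (hreal : F.IsRealizable p) : ∃ (G : Type u) (_ : Group G) (_ : Finite G) (_ : IsSimpleGroup G) (ι : ↥S →* G), F.IsRealizedBy ι ∧ ∃ T : Sylow p G, (T : Subgroup G) = ι.range := by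
  obtain ⟨G, _, _, ι, h1, h2⟩ := hreal
  have h2 := sylIn_top_iff.2 h2
  induction hn : Nat.card G using Nat.strong_induction_on generalizing G with
  | _ n ih =>
  by_cases hG : IsSimpleGroup G
  · exact ⟨G, inferInstance, inferInstance, hG, ι, h1, sylIn_top_iff.1 h2⟩
  have h := realized_iff.1 h1
  have hs := h.simple hS hsimple
  haveI : Nontrivial G := by
    by_contra h
    rw [not_nontrivial_iff_subsingleton] at h
    exact hs.2.1 (Subsingleton.elim _ _)
  obtain ⟨N, hN, hN1, hN2⟩ : ∃ N : Subgroup G, N.Normal ∧ N ≠ ⊥ ∧ N ≠ ⊤ := by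
    by_contra hc
    push Not at hc
    exact hG ⟨fun N hN => by by_cases e : N = ⊥; exacts [Or.inl e, Or.inr (hc N hN e)]⟩
  rcases hs.2.2 _ _ (normalIn_ofSubgroup h2 (le_top (a := N)) (Subgroup.normalizer_eq_top N).ge) with h3 | ⟨h3, h4⟩
  · have hπ := homOn_hom ⊤ (QuotientGroup.mk' N)
    have e1 : img (QuotientGroup.mk' N) ⊤ = ⊤ := by rw [img_hom, ← MonoidHom.range_eq_map, QuotientGroup.range_mk']
    have e2 : img (QuotientGroup.mk' N) ι.range = ((QuotientGroup.mk' N).comp ι).range := by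
      rw [img_hom, MonoidHom.map_range]
    have h5 : FIso _ _ _ := ⟨fac_ofSubgroup h2 hπ e1 e2 le_top, (hπ.mono le_top).injOn_iff.2 fun x hx e =>
      Subgroup.mem_bot.1 (h3 ▸ ⟨hx, (QuotientGroup.eq_one_iff x).1 e⟩)⟩
    refine ih _ ?_ (G ⧸ N) _ inferInstance ((QuotientGroup.mk' N).comp ι) (realized_iff.2 ((h5.comp h).congr fun x hx => ?_))
      (sylIn_top_iff.1 (e1 ▸ e2 ▸ h2.img hπ)) (e1 ▸ e2 ▸ h2.img hπ) rfl
    · rw [← hn, Subgroup.card_eq_card_quotient_mul_card_subgroup N]
      exact lt_mul_of_one_lt_right Nat.card_pos ((Subgroup.one_lt_card_iff_ne_bot N).2 hN1)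
    · rw [fn_apply _ hx, fn_apply _ hx]; rfl
  · have hle : ι.range ≤ N := h3.ge.trans inf_le_right
    have e : fusionSystemOfSubgroup ⊤ ι.range le_top = fusionSystemOfSubgroup N ι.range hle := by
      refine fs_ext_mor fun P f => ?_
      rw [← hom_eq_iff.1 (h4 P), mor_ofSubgroup_iff, mor_ofSubgroup_iff, h3]
    rw [e] at h
    obtain ⟨ι', h5, h6, -⟩ := exists_realized h
    have h7 := (sylIn_subtype_iff h6).2 (h2.mono hle le_top)
    refine ih _ ?_ N _ inferInstance ι' h5 (sylIn_top_iff.1 h7) h7 rfl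
    rw [← hn, ← Subgroup.card_top (G := G)]
    exact card_lt_of_lt (lt_top_iff_ne_top.2 hN2)

end Cfsg.Agent.S5343
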