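import Cfsg.Statements.S5460
import Cfsg.Agent.H1.I7

set_option autoImplicit false
open Cfsg

namespace Cfsg.Agent.S5460

open H1.Lf H28 Subgroup
theorem core2 {Y : Type*} [Group Y] (j : Y ≃* Spor.Fi22) : (∃ E : Set Y, IsThreeTranspositionClass E ∧ IsOfTypeM22 _ E) ∧
    ∃ d : Y, orderOf d = 2 ∧ IsQuasisimple ↥(centralizer {d}) ∧ (∃ (K : Type) (_ : Field K) (_ : Fintype K), Fintype.card K = 4 ∧
      ∃ _ : ((zpowers d).subgroupOf (centralizer {d})).Normal, Nonempty (↥(centralizer {d}) ⧸ (zpowers d).subgroupOf (centralizer {d}) ≃*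
        PSU 6 K 2)) ∧ ∃ g, g * d * g⁻¹ ∈ centralizer {d} ∧ g * d * g⁻¹ ≠ d := by
  have := psu_simple
  obtain ⟨D, h⟩ := m22_ex j
  obtain ⟨t, ht⟩ := h.ne
  obtain ⟨a, b, c⟩ := lv_cent h.lv psu_center (fun m hm => h.gts m (by omega)) h.rl7 (by norm_num) ht
  exact ⟨⟨D, h.lv.isClass ht, h.type⟩, t, h.tt.1 t ht, a, ⟨GF4, _, _, gf4_card, b⟩, c⟩
theorem core3 {Y : Type*} [Group Y] (j : Y ≃* Spor.Fi23) : ∃ t : Y, orderOf t = 2 ∧ IsQuasisimple ↥(centralizer {t}) ∧
    (∃ _ : ((zpowers t).subgroupOf (centralizer {t})).Normal, Nonempty (↥(centralizer {t}) ⧸ (zpowers t).subgroupOf (centralizer {t}) ≃*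
      Spor.Fi22)) ∧ (∃ g, g * t * g⁻¹ ∈ centralizer {t} ∧ g * t * g⁻¹ ≠ t) ∧ IsThreeTranspositionClass (conjugatesOf t) ∧
      IsOfTypeM23 Y (conjugatesOf t) := by
  have := fi22_simple
  obtain ⟨D, h⟩ := m23_ex j
  obtain ⟨t, ht⟩ := h.ne
  obtain ⟨a, b, c⟩ := lv_cent h.lv fi22_center (fun m hm => h.gts m (by omega)) h.rl7 (by norm_num) ht
  have u : conjugatesOf t = D := Set.ext fun y => ⟨fun hy => let ⟨g, e⟩ := isConj_iff.1 hy; e ▸ h.lv.tg.2.1 g t ht,
    fun hy => isConj_iff.2 (h.lv.cls t ht y hy)⟩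
  exact ⟨t, h.tt.1 t ht, a, b, c, u ▸ h.lv.isClass ht, u ▸ h.type⟩

/-- Let X be a finite group with a subgroup G₀ of index 2 that is of large Fischer type at an involution z central in some Sylow 2-subgroup of G₀ (the generalized Fitting subgroup Q of the centralizer C of z in G₀ is extraspecial of order 2^13, C has normal subgroups Q ≤ H₁ ≤ H₂ with H₁/Q of order 3, H₂/H₁ isomorphic to the projective special unitary group of dimension 4 over the field with nine elements and H₂ of index 2 in C, and some G₀-conjugate of z other than z lies in Q), and suppose the generalized Fitting subgroup of the centralizer of z in X is Q as well. Then there is an involution d of X outside G₀ commuting with z, and an involution t of the centralizer Y of d in G₀, such that: the centralizer of t in Y is quasisimple; its quotient by the subgroup generated by t is of type M(22) for some generating conjugacy class of 3-transpositions and has an involution whose own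 centralizer is quasisimple, with quotient by it the projective special unitary group of dimension 6 over the field with four elements, and which is not weakly closed in that centralizer; t is not weakly closed in its centralizer in Y; and the conjugacy class of t in Y is a class of 3-transpositions generating Y with respect to which Y is of type M(23). -/
theorem result {X : Type*} [Group X] [Finite X] (G₀ : Subgroup X) (hidx : G₀.index = 2) (z : ↥G₀) (Q : Subgroup (Subgroup.centralizer ({z} : Set ↥G₀))) [Q.Normal] (hF : Cfsg.IsOfLargeFischerTypeAt z Q) (hcentral : ∃ P : Sylow 2 ↥G₀, z ∈ (P : Subgroup ↥G₀) ∧ ∀ x ∈ (P : Subgroup ↥G₀), Commute x z) (hFX : (Cfsg.generalizedFittingSubgroup ↥(Subgroup.centralizer ({(z : X)} : Set X))).map (Subgroup.subtype _) = ((Q.map (Subgroup.subtype _)).map G₀.subtype)) : ∃ d : X, orderOf d = 2 ∧ d ∉ G₀ ∧ Commute d (z : X) ∧ ∃ t : ↥(G₀ ⊓ Subgroup.centralizer ({d} : Set X)), orderOf t = 2 ∧ Cfsg.IsQuasisimple ↥(Subgroup.centralizer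 ({t} : Set ↥(G₀ ⊓ Subgroup.centralizer ({d} : Set X)))) ∧ (∃ (_ : ((Subgroup.zpowers t).subgroupOf (Subgroup.centralizer ({t} : Set ↥(G₀ ⊓ Subgroup.centralizer ({d} : Set X))))).Normal), (∃ E : Set (↥(Subgroup.centralizer ({t} : Set ↥(G₀ ⊓ Subgroup.centralizer ({d} : Set X)))) ⧸ (Subgroup.zpowers t).subgroupOf (Subgroup.centralizer ({t} : Set ↥(G₀ ⊓ Subgroup.centralizer ({d} : Set X))))), Cfsg.IsThreeTranspositionClass E ∧ Cfsg.IsOfTypeM22 _ E) ∧ ∃ d' : ↥(Subgroup.centralizer ({t} : Set ↥(G₀ ⊓ Subgroup.centralizer ({d} : Set X)))) ⧸ (Subgroup.zpowers t).subgroupOf (Subgroup.centralizer ({t} : Set ↥(G₀ ⊓ Subgroup.centralizer ({d} : Set X)))), orderOf d' = 2 ∧ Cfsg.IsQuasisimple ↥(Subgroup.centralizer ({d'} : Set _)) ∧ (∃ (K : Type) (_ : Field K) (_ : Fintype K), Fintype.card K = 4 ∧ ∃ _ : ((Subgroup.zpowers d').subgroupOf (Subgroup.centralizer ({d'} : Set _))).Normal, Nonempty (↥(Subgroup.centralizer ({d'} : Set _)) ⧸ (Subgroup.zpowers d').subgroupOf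 (Subgroup.centralizer ({d'} : Set _)) ≃* Cfsg.PSU 6 K 2)) ∧ ∃ g, g * d' * g⁻¹ ∈ Subgroup.centralizer ({d'} : Set _) ∧ g * d' * g⁻¹ ≠ d') ∧ (∃ g : ↥(G₀ ⊓ Subgroup.centralizer ({d} : Set X)), g * t * g⁻¹ ∈ Subgroup.centralizer ({t} : Set ↥(G₀ ⊓ Subgroup.centralizer ({d} : Set X))) ∧ g * t * g⁻¹ ≠ t) ∧ Cfsg.IsThreeTranspositionClass (conjugatesOf t) ∧ Cfsg.IsOfTypeM23 ↥(G₀ ⊓ Subgroup.centralizer ({d} : Set X)) (conjugatesOf t) := by
  obtain ⟨i, rfl⟩ := lf_iso hF
  obtain ⟨e, k⟩ := ext_iso hidx i (cen_le hFX)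
  have ha := q4.1 _ List.mem_cons_self
  obtain ⟨n, ⟨j⟩⟩ := cent_out i e k ha
  obtain ⟨t, a, b, ⟨c, ⟨j'⟩⟩, d⟩ := core3 j
  exact ⟨_, (e.symm.orderOf_eq _).trans (lv24.tg.1.1 _ ha), n, Commute.of_map e.injective (by
    rw [k, e.apply_symm_apply]; exact q4.comm_prod List.mem_cons_self), t, a, b, ⟨c, core2 j'⟩, d⟩

end Cfsg.Agent.S5460
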