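import Cfsg.Statements.S5461
import Cfsg.Agent.H1.I7
import Cfsg.Agent.S5415

set_option autoImplicit false
open Cfsg

namespace Cfsg.Agent.S5461

open H1.Lf H13 H27 Subgroup
open scoped commutatorElement
/-- generators of a Sylow `3`-subgroup of `M24` -/
def nS : List Net := [(.cons 1 0x105155 (.cons 2 0x132003 (.cons 4 0x1010f (.cons 8 0xd6 (.cons 16 0xb6 (.cons 8 0x20 (.cons 4 0x80300 (.cons 2 0x201210 (.cons 1 0x14044 .nil))))))))),
  (.cons 1 0x155415 (.cons 2 0x232200 (.cons 4 0x50d09 (.cons 8 0xf (.cons 16 0x67 (.cons 8 0x24 (.cons 4 0x40f00 (.cons 2 0x322210 (.cons 1 0x511414 .nil))))))))),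
  (.cons 1 0x100004 (.cons 2 0x323222 (.cons 4 0xc0400 (.cons 8 0x48 (.cons 16 0xfa (.cons 8 0xd8 (.cons 4 0xc0000 (.cons 2 0x323020 (.cons 1 0x100044 .nil)))))))))]
theorem cm3 : ∃ p q : MM, Commute p x3a ∧ Commute q x3a ∧ ⁅p, q⁆ = x3a := by
  have a := actsL_mm (Ns := nS) (by decide +kernel)
  simp only [nS, List.map_cons, List.map_nil, ActsL, List.forall₂_cons] at a
  obtain ⟨a, b, c, -⟩ := a
  have r := ActsL.prod_eq_mm (.cons a (.cons c .nil)) (.cons b (.cons c (.cons a .nil))) (by decide +kernel)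
  have m := ActsL.mem_cent (.cons a (.cons c .nil)) b (by decide +kernel)
  obtain ⟨k, e⟩ := conj_x3a (b.mm_order Nat.prime_three (by decide +kernel)) (by
    rw [b.fixF_eq (x := 0x110b08) (by decide +kernel), card_gfs]; decide +kernel)
  generalize mm _ = A at *
  generalize mm _ = B at *
  generalize mm _ = C at *
  have e' : x3a = k⁻¹ * B * k⁻¹⁻¹ := by rw [e]; group
  have n : ∀ x ∈ [A, C], Commute (k⁻¹ * x * k⁻¹⁻¹) x3a := fun x hx =>
    e' ▸ (H28.commute_conj_iff ..).2 (H28.mem_cent1.1 (m x hx)).symm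
  refine ⟨_, _, n A (by simp), n C (by simp), ?_⟩
  rw [e', ← conjugate_commutatorElement, commutatorElement_def, show A * C = B * (C * A) by simpa using r]; group

/-- Let G be a finite group of Monster type at the involution z with Q the extraspecial normal subgroup of order 2^25 of C_G(z) (C_G(z)/Q identified with the first Conway group with Q modulo its centre the Leech lattice modulo 2, z not weakly closed in Q). Let s be a conjugate of z (in G) lying in Q and other than z, and Y a subgroup of order 3 of the joint centralizer of z and s lying in the centre of some Sylow 3-subgroup of it. Then the centralizer of Y is quasisimple, its quotient by Y is isomorphic to the commutator subgroup of the presented Fischer group Fi₂₄, and the normalizer of Y modulo Y is generated by a conjugacy class of 3-transpositions with respect to which it is of type M(24). -/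
theorem result {G : Type*} [Group G] [Finite G] (z : G) (Q : Subgroup (Subgroup.centralizer ({z} : Set G))) [Q.Normal] (hM : Cfsg.IsOfMonsterType z Q) (s : G) (hsQ : ∃ hsc : s ∈ Subgroup.centralizer ({z} : Set G), (⟨s, hsc⟩ : Subgroup.centralizer ({z} : Set G)) ∈ Q) (hs : IsConj z s) (hs1 : s ≠ z) (Y : Subgroup G) (hY : Y ≤ Subgroup.centralizer ({z, s} : Set G)) (hY3 : Nat.card Y = 3) (hc : ∃ P : Sylow 3 ↥(Subgroup.centralizer ({z, s} : Set G)), Y.subgroupOf (Subgroup.centralizer ({z, s} : Set G)) ≤ (Subgroup.center ↥(P : Subgroup ↥(Subgroup.centralizer ({z, s} : Set G)))).map (P : Subgroup ↥(Subgroup.centralizer ({z, s} : Set G))).subtype) [hn : (Y.subgroupOf (Subgroup.centralizer (Y : Set G))).Normal] [hn' : (Y.subgroupOf (Subgroup.normalizer (Y : Set G))).Normal] : Cfsg.IsQuasisimple ↥(Subgroup.centralizer (Y : Set G)) ∧ Cfsg.Spor.IsoFi24' (↥(Subgroup.centralizer (Y : Set G)) ⧸ Y.subgroupOf (Subgroup.centralizer (Y : Set G))) ∧ ∃ E : Set (↥(Subgroup.normalizer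 (Y : Set G)) ⧸ Y.subgroupOf (Subgroup.normalizer (Y : Set G))), Cfsg.IsThreeTranspositionClass E ∧ Cfsg.IsOfTypeM24 _ E := by
  obtain ⟨t, S, _, hF⟩ := S5415.result z Q hM s hsQ hs hs1 Y hY hY3 hc
  obtain ⟨i, -⟩ := lf_iso hF
  obtain ⟨j⟩ := l24_iso
  obtain ⟨R, π, P, h, a⟩ := mt_e8 hM hsQ hs hs1
  obtain ⟨π, P, h, a, b, c, d, e | e⟩ := h.exists_pm3 a hY hY3
  swap
  · exact absurd ((h.central_iff a e d (by rw [ord_pm, H27.ord_x3b]; decide)
      ((cent_pair z s).le (hY (c.le (Subgroup.mem_zpowers _)))).2).1 (c.symm ▸ hc)) (by rw [th_facts.1]; decide)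
  have o : Odd (orderOf b) := by rw [d]; decide
  have mc : ∀ {x}, x ∈ centralizer (Y : Set G) ↔ x ∈ Cz (b : G) := c ▸ H13.mem_cent_zpowers
  have b3 := d ▸ pow_orderOf_eq_one b
  obtain ⟨p, q, p1, q1, u⟩ := cm3
  obtain ⟨p, p2, p3⟩ := h.lift_cent e o (mem_Cz.2 (p1.map pm))
  obtain ⟨q, q2, q3⟩ := h.lift_cent e o (mem_Cz.2 (q1.map pm))
  have m := commutator_mem_commutator (mc.2 p2) (mc.2 q2)
  have r : ⁅p.1, q.1⁆ * b.1⁻¹ ∈ R := (h.ker (⁅p, q⁆ * b⁻¹)).1 (by
    rw [map_mul, map_inv, map_commutatorElement, p3, q3, e, ← u, map_commutatorElement, map_commutatorElement, mul_inv_cancel])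
  have w : Commute (⁅p.1, q.1⁆ * b.1⁻¹) b := .mul_left (mem_Cz.1 (mul_mem (mul_mem (mul_mem p2 q2) (inv_mem p2)) (inv_mem q2)))
    (Commute.refl _).inv_left
  have pf : ⁅p.1, q.1⁆ ^ 4 = b := by
    rw [← inv_mul_cancel_right ⁅p.1, q.1⁆ b.1, w.mul_pow, pow_succ b.1, show b.1 ^ 3 = 1 from congrArg Subtype.val b3,
      show 4 = 2 * 2 from rfl, pow_mul, pow_two, pow_two]
    rcases h.sq r with v | v <;> simp [v, h.zz]
  obtain ⟨n, hn⟩ := conj_x3a (g := x3a⁻¹) ((orderOf_inv _).trans ord_x3a) (by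
    rw [show fixF x3a⁻¹ = fixF x3a from Finset.ext fun _ => by rw [mem_fixF, mem_fixF, inv_smul_eq_iff, eq_comm], fix_x3a, card_hex0]; decide)
  have hn' : mk1 (pm n) * π b * (mk1 (pm n))⁻¹ = (π b)⁻¹ := by rw [e, ← map_inv, ← map_inv, ← map_inv, ← map_inv, hn]; simp
  obtain ⟨k, k1, k2⟩ := (H1.map_normalizer_of_surjective h.surj (A := zpowers b) (by
    rw [Nat.card_zpowers, show π.ker = R.subgroupOf _ from Subgroup.ext h.ker, H1.card_subgroupOf_of_le h.le, h.card]
    exact (o.coprime_two_right.pow_right _)) (Or.inl inferInstance)).ge (show mk1 (pm n) ∈ _ by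
      rw [MonoidHom.map_zpowers, H1.mem_normalizer_iff_smul]
      exact (MonoidHom.map_zpowers (MulAut.conj _).toMonoidHom _).trans ((congrArg zpowers hn').trans zpowers_inv))
  obtain ⟨v, ⟨f⟩⟩ := cover3 (k := k.1) ((orderOf_coe b).trans d) c i (pf ▸ pow_mem m 4)
    (c ▸ MonoidHom.map_zpowers (Cz z).subtype b ▸ le_normalizer_map _ ⟨k, k1, rfl⟩) fun x => by
      rw [← k2, ← map_inv, ← map_mul, ← map_mul, show k * b * k⁻¹ = b from Subtype.ext (mem_Cz'.1 (mc.1 x))] at hn'
      have : π b = 1 := by rw [← map_one π, ← b3, map_pow, pow_succ, pow_two]; nth_rw 2 [hn']; simp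
      have o3 := (ord_pm _).trans ord_x3a
      rcases mk1_eq_one.1 (e ▸ this) with y | y <;> rw [y] at o3
      · simp at o3
      · exact absurd (o3 ▸ orderOf_dvd_of_pow_eq_one (n := 2) ((pow_two _).trans neg1_sq)) (by decide)
  exact ⟨v, ⟨i.symm.trans j⟩, type24 f⟩

end Cfsg.Agent.S5461
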