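import Cfsg.Statements.S5465
import Cfsg.Agent.H28.Au1
import Cfsg.Agent.H22.OutA
import Cfsg.Agent.S2079
-- import your own Cfsg.Agent.* helpers here

set_option autoImplicit false
open Cfsg

namespace Cfsg.Agent.S5465

/-- Let G be a finite group with trivial centre generated by a conjugation-invariant set D of 3-transpositions on which it acts primitively, such that for some d in D the subgroup generated by the members of D other than d commuting with d has central largest normal 2- and 3-subgroups, and suppose G with D is of type M(24), and let L be the commutator subgroup of G. Let d₁, d₂ be distinct commuting members of D and j = d₁ d₂. Then K, the joint centralizer of d₁ and d₂ in L, is quasisimple, is the generalized Fitting subgroup of the centralizer of j in L, has index 2 in it and contains j, and the centralizer of j in L modulo the subgroup generated by j is isomorphic to the full automorphism group of the Fischer group Fi₂₂ (as presented). -/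
theorem result {G : Type*} [Group G] [Finite G] {D : Set G} (hD : Cfsg.IsThreeTranspositionGroup D) (hprim : Cfsg.IsPrimitiveUnderConj D) (d₀ : G) (hd₀ : d₀ ∈ D) (h3 : Cfsg.pCore 3 ↥(Subgroup.closure {y : G | y ∈ D ∧ y ≠ d₀ ∧ Commute d₀ y}) ≤ Subgroup.center ↥(Subgroup.closure {y : G | y ∈ D ∧ y ≠ d₀ ∧ Commute d₀ y})) (h2 : Cfsg.pCore 2 ↥(Subgroup.closure {y : G | y ∈ D ∧ y ≠ d₀ ∧ Commute d₀ y}) ≤ Subgroup.center ↥(Subgroup.closure {y : G | y ∈ D ∧ y ≠ d₀ ∧ Commute d₀ y})) (h24 : Cfsg.IsOfTypeM24 G D) (L : Subgroup G) (hL : L = commutator G) (d₁ d₂ : G) (h₁ : d₁ ∈ D) (h₂ : d₂ ∈ D) (hne : d₁ ≠ d₂) (hc : Commute d₁ d₂) (K CL : Subgroup G) (hK : K = L ⊓ Subgroup.centralizer ({d₁, d₂} : Set G)) (hCL : CL = L ⊓ Subgroup.centralizer ({d₁ * d₂} : Set G)) [hn : ((Subgroup.zpowers (d₁ * d₂)).subgroupOf CL).Normal] : Cfsg.IsQuasisimple ↥K ∧ K = (Cfsg.generalizedFittingSubgroup ↥CL).map CL.subtype ∧ K ≤ CL ∧ (K.subgroupOf CL).index = 2 ∧ d₁ * d₂ ∈ K ∧ Nonempty (↥CL ⧸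 (Subgroup.zpowers (d₁ * d₂)).subgroupOf CL ≃* MulAut Cfsg.Spor.Fi22) := by
  have h := H28.m24_of hD hprim h24
  have c : H28.Clq D [d₁, d₂] := ⟨by simp [*], by simp [*]⟩
  obtain ⟨σ, s1, s2, -⟩ := h.sgn
  obtain ⟨π, r⟩ := h.lv.rl2 H28.lv23 c
  have := H28.fi22_simple
  rw [← H28.cn_two, hL, s2] at hK
  have hC := hCL
  rw [hL, s2, show d₁ * d₂ = [d₁, d₂].prod by simp] at hC
  obtain ⟨a, b, d, -, -, ⟨φ, φ1, φ2⟩, α, α1, α2⟩ := r.even hD c (r.gen' (h.rl8.meet hD c (h.gts 2 (by norm_num)) (by simp)))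
    (by rw [H28.fi22_card]; norm_num) (fun m hm => h.gts m (hm.trans (by simp))) (h.nr.mono (by simp)) (by simp) σ s1
    (by rw [H22.card_mulAut_eq_out _ H28.fi22_center, Cfsg.Agent.S2079.result]; rfl) hK hC
  rw [H28.even_sub hD.1 c σ s1 (hC ▸ inf_le_left), List.map_singleton, H28.cl_one] at α2
  refine ⟨a, b.symm, d, ?_, hK.ge ⟨?_, H28.mem_cn.2 fun p hp => by simpa using c.comm_prod hp⟩,
    ⟨(QuotientGroup.quotientMulEquivOfEq α2.symm).trans (QuotientGroup.quotientKerEquivOfSurjective α α1)⟩⟩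
  · rw [← φ2, Subgroup.index_ker, MonoidHom.range_eq_top.2 φ1]
    simp [Fintype.card_perm]
  · change σ _ = 1
    rw [map_mul, s1 _ h₁, s1 _ h₂]; rfl

end Cfsg.Agent.S5465
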