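import Cfsg.Statements.S5467
import Cfsg.Agent.H28.Tz5
-- import your own Cfsg.Agent.* helpers here

set_option autoImplicit false
open Cfsg

namespace Cfsg.Agent.S5467

/-- Let G be a finite group with trivial centre generated by a conjugation-invariant set D of 3-transpositions on which it acts primitively, such that for some d in D the subgroup generated by the members of D other than d commuting with d has central largest normal 2- and 3-subgroups, and suppose G with D is of type M(24), and let L be the commutator subgroup of G. Let z be the product of four distinct pairwise commuting members of D (an involution of L) and C its centralizer in L. Then the generalized Fitting subgroup Q of C is extraspecial of order 2^13, and C has normal subgroups Q ≤ N ≤ M with N/Q of order 3, M/N isomorphic to the projective special unitary group of dimension 4 over the field with nine elements, and M of index 2 in C. -/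
theorem result {G : Type*} [Group G] [Finite G] {D : Set G} (hD : Cfsg.IsThreeTranspositionGroup D) (hprim : Cfsg.IsPrimitiveUnderConj D) (d₀ : G) (hd₀ : d₀ ∈ D) (h3 : Cfsg.pCore 3 ↥(Subgroup.closure {y : G | y ∈ D ∧ y ≠ d₀ ∧ Commute d₀ y}) ≤ Subgroup.center ↥(Subgroup.closure {y : G | y ∈ D ∧ y ≠ d₀ ∧ Commute d₀ y})) (h2 : Cfsg.pCore 2 ↥(Subgroup.closure {y : G | y ∈ D ∧ y ≠ d₀ ∧ Commute d₀ y}) ≤ Subgroup.center ↥(Subgroup.closure {y : G | y ∈ D ∧ y ≠ d₀ ∧ Commute d₀ y})) (h24 : Cfsg.IsOfTypeM24 G D) (L : Subgroup G) (hL : L = commutator G) (z : G) (l : List G) (hl : (l.Nodup ∧ l.length = 4 ∧ (∀ a ∈ l, a ∈ D) ∧ (∀ a ∈ l, ∀ b ∈ l, Commute a b) ∧ l.prod = z)) (C : Subgroup G) (hC : C = L ⊓ Subgroup.centralizer ({z} : Set G)) : ∃ (Q : Subgroup ↥C) (_ : Q.Normal), Cfsg.generalizedFittingSubgroup ↥C = Q ∧ Cfsg.IsExtraspecial 2 ↥Q ∧ Nat.card Q = 2 ^ 13 ∧ ∃ (N M : Subgroup ↥C) (_ : N.Normal) (_ : M.Normal), Q ≤ N ∧ N ≤ M ∧ Nat.card N = 3 * Nat.card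 Q ∧ (∃ (K : Type) (_ : Field K) (_ : Fintype K), Fintype.card K = 9 ∧ Nonempty (↥M ⧸ N.subgroupOf M ≃* Cfsg.PSU 4 K 3)) ∧ M.index = 2 := by
  have h := H28.m24_of hD hprim h24
  obtain ⟨n1, e, n2, n3, rfl⟩ := hl
  have c : H28.Clq D l := H28.clq_iff.2 ⟨n1, n2, n3⟩
  obtain ⟨s, s1, s2, -⟩ := h.sgn
  obtain ⟨σ, Ψ, f, p1, cK, x, p2, -⟩ := h.tz2 c e
  rw [s2] at hL
  subst hL hC
  obtain ⟨⟨θ⟩, c6, o6⟩ := H28.p6_equiv
  set R := Subgroup.closure (H28.PP (H28.Dz D l.prod) σ)
  have Rs : R ≤ s.ker := (Subgroup.closure_le _).2 (by rintro _ ⟨a, ha, b, hb, -, rfl⟩; exact H28.M24.ev2 s s1 ha.1 hb.1)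
  have RC : R ≤ s.ker ⊓ Subgroup.centralizer {l.prod} := le_inf Rs x.le
  let Ψ' := Ψ.comp (Subgroup.inclusion (inf_le_right : s.ker ⊓ Subgroup.centralizer {l.prod} ≤ _))
  have cR := x.card
  have cK' : Nat.card (Ψ.ker.map (Subgroup.subtype _)) = 24576 := (Subgroup.card_subtype _ _).trans cK
  have Ks : Ψ.ker.map (Subgroup.subtype _) ≤ s.ker := fun a ha => (Int.units_eq_one_or (s a)).resolve_right fun q => by
    have k := H28.card_sgn s ha q
    have := Subgroup.card_dvd_of_le (le_inf Rs (show R ≤ Ψ.ker.map (Subgroup.subtype _) from fun g hg => ⟨⟨g, x.le hg⟩, p2 _ hg, rfl⟩))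
    rw [cK'] at k
    rw [cR, show Nat.card ↥(s.ker ⊓ Ψ.ker.map (Subgroup.subtype _)) = 12288 by omega] at this
    norm_num at this
  have cN : Nat.card Ψ'.ker = 24576 := by
    rw [← cK', ← Nat.card_congr (Subgroup.subgroupOfEquivOfLe (le_inf Ks (Subgroup.map_subtype_le _))).toEquiv]
    exact congrArg (fun H : Subgroup _ => Nat.card H) (Subgroup.ext (K := Subgroup.subgroupOf _ _) fun g =>
      ⟨fun k => ⟨_, k, rfl⟩, fun ⟨_, k, q⟩ => (congrArg Ψ (Subtype.ext q.symm)).trans k⟩)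
  have cQ : Nat.card (R.subgroupOf (s.ker ⊓ Subgroup.centralizer {l.prod})) = 2 ^ 13 :=
    (Nat.card_congr (Subgroup.subgroupOfEquivOfLe RC).toEquiv).trans cR
  have nQ : (R.subgroupOf (s.ker ⊓ Subgroup.centralizer {l.prod})).Normal := ⟨fun a ha g => x.nrm _ g.2.2 _ ha⟩
  have pN : pCore 2 _ ≤ Ψ'.ker := fun g hg => by
    obtain ⟨g', a, b⟩ := (H5.SN.of_normal (inf_le_right : s.ker ⊓ Subgroup.centralizer {l.prod} ≤ _) (by
      rw [← Subgroup.normal_subgroupOf_iff_le_normalizer inf_le_right, Subgroup.inf_subgroupOf_right]; infer_instance)).opOf_le 2 ⟨g, hg, rfl⟩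
    exact (congrArg Ψ (Subtype.ext b.symm)).trans (o6.le (H1.map_pCore_le 2 p1 ⟨_, a, rfl⟩))
  have pc : R.subgroupOf (s.ker ⊓ Subgroup.centralizer {l.prod}) = pCore 2 _ := by
    obtain ⟨n, q⟩ := (H1.isPGroup_pCore (G := ↥(s.ker ⊓ Subgroup.centralizer {l.prod})) 2).exists_card_eq
    have := Subgroup.card_dvd_of_le pN
    rw [q, cN, show 24576 = 3 * 2 ^ 13 from rfl] at this
    exact Subgroup.eq_of_le_of_card_ge (H1.le_pCore (IsPGroup.of_card cQ)) (by
      rw [q, cQ]; exact Nat.le_of_dvd (by norm_num) (((Nat.coprime_primes Nat.prime_two Nat.prime_three).2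
        (by norm_num)).pow_left n |>.dvd_of_dvd_mul_left this))
  let φ := Ψ'.subgroupComap (commutator H28.P6)
  have su : Function.Surjective φ := fun ⟨m, hm⟩ => by
    obtain ⟨g, a, b⟩ : m ∈ (commutator _).map Ψ := by rwa [map_commutator_eq, MonoidHom.range_eq_top.2 p1]
    have : g.1 ∈ s.ker := s2 ▸ Subgroup.commutator_mono le_top le_top ((Subgroup.map_subtype_commutator _).le ⟨g, a, rfl⟩)
    exact ⟨⟨⟨g, this, g.2⟩, (b ▸ hm : Ψ g ∈ _)⟩, Subtype.ext b⟩
  have k : Ψ'.ker.subgroupOf _ = φ.ker := Subgroup.ext fun g => (Subtype.ext_iff (a1 := φ g) (a2 := 1)).symm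
  have NM : Ψ'.ker ≤ (commutator H28.P6).comap Ψ' := fun g hg => Subgroup.mem_comap.2 (hg ▸ one_mem _)
  refine ⟨_, nQ, (H5.fstar_eq_pCore_iff_centralizer.2 (pc ▸ fun g hg => x.self fun y hy =>
      congrArg Subtype.val (hg ⟨y, RC hy⟩ hy))).trans pc.symm, H7.isExtraspecial_of_equiv x.es (Subgroup.subgroupOfEquivOfLe RC).symm,
    cQ, Ψ'.ker, (commutator H28.P6).comap Ψ', inferInstance, inferInstance, pc.le.trans pN, NM, by rw [cN, cQ]; rfl,
    ⟨H28.GF9, _, _, H28.gf9_card, ⟨(QuotientGroup.quotientMulEquivOfEq k).trans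
      ((QuotientGroup.quotientKerEquivOfSurjective φ su).trans θ)⟩⟩, ?_⟩
  obtain ⟨a, t, rfl⟩ := List.exists_cons_of_length_eq_add_one e
  have c1 := H28.card_sgn s (H28.mem_cent1.2 (c.comm_prod List.mem_cons_self).symm) (s1 a (n2 a List.mem_cons_self))
  have c2 := Ψ.ker.index_mul_card
  have c3 := φ.ker.index_mul_card
  have c4 := ((commutator H28.P6).comap Ψ').index_mul_card
  rw [Subgroup.index_ker, MonoidHom.range_eq_top.2 p1, Subgroup.card_top, H28.card_p6, cK] at c2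
  rw [Subgroup.index_ker, MonoidHom.range_eq_top.2 su, Subgroup.card_top, c6, ← k,
    Nat.card_congr (Subgroup.subgroupOfEquivOfLe NM).toEquiv, cN] at c3
  rw [← c3] at c4
  omega

end Cfsg.Agent.S5467
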