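import Cfsg.Statements.S5473
import Cfsg.Agent.H28.Tz6
-- import your own Cfsg.Agent.* helpers here

set_option autoImplicit false
open Cfsg

namespace Cfsg.Agent.S5473

theorem sym_com {G : Type*} [Group G] {x y z : G} (zz : z * z = 1) (a : Commute z x) (b : Commute z y)
    (h : x * y * x⁻¹ = y ∨ x * y * x⁻¹ = y * z) : y * x * y⁻¹ = x ∨ y * x * y⁻¹ = x * z :=
  h.imp (fun e => H28.conj_eq_iff_commute.2 (H28.conj_eq_iff_commute.1 e).symm) fun e => by
    rw [mul_inv_eq_iff_eq_mul] at e ⊢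
    rw [mul_assoc x, b.eq, ← mul_assoc, e, mul_assoc y z, a.eq, mul_assoc, mul_assoc, zz, mul_one]

/-- Let G be a finite group with trivial centre generated by a conjugation-invariant set D of 3-transpositions on which it acts primitively, such that for some d in D the subgroup generated by the members of D other than d commuting with d has central largest normal 2- and 3-subgroups, and suppose G with D is of type M(22), and let A be the automorphism group of G. Let d₁, d₂ be distinct commuting members of D and j the inner automorphism of their product. Then the generalized Fitting subgroup Q of the centralizer of j in A is a large extraspecial 2-subgroup of A of order 2^11 (extraspecial; centralizer equal to its centre; normal in the centralizer of its centre; normalizing no non-trivial odd-order subgroup), and the centralizer of j modulo Q is isomorphic to the full automorphism group of the projective special unitary group of dimension 4 over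 the field with four elements. -/
theorem result {G : Type*} [Group G] [Finite G] {D : Set G} (hD : Cfsg.IsThreeTranspositionGroup D) (hprim : Cfsg.IsPrimitiveUnderConj D) (d₀ : G) (hd₀ : d₀ ∈ D) (h3 : Cfsg.pCore 3 ↥(Subgroup.closure {y : G | y ∈ D ∧ y ≠ d₀ ∧ Commute d₀ y}) ≤ Subgroup.center ↥(Subgroup.closure {y : G | y ∈ D ∧ y ≠ d₀ ∧ Commute d₀ y})) (h2 : Cfsg.pCore 2 ↥(Subgroup.closure {y : G | y ∈ D ∧ y ≠ d₀ ∧ Commute d₀ y}) ≤ Subgroup.center ↥(Subgroup.closure {y : G | y ∈ D ∧ y ≠ d₀ ∧ Commute d₀ y})) (h22 : Cfsg.IsOfTypeM22 G D) (d₁ d₂ : G) (h₁ : d₁ ∈ D) (h₂ : d₂ ∈ D) (hne : d₁ ≠ d₂) (hc : Commute d₁ d₂) (j : MulAut G) (hj : j = MulAut.conj (d₁ * d₂)) (Q : Subgroup (MulAut G)) (hQ : Q = (Cfsg.generalizedFittingSubgroup ↥(Subgroup.centralizer ({j} : Set (MulAut G)))).map (Subgroup.centralizer ({j} : Set (MulAut G))).subtype) : Cfsg.IsLargeExtraspecial Q ∧ Nat.card Q = 2 ^ 11 ∧ Q ≤ Subgroup.centralizer ({j} : Set (MulAut G)) ∧ ∃ (_ : (Q.subgroupOf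 (Subgroup.centralizer ({j} : Set (MulAut G)))).Normal) (F : Type) (_ : Field F) (_ : Fintype F), Fintype.card F = 4 ∧ Nonempty (↥(Subgroup.centralizer ({j} : Set (MulAut G))) ⧸ Q.subgroupOf (Subgroup.centralizer ({j} : Set (MulAut G))) ≃* MulAut (Cfsg.PSU 4 F 2)) := by
  have h := H28.m22_of hD h22
  obtain ⟨e, he⟩ := H28.uniq22 hD h22
  have c : H28.Clq D [d₁, d₂] := ⟨by simp [*], by simp [*]⟩
  obtain ⟨σ, E, -, f, c1, c2, rfl, -, -, cE, VE, EK, g1, cA, com, -, -⟩ := h.tz2 c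
  have zG : Subgroup.center G = ⊥ := H28.center_equiv e H28.fi22_center
  have cH : Nat.card (MulAut G) = 2 * Nat.card G := by
    rw [H22.card_mulAut_eq_out _ zG, H27.card_out_congr e, Cfsg.Agent.S2079.result]
  obtain ⟨l, b1, b2⟩ := H28.m24.base
  obtain ⟨a, l, rfl⟩ := List.exists_cons_of_length_eq_add_one b2
  obtain ⟨b, l, rfl⟩ := List.exists_cons_of_length_eq_add_one (Nat.succ.inj b2)
  have b3 : H28.Clq H28.E24 [a, b] := b1.sub (List.sublist_append_left [a, b] l)
  obtain ⟨π, r⟩ := H28.lv24.rl2 H28.lv23 b3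
  have := H28.m24.fin
  obtain ⟨s, s1, s2, s3, s4⟩ := H28.m24.outer b3 (H28.symm_image e he ▸ r.map e.symm) zG c f
  have inj : Function.Injective (MulAut.conj : G →* MulAut G) := (injective_iff_map_eq_one _).2 fun g hg =>
    zG.le (Subgroup.mem_center_iff.2 fun x => (H28.conj_eq_iff_commute.1 (DFunLike.congr_fun hg x)).symm)
  have cj : ∀ (φ : MulAut G) g, φ * MulAut.conj g * φ⁻¹ = MulAut.conj (φ g) := fun φ g => by ext; simp
  have cm : ∀ (φ : MulAut G) g, Commute (MulAut.conj g) φ ↔ φ g = g := fun φ g => by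
    rw [Commute.symm_iff, ← H28.conj_eq_iff_commute, cj, inj.eq_iff]
  subst hj
  set A := H28.Nb D [d₁, d₂]
  set S := insert d₁ (H28.PP A σ)
  let R := Subgroup.closure (insert s (MulAut.conj '' S))
  have ER : (Subgroup.closure S).map MulAut.conj ≤ R := by
    rw [MonoidHom.map_closure]; exact Subgroup.closure_mono (Set.subset_insert _ _)
  have sR : s ∈ R := Subgroup.subset_closure (Set.mem_insert _ _)
  have gR : ∀ g ∈ R, (g, 1) ∈ H28.Gd (MonoidHom.id _) A σ := fun g hg =>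
    (Subgroup.closure_le ((H28.Gd (MonoidHom.id _) A σ).comap (MonoidHom.inl (MulAut G) H28.O5))).2
      (Set.insert_subset s3 (by rintro _ ⟨x, hx, rfl⟩; exact g1 x (Subgroup.subset_closure hx))) hg
  have RC : ∀ g ∈ R, Commute (MulAut.conj (d₁ * d₂)) g := fun g hg => (cm _ _).2 (f.fix (gR g hg))
  have cE' : Nat.card ((Subgroup.closure S).map MulAut.conj) = 1024 := (Subgroup.card_map_of_injective inj).trans cE
  have fE : ∀ g ∈ (Subgroup.closure S).map MulAut.conj, g d₁ = d₁ := by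
    rintro _ ⟨g, hg, rfl⟩; exact H28.conj_eq_iff_commute.2 (H28.mem_cn.1 (EK hg) _ (by simp)).symm
  have sE : s ∉ (Subgroup.closure S).map MulAut.conj := fun k => hne ((fE s k).symm.trans s2)
  have l1 : 2048 ≤ Nat.card R := by
    obtain ⟨k, q⟩ := Subgroup.card_dvd_of_le ER
    have : 0 < Nat.card R := Nat.card_pos
    have : ¬ Nat.card R ≤ _ := fun t => sE ((Subgroup.eq_of_le_of_card_ge ER t).ge sR)
    rw [cE'] at q this
    omega
  have l2 : Nat.card (Subgroup.centralizer {MulAut.conj (d₁ * d₂)}) ≤ 2 * 53084160 := by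
    have i := (MulAut.conj : G →* MulAut G).range.index_mul_card
    rw [cH, ← Nat.card_congr (MonoidHom.ofInjective inj).toEquiv] at i
    rw [← ((MulAut.conj : G →* MulAut G).range.subgroupOf _).index_mul_card, ← (h.cent2 c).2, ← Nat.eq_of_mul_eq_mul_right Nat.card_pos i,
      ← Subgroup.card_map_of_injective inj, ← Subgroup.card_subtype, ← Subgroup.relIndex_top_right (MonoidHom.range _)]
    refine Nat.mul_le_mul (Subgroup.relIndex_le_of_le_right le_top (by rw [Subgroup.relIndex_top_right]; exact Subgroup.index_ne_zero_of_finite))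
      (Subgroup.card_le_of_le ?_)
    rintro _ ⟨φ, ⟨g, q⟩, rfl⟩
    exact ⟨g, H28.mem_cent1.2 (H28.conj_eq_iff_commute.1 ((DFunLike.congr_fun q _).trans ((cm _ _).1 (H28.mem_cent1.1 φ.2)))).symm, q⟩
  obtain ⟨Ψ, p1, p2, p3, p4⟩ := H28.gam (β := MonoidHom.id _) (N := R) c1 (fun m => let ⟨g, u, v⟩ := c2 m
    ⟨MulAut.conj g, H28.mem_cent1.2 ((H28.mem_cent1.1 u).map _), v⟩) (fun g hg => ⟨H28.mem_cent1.2 (RC g hg), gR g hg⟩)
    (by rw [H28.card_p5]; exact l2.trans (le_trans (by norm_num) (Nat.mul_le_mul_right _ l1)))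
  rw [H28.card_p5] at p4
  have cR : Nat.card R = 2048 :=
    le_antisymm (Nat.le_of_mul_le_mul_right (p4.symm.trans_le (l2.trans (by norm_num))) (by norm_num)) l1
  have z1 : d₁ * d₂ ≠ 1 := mt (H28.tt_eq_of_mul_eq_one hD.1 h₁) hne
  have j1 : MulAut.conj (d₁ * d₂) ≠ 1 := fun q => z1 (inj (q.trans (map_one _).symm))
  have jj : MulAut.conj (d₁ * d₂) * MulAut.conj (d₁ * d₂) = 1 := by rw [← map_mul, f.zz, map_one]
  have k1 : ∀ x ∈ MulAut.conj '' S, s * x * s⁻¹ = x ∨ s * x * s⁻¹ = x * MulAut.conj (d₁ * d₂) := by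
    rintro _ ⟨x, hx, rfl⟩
    rw [cj, ← map_mul, inj.eq_iff, inj.eq_iff]
    rcases hx with rfl | hx
    · exact .inr (s2.trans (H28.tt_mul_mul hD.1 h₁ _).symm)
    · exact s4 x hx
  obtain ⟨q1, q2, q3⟩ := H28.es_gens (S := insert s (MulAut.conj '' S)) j1 jj (fun x hx => RC x (Subgroup.subset_closure hx))
    (Set.forall_mem_insert.2 ⟨s1, by
      rintro _ ⟨x, rfl | hx, rfl⟩ <;> rw [← map_mul]
      exacts [by rw [H28.tt_sq hD.1 h₁, map_one], by rw [f.pp_sq hx, map_one]]⟩)
    (Set.forall_mem_insert.2 ⟨Set.forall_mem_insert.2 ⟨.inl (by simp), k1⟩, fun x hx => Set.forall_mem_insert.2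
      ⟨sym_com jj (RC s sR) (RC x (Subgroup.subset_closure (Set.mem_insert_of_mem _ hx))) (k1 x hx), by
        obtain ⟨x, hx, rfl⟩ := hx
        rintro _ ⟨y, hy, rfl⟩
        rw [cj, ← map_mul, inj.eq_iff, inj.eq_iff, MulAut.conj_apply]
        have t : Commute (d₁ * d₂) x := by simpa [H28.mem_cent1] using H28.cn_le_prod (EK (Subgroup.subset_closure hx))
        exact (com x (Subgroup.subset_closure hx) y (Subgroup.subset_closure hy)).imp (fun q => by simp [q])
          fun q => by rw [q, mul_assoc y x, ← t.eq]; simp [mul_assoc]⟩⟩)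
  have fx : ∀ φ : MulAut G, (∀ y ∈ R, y * φ = φ * y) → ∀ x ∈ Subgroup.closure S, φ x = x := fun φ k x hx =>
    (cm _ _).1 (k _ (ER ⟨x, hx, rfl⟩))
  have fA : ∀ φ : MulAut G, (∀ y ∈ R, y * φ = φ * y) → ∀ y ∈ A, φ y = y := fun φ k y hy => f.fix3 (h.nr.mono (by norm_num)) φ
    (fun x hx => (h.uniq (H28.class_map (h.lv.isClass h₁) φ)).le ⟨x, hx, rfl⟩)
    (fun u hu => fx φ k u (Subgroup.subset_closure (.inr hu))) hy
  have m1 : d₁ ∈ Subgroup.closure S := VE (H27.mem_cl (by simp))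
  have m2 : d₂ ∈ Subgroup.closure S := VE (H27.mem_cl (by simp))
  have jR : MulAut.conj (d₁ * d₂) ∈ R := ER ⟨_, mul_mem m1 m2, rfl⟩
  have x : H13.XS (MulAut.conj (d₁ * d₂)) R 5 := H13.xs_mk (by norm_num) j1 jj jR q1 q2 q3 (fun φ hφ k => by
      have i := (((Subgroup.closure S).map MulAut.conj).subgroupOf R).index_mul_card
      rw [Nat.card_congr (Subgroup.subgroupOfEquivOfLe ER).toEquiv, cE', cR] at i
      obtain ⟨g, hg, rfl⟩ : φ ∈ (Subgroup.closure S).map MulAut.conj := by_contra fun n => hne (φ.injective (by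
        have := fE _ ((Subgroup.mul_mem_iff_of_index_two (H := Subgroup.subgroupOf _ R) (a := ⟨φ, hφ⟩) (b := ⟨s, sR⟩)
          (Nat.eq_of_mul_eq_mul_right (by norm_num) i)).2 (iff_of_false n sE))
        rw [fx φ (fun y hy => (k y hy).symm) _ m1, ← s2]; exact this.symm))
      have t := (cm _ _).1 (k s sR)
      have v := cA g fun y hy => (H28.conj_eq_iff_commute.1 (fA _ (fun y hy => (k y hy).symm) y hy)).symm
      have o : ∀ y, y ∈ H27.cl [d₂] ↔ y = 1 ∨ y = d₂ := fun y => by rw [H28.cl_one, H13.mem_zpowers_two (hD.1.1 _ h₂)]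
      rw [H28.mem_cl_cons_sq (H28.tt_sq hD.1 h₁) (H28.mem_cn.2 (by simpa using hc.symm)), o, o] at v
      rcases v with (rfl | rfl) | v | v
      · exact .inl (map_one _)
      · exact absurd (s.injective (s2.trans t.symm)) hne
      · exact absurd (s2.symm.trans (H28.tt_eq_of_mul_eq_one hD.1 h₁ v ▸ t)).symm hne
      · exact .inr (congrArg _ ((H28.tt_mul_mul hD.1 h₁ _).symm.trans (congrArg _ v))))
    cR (fun g hg y hy => (p3 (⟨g, hg⟩ * ⟨y, H28.mem_cent1.2 (RC y hy)⟩ * ⟨g, hg⟩⁻¹)).1 (by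
      rw [map_mul, map_mul, (p3 ⟨y, _⟩).2 hy]; simp))
    fun φ k => (p3 ⟨φ, H28.mem_cent1.2 (k _ jR)⟩).1 ((p2 _ 1).2 fun y hy => by simpa [fA φ k y hy] using hy)
  obtain ⟨u, hu⟩ := f.ne
  obtain ⟨t, t1, t2, -, t3⟩ := f.tet u hu
  obtain ⟨v, t, rfl⟩ := List.exists_cons_of_length_eq_add_one t2
  obtain ⟨w, t, rfl⟩ := List.exists_cons_of_length_eq_add_one (Nat.succ.inj t2)
  have t4 : H28.Clq A [v, w] := t1.sub (List.sublist_append_left [v, w] t)
  obtain ⟨g, hg⟩ := h.gts 2 (by norm_num) _ _ c (t4.mono H28.nb_sub) rfl rfl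
  have t5 : MulAut.conj g * MulAut.conj (d₁ * d₂) * (MulAut.conj g)⁻¹ = MulAut.conj (v * w) := by
    have := congrArg List.prod hg
    rw [H28.map_conj_prod] at this
    rw [cj]; simpa using congrArg MulAut.conj this
  have t6 : MulAut.conj (v * w) ∈ R := ER ⟨_, Subgroup.subset_closure (.inr ⟨v, t4.1 v (by simp), w, t4.1 w (by simp),
    ((t3 v (t4.1 v (by simp))).2 (by simp)).trans ((t3 w (t4.1 w (by simp))).2 (by simp)).symm, rfl⟩), rfl⟩
  have t7 : MulAut.conj (v * w) ≠ MulAut.conj (d₁ * d₂) := fun q => (t4.1 v (by simp)).2.1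
    ((h.nr.perm3 hD.1 (t4.mono H28.nb_sub) c (by simp) (by simp) (by simpa using inj q)).subset (by simp))
  have k : R.subgroupOf _ = Ψ.ker := Subgroup.ext fun g => (p3 g).symm
  have := x.normal
  let θ := (QuotientGroup.quotientMulEquivOfEq k).trans (QuotientGroup.quotientKerEquivOfSurjective Ψ p1)
  rw [(x.setting' θ H28.p5_equiv.2.2 (t5 ▸ t6) (t5 ▸ t7)).2.1, Subgroup.map_subgroupOf_eq_of_le x.le] at hQ
  subst hQ
  exact ⟨x.large_of_conj (by norm_num) (t5 ▸ t6) (t5 ▸ t7), cR, x.le, this, H28.GF4, _, _, H28.gf4_card,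
    ⟨θ.trans H28.p5_equiv.2.1.some⟩⟩

end Cfsg.Agent.S5473
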