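import Cfsg.Statements.S5522
import Cfsg.Agent.H27.MCls

set_option autoImplicit false
open Cfsg

namespace Cfsg.Agent.S5522
open H27 MulAction
open scoped Pointwise
theorem key {Ns : List Net} (h : and' (allL Ns m24chk) (and' (invChk Ns dod0) (fixChk Ns 0)) = true) {p k : Nat} (hp : p.Prime)
    (hk : ¬ p ^ (k + 1) ∣ Nat.card H11) (C : PcCert) (L : List (Nat × Nat × Nat))
    (hc : and' (pcChk 5 24 C Ns) (and' (and' (Nat.beq (chain 5 24 L Ns) (p ^ k)) (Nat.beq (pcOrd C) (p ^ k)))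
      (pcEnum C (fun _ W => or' (not' (eqL 5 24 (powL W p) [])) (anyN 24 fun i => and' (not' (tb dod0 i)) (Nat.beq (fnL W i) i))) Ns 0 [])) = true)
    {g : MM} (hg : g ∈ H11) (ho : orderOf g = p) : ∃ x, x ∉ eD 0 ∧ g • x = x := by
  rw [and'_eq, and'_eq (and' _ _)] at hc
  simp only [and'_eq, Bool.and_eq_true] at h
  simp only [Bool.and_eq_true] at hc
  have a := actsL_mm h.1
  obtain ⟨u, hu, v⟩ := exists_conj_mem_sylow (j := 1) hp (cl_le (mem_inf_of (a.stab_eD h.2.1) (a.stab_pt (by norm_num) h.2.2)))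
    (a.pc_card (fun _ => MM_faithful) GE.injOn (by norm_num) hc.1 L hc.2.1) hk hg (by simpa using ho)
  obtain ⟨j, vs, Vs, c, d, f⟩ := a.pc_forall (fun _ => MM_faithful) hc.1 hc.2.2 v
  simp only [or'_eq, not'_eq, and'_eq, Bool.or_eq_true, Bool.not_eq_true', anyN_iff, Bool.and_eq_true, beq_iff, tb_eq] at f
  rcases f with f | ⟨i, hi, f, f'⟩
  · obtain ⟨ks, s, t⟩ := c.powL p
    rw [ActsL.eqL_of_eq GE.injOn (by norm_num) s .nil (by rw [t, d, conj_pow, ← ho, pow_orderOf_eq_one]; simp)] at f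
    cases f
  · refine ⟨u⁻¹ • GE.e i, fun b => ?_, ?_⟩
    · rw [Finset.inv_smul_mem_iff, hu.1, eD_zero, GE.e_mem_fs hi, f] at b; cases b
    · rw [← fixed_conj u, smul_inv_smul, ← d, c.prod_act hi, f']
theorem h2 {g : MM} (hg : g ∈ H11) (ho : orderOf g = 2) : ∃ x, x ∉ eD 0 ∧ g • x = x :=
  key (Ns := [(.cons 1 0x115154 (.cons 2 0x130112 (.cons 4 0xc0c0a (.cons 8 0xc9 (.cons 16 0x39 (.cons 8 0x29 (.cons 4 0xb0a00 (.cons 2 0x120200 (.cons 1 0x55114 .nil))))))))),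
  (.cons 1 0x14440 (.cons 2 0x211020 (.cons 4 0x60d02 (.cons 8 0xf5 (.cons 16 0x65 (.cons 8 0x65 (.cons 4 0x20900 (.cons 2 0x20 (.cons 1 0x14440 .nil))))))))),
  (.cons 1 0x501110 (.cons 2 0x320 (.cons 4 0xc0b02 (.cons 8 0xbc (.cons 16 0x6a (.cons 8 0xa (.cons 4 0xe0900 (.cons 2 0x320 (.cons 1 0x501110 .nil))))))))),
  (.cons 1 0x114500 (.cons 2 0x10010 (.cons 4 0x10a04 (.cons 8 0x8e (.cons 16 0x3e (.cons 8 0xe (.cons 4 0x10a00 (.cons 2 0x10010 (.cons 1 0x114400 .nil)))))))))]) (by decide +kernel) (k := 4) (by norm_num) (by rw [card_H11]; norm_num)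
    [(2, [1], [[2, 1], [1], [1, 0]]),
  (2, [], [[0], [1, 0]]),
  (2, [], [[0]]),
  (2, [], [])] [(1, 1, 3), (2, 1, 1)] (by decide +kernel) hg ho
theorem h3 {g : MM} (hg : g ∈ H11) (ho : orderOf g = 3) : ∃ x, x ∉ eD 0 ∧ g • x = x :=
  key (Ns := [(.cons 1 0x505544 (.cons 2 0x230222 (.cons 4 0xb0208 (.cons 8 0x72 (.cons 16 0x38 (.cons 8 0x18 (.cons 4 0x90000 (.cons 2 0x20000 (.cons 1 0x501140 .nil))))))))),
  (.cons 1 0x40144 (.cons 2 0x313212 (.cons 4 0x20c00 (.cons 8 0xd4 (.cons 16 0x4c (.cons 8 0x40 (.cons 4 0x400 (.cons 2 0x113210 (.cons 1 0x44544 .nil)))))))))]) (by decide +kernel) (k := 2) (by norm_num) (by rw [card_H11]; norm_num)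
    [(3, [], [[0]]),
  (3, [], [])] [(1, 2, 2)] (by decide +kernel) hg ho
theorem h5 {g : MM} (hg : g ∈ H11) (ho : orderOf g = 5) : ∃ x, x ∉ eD 0 ∧ g • x = x :=
  key (Ns := [(.cons 1 0x140054 (.cons 2 0x30130 (.cons 4 0x9060a (.cons 8 0x3d (.cons 16 0x8f (.cons 8 0x9 (.cons 4 0xd0e00 (.cons 2 0x311110 (.cons 1 0x451014 .nil)))))))))]) (by decide +kernel) (k := 1) (by norm_num) (by rw [card_H11]; norm_num)
    [(5, [], [])] [(1, 4, 1)] (by decide +kernel) hg ho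
theorem h11 {g : MM} (hg : g ∈ H11) (ho : orderOf g = 11) : ∃ x, x ∉ eD 0 ∧ g • x = x :=
  key (Ns := [(.cons 1 0x454510 (.cons 2 0x300110 (.cons 4 0x1090a (.cons 8 0xd0 (.cons 16 0x9e (.cons 8 0x86 (.cons 4 0xa00 (.cons 2 0x100000 (.cons 1 0x10450 .nil)))))))))]) (by decide +kernel) (k := 1) (by norm_num) (by rw [card_H11]; norm_num)
    [(11, [], [])] [(1, 10, 1)] (by decide +kernel) hg ho


/-- The Mathieu group M₁₁, realised as the stabiliser of one point of the dodecad of squares inside the stabiliser M₁₂ of that dodecad in M₂₄, acts on the twelve coordinate positions outside the dodecad of squares (its 3-transitive action of degree 12); in this action every element of prime order fixes a point, i.e. the action is elusive. -/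
theorem result (g : Equiv.Perm Cfsg.GolayPt) (hg : g ∈ Cfsg.Spor.M11) (hord : (orderOf g).Prime) :
    ∃ x : Cfsg.GolayPt, x ∉ Cfsg.Spor.squareDodecad ∧ g x = x := by
  have m := (mem_M11 ⟨g, hg.1.1⟩).1 hg
  have o : orderOf (⟨g, hg.1.1⟩ : MM) = orderOf g := Subgroup.orderOf_mk _ _
  have d := H11.orderOf_dvd_natCard m
  rw [card_H11, o, show 7920 = 2 ^ 4 * (3 ^ 2 * (5 * 11)) by norm_num, hord.dvd_mul, hord.dvd_mul, hord.dvd_mul] at d
  rw [← eD_zero_eq]
  rcases d with d | d | d | d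
  · exact h2 m (o.trans ((Nat.prime_dvd_prime_iff_eq hord (by norm_num)).1 (hord.dvd_of_dvd_pow d)))
  · exact h3 m (o.trans ((Nat.prime_dvd_prime_iff_eq hord (by norm_num)).1 (hord.dvd_of_dvd_pow d)))
  · exact h5 m (o.trans ((Nat.prime_dvd_prime_iff_eq hord (by norm_num)).1 d))
  · exact h11 m (o.trans ((Nat.prime_dvd_prime_iff_eq hord (by norm_num)).1 d))

end Cfsg.Agent.S5522
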