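import Cfsg.Statements.S5574
import Cfsg.Agent.H13.J8

set_option autoImplicit false
open Cfsg

namespace Cfsg.Agent.S5574

open H13

open H13

open Subgroup

/-- Let G be a finite non-abelian simple group of Janko-four type (an involution z whose centralizer H has an extraspecial largest normal 2-subgroup E of order 2^13 containing its centralizer in H, a normal subgroup N ≥ E of H with N/E of order 3 and H/N the automorphism group of M₂₂, and a subgroup P ≤ N of order 3 with C_E(P) = ⟨z⟩, N_H(P) ≠ C_H(P) and P ≤ C_H(P)′). Then G has a special 2-subgroup L of order 2^15 with centre of order 8 whose normalizer M satisfies: M/L is isomorphic to the direct product of the symmetric group of degree 5 and L₃(2); L has no complement in M; M nevertheless contains subgroups isomorphic to the symmetric group of degree 5 and to L₃(2); and M contains the normalizer of some Sylow 5-subgroup and of some Sylow 7-subgroup of G. -/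
theorem result {G : Type*} [Group G] [Finite G] [IsSimpleGroup G] (hG : ¬ IsMulCommutative G) (hJ : Cfsg.IsOfJankoFourType G) :
    ∃ L : Subgroup G, Cfsg.IsSpecial 2 ↥L ∧ Nat.card ↥L = 2 ^ 15 ∧ Nat.card ↥(Subgroup.center ↥L) = 8 ∧
    Nonempty (↥(Subgroup.normalizer (L : Set G)) ⧸ L.subgroupOf (Subgroup.normalizer (L : Set G)) ≃* Equiv.Perm (Fin 5) × Matrix.SpecialLinearGroup (Fin 3) (ZMod 2)) ∧
    (∀ K : Subgroup ↥(Subgroup.normalizer (L : Set G)), ¬ (L.subgroupOf (Subgroup.normalizer (L : Set G))).IsComplement' K) ∧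
    (∃ K₁ : Subgroup G, K₁ ≤ Subgroup.normalizer (L : Set G) ∧ Nonempty (↥K₁ ≃* Equiv.Perm (Fin 5))) ∧
    (∃ K₂ : Subgroup G, K₂ ≤ Subgroup.normalizer (L : Set G) ∧ Nonempty (↥K₂ ≃* Matrix.SpecialLinearGroup (Fin 3) (ZMod 2))) ∧
    (∃ Q : Sylow 5 G, Subgroup.normalizer ((Q : Subgroup G) : Set G) ≤ Subgroup.normalizer (L : Set G)) ∧
    (∃ S : Sylow 7 G, Subgroup.normalizer ((S : Subgroup G) : Set G) ≤ Subgroup.normalizer (L : Set G)) := by
  obtain ⟨z, P, hJ⟩ := hJ
  obtain ⟨π, P, h, x, hx, x3, -⟩ := H13.exists_jt0 hJ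
  obtain ⟨E, j⟩ := h.main hx hG x3
  obtain ⟨φ, s, k, K, k1, k2⟩ := j.phi hG
  obtain ⟨θ, a, b, c⟩ := h.loc8 hx x3 s k
  obtain ⟨d, e, f⟩ := h.spec8 hx x3 c
  have m : ∀ g, θ g = 1 ↔ g.1 ∈ θ.ker.map (Subgroup.subtype _) := fun g =>
    (mem_map_iff_mem (K := θ.ker) (Subgroup.subtype_injective _)).symm
  have n : normalizer (h.sub W6 : Set G) ≤ normalizer (θ.ker.map (Subgroup.subtype _) : Set G) := H1.le_normalizer_map_subtype_iff.2 inferInstance
  have p : IsPGroup 2 θ.ker := .of_card ((card_map_of_injective (Subgroup.subtype_injective _)).symm.trans e)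
  generalize θ.ker.map (Subgroup.subtype _) = L at *
  have n' : normalizer (L : Set G) ≤ normalizer (h.sub W6 : Set G) := f ▸ H1.normalizer_le_normalizer_map_char L _
  have a' : Function.Surjective (θ.comp (inclusion n')) := fun y => by obtain ⟨g, rfl⟩ := a y; exact ⟨⟨g, n g.2⟩, rfl⟩
  obtain ⟨u, u1, u2⟩ := g7 a p
  obtain ⟨⟨S, s1⟩, J, s2, s3⟩ := h.n7M hG u1 u2
  obtain ⟨q, o, q1⟩ := g5 a
  rw [← orderOf_coe] at o
  obtain ⟨q2, l⟩ := h.w5 hG o ((k _).1 ((b q).symm.trans q1))
  have i := (zpowers q.1).card_mul_index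
  rw [Nat.card_zpowers, o] at i
  have := Fact.mk (by norm_num : Nat.Prime 5)
  refine ⟨L, d, e, by rw [← card_map_of_injective L.subtype_injective, f, h.card_sub, card_W6],
    (quot_equiv_of (θ.comp (inclusion n')) a' fun g => m _).2.map (·.trans MulEquiv.prodComm), fun T t => ?_, ⟨J, s2.trans n, s3⟩, ⟨K, k1.trans n, k2⟩,
    ⟨IsPGroup.toSylow (P := zpowers q.1) (.of_card (n := 1) ((Nat.card_zpowers _).trans o)) fun u => h.n25 hG o q2 l (by
      rw [← i, pow_two]; exact Nat.mul_dvd_mul_left 5 u), fun g r => n (mem_normalizer_fintype fun y v => ?_)⟩, S, s1.trans n⟩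
  · let ι := (normalizer (L : Set G)).subtype.comp T.subtype
    have ι1 : Function.Injective ι := (Subgroup.subtype_injective _).comp T.subtype_injective
    have ι2 : ∀ g, ι g ∈ L → g = 1 := fun g r => Subtype.ext (t.disjoint.le_bot ⟨r, g.2⟩)
    obtain ⟨v, v1, v2, Y, v3, v4⟩ := g8 (θ := (θ.comp (inclusion n')).comp T.subtype) (fun y => by
      obtain ⟨g, rfl⟩ := a' y
      obtain ⟨⟨r, w⟩, rfl⟩ := t.2 g
      exact ⟨w, by rw [map_mul, show θ.comp (inclusion n') r = 1 from (m _).2 r.2, one_mul]; rfl⟩)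
      ((injective_iff_map_eq_one _).2 fun g r => ι2 g ((m _).1 r))
    rw [← orderOf_injective ι ι1] at v1
    obtain ⟨v5, v6⟩ := h.w5 hG v1 ((k _).1 ((b _).symm.trans v2))
    refine h.nosplit hG v1 v5 v6 (K := Y.map ι) ?_ (by rwa [card_map_of_injective ι1]) (eq_bot_iff.2 ?_)
    · rintro _ ⟨y, r, rfl⟩
      exact mem_Cz.2 (by rw [← map_mul, ← map_mul, mem_Cz.1 (v3 r)])
    · rintro _ ⟨⟨y, -, rfl⟩, r⟩
      rw [ι2 y (map_subtype_le _ (f.ge r))]; exact map_one ι
  · rcases (l.mem y).1 v with rfl | w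
    · simp
    · exact h.five_mem hG o q2 l ((cent_zpowers _).le ((mem_normalizer_iff.1 (H1.normalizer_le_normalizer_centralizer _ r) y).1
        ((cent_zpowers _).ge w.1))) (w.2.2.trans (isConj_cj g y))

end Cfsg.Agent.S5574
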