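import Cfsg.Statements.S5692
import Cfsg.Agent.H23.P26
import Cfsg.Agent.H23.Zd0

set_option autoImplicit false
open Cfsg

namespace Cfsg.Agent.S5692


/-- Let F be a finite field with q elements, n ≥ 13 even, Q a non-degenerate quadratic form on F^n of plus type (some subspace of dimension n/2 is totally singular), and Ω the commutator subgroup of the isometry group of Q, viewed inside GL_n(F). Let D be a decomposition of F^n into t ≥ 2 pairwise orthogonal, pairwise Q-isometric subspaces of equal dimension k ≥ 2 on which the polar form is non-degenerate, such that: if k is even, either every member is of plus type or t is even; if k is odd, q is odd and the discriminant of Q is a square. Exclude the cases k = 2 with q = 3, k = 2 with plus-type members and q ∈ {2, 4, 5}, k = 3 with q = 3, and k = 4 with plus-type members and q = 2. Then the elements of Ω permuting the members of D form a maximal subgroup of Ω. -/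
theorem result {F : Type*} [Field F] [Fintype F] {n : ℕ} (hn : 13 ≤ n) (heven : Even n) (Q : (Fin n → F) → F) (hQ : Cfsg.Geo.IsNondegenerateQuadraticForm Q) (hplus : Cfsg.Geo.IsPlusTypeOn Q ⊤) {t : ℕ} (k : ℕ) (hk : 2 ≤ k) (D : Fin t → Submodule F (Fin n → F)) (hD : Cfsg.Geo.IsOrthogonalMDecomposition Q k D) (hke : Even k → ((∀ i, Cfsg.Geo.IsPlusTypeOn Q (D i)) ∨ Even t)) (hko : Odd k → (Odd (Fintype.card F) ∧ Cfsg.Geo.HasSquareDiscriminant Q)) (hex : ¬ ((k = 2 ∧ (Fintype.card F = 3 ∨ ((∀ i, Cfsg.Geo.IsPlusTypeOn Q (D i)) ∧ (Fintype.card F = 2 ∨ Fintype.card F = 4 ∨ Fintype.card F = 5)))) ∨ (k = 3 ∧ Fintype.card F = 3) ∨ (k = 4 ∧ Fintype.card F = 2 ∧ ∀ i, Cfsg.Geo.IsPlusTypeOn Q (D i)))) : Cfsg.Geo.IsMaximalIn (Cfsg.Geo.omegaGL Q) (Cfsg.Geo.decompositionStabilizer D ⊓ Cfsg.Geo.omegaGL Q) := by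
  obtain ⟨Q, rfl, hΦ⟩ := H23.exists_quad hQ
  obtain ⟨π, h⟩ := H23.exists_oDec (Φ := H23.Form.ofQuad Q) (fun _ _ h => h) hD.decomp
  have h1 := H23.Nd.finrank_eq_mul h hD.decomp.decomp.finrank_eq
  simp only [Module.finrank_fintype_fun_eq_card, Fintype.card_fin] at h1
  refine H23.Nd.isMaximalIn_orthDec H23.Zd.zd hΦ (by simp; omega) hD hk (fun e => ⟨?_, Or.inr ?_⟩)
    (fun e => ⟨H23.two_ne_zero_of_odd_card (hko (e ▸ by decide)).1, fun e' => hex (by simp [e, e'])⟩)
    fun e e' => by_contra fun e'' => hex (Or.inr (Or.inr ⟨e, e', by simpa using e''⟩))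
  · refine or_iff_not_imp_left.2 fun e1 => ⟨fun e' => hex (by simp [e, e']),
      by_contra fun e' => hex (Or.inl ⟨e, ?_⟩)⟩
    have := H23.Nd.card_ne_six (F := F)
    have := Fintype.one_lt_card (α := F)
    exact or_iff_not_imp_left.2 fun e2 => ⟨by simpa using e', by omega⟩
  · rintro rfl
    omega

end Cfsg.Agent.S5692
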