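import Cfsg.Statements.S5727
import Mathlib
import Cfsg.Agent.S5726

set_option autoImplicit false
open Cfsg

namespace Cfsg.Agent.S5727

/-- If a finite group acts faithfully and transitively on a set with m·p elements, where p is a prime and 1 ≤ m ≤ p, then some element of order p fixes no point. -/
theorem result {G Ω : Type*} [Group G] [Finite G] [MulAction G Ω] [FaithfulSMul G Ω] [Fintype Ω] (htr : MulAction.IsPretransitive G Ω)
    (p m : ℕ) (hp : p.Prime) (hm : 1 ≤ m) (hmp : m ≤ p) (hΩ : Fintype.card Ω = m * p) :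
    ∃ g : G, orderOf g = p ∧ ∀ ω : Ω, g • ω ≠ ω := by
  classical
  rcases hmp.eq_or_lt with rfl | hlt
  · exact Cfsg.Agent.S5726.result htr m 2 hp (by norm_num) (by rw [hΩ, sq])
  have := Fact.mk hp
  obtain ⟨P⟩ : Nonempty (Sylow p G) := inferInstance
  -- the stabilisers in `P` have index `p`
  have hidx : ∀ ω : Ω, (MulAction.stabilizer (P : Subgroup G) ω).index = p := by
    intro ω
    obtain ⟨n, hn⟩ := P.isPGroup'.index (MulAction.stabilizer (P : Subgroup G) ω)
    have hle : (MulAction.stabilizer (P : Subgroup G) ω).index ≤ m * p := by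
      rw [MulAction.index_stabilizer, ← hΩ, ← Nat.card_eq_fintype_card]
      exact Set.ncard_le_card _
    have hn0 : n ≠ 0 := by
      rintro rfl
      rw [pow_zero, Subgroup.index_eq_one] at hn
      have hPle : (P : Subgroup G) ≤ MulAction.stabilizer G ω := fun g hg => by
        have : (⟨g, hg⟩ : (P : Subgroup G)) ∈ MulAction.stabilizer (P : Subgroup G) ω :=
          hn ▸ trivial
        exact this
      have := Subgroup.index_dvd_of_le hPle
      rw [MulAction.index_stabilizer_of_transitive, Nat.card_eq_fintype_card, hΩ] at this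
      exact P.not_dvd_index ((Dvd.intro_left _ rfl).trans this)
    have hn2 : n < 2 := by
      rw [← Nat.pow_lt_pow_iff_right hp.one_lt, ← hn, sq]
      exact hle.trans_lt (Nat.mul_lt_mul_of_pos_right hlt hp.pos)
    rw [hn, show n = 1 by omega, pow_one]
  have hnorm : ∀ ω : Ω, (MulAction.stabilizer (P : Subgroup G) ω).Normal := by
    intro ω
    apply Subgroup.normal_of_index_eq_minFac_card
    obtain ⟨n, hn⟩ := P.isPGroup'.exists_card_eq
    have hn0 : n ≠ 0 := by
      rintro rfl
      have := (MulAction.stabilizer (P : Subgroup G) ω).index_dvd_card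
      rw [hidx, hn, pow_zero, Nat.dvd_one] at this
      exact hp.one_lt.ne' this
    rw [hidx, hn, hp.pow_minFac hn0]
  let s : Finset (Subgroup (P : Subgroup G)) :=
    Finset.univ.image fun ω : Ω => MulAction.stabilizer (P : Subgroup G) ω
  have hs : s.card ≤ m := by
    have h1 : p * s.card ≤ (Finset.univ : Finset Ω).card := by
      apply Finset.mul_card_image_le_card
      intro H hH
      obtain ⟨ω, -, rfl⟩ := Finset.mem_image.1 hH
      refine (hidx ω).symm.trans_le ?_
      rw [MulAction.index_stabilizer, ← Set.ncard_coe_finset]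
      apply Set.ncard_le_ncard _ (Set.toFinite _)
      rintro _ ⟨g, rfl⟩
      simp only [Finset.coe_filter, Finset.mem_univ, true_and, Set.mem_ofPred_eq]
      rw [MulAction.stabilizer_smul_eq_stabilizer_map_conj]
      have := hnorm ω
      exact Subgroup.Normal.map_conj_eq _ g
    rw [Finset.card_univ, hΩ, mul_comm m] at h1
    exact Nat.le_of_mul_le_mul_left h1 hp.pos
  obtain ⟨g, hg⟩ : ∃ g : (P : Subgroup G), ∀ ω : Ω, g • ω ≠ ω := by
    by_contra hcon
    push Not at hcon
    obtain ⟨H, hH, -, hle⟩ := Subgroup.exists_index_le_card_of_leftCoset_cover (s := s)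
      (H := fun H => H) (g := fun _ => 1) (by
        rw [Set.eq_univ_iff_forall]
        intro g
        obtain ⟨ω, hω⟩ := hcon g
        simp only [Set.mem_iUnion]
        exact ⟨_, Finset.mem_image_of_mem _ (Finset.mem_univ ω), g, hω, one_mul g⟩)
    obtain ⟨ω, -, rfl⟩ := Finset.mem_image.1 hH
    rw [hidx] at hle
    omega
  refine ⟨g, ?_, hg⟩
  have hne : Nonempty Ω := by
    rw [← Fintype.card_pos_iff, hΩ]; exact Nat.mul_pos hm hp.pos
  obtain ⟨ω₀⟩ := hne
  apply orderOf_eq_prime
  · apply eq_of_smul_eq_smul (α := Ω)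
    intro ω
    have := hnorm ω
    have h := (MulAction.stabilizer (P : Subgroup G) ω).pow_index_mem g
    rw [hidx] at h
    rw [one_smul]
    exact h
  · intro h
    exact hg ω₀ (by rw [Subgroup.smul_def, h, one_smul])

end Cfsg.Agent.S5727
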