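import Cfsg.Statements.S5728
import Mathlib

set_option autoImplicit false
open Cfsg

namespace Cfsg.Agent.S5728

/-- An elusive transitive action. Let p = 2^s − 1 be a prime and let F be the field with p² elements. Inside the group of affine maps x ↦ a·x + b of F (a ≠ 0), consider the subgroup of maps with both coefficients in the prime field. Then every element of prime order of the affine group is conjugate, within the affine group, to an element of that subgroup; equivalently, in the transitive action of the affine group on the cosets of that subgroup (of degree p(p + 1)) every element of prime order fixes a point. -/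
theorem result (p s : ℕ) [Fact p.Prime] (hs : p = 2 ^ s - 1)
    (g : Equiv.Perm (GaloisField p 2)) (hg : g ∈ Cfsg.affineGroup (GaloisField p 2)) (hord : (orderOf g).Prime) :
    ∃ x ∈ Cfsg.affineGroup (GaloisField p 2), ∃ a b : ZMod p, a ≠ 0 ∧
      ∀ y : GaloisField p 2, (x * g * x⁻¹) y = algebraMap (ZMod p) (GaloisField p 2) a * y + algebraMap (ZMod p) (GaloisField p 2) b := by
  have hp : p.Prime := Fact.out
  obtain ⟨a, b, hab⟩ := hg
  by_cases ha : a = 1
  · have hb : b ≠ 0 := by
      rintro rfl
      have : g = 1 := Equiv.ext fun x => by simp [hab, ha]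
      rw [this, orderOf_one] at hord
      exact Nat.not_prime_one hord
    refine ⟨(Units.mk0 b hb)⁻¹.mulLeft, ⟨(Units.mk0 b hb)⁻¹, 0, fun x => by simp⟩, 1, 1,
      one_ne_zero, fun y => ?_⟩
    simp [Equiv.Perm.inv_def, hab, ha, mul_add, hb]
  · have ha' : (a : GaloisField p 2) - 1 ≠ 0 := fun h => ha (Units.ext (sub_eq_zero.1 h))
    set c : GaloisField p 2 := b / (a - 1) with hc
    have hconj : ∀ y, (Equiv.addRight c * g * (Equiv.addRight c)⁻¹) y = a * y := by
      intro y
      simp only [Equiv.Perm.inv_def, Equiv.Perm.mul_apply, Equiv.addRight_symm,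
        Equiv.coe_addRight, hab, hc]
      field_simp
      ring
    have hpow : ∀ (k : ℕ) y, ((Equiv.addRight c * g * (Equiv.addRight c)⁻¹) ^ k) y =
        (a : GaloisField p 2) ^ k * y := by
      intro k
      induction k with
      | zero => simp
      | succ k ih => intro y; rw [pow_succ, Equiv.Perm.mul_apply, ih, hconj]; ring
    have har : a ^ orderOf g = 1 := by
      have := hpow (orderOf g) 1
      rw [conj_pow, pow_orderOf_eq_one] at this
      apply Units.ext
      simpa using this.symm
    have hord' : orderOf a = orderOf g := by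
      have := Fact.mk hord
      exact orderOf_eq_prime har ha
    have hdvd : orderOf g ∣ (p - 1) * 2 ^ s := by
      have h1 := orderOf_dvd_natCard a
      rw [hord', Nat.card_units, GaloisField.card p 2 two_ne_zero] at h1
      have h2 : 2 ^ s = p + 1 := by have := hp.pos; omega
      rwa [h2, mul_comm, ← Nat.sq_sub_sq, one_pow]
    have hap : (a : GaloisField p 2) ∈ (⊥ : Subfield (GaloisField p 2)) := by
      rcases (Nat.Prime.dvd_mul hord).1 hdvd with h | h
      · rw [Subfield.mem_bot_iff_pow_eq_self _ p]
        rw [← hord', orderOf_dvd_iff_pow_eq_one] at h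
        rw [← pow_sub_one_mul hp.ne_zero, ← Units.val_pow_eq_pow_val, h]
        simp
      · have h2 := (Nat.prime_dvd_prime_iff_eq hord Nat.prime_two).1 (hord.dvd_of_dvd_pow h)
        rw [h2] at har
        have : (a : GaloisField p 2) ^ 2 = 1 := by rw [← Units.val_pow_eq_pow_val, har]; rfl
        rcases sq_eq_one_iff.1 this with h | h <;> rw [h]
        · exact one_mem _
        · exact neg_mem (one_mem _)
    rw [← ZMod.fieldRange_castHom_eq_bot p] at hap
    obtain ⟨a', ha''⟩ := hap
    refine ⟨Equiv.addRight c, ⟨1, c, fun x => by simp⟩, a', 0, ?_, fun y => ?_⟩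
    · rintro rfl
      exact a.ne_zero (by simpa using ha''.symm)
    · rw [hconj, ← ha'', map_zero, add_zero]
      congr 1
      exact congrFun (congrArg DFunLike.coe (Subsingleton.elim (α := ZMod p →+* _) _ _)) a'

end Cfsg.Agent.S5728
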