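import Mathlib
import Cfsg.Statements.S5735
import Cfsg.Agent.H8.Bin8
import Cfsg.Agent.H8.Bin4
import Cfsg.Agent.H8.CT
import Cfsg.Agent.H26.SzInst

set_option autoImplicit false
open Cfsg

namespace Cfsg.Agent.S5735

theorem result {G : Type*} [Group G] [Finite G] [IsSimpleGroup G] (hinv : ∃ s : G, orderOf s = 2)
    (hone : ∀ s t : G, orderOf s = 2 → orderOf t = 2 → IsConj s t)
    (H : Subgroup G) (hH : H ≠ ⊤) (heven : Even (Nat.card H)) :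
    (∀ (n : ℕ) (I J : Fin n → G ⧸ H), 2 ≤ n →
        (∀ i j : Fin n, i ≠ j → ∃ g : G, g • I i = J i ∧ g • I j = J j) → ∃ g : G, ∀ i, g • I i = J i) ↔
      (((∃ (F : Type) (_ : Field F) (_ : Fintype F) (a : ℕ), 2 ≤ a ∧ Fintype.card F = 2 ^ a ∧ Nonempty (G ≃* Matrix.SpecialLinearGroup (Fin 2) F)) ∧
          ∃ P : Sylow 2 G, H = P) ∨
        (Cfsg.Lie.IsoSuzuki G ∧ ∃ P : Sylow 2 G, H = (Subgroup.center (P : Subgroup G)).map (P : Subgroup G).subtype) ∨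
        ((∃ (F : Type) (_ : Field F) (_ : Fintype F) (a : ℕ), 2 ≤ a ∧ Fintype.card F = (2 ^ a) ^ 2 ∧ Nonempty (G ≃* Cfsg.PSU 3 F (2 ^ a))) ∧
          ∃ P : Sylow 2 G, H = (Subgroup.center (P : Subgroup G)).map (P : Subgroup G).subtype)) := by
  have := Fact.mk Nat.prime_two
  have two : ∀ {F : Type} [Field F] [Fintype F] {a : ℕ}, Fintype.card F = 2 ^ a → (2 : F) = 0 := fun h => by
    have := H26.charTwo_of_card h
    exact CharTwo.two_eq_zero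
  have sl : ∀ {F : Type} [Field F] [Fintype F], (2 : F) = 0 → ∀ e : G ≃* Matrix.SpecialLinearGroup (Fin 2) F,
      ∀ g, e.symm.toMonoidHom g = 1 ↔ H4.Sc g.1 := fun t0 e g => e.symm.map_eq_one_iff.trans
    ⟨fun h => by rw [h]; simp [H4.Sc], H8.Bin.eq_one_of_sc t0⟩
  have hb : H ≠ ⊥ := by rintro rfl; simp at heven
  change H8.Bin.Bin G (G ⧸ H) ↔ _
  constructor
  · intro h
    have := H8.Bin.nontrivial_quot hH
    obtain ⟨s, hs, hs2⟩ := H6.exists_ord2_mem_of_even heven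
    rcases H8.Bin.tri h.ml hone hs2 (H8.Bin.smul_one_iff.2 hs) with ⟨F, _, _, n, h1, h2, ⟨e⟩⟩ | h1 | ⟨F, _, _, n, h1, h2, ⟨e⟩⟩
    · obtain ⟨e'⟩ := H8.psl_equiv_sl (two h2)
      exact Or.inl ⟨⟨F, _, _, n, h1, h2, ⟨e.trans e'⟩⟩, H8.Bin.sl_even_even (e.trans e').symm.surjective
        (sl (two h2) _) (two h2) hH h.ml heven⟩
    · obtain ⟨F, _, _, m, h2, h3, ⟨e⟩⟩ := id h1
      exact Or.inr (Or.inl ⟨h1, ((H8.Bin.sz_main ((H26.Sz.lieModel h2 h3).ofEquiv e) H hH).1 h).resolve_left hb⟩)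
    · exact Or.inr (Or.inr ⟨⟨F, _, _, n, h1, h2, ⟨e⟩⟩, (H8.Bin.u_iff h1 h2 e hone hH heven).1 h⟩)
  · rintro (⟨⟨F, _, _, n, h1, h2, ⟨e⟩⟩, P, rfl⟩ | ⟨⟨F, _, _, m, h2, h3, ⟨e⟩⟩, h⟩ | ⟨⟨F, _, _, n, h1, h2, ⟨e⟩⟩, h⟩)
    · exact H8.Bin.sl_bin_syl e.symm.surjective (sl (two h2) _) (two h2) P
    · exact (H8.Bin.sz_main ((H26.Sz.lieModel h2 h3).ofEquiv e) H hH).2 (Or.inr h)
    · exact (H8.Bin.u_iff h1 h2 e hone hH heven).2 h

end Cfsg.Agent.S5735
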