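import Cfsg.Statements.S5742
import Cfsg.Agent.H9.Ef7
import Cfsg.Agent.S2079

set_option autoImplicit false
open Cfsg

namespace Cfsg.Agent.S5742

/-- The simple group ²E₆(2) (the twisted group of type E₆ over the field with 4 elements) contains at least three pairwise non-conjugate subgroups isomorphic to the Fischer group Fi₂₂. -/
theorem result {K : Type*} [Field K] [Fintype K] (hK : Fintype.card K = 4) :
    ∃ H : Fin 3 → Subgroup (Cfsg.Lie.twistedE6 K 2),
      (∀ i, Cfsg.Spor.IsoFi22 (H i)) ∧
      (∀ i j, i ≠ j → ∀ g : (Cfsg.Lie.twistedE6 K 2), (H i).map (MulAut.conj g).toMonoidHom ≠ H j) := by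
  obtain ⟨φ, h1, h2⟩ := H9Ef.fi22_emb hK
  exact H9Ef.three' hK φ.range (φ.ofInjective h1).symm S2079.result fun m hm =>
    h2 m fun x hx => hm x (Subgroup.map_le_range _ _ hx)

end Cfsg.Agent.S5742
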