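import Cfsg.Statements.S5743
import Cfsg.Agent.H24.OT4

set_option autoImplicit false
set_option maxHeartbeats 400000
open Cfsg

namespace Cfsg.Agent.S5743

/-- The simple group ²E₆(2) (the twisted group of type E₆ over the field with 4 elements) contains at least three pairwise non-conjugate subgroups isomorphic to the Chevalley group F₄(2). -/
theorem result {K : Type*} [Field K] [Fintype K] (hK : Fintype.card K = 4) :
    ∃ H : Fin 3 → Subgroup (Cfsg.Lie.twistedE6 K 2),
      (∀ i, Nonempty ((H i) ≃* Cfsg.Lie.chevF4.group (ZMod 2))) ∧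
      (∀ i j, i ≠ j → ∀ g : (Cfsg.Lie.twistedE6 K 2), (H i).map (MulAut.conj g).toMonoidHom ≠ H j) := by
  obtain ⟨g, h1, h2⟩ := H24.E6.exists_f (K := K) (q := 2) Nat.prime_two.isPrimePow hK
  obtain ⟨H, h3, h4⟩ := H24.E6.three_F4 g h1 hK h2
  obtain ⟨e⟩ : Nonempty (Cfsg.Lie.twistedE6 K 2 ≃* (H24.E6.z g h1).G1 (H24.E6.O g h1)) := ⟨(H24.E6.pack g h1 h2).e'⟩
  refine ⟨fun i => (H i).map e.symm.toMonoidHom, fun i => (h3 i).map (e.symm.subgroupMap _).symm.trans,
    fun i j hij x h => h4 i j hij (e x) (Subgroup.map_injective (f := e.symm.toMonoidHom) e.symm.injective ?_)⟩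
  rw [← show _ = (H j).map e.symm.toMonoidHom from h, Subgroup.map_map, Subgroup.map_map]
  congr 1
  ext y
  simp

end Cfsg.Agent.S5743
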