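import Cfsg.Statements.S5744
import Cfsg.Agent.H9.Ef7
import Cfsg.Agent.S1686
import Cfsg.Agent.S2604
import Cfsg.Agent.H29.LMO

set_option autoImplicit false
open Cfsg

namespace Cfsg.Agent.S5744

/-- The simple group ²E₆(2) (the twisted group of type E₆ over the field with 4 elements) contains at least three pairwise non-conjugate subgroups isomorphic to the orthogonal group Ω₇(3) (the commutator subgroup of the isometry group of x₀² + x₁y₁ + x₂y₂ + x₃y₃ over the field with 3 elements). -/
theorem result {K : Type*} [Field K] [Fintype K] (hK : Fintype.card K = 4) :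
    ∃ H : Fin 3 → Subgroup (Cfsg.Lie.twistedE6 K 2),
      (∀ i, Nonempty ((H i) ≃* Cfsg.Omega (ZMod 3) (Cfsg.quadFormOdd 3 (ZMod 3)))) ∧
      (∀ i j, i ≠ j → ∀ g : (Cfsg.Lie.twistedE6 K 2), (H i).map (MulAut.conj g).toMonoidHom ≠ H j) := by
  obtain ⟨φ, h1, h2⟩ := H9Ef.fi22_emb hK
  have e0 := S1686.result
  rw [open Cfsg.Spor.Fi22 in H28.fi22B.map_closure [b, c, d, e, f, g, h, i] (by simp) (W := H28.f2_Sb) (by decide +kernel)] at e0
  obtain ⟨e⟩ := e0
  have hz := Subgroup.card_eq_one.1 (H29.cen_odd (F := ZMod 3) (by decide) (m := 3) (by norm_num))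
  let e' := (QuotientGroup.quotientMulEquivOfEq hz).trans QuotientGroup.quotientBot
  obtain ⟨o⟩ := S2604.result (F := ZMod 3) (p := 3) (f := 1) (m := 3) le_rfl (ZMod.card 3) (by norm_num) le_rfl
  refine H9Ef.three' hK _ (((Subgroup.equivMapOfInjective _ _ h1).symm.trans e).trans e') ?_ h2
  rw [← H27.card_out_congr e', Nat.card_congr o.toEquiv]
  simp

end Cfsg.Agent.S5744
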