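import Cfsg.Statements.S5804
import Cfsg.Agent.H23.Sh1
import Cfsg.Agent.H23.Sh2
import Cfsg.Agent.H23.Sh4
import Cfsg.Agent.H23.Pr2
import Cfsg.Agent.H23.Bridge2
import Cfsg.Agent.H23.Od1
import Cfsg.Agent.H23.Fam
import Cfsg.Agent.H23.Sq3
import Cfsg.Agent.H23.C8

set_option autoImplicit false
open Cfsg

namespace Cfsg.Agent.S5804


/-- Maximal subgroups of Sp_6(q) of geometric type (any q). Let F be a finite field with q elements, f the standard alternating form on F^6 (coordinates Fin 3 ⊕ Fin 3) and Sp_6(F) its isometry group inside GL_6(F). Each of the following, intersected with Sp_6(F), is a maximal subgroup of Sp_6(F): (1) the stabiliser of any non-zero totally isotropic subspace (dimensions 1, 2, 3); (2) the stabiliser of any non-degenerate 2-space; (3) for q ≥ 3, the stabiliser of any decomposition of F^6 into three mutually orthogonal non-degenerate 2-spaces; (4) for q odd, the stabiliser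 of any decomposition into two totally isotropic 3-spaces; (5) the normaliser of any degree-3 subfield K of the matrix algebra whose elements are self-adjoint for f with f(k v, v) = 0 (f is the trace of an alternating form over K); (6) for q odd, the normaliser of any degree-2 subfield of the matrix algebra that is closed under adjoints but not self-adjoint (f is the trace of a multiple of a unitary form over K); (7) for q odd with q ≥ 5, the stabiliser of any tensor decomposition of f as (alternating form on F^2) ⊗ (non-degenerate symmetric bilinear form on F^3) up to a scalar; (8) every subfield group for a subfield F₀ with |F| = |F₀|^r, r prime, whose F₀-structure carries a non-zero scalar multiple of f; (9) for q even, the similarity group of any non-degenerate quadratic form whose polar form is f (either Witt type); its intersection with Sp_6(F) is the orthogonal group of that form. -/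
theorem result {F : Type*} [Field F] [Fintype F] :
    (∀ W : Submodule F (Fin 3 ⊕ Fin 3 → F), W ≠ ⊥ → Cfsg.Geo.IsTotallySingularFor (Cfsg.sympForm 3 F) W → Cfsg.Geo.IsMaximalIn (Cfsg.spGL 3 F) (Cfsg.Geo.subspaceStabilizer W ⊓ Cfsg.spGL 3 F)) ∧
    (∀ W : Submodule F (Fin 3 ⊕ Fin 3 → F), W ≠ ⊥ → Cfsg.Geo.IsNondegenerateOn (Cfsg.sympForm 3 F) W → Module.finrank F W < 3 → Cfsg.Geo.IsMaximalIn (Cfsg.spGL 3 F) (Cfsg.Geo.subspaceStabilizer W ⊓ Cfsg.spGL 3 F)) ∧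
    (3 ≤ Fintype.card F → ∀ D : Fin 3 → Submodule F (Fin 3 ⊕ Fin 3 → F), Cfsg.Geo.IsNondegenerateMDecomposition (Cfsg.sympForm 3 F) 2 D → Cfsg.Geo.IsMaximalIn (Cfsg.spGL 3 F) (Cfsg.Geo.decompositionStabilizer D ⊓ Cfsg.spGL 3 F)) ∧
    (Odd (Fintype.card F) → ∀ D : Fin 2 → Submodule F (Fin 3 ⊕ Fin 3 → F), Cfsg.Geo.IsMDecomposition 3 D → (∀ i, Cfsg.Geo.IsTotallySingularFor (Cfsg.sympForm 3 F) (D i)) → Cfsg.Geo.IsMaximalIn (Cfsg.spGL 3 F) (Cfsg.Geo.decompositionStabilizer D ⊓ Cfsg.spGL 3 F)) ∧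
    (∀ K : Subalgebra F (Matrix (Fin 3 ⊕ Fin 3) (Fin 3 ⊕ Fin 3) F), Cfsg.Geo.IsFieldSubalgebra 3 K → Cfsg.Geo.IsSelfAdjointFor (Cfsg.sympForm 3 F) K → (∀ k ∈ K, ∀ v : (Fin 3 ⊕ Fin 3 → F), (Cfsg.sympForm 3 F) (Matrix.mulVec k v) v = 0) → Cfsg.Geo.IsMaximalIn (Cfsg.spGL 3 F) (Cfsg.Geo.subalgebraNormalizer K ⊓ Cfsg.spGL 3 F)) ∧
    (Odd (Fintype.card F) → ∀ K : Subalgebra F (Matrix (Fin 3 ⊕ Fin 3) (Fin 3 ⊕ Fin 3) F), Cfsg.Geo.IsFieldSubalgebra 2 K → Cfsg.Geo.IsAdjointClosedFor (Cfsg.sympForm 3 F) K → ¬ Cfsg.Geo.IsSelfAdjointFor (Cfsg.sympForm 3 F) K → Cfsg.Geo.IsMaximalIn (Cfsg.spGL 3 F) (Cfsg.Geo.subalgebraNormalizer K ⊓ Cfsg.spGL 3 F)) ∧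
    (Odd (Fintype.card F) → 5 ≤ Fintype.card F → ∀ (e : (Fin 3 ⊕ Fin 3) ≃ Fin 2 × Fin 3) (P : Matrix.GeneralLinearGroup (Fin 3 ⊕ Fin 3) F) (f₁ : (Fin 2 → F) → (Fin 2 → F) → F) (f₂ : (Fin 3 → F) → (Fin 3 → F) → F), Cfsg.Geo.IsSymplecticForm f₁ → Cfsg.Geo.IsSymmetricForm f₂ → Cfsg.Geo.IsTensorFormStructure id (Cfsg.sympForm 3 F) f₁ f₂ e P → Cfsg.Geo.IsMaximalIn (Cfsg.spGL 3 F) (Cfsg.Geo.tensorProductSubgroup 2 3 e P ⊓ Cfsg.spGL 3 F)) ∧
    (∀ (F₀ : Subfield F) (r : ℕ) (P : Matrix.GeneralLinearGroup (Fin 3 ⊕ Fin 3) F) (ζ : F), r.Prime → Fintype.card F = Nat.card F₀ ^ r → ζ ≠ 0 → Cfsg.Geo.IsFormRationalStructure (Cfsg.sympForm 3 F) F₀ ζ P → Cfsg.Geo.IsMaximalIn (Cfsg.spGL 3 F) (Cfsg.Geo.subfieldSubgroup F₀ P ⊓ Cfsg.spGL 3 F)) ∧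
    (¬ Odd (Fintype.card F) → ∀ Q : (Fin 3 ⊕ Fin 3 → F) → F, Cfsg.Geo.IsNondegenerateQuadraticForm Q → (∀ u v : (Fin 3 ⊕ Fin 3 → F), QuadraticMap.polar Q u v = (Cfsg.sympForm 3 F) u v) → Cfsg.Geo.IsMaximalIn (Cfsg.spGL 3 F) (Cfsg.Geo.quadSimilarityGroup Q ⊓ Cfsg.spGL 3 F)) := by
  have hΦ := H23.spForm_nondeg (F := F) 3
  refine ⟨fun W hW0 hW => ?_, fun W hW0 hW hd => ?_, fun h D hD => H23.isMaximalIn_dec_Sp hD (Or.inr h),
    fun hodd D hD hts => ?_, fun K h1 h2 h3 => H23.Sh.isMaximalIn_sx3 (by norm_num) h1 h2 h3,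
    fun hodd K h1 h2 h3 => H23.Pr.isMaximalIn_gp (by norm_num) (H23.two_ne_zero_of_odd_card hodd) h1 h2 h3,
    fun hodd h5 e P f₁ f₂ h1 h2 h3 =>
      H23.Pr.isMaximalIn_so3 (H23.two_ne_zero_of_odd_card hodd) (by omega) h1 h2 h3,
    fun F₀ r P ζ hr hcard hζ hP => ?_, fun heven Q hQ hpol => ?_⟩
  · exact H23.isMaximalIn_stab_of_E (fun _ => H23.mem_spGL_iff_E) (H23.Form.isMaximalIn_totSing
      hΦ ⟨fun u hu v hv => (H23.spForm_B 3 u v).trans (hW u hu v hv),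
      fun _ _ => rfl⟩ hW0 ((H23.Form.hasTv_alt rfl rfl).move _) ((H23.Form.hasTv_alt rfl rfl).move _))
  · exact H23.isMaximalIn_stab_of_E (fun _ => H23.mem_spGL_iff_E)
      (H23.Pr.isMaximalIn_nondeg_alt rfl rfl hΦ (H23.disjoint_perp_of_nondegOn
        (fun u v h => Or.inl ((H23.spForm_B 3 u v).symm.trans h))
        (fun u v h => by rw [H23.sympForm_comm, h, neg_zero]) hW) hW0 (by simp; omega))
  · have hT : ∀ i, (H23.spForm 3 F).TotSing (D i) := fun i =>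
      ⟨fun u hu v hv => (H23.spForm_B 3 u v).trans (hts i u hu v hv), fun _ _ => rfl⟩
    have hc := H23.isCompl_of_isMDecomposition hD
    exact H23.isMaximalIn_dec_of_E (fun _ => H23.mem_spGL_iff_E) (H23.Sh.isMaximalIn_tsPair3 hΦ rfl
      (H23.two_ne_zero_of_odd_card hodd) (hT 0) (hT 1) hc (hD.finrank_eq 0)
      ((H23.Form.hasTv_alt rfl rfl).exists_swap hΦ (hT 0) (hT 1) hc))
  · have hB : ∀ x ∈ H23.Sf.colS F₀ P, ∀ y ∈ H23.Sf.colS F₀ P,
        (H23.Sf.scale (H23.spForm 3 F) hζ).B x y ∈ F₀ := by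
      rintro _ ⟨x, hx, rfl⟩ _ ⟨y, hy, rfl⟩
      simpa [H23.Sf.scale_B] using hP x y hx hy
    by_cases h2 : (2 : F) = 0
    · exact H23.Sq.isMaximalIn_colS_two (H23.Sf.scale_nondeg hζ hΦ)
        (by simp [H23.Sf.scale, hζ]) rfl h2 hB (by simp)
        (H23.Sf.pd_of_card hr hcard) fun g => by rw [H23.Sf.scale_E, H23.mem_spGL_iff_E]
    · exact H23.Sh.isMaximalIn_colS_six (H23.Sf.scale_nondeg hζ hΦ)
        (by simp [H23.Sf.scale, hζ]) rfl h2 hB (by simp)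
        (H23.Sf.pd_of_card hr hcard) fun g => by rw [H23.Sf.scale_E, H23.mem_spGL_iff_E]
  have h2 := H23.two_eq_zero_of_not_odd heven
  obtain ⟨Q, rfl, hΨ⟩ := H23.exists_quad hQ
  have hB : (H23.spForm 3 F).B = (H23.Form.ofQuad Q).B :=
    LinearMap.ext₂ fun u v => (H23.spForm_B 3 u v).trans (hpol u v).symm
  refine H23.isMaximalIn_of_iff (H23.glE _ F) (H23.Sq.isMaximalIn_O_Sp hΨ rfl rfl rfl hB
    h2 (by simp)) (fun g => H23.mem_spGL_iff_E) fun g => ?_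
  rw [Subgroup.mem_inf, H23.mem_spGL_iff]
  constructor
  · rintro ⟨⟨c, hc⟩, h⟩
    refine ⟨hB ▸ h.1, fun v => ?_⟩
    obtain ⟨y, hy⟩ := hΨ.exists_ne (x := 1) (fun h => by simpa using congrFun h (Sum.inl 0))
    have := h.1 1 y
    rw [hB, hy] at this
    have h1 : (c : F) * (H23.Form.ofQuad Q).B 1 y = 1 := by
      rw [← this]
      simp only [H23.Form.ofQuad_B, QuadraticMap.polar, H23.glE_apply, ← Matrix.mulVec_add, hc]
      ring
    rw [hy, mul_one] at h1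
    simpa [h1] using hc v
  · exact fun h => ⟨⟨1, by simpa using h.2⟩, hB ▸ h.1, fun _ => rfl⟩

end Cfsg.Agent.S5804
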