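import Cfsg.Statements.S5825
import Cfsg.Agent.H23.Nd2
import Cfsg.Agent.H23.Sx4
import Cfsg.Agent.H23.Sg5

set_option autoImplicit false
open Cfsg

namespace Cfsg.Agent.S5825


/-- Maximal subgroups of Ω_8^-(q) of geometric type (any q). Let F be a finite field with q elements, Q a non-degenerate quadratic form on F^8 (non-degenerate polar form) of minus type (Witt index 3: no totally singular 4-space), and Ω = Ω_8^-(q) the commutator subgroup of the isometry group of Q, inside GL_8(F). Each of the following, intersected with Ω, is a maximal subgroup of Ω: (1) the stabiliser of any non-zero subspace on which Q vanishes identically (totally singular 1-, 2- and 3-spaces); (2) for q odd, the stabiliser of any proper subspace of odd dimension (1, 3, 5 or 7) on which the polar form of Q is non-degenerate; (3) the stabiliser of any non-degenerate 2-space of minus type (containing no non-zero singular vector); (4) for q ≥ 4, the stabiliser of any non-degenerate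 2-space of plus type (containing a non-zero singular vector); (5) the stabiliser of any non-degenerate 4-space (its orthogonal complement is then a non-degenerate 4-space of the opposite type); (6) for q even, the stabiliser of the 1-space spanned by any non-singular vector v (Q(v) ≠ 0); (7) for q odd, the normaliser of any degree-2 subfield K of the matrix algebra whose elements are self-adjoint for the polar form of Q (Q is then the trace of a quadratic form over K); (8) every subfield group for a subfield F₀ of odd prime index r in F whose F₀-structure carries a non-zero scalar multiple of Q. -/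
theorem result {F : Type*} [Field F] [Fintype F] (Q : (Fin 8 → F) → F) (hQ : Cfsg.Geo.IsNondegenerateQuadraticForm Q) (hminus : ¬ Cfsg.Geo.IsPlusTypeOn Q ⊤) :
    (∀ W : Submodule F (Fin 8 → F), W ≠ ⊥ → Cfsg.Geo.IsTotallySingularQuad Q W → Cfsg.Geo.IsMaximalIn (Cfsg.Geo.omegaGL Q) (Cfsg.Geo.subspaceStabilizer W ⊓ Cfsg.Geo.omegaGL Q)) ∧
    (Odd (Fintype.card F) → ∀ W : Submodule F (Fin 8 → F), W ≠ ⊥ → W ≠ ⊤ → Odd (Module.finrank F W) → Cfsg.Geo.IsNondegenerateOn (QuadraticMap.polar Q) W → Cfsg.Geo.IsMaximalIn (Cfsg.Geo.omegaGL Q) (Cfsg.Geo.subspaceStabilizer W ⊓ Cfsg.Geo.omegaGL Q)) ∧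
    (∀ W : Submodule F (Fin 8 → F), Module.finrank F W = 2 → Cfsg.Geo.IsNondegenerateOn (QuadraticMap.polar Q) W → ¬ Cfsg.Geo.IsPlusTypeOn Q W → Cfsg.Geo.IsMaximalIn (Cfsg.Geo.omegaGL Q) (Cfsg.Geo.subspaceStabilizer W ⊓ Cfsg.Geo.omegaGL Q)) ∧
    (4 ≤ Fintype.card F → ∀ W : Submodule F (Fin 8 → F), Module.finrank F W = 2 → Cfsg.Geo.IsNondegenerateOn (QuadraticMap.polar Q) W → Cfsg.Geo.IsPlusTypeOn Q W → Cfsg.Geo.IsMaximalIn (Cfsg.Geo.omegaGL Q) (Cfsg.Geo.subspaceStabilizer W ⊓ Cfsg.Geo.omegaGL Q)) ∧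
    (∀ W : Submodule F (Fin 8 → F), Module.finrank F W = 4 → Cfsg.Geo.IsNondegenerateOn (QuadraticMap.polar Q) W → Cfsg.Geo.IsMaximalIn (Cfsg.Geo.omegaGL Q) (Cfsg.Geo.subspaceStabilizer W ⊓ Cfsg.Geo.omegaGL Q)) ∧
    (¬ Odd (Fintype.card F) → ∀ v : (Fin 8 → F), Q v ≠ 0 → Cfsg.Geo.IsMaximalIn (Cfsg.Geo.omegaGL Q) (Cfsg.Geo.subspaceStabilizer (Submodule.span F {v}) ⊓ Cfsg.Geo.omegaGL Q)) ∧
    (Odd (Fintype.card F) → ∀ K : Subalgebra F (Matrix (Fin 8) (Fin 8) F), Cfsg.Geo.IsFieldSubalgebra 2 K → Cfsg.Geo.IsSelfAdjointFor (QuadraticMap.polar Q) K → Cfsg.Geo.IsMaximalIn (Cfsg.Geo.omegaGL Q) (Cfsg.Geo.subalgebraNormalizer K ⊓ Cfsg.Geo.omegaGL Q)) ∧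
    (∀ (F₀ : Subfield F) (r : ℕ) (P : Matrix.GeneralLinearGroup (Fin 8) F) (ζ : F), r.Prime → Odd r → Fintype.card F = Nat.card F₀ ^ r → ζ ≠ 0 → Cfsg.Geo.IsQuadFormRationalStructure (fun v : Fin 8 → F => ζ * Q v) F₀ P → Cfsg.Geo.IsMaximalIn (Cfsg.Geo.omegaGL Q) (Cfsg.Geo.subfieldSubgroup F₀ P ⊓ Cfsg.Geo.omegaGL Q)) := by
  have hox := fun h2 K => H23.isMaximalIn_ox (K := K) Nat.prime_two (by simp) h2 hQ
  obtain ⟨Q, rfl, hΦ⟩ := H23.exists_quad hQ
  have hE := fun g => H23.mem_omegaGL_iff_E hΦ (by simp) (g := g)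
  have hV : Module.finrank F (Fin 8 → F) = 8 := by simp
  refine ⟨fun W hW0 hW => H23.isMaximalIn_stab_of_E hE (H23.Form.isMaximalIn_totSing_quad hΦ rfl
    (by omega) (H23.Form.totSing_ofQuad.2 hW) hW0
      fun _ h => hminus (H23.isPlusTypeOn_top_iff.2 h)), fun hodd W h0 h1 h2 hW => ?_,
    fun W h2 hW h3 => ?_, fun h4 W h2 hW _ => ?_, fun W h4 hW => ?_, fun hq v hv => ?_,
    fun hodd K => hox (H23.two_ne_zero_of_odd_card hodd) K,
    fun F₀ r P ζ hr _ hcard hζ hP => H23.Sg.isMaximalIn_colS_quad hΦ hζ hP (by simp)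
      (H23.Sf.pd_of_card hr hcard)⟩
  · have h3 := hΦ.finrank_perp_add W
    rw [Nat.odd_iff] at h2
    refine H23.isMaximalIn_stab_of_E hE (H23.Nd.isMaximalIn_nd' hΦ rfl
      (.inr (.inl ⟨by omega, H23.two_ne_zero_of_odd_card hodd⟩)) (H23.disjoint_perp_quad hW) h0 h1
      (by omega) ?_)
    rintro U (rfl | rfl) h4 <;> omega
  · have h4 := hΦ.finrank_perp_add W
    refine H23.isMaximalIn_stab_of_E hE (H23.Nd.isMaximalIn_nd' hΦ rfl
      (.inr (.inr (by omega))) (H23.disjoint_perp_quad hW) (by rintro rfl; simp at h2)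
      (by rintro rfl; simp at h2) (by omega) ?_)
    rintro U (rfl | rfl) h4 h
    · exact absurd (H23.isPlusTypeOn_of_sing h4 h) h3
    · omega
  · exact H23.isMaximalIn_stab_of_E hE (H23.Nd.isMaximalIn_nd' hΦ rfl
      (.inr (.inr (by omega))) (H23.disjoint_perp_quad hW) (by rintro rfl; simp at h2)
      (by rintro rfl; simp at h2) (by omega) fun _ _ _ _ => h4)
  · exact H23.isMaximalIn_stab_of_E hE (H23.Nd.isMaximalIn_four hΦ rfl hV
      (H23.disjoint_perp_quad hW) h4 fun X h1 h2 =>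
        hminus (H23.isPlusTypeOn_top_iff.2 ⟨X, h1, by omega⟩))
  · exact H23.isMaximalIn_stab_of_E hE (H23.Nd.isMaximalIn_nonsing hΦ rfl (by omega)
      (by rw [H22.B_self_quad rfl, H23.two_eq_zero_of_not_odd hq, zero_mul]) hv)

end Cfsg.Agent.S5825
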