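import Cfsg.Statements.S5846
import Cfsg.Agent.H23.P27
import Cfsg.Agent.H23.Fr5
import Cfsg.Agent.H23.Sx4
import Cfsg.Agent.H23.Sg5
import Cfsg.Agent.H23.Zd0

set_option autoImplicit false
open Cfsg

namespace Cfsg.Agent.S5846


/-- Maximal subgroups of Ω_10^+(q) of geometric type (any q). Let F be a finite field with q elements (characteristic p), Q a non-degenerate quadratic form on F^10 (non-degenerate polar form) of plus type (Witt index 5: some totally singular 5-space), and Ω = Ω_10^+(q) the commutator subgroup of the isometry group of Q, inside GL_10(F). Each of the following, intersected with Ω, is a maximal subgroup of Ω: (1) the stabiliser of any non-zero subspace on which Q vanishes identically other than those of dimension 4 (totally singular subspaces, dimensions 1, 2, 3 and 5); (2) for q odd, the stabiliser of any proper subspace of odd dimension other than 5 on which the polar form of Q is non-degenerate; (3) the stabiliser of any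 non-degenerate 2-space of minus type (containing no non-zero singular vector); (4) for q ≥ 4, the stabiliser of any non-degenerate 2-space of plus type (containing a non-zero singular vector); (5) the stabiliser of any non-degenerate 4-space (either type); (6) for q even, the stabiliser of the 1-space spanned by any non-singular vector v (Q(v) ≠ 0); (7) for q = p prime with p ≡ 1 mod 4, the stabiliser of any decomposition of F^10 into 10 pairwise orthogonal, pairwise Q-isometric non-degenerate 1-spaces; (8) for q ≥ 7, the stabiliser of any decomposition of F^10 into 5 pairwise orthogonal, pairwise Q-isometric non-degenerate 2-spaces; (9) for q ≡ 1 mod 4, the stabiliser of any decomposition of F^10 into 2 pairwise orthogonal, pairwise Q-isometric non-degenerate 5-spaces; (10) for q ≡ 3 mod 4, the stabiliser of any decomposition of F^10 into two orthogonal non-degenerate 5-spaces that are not Q-isometric; (11) for q odd, the normaliser of any degree-2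 subfield K of the matrix algebra whose elements are self-adjoint for the polar form of Q (Q is then the trace of a quadratic form over K); (12) every subfield group for a subfield F₀ with |F| = |F₀|^r, r prime, whose F₀-structure carries a non-zero scalar multiple of Q. -/
theorem result {F : Type*} [Field F] [Fintype F] (Q : (Fin 10 → F) → F) (hQ : Cfsg.Geo.IsNondegenerateQuadraticForm Q) (hplus : Cfsg.Geo.IsPlusTypeOn Q ⊤) :
    (∀ W : Submodule F (Fin 10 → F), W ≠ ⊥ → Cfsg.Geo.IsTotallySingularQuad Q W → Module.finrank F W ≠ 4 → Cfsg.Geo.IsMaximalIn (Cfsg.Geo.omegaGL Q) (Cfsg.Geo.subspaceStabilizer W ⊓ Cfsg.Geo.omegaGL Q)) ∧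
    (Odd (Fintype.card F) → ∀ W : Submodule F (Fin 10 → F), W ≠ ⊥ → W ≠ ⊤ → Odd (Module.finrank F W) → 2 * Module.finrank F W ≠ 10 → Cfsg.Geo.IsNondegenerateOn (QuadraticMap.polar Q) W → Cfsg.Geo.IsMaximalIn (Cfsg.Geo.omegaGL Q) (Cfsg.Geo.subspaceStabilizer W ⊓ Cfsg.Geo.omegaGL Q)) ∧
    (∀ W : Submodule F (Fin 10 → F), Module.finrank F W = 2 → Cfsg.Geo.IsNondegenerateOn (QuadraticMap.polar Q) W → ¬ Cfsg.Geo.IsPlusTypeOn Q W → Cfsg.Geo.IsMaximalIn (Cfsg.Geo.omegaGL Q) (Cfsg.Geo.subspaceStabilizer W ⊓ Cfsg.Geo.omegaGL Q)) ∧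
    (4 ≤ Fintype.card F → ∀ W : Submodule F (Fin 10 → F), Module.finrank F W = 2 → Cfsg.Geo.IsNondegenerateOn (QuadraticMap.polar Q) W → Cfsg.Geo.IsPlusTypeOn Q W → Cfsg.Geo.IsMaximalIn (Cfsg.Geo.omegaGL Q) (Cfsg.Geo.subspaceStabilizer W ⊓ Cfsg.Geo.omegaGL Q)) ∧
    (∀ W : Submodule F (Fin 10 → F), Module.finrank F W = 4 → Cfsg.Geo.IsNondegenerateOn (QuadraticMap.polar Q) W → Cfsg.Geo.IsMaximalIn (Cfsg.Geo.omegaGL Q) (Cfsg.Geo.subspaceStabilizer W ⊓ Cfsg.Geo.omegaGL Q)) ∧
    (¬ Odd (Fintype.card F) → ∀ v : (Fin 10 → F), Q v ≠ 0 → Cfsg.Geo.IsMaximalIn (Cfsg.Geo.omegaGL Q) (Cfsg.Geo.subspaceStabilizer (Submodule.span F {v}) ⊓ Cfsg.Geo.omegaGL Q)) ∧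
    ((∃ p : ℕ, p.Prime ∧ Fintype.card F = p ∧ (p % 4 = 1)) → ∀ D : Fin 10 → Submodule F (Fin 10 → F), Cfsg.Geo.IsOrthogonalMDecomposition Q 1 D → Cfsg.Geo.IsMaximalIn (Cfsg.Geo.omegaGL Q) (Cfsg.Geo.decompositionStabilizer D ⊓ Cfsg.Geo.omegaGL Q)) ∧
    (7 ≤ Fintype.card F → ∀ D : Fin 5 → Submodule F (Fin 10 → F), Cfsg.Geo.IsOrthogonalMDecomposition Q 2 D → Cfsg.Geo.IsMaximalIn (Cfsg.Geo.omegaGL Q) (Cfsg.Geo.decompositionStabilizer D ⊓ Cfsg.Geo.omegaGL Q)) ∧
    (Fintype.card F % 4 = 1 → ∀ D : Fin 2 → Submodule F (Fin 10 → F), Cfsg.Geo.IsOrthogonalMDecomposition Q 5 D → Cfsg.Geo.IsMaximalIn (Cfsg.Geo.omegaGL Q) (Cfsg.Geo.decompositionStabilizer D ⊓ Cfsg.Geo.omegaGL Q)) ∧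
    (Fintype.card F % 4 = 3 → ∀ D : Fin 2 → Submodule F (Fin 10 → F), Cfsg.Geo.IsNondegenerateMDecomposition (QuadraticMap.polar Q) 5 D → ¬ Cfsg.Geo.AreIsometricFor Q (D 0) (D 1) → Cfsg.Geo.IsMaximalIn (Cfsg.Geo.omegaGL Q) (Cfsg.Geo.decompositionStabilizer D ⊓ Cfsg.Geo.omegaGL Q)) ∧
    (Odd (Fintype.card F) → ∀ K : Subalgebra F (Matrix (Fin 10) (Fin 10) F), Cfsg.Geo.IsFieldSubalgebra 2 K → Cfsg.Geo.IsSelfAdjointFor (QuadraticMap.polar Q) K → Cfsg.Geo.IsMaximalIn (Cfsg.Geo.omegaGL Q) (Cfsg.Geo.subalgebraNormalizer K ⊓ Cfsg.Geo.omegaGL Q)) ∧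
    (∀ (F₀ : Subfield F) (r : ℕ) (P : Matrix.GeneralLinearGroup (Fin 10) F) (ζ : F), r.Prime → Fintype.card F = Nat.card F₀ ^ r → ζ ≠ 0 → Cfsg.Geo.IsQuadFormRationalStructure (fun v : Fin 10 → F => ζ * Q v) F₀ P → Cfsg.Geo.IsMaximalIn (Cfsg.Geo.omegaGL Q) (Cfsg.Geo.subfieldSubgroup F₀ P ⊓ Cfsg.Geo.omegaGL Q)) := by
  have hox := fun h2 K => H23.isMaximalIn_ox (K := K) Nat.prime_two (by simp) h2 hQ
  obtain ⟨Q, rfl, hΦ⟩ := H23.exists_quad hQ
  have hE := fun g => H23.mem_omegaGL_iff_E hΦ (by simp) (g := g)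
  have hV : Module.finrank F (Fin 10 → F) = 10 := by simp
  have nd := fun W => H23.Nd.isMaximalIn_nd' (D := W) hΦ rfl (.inl (by omega))
  refine ⟨fun W hW0 hW h => H23.isMaximalIn_stab_of_E hE (H23.Form.isMaximalIn_totSing_quad hΦ rfl
    (by omega) (H23.Form.totSing_ofQuad.2 hW) hW0 (by omega)), fun hodd W h0 h1 h2 h3 hW => ?_,
    fun W h2 hW h3 => ?_, fun h4 W h2 hW _ => ?_, fun W h4 hW => ?_, fun hq v hv => ?_,
    fun ⟨p, hp, h1, h2⟩ D hD => H23.Fr.isMaximalIn_frame' H23.Zd.zd (h1 ▸ hp)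
      (H23.two_ne_zero_of_odd_card (Nat.odd_iff.2 (by omega))) hΦ (by simp) hD,
    fun h D hD => H23.Nd.isMaximalIn_orthDec H23.Zd.zd hΦ (by simp) hD le_rfl
      (fun _ => ⟨Or.inl h, Or.inr (by decide)⟩) (by simp) (by simp),
    fun h D hD => H23.Nd.isMaximalIn_orthDec H23.Zd.zd hΦ (by simp) hD (by decide)
      (by simp) (by simp) (by simp),
    fun _ D hD => H23.Nd.isMaximalIn_noniso hΦ (by simp) (by simp) hD,
    fun hodd K => hox (H23.two_ne_zero_of_odd_card hodd) K,
    fun F₀ r P ζ hr hcard hζ hP => H23.Sg.isMaximalIn_colS_quad hΦ hζ hP (by simp)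
      (H23.Sf.pd_of_card hr hcard)⟩
  · have h3 := hΦ.finrank_perp_add W
    rw [Nat.odd_iff] at h2
    refine H23.isMaximalIn_stab_of_E hE (nd W (H23.disjoint_perp_quad hW) h0 h1 (by omega) ?_)
    rintro U (rfl | rfl) h4 <;> omega
  · have h4 := hΦ.finrank_perp_add W
    refine H23.isMaximalIn_stab_of_E hE (nd W (H23.disjoint_perp_quad hW) (by rintro rfl; simp at h2)
      (by rintro rfl; simp at h2) (by omega) ?_)
    rintro U (rfl | rfl) h4 h
    · exact absurd (H23.isPlusTypeOn_of_sing h4 h) h3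
    · omega
  · exact H23.isMaximalIn_stab_of_E hE (nd W (H23.disjoint_perp_quad hW) (by rintro rfl; simp at h2)
      (by rintro rfl; simp at h2) (by omega) fun _ _ _ _ => h4)
  · have h3 := hΦ.finrank_perp_add W
    refine H23.isMaximalIn_stab_of_E hE (nd W (H23.disjoint_perp_quad hW) (by rintro rfl; simp at h4)
      (by rintro rfl; simp at h4) (by omega) ?_)
    rintro U (rfl | rfl) h <;> omega
  · exact H23.isMaximalIn_stab_of_E hE (H23.Nd.isMaximalIn_nonsing hΦ rfl (by omega)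
      (by rw [H22.B_self_quad rfl, H23.two_eq_zero_of_not_odd hq, zero_mul]) hv)

end Cfsg.Agent.S5846
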