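import Cfsg.Statements.S5864
import Cfsg.Agent.H23.Qu4
import Cfsg.Agent.H23.Bridge2
import Cfsg.Agent.H23.Fam
import Cfsg.Agent.H23.Sf5

set_option autoImplicit false
open Cfsg

namespace Cfsg.Agent.S5864


/-- Maximal subgroups of SU_12(q) of geometric type (any prime power q). Let F be the field with q² elements (characteristic p), f the standard unitary form Σ u_i v_i^q on F^12 and SU_12(q) its determinant-one isometry group inside GL_12(F). Each of the following, intersected with SU_12(q), is a maximal subgroup of SU_12(q): (1) the stabiliser of any non-zero subspace on which f vanishes identically (totally isotropic subspaces, of dimension 1 to 6); (2) the stabiliser of any non-zero non-degenerate subspace W with 2 dim W < 12 (dimension 1 to 5); (3) the stabiliser of any decomposition of F^12 into 12 mutually orthogonal non-degenerate 1-spaces; (4) for q ≥ 3, the stabiliser of any decomposition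 of F^12 into 6 mutually orthogonal non-degenerate 2-spaces; (5) the stabiliser of any decomposition of F^12 into 4 mutually orthogonal non-degenerate 3-spaces; (6) the stabiliser of any decomposition of F^12 into 3 mutually orthogonal non-degenerate 4-spaces; (7) the stabiliser of any decomposition of F^12 into 2 mutually orthogonal non-degenerate 6-spaces; (8) the stabiliser of any decomposition into two totally isotropic 6-spaces; (9) the normaliser of any degree-3 subfield of the matrix algebra closed under adjoints for f; (10) for q ≥ 3, the stabiliser of any tensor decomposition of f as (unitary form on F^2) ⊗ (unitary form on F^6) up to a scalar; (11) the stabiliser of any tensor decomposition of f as (unitary form on F^3) ⊗ (unitary form on F^4) up to a scalar; (12) every subfield group for a subfield F₀ of odd prime index in F whose F₀-structure carries f; (13) every subfield group for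 the subfield F₀ of index 2 whose F₀-structure carries ζ f, vanishing on pairs (u, u), for a non-zero ζ with ζ + ζ^q = 0 (symplectic type); (14) for q odd, every subfield group for the subfield F₀ of index 2 whose F₀-structure carries f (orthogonal type, either sign). -/
theorem result {F : Type*} [Field F] [Fintype F] (q : ℕ) (hF : Fintype.card F = q ^ 2) :
    (∀ W : Submodule F (Fin 12 → F), W ≠ ⊥ → Cfsg.Geo.IsTotallySingularFor (Cfsg.hermForm 12 F q) W → Cfsg.Geo.IsMaximalIn (Cfsg.GU 12 F q ⊓ Cfsg.Geo.specialLinear (Fin 12) F) (Cfsg.Geo.subspaceStabilizer W ⊓ (Cfsg.GU 12 F q ⊓ Cfsg.Geo.specialLinear (Fin 12) F))) ∧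
    (∀ W : Submodule F (Fin 12 → F), W ≠ ⊥ → Cfsg.Geo.IsNondegenerateOn (Cfsg.hermForm 12 F q) W → 2 * Module.finrank F W < 12 → Cfsg.Geo.IsMaximalIn (Cfsg.GU 12 F q ⊓ Cfsg.Geo.specialLinear (Fin 12) F) (Cfsg.Geo.subspaceStabilizer W ⊓ (Cfsg.GU 12 F q ⊓ Cfsg.Geo.specialLinear (Fin 12) F))) ∧
    (∀ D : Fin 12 → Submodule F (Fin 12 → F), Cfsg.Geo.IsNondegenerateMDecomposition (Cfsg.hermForm 12 F q) 1 D → Cfsg.Geo.IsMaximalIn (Cfsg.GU 12 F q ⊓ Cfsg.Geo.specialLinear (Fin 12) F) (Cfsg.Geo.decompositionStabilizer D ⊓ (Cfsg.GU 12 F q ⊓ Cfsg.Geo.specialLinear (Fin 12) F))) ∧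
    (3 ≤ q → ∀ D : Fin 6 → Submodule F (Fin 12 → F), Cfsg.Geo.IsNondegenerateMDecomposition (Cfsg.hermForm 12 F q) 2 D → Cfsg.Geo.IsMaximalIn (Cfsg.GU 12 F q ⊓ Cfsg.Geo.specialLinear (Fin 12) F) (Cfsg.Geo.decompositionStabilizer D ⊓ (Cfsg.GU 12 F q ⊓ Cfsg.Geo.specialLinear (Fin 12) F))) ∧
    (∀ D : Fin 4 → Submodule F (Fin 12 → F), Cfsg.Geo.IsNondegenerateMDecomposition (Cfsg.hermForm 12 F q) 3 D → Cfsg.Geo.IsMaximalIn (Cfsg.GU 12 F q ⊓ Cfsg.Geo.specialLinear (Fin 12) F) (Cfsg.Geo.decompositionStabilizer D ⊓ (Cfsg.GU 12 F q ⊓ Cfsg.Geo.specialLinear (Fin 12) F))) ∧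
    (∀ D : Fin 3 → Submodule F (Fin 12 → F), Cfsg.Geo.IsNondegenerateMDecomposition (Cfsg.hermForm 12 F q) 4 D → Cfsg.Geo.IsMaximalIn (Cfsg.GU 12 F q ⊓ Cfsg.Geo.specialLinear (Fin 12) F) (Cfsg.Geo.decompositionStabilizer D ⊓ (Cfsg.GU 12 F q ⊓ Cfsg.Geo.specialLinear (Fin 12) F))) ∧
    (∀ D : Fin 2 → Submodule F (Fin 12 → F), Cfsg.Geo.IsNondegenerateMDecomposition (Cfsg.hermForm 12 F q) 6 D → Cfsg.Geo.IsMaximalIn (Cfsg.GU 12 F q ⊓ Cfsg.Geo.specialLinear (Fin 12) F) (Cfsg.Geo.decompositionStabilizer D ⊓ (Cfsg.GU 12 F q ⊓ Cfsg.Geo.specialLinear (Fin 12) F))) ∧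
    (∀ D : Fin 2 → Submodule F (Fin 12 → F), Cfsg.Geo.IsMDecomposition 6 D → (∀ i, Cfsg.Geo.IsTotallySingularFor (Cfsg.hermForm 12 F q) (D i)) → Cfsg.Geo.IsMaximalIn (Cfsg.GU 12 F q ⊓ Cfsg.Geo.specialLinear (Fin 12) F) (Cfsg.Geo.decompositionStabilizer D ⊓ (Cfsg.GU 12 F q ⊓ Cfsg.Geo.specialLinear (Fin 12) F))) ∧
    (∀ K : Subalgebra F (Matrix (Fin 12) (Fin 12) F), Cfsg.Geo.IsFieldSubalgebra 3 K → Cfsg.Geo.IsAdjointClosedFor (Cfsg.hermForm 12 F q) K → Cfsg.Geo.IsMaximalIn (Cfsg.GU 12 F q ⊓ Cfsg.Geo.specialLinear (Fin 12) F) (Cfsg.Geo.subalgebraNormalizer K ⊓ (Cfsg.GU 12 F q ⊓ Cfsg.Geo.specialLinear (Fin 12) F))) ∧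
    (3 ≤ q → ∀ (e : Fin 12 ≃ Fin 2 × Fin 6) (P : Matrix.GeneralLinearGroup (Fin 12) F) (f₁ : (Fin 2 → F) → (Fin 2 → F) → F) (f₂ : (Fin 6 → F) → (Fin 6 → F) → F), Cfsg.Geo.IsUnitaryFormPow q f₁ → Cfsg.Geo.IsUnitaryFormPow q f₂ → Cfsg.Geo.IsTensorFormStructure (fun x : F => x ^ q) (Cfsg.hermForm 12 F q) f₁ f₂ e P → Cfsg.Geo.IsMaximalIn (Cfsg.GU 12 F q ⊓ Cfsg.Geo.specialLinear (Fin 12) F) (Cfsg.Geo.tensorProductSubgroup 2 6 e P ⊓ (Cfsg.GU 12 F q ⊓ Cfsg.Geo.specialLinear (Fin 12) F))) ∧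
    (∀ (e : Fin 12 ≃ Fin 3 × Fin 4) (P : Matrix.GeneralLinearGroup (Fin 12) F) (f₁ : (Fin 3 → F) → (Fin 3 → F) → F) (f₂ : (Fin 4 → F) → (Fin 4 → F) → F), Cfsg.Geo.IsUnitaryFormPow q f₁ → Cfsg.Geo.IsUnitaryFormPow q f₂ → Cfsg.Geo.IsTensorFormStructure (fun x : F => x ^ q) (Cfsg.hermForm 12 F q) f₁ f₂ e P → Cfsg.Geo.IsMaximalIn (Cfsg.GU 12 F q ⊓ Cfsg.Geo.specialLinear (Fin 12) F) (Cfsg.Geo.tensorProductSubgroup 3 4 e P ⊓ (Cfsg.GU 12 F q ⊓ Cfsg.Geo.specialLinear (Fin 12) F))) ∧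
    (∀ (F₀ : Subfield F) (r : ℕ) (P : Matrix.GeneralLinearGroup (Fin 12) F), r.Prime → Odd r → Fintype.card F = Nat.card F₀ ^ r → Cfsg.Geo.IsFormRationalStructure (Cfsg.hermForm 12 F q) F₀ 1 P → Cfsg.Geo.IsMaximalIn (Cfsg.GU 12 F q ⊓ Cfsg.Geo.specialLinear (Fin 12) F) (Cfsg.Geo.subfieldSubgroup F₀ P ⊓ (Cfsg.GU 12 F q ⊓ Cfsg.Geo.specialLinear (Fin 12) F))) ∧
    (∀ (F₀ : Subfield F) (P : Matrix.GeneralLinearGroup (Fin 12) F) (ζ : F), Fintype.card F = Nat.card F₀ ^ 2 → ζ ≠ 0 → ζ + ζ ^ q = 0 → Cfsg.Geo.IsFormRationalStructure (Cfsg.hermForm 12 F q) F₀ ζ P → (∀ u : Fin 12 → F, (∀ i, u i ∈ F₀) → (Cfsg.hermForm 12 F q) (Matrix.mulVec (P : Matrix (Fin 12) (Fin 12) F) u) (Matrix.mulVec (P : Matrix (Fin 12) (Fin 12) F) u) = 0) → Cfsg.Geo.IsMaximalIn (Cfsg.GU 12 F q ⊓ Cfsg.Geo.specialLinear (Fin 12) F) (Cfsg.Geo.subfieldSubgroup F₀ P ⊓ (Cfsg.GU 12 F q ⊓ Cfsg.Geo.specialLinear (Fin 12) F))) ∧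
    (Odd q → ∀ (F₀ : Subfield F) (P : Matrix.GeneralLinearGroup (Fin 12) F), Fintype.card F = Nat.card F₀ ^ 2 → Cfsg.Geo.IsFormRationalStructure (Cfsg.hermForm 12 F q) F₀ 1 P → Cfsg.Geo.IsMaximalIn (Cfsg.GU 12 F q ⊓ Cfsg.Geo.specialLinear (Fin 12) F) (Cfsg.Geo.subfieldSubgroup F₀ P ⊓ (Cfsg.GU 12 F q ⊓ Cfsg.Geo.specialLinear (Fin 12) F))) := by
  have hΦ := H23.huForm_nondeg hF 12
  have hσ := H23.conj_ne_id hF
  have hT := H23.Form.hasTv_herm (Φ := H23.huForm hF 12) hσ rfl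
  have hK := fun g => H23.mem_SU_iff_E (g := g) hF (n := 12) (by omega)
  refine ⟨fun W hW0 hW => H23.isMaximalIn_stab_of_E hK (H23.Form.isMaximalIn_totSing hΦ
      ⟨fun u hu v hv => hW v hv u hu, fun _ _ => rfl⟩ hW0 (hT.move _) (hT.move _)),
    fun W hW0 hW hd => H23.isMaximalIn_stab_of_E hK ?_,
    fun D hD => H23.Uf.isMaximalIn_dec_SU hF (by omega) hD (by omega),
    fun h D hD => H23.Uf.isMaximalIn_dec_SU hF (by omega) hD (by omega),
    fun D hD => H23.Uf.isMaximalIn_dec_SU hF (by omega) hD (by omega),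
    fun D hD => H23.Uf.isMaximalIn_dec_SU hF (by omega) hD (by omega),
    fun D hD => H23.Uf.isMaximalIn_dec_SU hF (by omega) hD (by omega), fun D hD hts => ?_,
    fun K h1 h2 => H23.Uf.isMaximalIn_uy hF Nat.prime_three le_rfl h1 h2,
    fun h e P f₁ f₂ h1 h2 h3 => H23.Uf.isMaximalIn_su_tensor hF h (by omega) h1 h2 h3,
    fun e P f₁ f₂ h1 h2 h3 => H23.Uf.isMaximalIn_su_tens hF le_rfl (by omega) h1 h2 h3,
    fun F₀ r P hr hro hcard hP => ?_, fun F₀ P ζ hcard hζ0 hζ hP halt => ?_,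
    fun hodd F₀ P hcard hP => ?_⟩
  · replace hW := H23.disjoint_perp_of_nondegOn (Φ := H23.huForm hF 12) (fun u v h => Or.inr h)
      (fun u v h => (H23.huForm hF 12).B_eq_zero_symm h) hW
    by_cases h3 : 3 ≤ Module.finrank F W
    · exact (H23.Uf.hs_hu hF (by omega)).isMaximalIn_nondeg hW h3 (by simpa)
    have h1 := hΦ.finrank_perp_add W
    rw [← H23.Form.stabL_perp_inf hΦ, Module.finrank_fin_fun] at *
    refine H23.Form.isMaximalIn_nondeg hΦ (H23.Form.iso3_herm hσ rfl)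
      (by rw [hΦ.perp_perp]; exact hW.symm) (by omega)
      (fun h => hW0 (hΦ.perp_injective (h.trans (H23.huForm hF 12).perp_bot.symm))) (fun g _ h => ?_)
      fun u hu _ _ S hS hS0 h => ?_
    · have := Submodule.finrank_mono h
      rw [hΦ.perp_perp, LinearEquiv.finrank_map_eq] at this
      omega
    · rw [hΦ.perp_perp] at hS ⊢
      exact H23.Form.irr_of_hasTv hΦ hT hW (H23.Form.exists_sing_of_herm hσ rfl) hS hS0 fun k hk =>
        h k ⟨H23.Form.ED_le_stabL_of_le_perp le_rfl hk, H23.Form.ED_le_E _ hk⟩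
          (H23.Form.ED_fix hk hu)
  · have hT' : ∀ i, (H23.huForm hF 12).TotSing (D i) := fun i =>
      ⟨fun u hu v hv => hts i v hv u hu, fun _ _ => rfl⟩
    have hc := H23.isCompl_of_isMDecomposition hD
    exact H23.isMaximalIn_dec_of_E hK (H23.Form.isMaximalIn_tsPair hΦ (H23.Form.commTr_herm hσ)
      (hT' 0) (hT' 1) hc (by rw [hD.finrank_eq]; norm_num) (hT.exists_swap hΦ (hT' 0) (hT' 1) hc))
  · obtain ⟨t, ht, ht'⟩ := H23.Sf.exists_trace_one hF hro hcard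
    refine H23.Sf.isMaximalIn_colS_herm hΦ (fun _ h => pow_mem h q) rfl rfl ht
      ht' ?_ (by simp) (H23.Sf.pd_of_card hr hcard) hK
    rintro _ ⟨x, hx, rfl⟩ _ ⟨y, hy, rfl⟩
    exact (one_mul (Cfsg.hermForm 12 F q _ _) ▸ hP y x hy hx : Cfsg.hermForm 12 F q _ _ ∈ F₀)
  · refine H23.Sf.isMaximalIn_colS_alt (H23.Sf.scale_nondeg hζ0 hΦ)
      (fun _ h => pow_mem h q) ?_ rfl ?_ ?_ (by simp)
      (H23.Sf.pd_of_card Nat.prime_two hcard) fun g => by rw [H23.Sf.scale_E, hK]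
    · change 1 * ζ / ζ ^ q = -1
      rw [← neg_eq_of_add_eq_zero_right hζ]; field_simp
    · rintro _ ⟨x, hx, rfl⟩ _ ⟨y, hy, rfl⟩
      exact hP y x hy hx
    · rintro _ ⟨x, hx, rfl⟩
      exact (congrArg (ζ * ·) (halt x hx)).trans (mul_zero ζ)
  have h2 : (2 : F) ≠ 0 := H23.two_ne_zero_of_odd_card (hF ▸ hodd.pow)
  refine H23.Sf.isMaximalIn_colS_herm hΦ (fun _ h => pow_mem h q) rfl rfl
    (t := 2⁻¹) (inv_mem (ofNat_mem F₀ 2)) (by rw [map_inv₀, map_ofNat]; field_simp; norm_num) ?_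
    (by simp) (H23.Sf.pd_of_card Nat.prime_two hcard) hK
  rintro _ ⟨x, hx, rfl⟩ _ ⟨y, hy, rfl⟩
  exact (one_mul (Cfsg.hermForm 12 F q _ _) ▸ hP y x hy hx : Cfsg.hermForm 12 F q _ _ ∈ F₀)

end Cfsg.Agent.S5864
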