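import Cfsg.Statements.S5867
import Cfsg.Agent.H23.Pr2
import Cfsg.Agent.H23.Qp4
import Cfsg.Agent.H23.Bridge2
import Cfsg.Agent.H23.Od1
import Cfsg.Agent.H23.Fam
import Cfsg.Agent.H23.Sf5
import Cfsg.Agent.H23.C8
import Cfsg.Agent.H23.Sx2

set_option autoImplicit false
open Cfsg

namespace Cfsg.Agent.S5867


/-- Maximal subgroups of Sp_12(q) of geometric type (any q). Let F be a finite field with q elements (characteristic p), f the standard alternating form on F^12 (coordinates Fin 6 ⊕ Fin 6) and Sp_12(F) its isometry group inside GL_12(F). Each of the following, intersected with Sp_12(F), is a maximal subgroup of Sp_12(F): (1) the stabiliser of any non-zero totally isotropic subspace (dimension 1 to 6); (2) the stabiliser of any non-zero non-degenerate subspace of dimension less than 6 (even dimension, 2 to 4); (3) for q ≥ 3, the stabiliser of any decomposition of F^12 into 6 mutually orthogonal non-degenerate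 2-spaces; (4) the stabiliser of any decomposition of F^12 into 3 mutually orthogonal non-degenerate 4-spaces; (5) the stabiliser of any decomposition of F^12 into 2 mutually orthogonal non-degenerate 6-spaces; (6) for q odd, the stabiliser of any decomposition into two totally isotropic 6-spaces; (7) the normaliser of any degree-2 subfield K of the matrix algebra whose elements are self-adjoint for f with f(k v, v) = 0 for all k in K (f is the trace of an alternating form over K); (8) the normaliser of any degree-3 subfield K of the matrix algebra whose elements are self-adjoint for f with f(k v, v) = 0 for all k in K (f is the trace of an alternating form over K); (9) for q odd, the normaliser of any degree-2 subfield of the matrix algebra that is closed under adjoints but not self-adjoint (f is the trace of a multiple of a unitary form over K); (10) for q odd, the stabiliser of any tensor decomposition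 of f as (alternating form on F^2) ⊗ (non-degenerate symmetric bilinear form on F^6) up to a scalar; (11) for q odd with q ≥ 5, the stabiliser of any tensor decomposition of f as (alternating form on F^4) ⊗ (non-degenerate symmetric bilinear form on F^3) up to a scalar; (12) every subfield group for a subfield F₀ with |F| = |F₀|^r, r prime, whose F₀-structure carries a non-zero scalar multiple of f; (13) for q even, the similarity group of any non-degenerate quadratic form whose polar form is f (either Witt type); its intersection with the symplectic group is the orthogonal group of that form. -/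
theorem result {F : Type*} [Field F] [Fintype F] :
    (∀ W : Submodule F (Fin 6 ⊕ Fin 6 → F), W ≠ ⊥ → Cfsg.Geo.IsTotallySingularFor (Cfsg.sympForm 6 F) W → Cfsg.Geo.IsMaximalIn (Cfsg.spGL 6 F) (Cfsg.Geo.subspaceStabilizer W ⊓ Cfsg.spGL 6 F)) ∧
    (∀ W : Submodule F (Fin 6 ⊕ Fin 6 → F), W ≠ ⊥ → Cfsg.Geo.IsNondegenerateOn (Cfsg.sympForm 6 F) W → Module.finrank F W < 6 → Cfsg.Geo.IsMaximalIn (Cfsg.spGL 6 F) (Cfsg.Geo.subspaceStabilizer W ⊓ Cfsg.spGL 6 F)) ∧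
    (3 ≤ Fintype.card F → ∀ D : Fin 6 → Submodule F (Fin 6 ⊕ Fin 6 → F), Cfsg.Geo.IsNondegenerateMDecomposition (Cfsg.sympForm 6 F) 2 D → Cfsg.Geo.IsMaximalIn (Cfsg.spGL 6 F) (Cfsg.Geo.decompositionStabilizer D ⊓ Cfsg.spGL 6 F)) ∧
    (∀ D : Fin 3 → Submodule F (Fin 6 ⊕ Fin 6 → F), Cfsg.Geo.IsNondegenerateMDecomposition (Cfsg.sympForm 6 F) 4 D → Cfsg.Geo.IsMaximalIn (Cfsg.spGL 6 F) (Cfsg.Geo.decompositionStabilizer D ⊓ Cfsg.spGL 6 F)) ∧
    (∀ D : Fin 2 → Submodule F (Fin 6 ⊕ Fin 6 → F), Cfsg.Geo.IsNondegenerateMDecomposition (Cfsg.sympForm 6 F) 6 D → Cfsg.Geo.IsMaximalIn (Cfsg.spGL 6 F) (Cfsg.Geo.decompositionStabilizer D ⊓ Cfsg.spGL 6 F)) ∧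
    (Odd (Fintype.card F) → ∀ D : Fin 2 → Submodule F (Fin 6 ⊕ Fin 6 → F), Cfsg.Geo.IsMDecomposition 6 D → (∀ i, Cfsg.Geo.IsTotallySingularFor (Cfsg.sympForm 6 F) (D i)) → Cfsg.Geo.IsMaximalIn (Cfsg.spGL 6 F) (Cfsg.Geo.decompositionStabilizer D ⊓ Cfsg.spGL 6 F)) ∧
    (∀ K : Subalgebra F (Matrix (Fin 6 ⊕ Fin 6) (Fin 6 ⊕ Fin 6) F), Cfsg.Geo.IsFieldSubalgebra 2 K → Cfsg.Geo.IsSelfAdjointFor (Cfsg.sympForm 6 F) K → (∀ k ∈ K, ∀ v : (Fin 6 ⊕ Fin 6 → F), (Cfsg.sympForm 6 F) (Matrix.mulVec k v) v = 0) → Cfsg.Geo.IsMaximalIn (Cfsg.spGL 6 F) (Cfsg.Geo.subalgebraNormalizer K ⊓ Cfsg.spGL 6 F)) ∧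
    (∀ K : Subalgebra F (Matrix (Fin 6 ⊕ Fin 6) (Fin 6 ⊕ Fin 6) F), Cfsg.Geo.IsFieldSubalgebra 3 K → Cfsg.Geo.IsSelfAdjointFor (Cfsg.sympForm 6 F) K → (∀ k ∈ K, ∀ v : (Fin 6 ⊕ Fin 6 → F), (Cfsg.sympForm 6 F) (Matrix.mulVec k v) v = 0) → Cfsg.Geo.IsMaximalIn (Cfsg.spGL 6 F) (Cfsg.Geo.subalgebraNormalizer K ⊓ Cfsg.spGL 6 F)) ∧
    (Odd (Fintype.card F) → ∀ K : Subalgebra F (Matrix (Fin 6 ⊕ Fin 6) (Fin 6 ⊕ Fin 6) F), Cfsg.Geo.IsFieldSubalgebra 2 K → Cfsg.Geo.IsAdjointClosedFor (Cfsg.sympForm 6 F) K → ¬ Cfsg.Geo.IsSelfAdjointFor (Cfsg.sympForm 6 F) K → Cfsg.Geo.IsMaximalIn (Cfsg.spGL 6 F) (Cfsg.Geo.subalgebraNormalizer K ⊓ Cfsg.spGL 6 F)) ∧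
    (Odd (Fintype.card F) → ∀ (e : (Fin 6 ⊕ Fin 6) ≃ Fin 2 × Fin 6) (P : Matrix.GeneralLinearGroup (Fin 6 ⊕ Fin 6) F) (f₁ : (Fin 2 → F) → (Fin 2 → F) → F) (f₂ : (Fin 6 → F) → (Fin 6 → F) → F), Cfsg.Geo.IsSymplecticForm f₁ → Cfsg.Geo.IsSymmetricForm f₂ → Cfsg.Geo.IsTensorFormStructure id (Cfsg.sympForm 6 F) f₁ f₂ e P → Cfsg.Geo.IsMaximalIn (Cfsg.spGL 6 F) (Cfsg.Geo.tensorProductSubgroup 2 6 e P ⊓ Cfsg.spGL 6 F)) ∧
    (Odd (Fintype.card F) ∧ 5 ≤ Fintype.card F → ∀ (e : (Fin 6 ⊕ Fin 6) ≃ Fin 4 × Fin 3) (P : Matrix.GeneralLinearGroup (Fin 6 ⊕ Fin 6) F) (f₁ : (Fin 4 → F) → (Fin 4 → F) → F) (f₂ : (Fin 3 → F) → (Fin 3 → F) → F), Cfsg.Geo.IsSymplecticForm f₁ → Cfsg.Geo.IsSymmetricForm f₂ → Cfsg.Geo.IsTensorFormStructure id (Cfsg.sympForm 6 F) f₁ f₂ e P → Cfsg.Geo.IsMaximalIn (Cfsg.spGL 6 F) (Cfsg.Geo.tensorProductSubgroup 4 3 e P ⊓ Cfsg.spGL 6 F)) ∧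
    (∀ (F₀ : Subfield F) (r : ℕ) (P : Matrix.GeneralLinearGroup (Fin 6 ⊕ Fin 6) F) (ζ : F), r.Prime → Fintype.card F = Nat.card F₀ ^ r → ζ ≠ 0 → Cfsg.Geo.IsFormRationalStructure (Cfsg.sympForm 6 F) F₀ ζ P → Cfsg.Geo.IsMaximalIn (Cfsg.spGL 6 F) (Cfsg.Geo.subfieldSubgroup F₀ P ⊓ Cfsg.spGL 6 F)) ∧
    (¬ Odd (Fintype.card F) → ∀ Q : (Fin 6 ⊕ Fin 6 → F) → F, Cfsg.Geo.IsNondegenerateQuadraticForm Q → (∀ u v : (Fin 6 ⊕ Fin 6 → F), QuadraticMap.polar Q u v = (Cfsg.sympForm 6 F) u v) → Cfsg.Geo.IsMaximalIn (Cfsg.spGL 6 F) (Cfsg.Geo.quadSimilarityGroup Q ⊓ Cfsg.spGL 6 F)) := by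
  have hΦ := H23.spForm_nondeg (F := F) 6
  refine ⟨fun W hW0 hW => ?_, fun W hW0 hW hd => ?_, fun h D hD => H23.isMaximalIn_dec_Sp hD (Or.inr h),
    fun D hD => H23.isMaximalIn_dec_Sp hD (Or.inl (by norm_num)),
    fun D hD => H23.isMaximalIn_dec_Sp hD (Or.inl (by norm_num)),
    fun hodd D hD hts => ?_, fun K h1 h2 h3 => H23.isMaximalIn_sx (by norm_num) (by norm_num) h1 h2 h3,
    fun K h1 h2 h3 => H23.isMaximalIn_sx (by norm_num) (by norm_num) h1 h2 h3,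
    fun hodd K h1 h2 h3 => H23.Pr.isMaximalIn_gp (by norm_num) (H23.two_ne_zero_of_odd_card hodd) h1 h2 h3,
    fun hodd e P f₁ f₂ h1 h2 h3 =>
      H23.Pr.isMaximalIn_so_tensor (H23.two_ne_zero_of_odd_card hodd) (by norm_num) h1 h2 h3,
    fun hodd e P f₁ f₂ h1 h2 h3 => H23.Qp.isMaximalIn_sy_tensor
      (H23.two_ne_zero_of_odd_card hodd.1) (by norm_num) le_rfl (Or.inl (by omega)) h1 h2 h3,
    fun F₀ r P ζ hr hcard hζ hP => ?_, fun heven Q hQ hpol => ?_⟩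
  · exact H23.isMaximalIn_stab_of_E (fun _ => H23.mem_spGL_iff_E) (H23.Form.isMaximalIn_totSing
      hΦ ⟨fun u hu v hv => (H23.spForm_B 6 u v).trans (hW u hu v hv),
      fun _ _ => rfl⟩ hW0 ((H23.Form.hasTv_alt rfl rfl).move _) ((H23.Form.hasTv_alt rfl rfl).move _))
  · exact H23.isMaximalIn_stab_of_E (fun _ => H23.mem_spGL_iff_E)
      (H23.Pr.isMaximalIn_nondeg_alt rfl rfl hΦ (H23.disjoint_perp_of_nondegOn
        (fun u v h => Or.inl ((H23.spForm_B 6 u v).symm.trans h))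
        (fun u v h => by rw [H23.sympForm_comm, h, neg_zero]) hW) hW0 (by simp; omega))
  · have hT : ∀ i, (H23.spForm 6 F).TotSing (D i) := fun i =>
      ⟨fun u hu v hv => (H23.spForm_B 6 u v).trans (hts i u hu v hv), fun _ _ => rfl⟩
    have hc := H23.isCompl_of_isMDecomposition hD
    exact H23.isMaximalIn_dec_of_E (fun _ => H23.mem_spGL_iff_E) (H23.Form.isMaximalIn_tsPair hΦ
      (H23.Form.commTr_of_two_ne_zero (H23.two_ne_zero_of_odd_card hodd)) (hT 0) (hT 1) hc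
      (by rw [hD.finrank_eq]; norm_num)
      ((H23.Form.hasTv_alt rfl rfl).exists_swap hΦ (hT 0) (hT 1) hc))
  · refine H23.Sf.isMaximalIn_colS_alt (H23.Sf.scale_nondeg hζ hΦ) (fun _ h => h)
      (by simp [H23.Sf.scale, hζ]) rfl ?_ (fun x _ => ?_) (by simp)
      (H23.Sf.pd_of_card hr hcard) fun g => by rw [H23.Sf.scale_E, H23.mem_spGL_iff_E]
    · rintro _ ⟨x, hx, rfl⟩ _ ⟨y, hy, rfl⟩
      simpa [H23.Sf.scale_B] using hP x y hx hy
    · simp [H23.Sf.scale_B, H23.sympForm_self]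
  obtain ⟨Q, rfl, hΨ⟩ := H23.exists_quad hQ
  have hB : (H23.spForm 6 F).B = (H23.Form.ofQuad Q).B :=
    LinearMap.ext₂ fun u v => (H23.spForm_B 6 u v).trans (hpol u v).symm
  refine H23.isMaximalIn_of_iff (H23.glE _ F) (H23.Form.isMaximalIn_O_Sp hΨ rfl rfl rfl hB
    (H23.two_eq_zero_of_not_odd heven) (by simp)) (fun g => H23.mem_spGL_iff_E) fun g => ?_
  rw [Subgroup.mem_inf, H23.mem_spGL_iff]
  constructor
  · rintro ⟨⟨c, hc⟩, h⟩
    refine ⟨hB ▸ h.1, fun v => ?_⟩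
    obtain ⟨y, hy⟩ := hΨ.exists_ne (x := 1) (fun h => by simpa using congrFun h (Sum.inl 0))
    have := h.1 1 y
    rw [hB, hy] at this
    have h1 : (c : F) * (H23.Form.ofQuad Q).B 1 y = 1 := by
      rw [← this]
      simp only [H23.Form.ofQuad_B, QuadraticMap.polar, H23.glE_apply, ← Matrix.mulVec_add, hc]
      ring
    rw [hy, mul_one] at h1
    simpa [h1] using hc v
  · exact fun h => ⟨⟨1, by simpa using h.2⟩, hB ▸ h.1, fun _ => rfl⟩

end Cfsg.Agent.S5867
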