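import Cfsg.Statements.S5870
import Cfsg.Agent.H23.P28
import Cfsg.Agent.H23.Fr5
import Cfsg.Agent.H23.Sx4
import Cfsg.Agent.H23.Sg5
import Cfsg.Agent.H23.Gu3
import Cfsg.Agent.H23.Ts1
import Cfsg.Agent.H23.Fam
import Cfsg.Agent.H23.Zd0

set_option autoImplicit false
open Cfsg

namespace Cfsg.Agent.S5870


/-- Maximal subgroups of Ω_12^+(q) of geometric type (any q). Let F be a finite field with q elements (characteristic p), Q a non-degenerate quadratic form on F^12 (non-degenerate polar form) of plus type (Witt index 6: some totally singular 6-space), and Ω = Ω_12^+(q) the commutator subgroup of the isometry group of Q, inside GL_12(F). Each of the following, intersected with Ω, is a maximal subgroup of Ω: (1) the stabiliser of any non-zero subspace on which Q vanishes identically other than those of dimension 5 (totally singular subspaces, dimensions 1, 2, 3, 4 and 6); (2) for q odd, the stabiliser of any subspace of odd dimension on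 which the polar form of Q is non-degenerate; (3) the stabiliser of any non-degenerate 2-space of minus type (containing no non-zero singular vector); (4) for q ≥ 4, the stabiliser of any non-degenerate 2-space of plus type (containing a non-zero singular vector); (5) the stabiliser of any non-degenerate 4-space (either type); (6) for q even, the stabiliser of the 1-space spanned by any non-singular vector v (Q(v) ≠ 0); (7) for q = p an odd prime, the stabiliser of any decomposition of F^12 into 12 pairwise orthogonal, pairwise Q-isometric non-degenerate 1-spaces; (8) for q ≥ 7, the stabiliser of any decomposition of F^12 into 6 pairwise orthogonal, pairwise Q-isometric non-degenerate 2-spaces of plus type; (9) for q ≠ 3, the stabiliser of any decomposition of F^12 into 6 pairwise orthogonal, pairwise Q-isometric non-degenerate 2-spaces of minus type; (10) for q odd with q ≥ 5, the stabiliser of any decomposition of F^12 into 4 pairwise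 orthogonal, pairwise Q-isometric non-degenerate 3-spaces; (11) for q ≥ 3, the stabiliser of any decomposition of F^12 into 3 pairwise orthogonal, pairwise Q-isometric non-degenerate 4-spaces; (12) the stabiliser of any decomposition of F^12 into 2 pairwise orthogonal, pairwise Q-isometric non-degenerate 6-spaces; (13) the stabiliser of any decomposition into two totally singular 6-spaces; (14) for q odd, the normaliser of any degree-2 subfield K of the matrix algebra whose elements are self-adjoint for the polar form of Q (Q is then the trace of a quadratic form over K); (15) for q odd, the normaliser of any degree-3 subfield K of the matrix algebra whose elements are self-adjoint for the polar form of Q (Q is then the trace of a quadratic form over K); (16) the normaliser of any degree-2 subfield K of the matrix algebra, closed under adjoints for the polar form but not self-adjoint, whose elements act as similarities of Q (so F^12 becomes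 a 6-dimensional space over K with a hermitian form, and the subgroup is of the type of the unitary group GU_6(q)); (17) for q ≥ 3, the stabiliser of any tensor decomposition F^12 = F^2 ⊗ F^6 in which the polar form of Q is (alternating form) ⊗ (alternating form) up to a scalar and Q vanishes on all pure tensors; (18) every subfield group for a subfield F₀ with |F| = |F₀|^r, r prime, whose F₀-structure carries a non-zero scalar multiple of Q. -/
theorem result {F : Type*} [Field F] [Fintype F] (Q : (Fin 12 → F) → F) (hQ : Cfsg.Geo.IsNondegenerateQuadraticForm Q) (hplus : Cfsg.Geo.IsPlusTypeOn Q ⊤) :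
    (∀ W : Submodule F (Fin 12 → F), W ≠ ⊥ → Cfsg.Geo.IsTotallySingularQuad Q W → Module.finrank F W ≠ 5 → Cfsg.Geo.IsMaximalIn (Cfsg.Geo.omegaGL Q) (Cfsg.Geo.subspaceStabilizer W ⊓ Cfsg.Geo.omegaGL Q)) ∧
    (Odd (Fintype.card F) → ∀ W : Submodule F (Fin 12 → F), W ≠ ⊥ → W ≠ ⊤ → Odd (Module.finrank F W) → 2 * Module.finrank F W ≠ 12 → Cfsg.Geo.IsNondegenerateOn (QuadraticMap.polar Q) W → Cfsg.Geo.IsMaximalIn (Cfsg.Geo.omegaGL Q) (Cfsg.Geo.subspaceStabilizer W ⊓ Cfsg.Geo.omegaGL Q)) ∧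
    (∀ W : Submodule F (Fin 12 → F), Module.finrank F W = 2 → Cfsg.Geo.IsNondegenerateOn (QuadraticMap.polar Q) W → ¬ Cfsg.Geo.IsPlusTypeOn Q W → Cfsg.Geo.IsMaximalIn (Cfsg.Geo.omegaGL Q) (Cfsg.Geo.subspaceStabilizer W ⊓ Cfsg.Geo.omegaGL Q)) ∧
    (4 ≤ Fintype.card F → ∀ W : Submodule F (Fin 12 → F), Module.finrank F W = 2 → Cfsg.Geo.IsNondegenerateOn (QuadraticMap.polar Q) W → Cfsg.Geo.IsPlusTypeOn Q W → Cfsg.Geo.IsMaximalIn (Cfsg.Geo.omegaGL Q) (Cfsg.Geo.subspaceStabilizer W ⊓ Cfsg.Geo.omegaGL Q)) ∧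
    (∀ W : Submodule F (Fin 12 → F), Module.finrank F W = 4 → Cfsg.Geo.IsNondegenerateOn (QuadraticMap.polar Q) W → Cfsg.Geo.IsMaximalIn (Cfsg.Geo.omegaGL Q) (Cfsg.Geo.subspaceStabilizer W ⊓ Cfsg.Geo.omegaGL Q)) ∧
    (¬ Odd (Fintype.card F) → ∀ v : (Fin 12 → F), Q v ≠ 0 → Cfsg.Geo.IsMaximalIn (Cfsg.Geo.omegaGL Q) (Cfsg.Geo.subspaceStabilizer (Submodule.span F {v}) ⊓ Cfsg.Geo.omegaGL Q)) ∧
    ((∃ p : ℕ, p.Prime ∧ Odd p ∧ Fintype.card F = p) → ∀ D : Fin 12 → Submodule F (Fin 12 → F), Cfsg.Geo.IsOrthogonalMDecomposition Q 1 D → Cfsg.Geo.IsMaximalIn (Cfsg.Geo.omegaGL Q) (Cfsg.Geo.decompositionStabilizer D ⊓ Cfsg.Geo.omegaGL Q)) ∧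
    (7 ≤ Fintype.card F → ∀ D : Fin 6 → Submodule F (Fin 12 → F), Cfsg.Geo.IsOrthogonalMDecomposition Q 2 D → (∀ i, Cfsg.Geo.IsPlusTypeOn Q (D i)) → Cfsg.Geo.IsMaximalIn (Cfsg.Geo.omegaGL Q) (Cfsg.Geo.decompositionStabilizer D ⊓ Cfsg.Geo.omegaGL Q)) ∧
    (Fintype.card F ≠ 3 → ∀ D : Fin 6 → Submodule F (Fin 12 → F), Cfsg.Geo.IsOrthogonalMDecomposition Q 2 D → (∀ i, ¬ Cfsg.Geo.IsPlusTypeOn Q (D i)) → Cfsg.Geo.IsMaximalIn (Cfsg.Geo.omegaGL Q) (Cfsg.Geo.decompositionStabilizer D ⊓ Cfsg.Geo.omegaGL Q)) ∧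
    (Odd (Fintype.card F) ∧ 5 ≤ Fintype.card F → ∀ D : Fin 4 → Submodule F (Fin 12 → F), Cfsg.Geo.IsOrthogonalMDecomposition Q 3 D → Cfsg.Geo.IsMaximalIn (Cfsg.Geo.omegaGL Q) (Cfsg.Geo.decompositionStabilizer D ⊓ Cfsg.Geo.omegaGL Q)) ∧
    (3 ≤ Fintype.card F → ∀ D : Fin 3 → Submodule F (Fin 12 → F), Cfsg.Geo.IsOrthogonalMDecomposition Q 4 D → Cfsg.Geo.IsMaximalIn (Cfsg.Geo.omegaGL Q) (Cfsg.Geo.decompositionStabilizer D ⊓ Cfsg.Geo.omegaGL Q)) ∧
    (∀ D : Fin 2 → Submodule F (Fin 12 → F), Cfsg.Geo.IsOrthogonalMDecomposition Q 6 D → Cfsg.Geo.IsMaximalIn (Cfsg.Geo.omegaGL Q) (Cfsg.Geo.decompositionStabilizer D ⊓ Cfsg.Geo.omegaGL Q)) ∧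
    (∀ D : Fin 2 → Submodule F (Fin 12 → F), Cfsg.Geo.IsMDecomposition 6 D → (∀ i, Cfsg.Geo.IsTotallySingularQuad Q (D i)) → Cfsg.Geo.IsMaximalIn (Cfsg.Geo.omegaGL Q) (Cfsg.Geo.decompositionStabilizer D ⊓ Cfsg.Geo.omegaGL Q)) ∧
    (Odd (Fintype.card F) → ∀ K : Subalgebra F (Matrix (Fin 12) (Fin 12) F), Cfsg.Geo.IsFieldSubalgebra 2 K → Cfsg.Geo.IsSelfAdjointFor (QuadraticMap.polar Q) K → Cfsg.Geo.IsMaximalIn (Cfsg.Geo.omegaGL Q) (Cfsg.Geo.subalgebraNormalizer K ⊓ Cfsg.Geo.omegaGL Q)) ∧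
    (Odd (Fintype.card F) → ∀ K : Subalgebra F (Matrix (Fin 12) (Fin 12) F), Cfsg.Geo.IsFieldSubalgebra 3 K → Cfsg.Geo.IsSelfAdjointFor (QuadraticMap.polar Q) K → Cfsg.Geo.IsMaximalIn (Cfsg.Geo.omegaGL Q) (Cfsg.Geo.subalgebraNormalizer K ⊓ Cfsg.Geo.omegaGL Q)) ∧
    (∀ K : Subalgebra F (Matrix (Fin 12) (Fin 12) F), Cfsg.Geo.IsFieldSubalgebra 2 K → Cfsg.Geo.IsAdjointClosedFor (QuadraticMap.polar Q) K → ¬ Cfsg.Geo.IsSelfAdjointFor (QuadraticMap.polar Q) K → (∀ k ∈ K, ∃ c : F, ∀ v : (Fin 12 → F), Q (Matrix.mulVec k v) = c * Q v) → Cfsg.Geo.IsMaximalIn (Cfsg.Geo.omegaGL Q) (Cfsg.Geo.subalgebraNormalizer K ⊓ Cfsg.Geo.omegaGL Q)) ∧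
    (3 ≤ Fintype.card F → ∀ (e : Fin 12 ≃ Fin 2 × Fin 6) (P : Matrix.GeneralLinearGroup (Fin 12) F) (f₁ : (Fin 2 → F) → (Fin 2 → F) → F) (f₂ : (Fin 6 → F) → (Fin 6 → F) → F), Cfsg.Geo.IsSymplecticForm f₁ → Cfsg.Geo.IsSymplecticForm f₂ → Cfsg.Geo.IsTensorFormStructure id (QuadraticMap.polar Q) f₁ f₂ e P → (∀ (x₁ : Fin 2 → F) (x₂ : Fin 6 → F), Q (Matrix.mulVec (P : Matrix (Fin 12) (Fin 12) F) ((fun a : Fin 2 × Fin 6 => x₁ a.1 * x₂ a.2) ∘ e)) = 0) → Cfsg.Geo.IsMaximalIn (Cfsg.Geo.omegaGL Q) (Cfsg.Geo.tensorProductSubgroup 2 6 e P ⊓ Cfsg.Geo.omegaGL Q)) ∧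
    (∀ (F₀ : Subfield F) (r : ℕ) (P : Matrix.GeneralLinearGroup (Fin 12) F) (ζ : F), r.Prime → Fintype.card F = Nat.card F₀ ^ r → ζ ≠ 0 → Cfsg.Geo.IsQuadFormRationalStructure (fun v : Fin 12 → F => ζ * Q v) F₀ P → Cfsg.Geo.IsMaximalIn (Cfsg.Geo.omegaGL Q) (Cfsg.Geo.subfieldSubgroup F₀ P ⊓ Cfsg.Geo.omegaGL Q)) := by
  have hox := fun r hr h h2 K => H23.isMaximalIn_ox (K := K) (r := r) hr h h2 hQ
  have hgu := fun K => H23.isMaximalIn_gv (K := K) (by simp) hQ
  have hsp := fun h e P f₁ f₂ => H23.isMaximalIn_sp_tensor (n₁ := 2) (n₂ := 6) (e := e) (P := P)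
    (f₁ := f₁) (f₂ := f₂) (by decide) (by decide) (by decide) (Or.inl h) hQ
  obtain ⟨Q, rfl, hΦ⟩ := H23.exists_quad hQ
  have hE := fun g => H23.mem_omegaGL_iff_E hΦ (by simp) (g := g)
  have hV : Module.finrank F (Fin 12 → F) = 12 := by simp
  have nd := fun W => H23.Nd.isMaximalIn_nd' (D := W) hΦ rfl (.inl (by omega))
  refine ⟨fun W hW0 hW h => H23.isMaximalIn_stab_of_E hE (H23.Form.isMaximalIn_totSing_quad hΦ rfl
    (by omega) (H23.Form.totSing_ofQuad.2 hW) hW0 (by omega)), fun hodd W h0 h1 h2 h3 hW => ?_,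
    fun W h2 hW h3 => ?_, fun h4 W h2 hW _ => ?_, fun W h4 hW => ?_, fun hq v hv => ?_,
    fun ⟨p, hp, h2, h1⟩ D hD => H23.Fr.isMaximalIn_frame' H23.Zd.zd (h1 ▸ hp)
      (H23.two_ne_zero_of_odd_card (h1 ▸ h2)) hΦ (by simp) hD,
    fun h D hD _ => H23.Nd.isMaximalIn_planes H23.Zd.zd hΦ (by simp) hD (Or.inl h),
    fun h D hD h' => H23.Nd.isMaximalIn_planes H23.Zd.zd hΦ (by simp) hD (Or.inr ⟨h, 0, h' 0⟩),
    fun h D hD => H23.Nd.isMaximalIn_orthDec H23.Zd.zd hΦ (by simp) hD (by decide)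
      (by simp) (fun _ => ⟨H23.two_ne_zero_of_odd_card h.1, by omega⟩) (by simp),
    fun h D hD => H23.Nd.isMaximalIn_orthDec H23.Zd.zd hΦ (by simp) hD (by decide)
      (by simp) (by simp) (by omega),
    fun D hD => H23.Nd.isMaximalIn_orthDec H23.Zd.zd hΦ (by simp) hD (by decide)
      (by simp) (by simp) (by simp), fun D hD hts => ?_,
    fun hodd K => hox 2 Nat.prime_two (by simp) (H23.two_ne_zero_of_odd_card hodd) K,
    fun hodd K => hox 3 Nat.prime_three (by simp) (H23.two_ne_zero_of_odd_card hodd) K, hgu, hsp,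
    fun F₀ r P ζ hr hcard hζ hP => H23.Sg.isMaximalIn_colS_quad hΦ hζ hP (by simp)
      (H23.Sf.pd_of_card hr hcard)⟩
  · have h3 := hΦ.finrank_perp_add W
    rw [Nat.odd_iff] at h2
    refine H23.isMaximalIn_stab_of_E hE (nd W (H23.disjoint_perp_quad hW) h0 h1 (by omega) ?_)
    rintro U (rfl | rfl) h4 <;> omega
  · have h4 := hΦ.finrank_perp_add W
    refine H23.isMaximalIn_stab_of_E hE (nd W (H23.disjoint_perp_quad hW) (by rintro rfl; simp at h2)
      (by rintro rfl; simp at h2) (by omega) ?_)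
    rintro U (rfl | rfl) h4 h
    · exact absurd (H23.isPlusTypeOn_of_sing h4 h) h3
    · omega
  · exact H23.isMaximalIn_stab_of_E hE (nd W (H23.disjoint_perp_quad hW) (by rintro rfl; simp at h2)
      (by rintro rfl; simp at h2) (by omega) fun _ _ _ _ => h4)
  · have h3 := hΦ.finrank_perp_add W
    refine H23.isMaximalIn_stab_of_E hE (nd W (H23.disjoint_perp_quad hW) (by rintro rfl; simp at h4)
      (by rintro rfl; simp at h4) (by omega) ?_)
    rintro U (rfl | rfl) h <;> omega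
  · exact H23.isMaximalIn_stab_of_E hE (H23.Nd.isMaximalIn_nonsing hΦ rfl (by omega)
      (by rw [H22.B_self_quad rfl, H23.two_eq_zero_of_not_odd hq, zero_mul]) hv)
  · have hT : ∀ i, (H23.Form.ofQuad Q).TotSing (D i) := fun i => H23.Form.totSing_ofQuad.2 (hts i)
    have hc := H23.isCompl_of_isMDecomposition hD
    exact H23.isMaximalIn_dec_of_E hE
      (H23.Form.isMaximalIn_tsPair hΦ (H23.Form.commTr_quad rfl) (hT 0) (hT 1) hc
      (by rw [hD.finrank_eq]; omega) (H23.Form.exists_swap_quad hΦ rfl (by simp) (hT 0) (hT 1) hc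
      (by rw [hD.finrank_eq]; decide)))

end Cfsg.Agent.S5870
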