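import Cfsg.Statements.S5873
import Cfsg.Agent.H23.P28
import Cfsg.Agent.H23.Fr5
import Cfsg.Agent.H23.Sx4
import Cfsg.Agent.H23.Sg5
import Cfsg.Agent.H23.Gu3
import Cfsg.Agent.H23.Ts1
import Cfsg.Agent.H23.Fam
import Cfsg.Agent.H23.Zd0
import Cfsg.Agent.H23.Qv4

set_option autoImplicit false
open Cfsg

namespace Cfsg.Agent.S5873


/-- Maximal subgroups of Ω_12^-(q) of geometric type (any q). Let F be a finite field with q elements (characteristic p), Q a non-degenerate quadratic form on F^12 (non-degenerate polar form) of minus type (Witt index 5: no totally singular 6-space), and Ω = Ω_12^-(q) the commutator subgroup of the isometry group of Q, inside GL_12(F). Each of the following, intersected with Ω, is a maximal subgroup of Ω: (1) the stabiliser of any non-zero subspace on which Q vanishes identically (totally singular subspaces, dimensions 1 to 5); (2) for q odd, the stabiliser of any subspace of odd dimension on which the polar form of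 Q is non-degenerate; (3) the stabiliser of any non-degenerate 2-space of minus type (containing no non-zero singular vector); (4) for q ≥ 4, the stabiliser of any non-degenerate 2-space of plus type (containing a non-zero singular vector); (5) the stabiliser of any non-degenerate 4-space (either type); (6) the stabiliser of any non-degenerate 6-space (either type); (7) for q even, the stabiliser of the 1-space spanned by any non-singular vector v (Q(v) ≠ 0); (8) the stabiliser of any decomposition of F^12 into 3 pairwise orthogonal, pairwise Q-isometric non-degenerate 4-spaces of minus type; (9) for q odd, the normaliser of any degree-2 subfield K of the matrix algebra whose elements are self-adjoint for the polar form of Q (Q is then the trace of a quadratic form over K); (10) for q odd, the normaliser of any degree-3 subfield K of the matrix algebra whose elements are self-adjoint for the polar form of Q (Q is then the trace of a quadratic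 form over K); (11) for q odd with q ≥ 5, the stabiliser of any tensor decomposition F^12 = F^3 ⊗ F^4 in which the polar form of Q is the product of non-degenerate symmetric bilinear forms, the second of minus type, up to a scalar; (12) every subfield group for a subfield F₀ with |F| = |F₀|^r, r an odd prime, whose F₀-structure carries a non-zero scalar multiple of Q. -/
theorem result {F : Type*} [Field F] [Fintype F] (Q : (Fin 12 → F) → F) (hQ : Cfsg.Geo.IsNondegenerateQuadraticForm Q) (hminus : ¬ Cfsg.Geo.IsPlusTypeOn Q ⊤) :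
    (∀ W : Submodule F (Fin 12 → F), W ≠ ⊥ → Cfsg.Geo.IsTotallySingularQuad Q W → Cfsg.Geo.IsMaximalIn (Cfsg.Geo.omegaGL Q) (Cfsg.Geo.subspaceStabilizer W ⊓ Cfsg.Geo.omegaGL Q)) ∧
    (Odd (Fintype.card F) → ∀ W : Submodule F (Fin 12 → F), W ≠ ⊥ → W ≠ ⊤ → Odd (Module.finrank F W) → 2 * Module.finrank F W ≠ 12 → Cfsg.Geo.IsNondegenerateOn (QuadraticMap.polar Q) W → Cfsg.Geo.IsMaximalIn (Cfsg.Geo.omegaGL Q) (Cfsg.Geo.subspaceStabilizer W ⊓ Cfsg.Geo.omegaGL Q)) ∧
    (∀ W : Submodule F (Fin 12 → F), Module.finrank F W = 2 → Cfsg.Geo.IsNondegenerateOn (QuadraticMap.polar Q) W → ¬ Cfsg.Geo.IsPlusTypeOn Q W → Cfsg.Geo.IsMaximalIn (Cfsg.Geo.omegaGL Q) (Cfsg.Geo.subspaceStabilizer W ⊓ Cfsg.Geo.omegaGL Q)) ∧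
    (4 ≤ Fintype.card F → ∀ W : Submodule F (Fin 12 → F), Module.finrank F W = 2 → Cfsg.Geo.IsNondegenerateOn (QuadraticMap.polar Q) W → Cfsg.Geo.IsPlusTypeOn Q W → Cfsg.Geo.IsMaximalIn (Cfsg.Geo.omegaGL Q) (Cfsg.Geo.subspaceStabilizer W ⊓ Cfsg.Geo.omegaGL Q)) ∧
    (∀ W : Submodule F (Fin 12 → F), Module.finrank F W = 4 → Cfsg.Geo.IsNondegenerateOn (QuadraticMap.polar Q) W → Cfsg.Geo.IsMaximalIn (Cfsg.Geo.omegaGL Q) (Cfsg.Geo.subspaceStabilizer W ⊓ Cfsg.Geo.omegaGL Q)) ∧
    (∀ W : Submodule F (Fin 12 → F), Module.finrank F W = 6 → Cfsg.Geo.IsNondegenerateOn (QuadraticMap.polar Q) W → Cfsg.Geo.IsMaximalIn (Cfsg.Geo.omegaGL Q) (Cfsg.Geo.subspaceStabilizer W ⊓ Cfsg.Geo.omegaGL Q)) ∧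
    (¬ Odd (Fintype.card F) → ∀ v : (Fin 12 → F), Q v ≠ 0 → Cfsg.Geo.IsMaximalIn (Cfsg.Geo.omegaGL Q) (Cfsg.Geo.subspaceStabilizer (Submodule.span F {v}) ⊓ Cfsg.Geo.omegaGL Q)) ∧
    (∀ D : Fin 3 → Submodule F (Fin 12 → F), Cfsg.Geo.IsOrthogonalMDecomposition Q 4 D → (∀ i, ¬ Cfsg.Geo.IsPlusTypeOn Q (D i)) → Cfsg.Geo.IsMaximalIn (Cfsg.Geo.omegaGL Q) (Cfsg.Geo.decompositionStabilizer D ⊓ Cfsg.Geo.omegaGL Q)) ∧
    (Odd (Fintype.card F) → ∀ K : Subalgebra F (Matrix (Fin 12) (Fin 12) F), Cfsg.Geo.IsFieldSubalgebra 2 K → Cfsg.Geo.IsSelfAdjointFor (QuadraticMap.polar Q) K → Cfsg.Geo.IsMaximalIn (Cfsg.Geo.omegaGL Q) (Cfsg.Geo.subalgebraNormalizer K ⊓ Cfsg.Geo.omegaGL Q)) ∧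
    (Odd (Fintype.card F) → ∀ K : Subalgebra F (Matrix (Fin 12) (Fin 12) F), Cfsg.Geo.IsFieldSubalgebra 3 K → Cfsg.Geo.IsSelfAdjointFor (QuadraticMap.polar Q) K → Cfsg.Geo.IsMaximalIn (Cfsg.Geo.omegaGL Q) (Cfsg.Geo.subalgebraNormalizer K ⊓ Cfsg.Geo.omegaGL Q)) ∧
    (Odd (Fintype.card F) ∧ 5 ≤ Fintype.card F → ∀ (e : Fin 12 ≃ Fin 3 × Fin 4) (P : Matrix.GeneralLinearGroup (Fin 12) F) (f₁ : (Fin 3 → F) → (Fin 3 → F) → F) (f₂ : (Fin 4 → F) → (Fin 4 → F) → F), Cfsg.Geo.IsSymmetricForm f₁ → Cfsg.Geo.IsSymmetricForm f₂ → ¬ Cfsg.Geo.IsPlusTypeOn (fun v : Fin 4 → F => f₂ v v) ⊤ → Cfsg.Geo.IsTensorFormStructure id (QuadraticMap.polar Q) f₁ f₂ e P → Cfsg.Geo.IsMaximalIn (Cfsg.Geo.omegaGL Q) (Cfsg.Geo.tensorProductSubgroup 3 4 e P ⊓ Cfsg.Geo.omegaGL Q)) ∧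
    (∀ (F₀ : Subfield F) (r : ℕ) (P : Matrix.GeneralLinearGroup (Fin 12) F) (ζ : F), r.Prime → Odd r → Fintype.card F = Nat.card F₀ ^ r → ζ ≠ 0 → Cfsg.Geo.IsQuadFormRationalStructure (fun v : Fin 12 → F => ζ * Q v) F₀ P → Cfsg.Geo.IsMaximalIn (Cfsg.Geo.omegaGL Q) (Cfsg.Geo.subfieldSubgroup F₀ P ⊓ Cfsg.Geo.omegaGL Q)) := by
  have hox := fun r hr h h2 K => H23.isMaximalIn_ox (K := K) (r := r) hr h h2 hQ
  have h34 := fun h2 hq e P f₁ f₂ => H23.Qp.isMaximalIn_o34 (e := e) (P := P) (f₁ := f₁) (f₂ := f₂)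
    h2 hq hQ
  obtain ⟨Q, rfl, hΦ⟩ := H23.exists_quad hQ
  have hE := fun g => H23.mem_omegaGL_iff_E hΦ (by simp) (g := g)
  have hV : Module.finrank F (Fin 12 → F) = 12 := by simp
  have nd := fun W => H23.Nd.isMaximalIn_nd' (D := W) hΦ rfl (.inl (by omega))
  refine ⟨fun W hW0 hW => H23.isMaximalIn_stab_of_E hE (H23.Form.isMaximalIn_totSing_quad hΦ rfl
    (by omega) (H23.Form.totSing_ofQuad.2 hW) hW0
      fun _ h => hminus (H23.isPlusTypeOn_top_iff.2 h)), fun hodd W h0 h1 h2 h3 hW => ?_,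
    fun W h2 hW h3 => ?_, fun h4 W h2 hW _ => ?_, fun W h4 hW => ?_, fun W h6 hW => ?_,
    fun hq v hv => ?_,
    fun D hD h => H23.Nd.isMaximalIn_orthDec H23.Zd.zd hΦ (by simp) hD (by decide)
      (by simp) (by simp) fun _ _ => ⟨0, h 0⟩,
    fun hodd K => hox 2 Nat.prime_two (by simp) (H23.two_ne_zero_of_odd_card hodd) K,
    fun hodd K => hox 3 Nat.prime_three (by simp) (H23.two_ne_zero_of_odd_card hodd) K,
    fun h => h34 (H23.two_ne_zero_of_odd_card h.1) (by omega),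
    fun F₀ r P ζ hr _ hcard hζ hP => H23.Sg.isMaximalIn_colS_quad hΦ hζ hP (by simp)
      (H23.Sf.pd_of_card hr hcard)⟩
  · have h3 := hΦ.finrank_perp_add W
    rw [Nat.odd_iff] at h2
    refine H23.isMaximalIn_stab_of_E hE (nd W (H23.disjoint_perp_quad hW) h0 h1 (by omega) ?_)
    rintro U (rfl | rfl) h4 <;> omega
  · have h4 := hΦ.finrank_perp_add W
    refine H23.isMaximalIn_stab_of_E hE (nd W (H23.disjoint_perp_quad hW) (by rintro rfl; simp at h2)
      (by rintro rfl; simp at h2) (by omega) ?_)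
    rintro U (rfl | rfl) h4 h
    · exact absurd (H23.isPlusTypeOn_of_sing h4 h) h3
    · omega
  · exact H23.isMaximalIn_stab_of_E hE (nd W (H23.disjoint_perp_quad hW) (by rintro rfl; simp at h2)
      (by rintro rfl; simp at h2) (by omega) fun _ _ _ _ => h4)
  · have h3 := hΦ.finrank_perp_add W
    refine H23.isMaximalIn_stab_of_E hE (nd W (H23.disjoint_perp_quad hW) (by rintro rfl; simp at h4)
      (by rintro rfl; simp at h4) (by omega) ?_)
    rintro U (rfl | rfl) h <;> omega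
  · have h3 := hΦ.finrank_perp_add W
    refine H23.isMaximalIn_stab_of_E hE (nd W (H23.disjoint_perp_quad hW) (by rintro rfl; simp at h6)
      (by rintro rfl; simp at h6) (fun h g hg h1 => hminus ?_) ?_)
    · obtain ⟨U, h2, h3⟩ := H23.Form.exists_totSing_of_map_le rfl (H23.disjoint_perp_quad hW)
        (by rw [h6]; decide) (H23.Form.E_le_O hg) h1
      exact H23.isPlusTypeOn_top_iff.2 ⟨U, h2, h3 ▸ h⟩
    · rintro U (rfl | rfl) h <;> omega
  · exact H23.isMaximalIn_stab_of_E hE (H23.Nd.isMaximalIn_nonsing hΦ rfl (by omega)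
      (by rw [H22.B_self_quad rfl, H23.two_eq_zero_of_not_odd hq, zero_mul]) hv)

end Cfsg.Agent.S5873
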