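import Cfsg.Statements.S5904
import Mathlib
import Cfsg.Agent.H25.PartStab

set_option autoImplicit false
open scoped Pointwise
open Cfsg

namespace Cfsg.Agent.S5904

open scoped Pointwise in
theorem aux {Ω : Type*} [Fintype Ω] [DecidableEq Ω] (hΩ : 2 < Fintype.card Ω)
    (O : Set Ω) (hO : Nat.card O = Nat.card ↥Oᶜ) :
    MulAction.stabilizer (Equiv.Perm Ω) O < H25.partStab (· ∈ O) ∧ H25.partStab (· ∈ O) ≠ ⊤ := by
  classical
  have hf : ∀ i : Prop, Nat.card {x : Ω // (x ∈ O) = i} = Nat.card O := by
    intro i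
    by_cases hi : i
    · simp [hi]
    · rw [hO]; exact Nat.card_congr (Equiv.subtypeEquivRight (by simp [hi]))
  have h2 : 2 ≤ Nat.card O := by
    have := Set.ncard_add_ncard_compl O
    rw [← Nat.card_coe_set_eq, ← Nat.card_coe_set_eq, ← hO, Nat.card_eq_fintype_card (α := Ω)]
      at this
    omega
  refine ⟨lt_of_le_of_ne (fun g hg x y => ?_) fun h => ?_, (H25.isCoatom_partStab h2 _ hf).1⟩
  · have key : ∀ x, g x ∈ O ↔ x ∈ O := fun x => by
      conv_lhs => rw [← MulAction.mem_stabilizer_iff.1 hg]
      exact Set.smul_mem_smul_set_iff (a := g)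
    simp [key]
  · obtain ⟨e, he⟩ := H25.exists_equiv_prod _ hf
    obtain ⟨w, hw, hw'⟩ := H25.exists_partStab_lift e he (Equiv.swap True False)
    obtain ⟨u, -, -, hu, -⟩ := H25.exists_two_in_fibre e he h2 True
    rw [← h] at hw
    have h1 := hw' u
    rw [hu, Equiv.swap_apply_left, eq_iff_iff, iff_false] at h1
    apply h1
    rw [← MulAction.mem_stabilizer_iff.1 hw]
    exact Set.smul_mem_smul_set (a := w) (of_eq_true hu)

/-- Let Ω be a finite set with more than two elements and O ⊆ Ω a subset with exactly as many elements as its complement. Then the setwise stabilizer of O in the symmetric group on Ω is not a maximal subgroup (it is properly contained in the stabilizer of the partition {O, Ω ∖ O}, which is proper). -/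
theorem result {Ω : Type*} [Fintype Ω] [DecidableEq Ω] (hΩ : 2 < Fintype.card Ω)
    (O : Set Ω) (hO : Nat.card O = Nat.card ↥Oᶜ) :
    ¬ IsCoatom (MulAction.stabilizer (Equiv.Perm Ω) O) := by
  intro h
  exact (aux hΩ O hO).2 (h.2 _ (aux hΩ O hO).1)

end Cfsg.Agent.S5904
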