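import Cfsg.Statements.S5894
import Mathlib
import Cfsg.Agent.S5904

set_option autoImplicit false
open Cfsg

namespace Cfsg.Agent.S5894

open scoped Pointwise in
theorem aux {Ω : Type*} [Fintype Ω] [DecidableEq Ω] (m : ℕ) (hm : 2 ≤ m)
    (hΩ : Fintype.card Ω = 2 * m) :
    ∃ M H K : Subgroup (Equiv.Perm Ω), IsCoatom M ∧ M.index = 2 * m ∧ H ≤ M ∧
      IsCoatom (H.subgroupOf M) ∧ IsCoatom K ∧ H ≤ K ∧ ¬ IsCoatom (H.subgroupOf K) := by
  classical
  have : Nontrivial Ω := Fintype.one_lt_card_iff_nontrivial.1 (by omega)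
  obtain ⟨O, hO⟩ : ∃ O : Set Ω, O.ncard = m := by
    obtain ⟨O, -, hO⟩ := Set.exists_subset_card_eq (s := (Set.univ : Set Ω)) (n := m)
      (by rw [Set.ncard_univ, Nat.card_eq_fintype_card]; omega)
    exact ⟨O, hO⟩
  have hOc : Oᶜ.ncard = m := by
    have := Set.ncard_add_ncard_compl O
    rw [Nat.card_eq_fintype_card] at this
    omega
  obtain ⟨a, ha, b, hb, hab⟩ := (Set.one_lt_ncard (s := Oᶜ)).1 (by omega)
  obtain ⟨h1, h2⟩ := Cfsg.Agent.S5904.aux (by omega) O (hO.trans hOc.symm)
  obtain ⟨K, hK, hle⟩ := (eq_top_or_exists_le_coatom _).resolve_left h2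
  refine ⟨MulAction.stabilizer _ a, MulAction.stabilizer _ a ⊓ MulAction.stabilizer _ O, K,
    MulAction.IsPreprimitive.isCoatom_stabilizer_of_isPreprimitive _ a, ?_, inf_le_left, ?_, hK,
    inf_le_right.trans (h1.le.trans hle), fun h => ?_⟩
  · rw [MulAction.index_stabilizer_of_transitive, Nat.card_eq_fintype_card, hΩ]
  · let φ : MulAction.stabilizer (Equiv.Perm Ω) a →* Equiv.Perm {x // x ≠ a} :=
      MulAction.toPermHom _ (SubMulAction.ofStabilizer (Equiv.Perm Ω) a)
    have hφ : ∀ g x, (φ g x).1 = g.1 x := fun g x => rfl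
    have hsurj : Function.Surjective φ := fun g =>
      ⟨⟨Equiv.Perm.ofSubtype g, Equiv.Perm.ofSubtype_apply_of_not_mem g (by simp)⟩,
        Equiv.ext fun x => Subtype.ext (Equiv.Perm.ofSubtype_apply_coe g x)⟩
    let O' : Set {x // x ≠ a} := {x | x.1 ∈ O}
    have hO' : O'.ncard = m := by
      rw [← hO, ← Set.ncard_image_of_injective _ Subtype.val_injective]
      congr 1
      ext x
      exact ⟨by rintro ⟨y, hy, rfl⟩; exact hy, fun hx => ⟨⟨x, fun h => ha (h ▸ hx)⟩, hx, rfl⟩⟩
    have := Subgroup.isCoatom_comap_of_surjective hsurj (Equiv.Perm.isCoatom_stabilizer (s := O')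
      (Set.nonempty_of_ncard_ne_zero (by omega)) ⟨⟨b, hab.symm⟩, hb⟩ (by
        rw [hO', Nat.card_eq_fintype_card, Fintype.card_subtype_compl, Fintype.card_subtype_eq]
        omega))
    convert this using 1
    ext g
    simp only [Subgroup.mem_subgroupOf, Subgroup.mem_inf, SetLike.coe_mem, true_and,
      Subgroup.mem_comap, MulAction.mem_stabilizer_set, Equiv.Perm.smul_def]
    constructor
    · intro h x
      exact h x
    · intro h x
      by_cases hx : x = a
      · rw [hx, show g.1 a = a from g.2]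
      · exact h ⟨x, hx⟩
  · have h3 : (MulAction.stabilizer (Equiv.Perm Ω) O).subgroupOf K = ⊤ := by
      apply h.2
      refine lt_of_le_of_ne (Subgroup.subgroupOf_mono _ inf_le_right) fun h => ?_
      obtain ⟨g, hg, hgab⟩ := Equiv.Perm.exists_mem_stabilizer_smul_eq _ ha _ hb
      rw [stabilizer_compl] at hg
      have : (⟨g, hle (h1.le hg)⟩ : K) ∈ (MulAction.stabilizer (Equiv.Perm Ω) a ⊓
        MulAction.stabilizer (Equiv.Perm Ω) O).subgroupOf K := h ▸ hg
      exact hab (this.1.symm.trans hgab)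
    exact h1.not_ge (hle.trans (Subgroup.subgroupOf_eq_top.1 h3))

/-- For every m ≥ 2 the symmetric group on 2m letters has a maximal subgroup M of index 2m together with a maximal subgroup H of M that is not second maximal: some maximal subgroup K of the symmetric group contains H without H being maximal in K. (One may take M the stabiliser of a letter, H ≅ S_m × S_{m−1} inside it, and K ≅ S_m ≀ S₂ the stabiliser of a partition into two m-sets, with H < S_m × S_m < K.) So the prime-index hypothesis in the second-maximality criterion cannot be relaxed to any even index ≥ 4. -/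
theorem result (m : ℕ) (hm : 2 ≤ m) :
    ∃ M H K : Subgroup (Equiv.Perm (Fin (2 * m))), IsCoatom M ∧ M.index = 2 * m ∧ H ≤ M ∧ IsCoatom (H.subgroupOf M) ∧
      IsCoatom K ∧ H ≤ K ∧ ¬ IsCoatom (H.subgroupOf K) := by
  exact aux m hm (Fintype.card_fin _)

end Cfsg.Agent.S5894
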